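import Mathlib
import Groth.Prelude.Def_CohB1

set_option backward.isDefEq.respectTransparency false

universe u

open CategoryTheory MonoidalCategory TensorProduct Opposite

namespace Groth.Agent.Lib.Lead.TensorW

section GV

variable {A : Type*} [CommRing A] {M N : Type*} [AddCommGroup M] [Module A M]
  [AddCommGroup N] [Module A N]

/-- General equational criterion: a vanishing sum of pure tensors vanishes trivially after
enlarging the family on the left by finitely many elements (paired with `0`). -/
theorem exists_vanishesTrivially {ι : Type*} [Fintype ι] (m : ι → M) (n : ι → N)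
    (h : ∑ i, m i ⊗ₜ[A] n i = 0) :
    ∃ (k : ℕ) (g : Fin k → M), TensorProduct.VanishesTrivially A (Sum.elim m g) (Sum.elim n 0) := by
  classical
  set M₀ : Submodule A M := Submodule.span A (Set.range m) with hM₀
  have hM₀fg : M₀.FG := Submodule.fg_span (Set.finite_range m)
  let x : M₀ ⊗[A] N := ∑ i, (⟨m i, Submodule.subset_span ⟨i, rfl⟩⟩ : M₀) ⊗ₜ[A] n i
  have hx : M₀.subtype.rTensor N x = M₀.subtype.rTensor N 0 := by
    simp only [x, map_sum, LinearMap.rTensor_tmul, Submodule.subtype_apply, map_zero]
    exact h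
  obtain ⟨M', hM'fg, hle, hx'⟩ := hM₀fg.exists_rTensor_fg_inclusion_eq hx
  obtain ⟨k, g, hg⟩ := Submodule.fg_iff_exists_fin_generating_family.mp hM'fg
  have hgmem : ∀ j, g j ∈ M' := fun j => hg ▸ Submodule.subset_span ⟨j, rfl⟩
  let m' : ι ⊕ Fin k → M' := Sum.elim (fun i => ⟨m i, hle (Submodule.subset_span ⟨i, rfl⟩)⟩)
    (fun j => ⟨g j, hgmem j⟩)
  have hspan : Submodule.span A (Set.range m') = ⊤ := by
    rw [eq_top_iff]
    rintro ⟨y, hy⟩ -
    have : y ∈ Submodule.span A (Set.range g) := hg ▸ hy
    induction this using Submodule.span_induction with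
    | mem y hy' =>
      obtain ⟨j, rfl⟩ := hy'
      exact Submodule.subset_span ⟨Sum.inr j, rfl⟩
    | zero => exact zero_mem _
    | add y z hy' hz' ihy ihz =>
      have := add_mem (ihy (hg ▸ hy')) (ihz (hg ▸ hz'))
      exact this
    | smul a y hy' ih =>
      have := Submodule.smul_mem _ a (ih (hg ▸ hy'))
      exact this
  have hsum : ∑ l, m' l ⊗ₜ[A] (Sum.elim n 0 : ι ⊕ Fin k → N) l = 0 := by
    rw [Fintype.sum_sum_type]
    simp only [m', Sum.elim_inl, Sum.elim_inr, Pi.zero_apply, tmul_zero, Finset.sum_const_zero,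
      add_zero]
    have : (M₀.inclusion hle).rTensor N x = 0 := by simpa using hx'
    simp only [x, map_sum, LinearMap.rTensor_tmul] at this
    exact this
  obtain ⟨k₂, a, y, h₁, h₂⟩ := TensorProduct.vanishesTrivially_of_sum_tmul_eq_zero A hspan hsum
  refine ⟨k, g, k₂, a, y, h₁, fun j => ?_⟩
  have := congrArg M'.subtype (h₂ j)
  simp only [map_sum, map_smul, map_zero, Submodule.subtype_apply] at this
  convert this using 2 with l
  rcases l with i | j' <;> rfl

end GV

end Groth.Agent.Lib.Lead.TensorW
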