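import Mathlib
import Groth.Agent.Lib.Lead.TensorW0

set_option backward.isDefEq.respectTransparency false

universe u

open CategoryTheory MonoidalCategory TensorProduct Opposite

namespace Groth.Agent.Lib.Lead.TensorW

variable {C : Type*} [Category C] (J : GrothendieckTopology C) {R : Cᵒᵖ ⥤ CommRingCat.{u}}

/-- The sieve of arrows along which a section of a presheaf of modules restricts to zero. -/
def zeroSieve (M : PresheafOfModules.{u} (R ⋙ forget₂ CommRingCat RingCat)) {U : Cᵒᵖ}
    (z : M.obj U) : Sieve U.unop where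
  arrows V g := M.map g.op z = 0
  downward_closed := by
    intro V W g hg h
    show M.map (h ≫ g).op z = 0
    rw [op_comp, M.map_comp_apply, hg, map_zero]

/-- The sieve of arrows along which a section lifts through `f`. -/
def imgSieve {P Q : PresheafOfModules.{u} (R ⋙ forget₂ CommRingCat RingCat)} (f : P ⟶ Q)
    {U : Cᵒᵖ} (y : Q.obj U) : Sieve U.unop where
  arrows V g := ∃ x : P.obj (op V), f.app (op V) x = Q.map g.op y
  downward_closed := by
    rintro V W g ⟨x, hx⟩ h
    refine ⟨P.map h.op x, ?_⟩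
    rw [PresheafOfModules.naturality_apply, hx, op_comp, Q.map_comp_apply]

variable {P Q : PresheafOfModules.{u} (R ⋙ forget₂ CommRingCat RingCat)} (f : P ⟶ Q)

lemma locInj_iff :
    Presheaf.IsLocallyInjective J ((PresheafOfModules.toPresheaf _).map f) ↔
      ∀ ⦃U : Cᵒᵖ⦄ (x : P.obj U), f.app U x = 0 → zeroSieve P x ∈ J U.unop := by
  constructor
  · intro h U x hx
    have := Presheaf.equalizerSieve_mem J ((PresheafOfModules.toPresheaf _).map f)
      (X := U) (x : P.obj U) (0 : P.obj U) (by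
        show f.app U x = f.app U 0
        rw [hx, map_zero])
    convert this using 1
    ext V g
    show P.map g.op x = 0 ↔ P.map g.op x = P.map g.op 0
    rw [map_zero]
  · intro h
    refine ⟨fun {U} x y hxy => ?_⟩
    have hxy' : f.app U ((x : P.obj U) - (y : P.obj U)) = 0 := by
      rw [map_sub, sub_eq_zero]
      exact hxy
    convert h _ hxy' using 1
    ext V g
    show P.map g.op x = P.map g.op y ↔ P.map g.op ((x : P.obj U) - (y : P.obj U)) = 0
    rw [map_sub, sub_eq_zero]

lemma locSurj_iff :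
    Presheaf.IsLocallySurjective J ((PresheafOfModules.toPresheaf _).map f) ↔
      ∀ ⦃U : Cᵒᵖ⦄ (y : Q.obj U), imgSieve f y ∈ J U.unop := by
  constructor
  · intro h U y
    have := Presheaf.imageSieve_mem J ((PresheafOfModules.toPresheaf _).map f) (U := U)
      (y : Q.obj U)
    exact this
  · intro h
    refine ⟨fun {U} y => ?_⟩
    exact h (U := op U) y


lemma finset_inf_mem {X : C} {ι : Type*} (s : Finset ι) (S : ι → Sieve X)
    (h : ∀ i ∈ s, S i ∈ J X) : s.inf S ∈ J X := by
  classical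
  induction s using Finset.induction_on with
  | empty => simpa using J.top_mem X
  | insert a s ha ih =>
    rw [Finset.inf_insert]
    exact J.intersection_covering (h a (Finset.mem_insert_self a s))
      (ih fun i hi => h i (Finset.mem_insert_of_mem hi))

variable (T : PresheafOfModules.{u} (R ⋙ forget₂ CommRingCat RingCat))

lemma whiskerRight_app_tmul {U : Cᵒᵖ} (x : P.obj U) (t : T.obj U) :
    (f ▷ T).app U (x ⊗ₜ[R.obj U] t : (P ⊗ T).obj U) = (f.app U x ⊗ₜ[R.obj U] t : (Q ⊗ T).obj U) :=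
  rfl

lemma tensor_map_tmul {U V : Cᵒᵖ} (g : U ⟶ V) (x : P.obj U) (t : T.obj U) :
    (P ⊗ T).map g (x ⊗ₜ[R.obj U] t : (P ⊗ T).obj U) =
      (P.map g x ⊗ₜ[R.obj V] T.map g t : (P ⊗ T).obj V) :=
  rfl

theorem whiskerRight_locSurj
    (hs : ∀ ⦃U : Cᵒᵖ⦄ (y : Q.obj U), imgSieve f y ∈ J U.unop) :
    ∀ ⦃U : Cᵒᵖ⦄ (z : (Q ⊗ T).obj U), imgSieve (f ▷ T) z ∈ J U.unop := by
  intro U z
  induction z using TensorProduct.induction_on with
  | zero =>
    convert J.top_mem U.unop
    ext V g
    simp only [Sieve.top_apply, iff_true]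
    exact ⟨0, by rw [map_zero, map_zero]⟩
  | tmul q t =>
    refine J.superset_covering ?_ (hs q)
    rintro V g ⟨x, hx⟩
    refine ⟨(x ⊗ₜ[R.obj (op V)] T.map g.op t : (P ⊗ T).obj (op V)), ?_⟩
    rw [whiskerRight_app_tmul, hx]
    rfl
  | add z₁ z₂ h₁ h₂ =>
    refine J.superset_covering ?_ (J.intersection_covering h₁ h₂)
    rintro V g ⟨⟨x₁, hx₁⟩, ⟨x₂, hx₂⟩⟩
    refine ⟨x₁ + x₂, ?_⟩
    rw [map_add, hx₁, hx₂, map_add]


theorem whiskerRight_locInj
    (hi : ∀ ⦃U : Cᵒᵖ⦄ (x : P.obj U), f.app U x = 0 → zeroSieve P x ∈ J U.unop)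
    (hs : ∀ ⦃U : Cᵒᵖ⦄ (y : Q.obj U), imgSieve f y ∈ J U.unop) :
    ∀ ⦃U : Cᵒᵖ⦄ (z : (P ⊗ T).obj U), (f ▷ T).app U z = 0 →
      zeroSieve (P ⊗ T) z ∈ J U.unop := by
  intro U z hz
  obtain ⟨k, x, t, hzx⟩ :=
    TensorProduct.exists_sum_tmul_eq (z : P.obj U ⊗[R.obj U] T.obj U)
  have hz' : ∑ i, (f.app U (x i)) ⊗ₜ[R.obj U] t i = (0 : Q.obj U ⊗[R.obj U] T.obj U) := by
    have h1 : (f ▷ T).app U z = ∑ i, (f.app U (x i) ⊗ₜ[R.obj U] t i : (Q ⊗ T).obj U) := by
      rw [hzx, map_sum]
      rfl
    rw [← h1]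
    exact hz
  obtain ⟨k', q, k₂, a, y, h₁, h₂⟩ := exists_vanishesTrivially (fun i => f.app U (x i)) t hz'
  let S₁ : Sieve U.unop := Finset.univ.inf (fun j : Fin k' => imgSieve f (q j))
  have hS₁ : S₁ ∈ J U.unop := finset_inf_mem J _ _ (fun j _ => hs (q j))
  refine J.transitive hS₁ _ ?_
  intro V g hg
  have hg' : ∀ j : Fin k', ∃ p : P.obj (op V), f.app (op V) p = Q.map g.op (q j) := by
    intro j
    have : (imgSieve f (q j)) g := by
      have hle : S₁ ≤ imgSieve f (q j) := Finset.inf_le (Finset.mem_univ j)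
      exact hle _ hg
    exact this
  choose p hp using hg'
  let pp : Fin k ⊕ Fin k' → P.obj (op V) := Sum.elim (fun i => P.map g.op (x i)) p
  let r : Fin k₂ → P.obj (op V) := fun j => ∑ l, (R.map g.op (a l j)) • pp l
  have hpp : ∀ l, f.app (op V) (pp l) =
      Q.map g.op (Sum.elim (fun i => f.app U (x i)) q l) := by
    rintro (i | j')
    · exact PresheafOfModules.naturality_apply f g.op (x i)
    · exact hp j'
  have hr : ∀ j, f.app (op V) (r j) = 0 := by
    intro j
    have h3 := congrArg (Q.map g.op) (h₂ j)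
    rw [map_sum, map_zero] at h3
    simp only [r, map_sum, map_smul, hpp]
    rw [← h3]
    refine Finset.sum_congr rfl fun l _ => ?_
    exact (Q.map_smul g.op (a l j) _).symm
  let S₂ : Sieve V := Finset.univ.inf (fun j : Fin k₂ => zeroSieve P (r j))
  have hS₂ : S₂ ∈ J V := finset_inf_mem J _ _ (fun j _ => hi (r j) (hr j))
  refine J.superset_covering ?_ hS₂
  intro W h hh
  show (P ⊗ T).map (h ≫ g).op z = 0
  have hrW : ∀ j, P.map h.op (r j) = 0 := by
    intro j
    have hle : S₂ ≤ zeroSieve P (r j) := Finset.inf_le (Finset.mem_univ j)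
    exact hle _ hh
  set φ := (h ≫ g).op with hφ
  have hzW : (P ⊗ T).map φ z =
      ∑ i, (P.map φ (x i) ⊗ₜ[R.obj (op W)] T.map φ (t i) : (P ⊗ T).obj (op W)) := by
    rw [hzx, map_sum]
    rfl
  rw [hzW]
  let ppW : Fin k ⊕ Fin k' → P.obj (op W) := fun l => P.map h.op (pp l)
  let nW : Fin k ⊕ Fin k' → T.obj (op W) := fun l => T.map φ (Sum.elim t 0 l)
  have hvan : TensorProduct.VanishesTrivially (R.obj (op W)) ppW nW := by
    refine ⟨k₂, fun l j => R.map φ (a l j), fun j => T.map φ (y j), fun l => ?_, fun j => ?_⟩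
    · have h4 := congrArg (T.map φ) (h₁ l)
      rw [map_sum] at h4
      refine h4.trans (Finset.sum_congr rfl fun j _ => ?_)
      exact T.map_smul φ (a l j) _
    · have h5 := hrW j
      simp only [r, map_sum] at h5
      rw [← h5]
      refine Finset.sum_congr rfl fun l _ => ?_
      rw [P.map_smul h.op]
      congr 1
      show (R.map (h ≫ g).op) (a l j) = (R.map h.op) ((R.map g.op) (a l j))
      rw [op_comp, R.map_comp]
      rfl
  have h6 := TensorProduct.sum_tmul_eq_zero_of_vanishesTrivially (R.obj (op W)) hvan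
  rw [Fintype.sum_sum_type] at h6
  have h7 : ∑ j : Fin k', ppW (Sum.inr j) ⊗ₜ[R.obj (op W)] nW (Sum.inr j) = 0 := by
    refine Finset.sum_eq_zero fun j _ => ?_
    simp only [nW, Sum.elim_inr, Pi.zero_apply, map_zero, tmul_zero]
  rw [h7, add_zero] at h6
  rw [← h6]
  refine Finset.sum_congr rfl fun i _ => ?_
  simp only [ppW, nW, pp, Sum.elim_inl]
  congr 1
  rw [hφ, op_comp, P.map_comp_apply]

end Groth.Agent.Lib.Lead.TensorW

namespace Groth.Agent.Lib.Lead.TensorW

variable {C : Type*} [Category C] (J : GrothendieckTopology C) {R : Cᵒᵖ ⥤ CommRingCat.{u}}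
  {P Q : PresheafOfModules.{u} (R ⋙ forget₂ CommRingCat RingCat)} (f : P ⟶ Q)
  (T : PresheafOfModules.{u} (R ⋙ forget₂ CommRingCat RingCat))

/-- Tensoring on the right with a presheaf of modules preserves locally bijective maps. -/
theorem whiskerRight_isLocallyBijective
    [Presheaf.IsLocallyInjective J ((PresheafOfModules.toPresheaf _).map f)]
    [Presheaf.IsLocallySurjective J ((PresheafOfModules.toPresheaf _).map f)] :
    Presheaf.IsLocallyInjective J ((PresheafOfModules.toPresheaf _).map (f ▷ T)) ∧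
      Presheaf.IsLocallySurjective J ((PresheafOfModules.toPresheaf _).map (f ▷ T)) := by
  have hi := (locInj_iff J f).1 inferInstance
  have hs := (locSurj_iff J f).1 inferInstance
  exact ⟨(locInj_iff J (f ▷ T)).2 (whiskerRight_locInj J f T hi hs),
    (locSurj_iff J (f ▷ T)).2 (whiskerRight_locSurj J f T hs)⟩

/-- Tensoring on the left with a presheaf of modules preserves locally bijective maps. -/
theorem whiskerLeft_isLocallyBijective
    [Presheaf.IsLocallyInjective J ((PresheafOfModules.toPresheaf _).map f)]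
    [Presheaf.IsLocallySurjective J ((PresheafOfModules.toPresheaf _).map f)] :
    Presheaf.IsLocallyInjective J ((PresheafOfModules.toPresheaf _).map (T ◁ f)) ∧
      Presheaf.IsLocallySurjective J ((PresheafOfModules.toPresheaf _).map (T ◁ f)) := by
  obtain ⟨h1, h2⟩ := whiskerRight_isLocallyBijective J f T
  have e : T ◁ f = (β_ T P).hom ≫ (f ▷ T) ≫ (β_ Q T).hom := by
    rw [BraidedCategory.braiding_naturality_left]
    simp
  rw [e]
  simp only [Functor.map_comp]
  constructor
  · infer_instance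
  · infer_instance

end Groth.Agent.Lib.Lead.TensorW
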