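import Mathlib
import Groth.Prelude.Def_CohB1
import Groth.Prelude.Def_SecTwist
import Groth.Prelude.Def_ClSub2
import Groth.Agent.Lib.Lead.TensorW1

set_option backward.isDefEq.respectTransparency false

universe u

open CategoryTheory MonoidalCategory AlgebraicGeometry Opposite

namespace Groth.Agent.Lib.Lead.ModTensor

variable {X : Scheme.{u}}

/-- The sheafification adjunction for presheaves of `O_X`-modules. -/
noncomputable abbrev adj (X : Scheme.{u}) :=
  PresheafOfModules.sheafificationAdjunction.{u, u, u, u}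
    (J := Opens.grothendieckTopology X) (𝟙 X.ringCatSheaf.obj)

/-- The unit of sheafification, typed as a morphism of `CohB1.PMod X`. -/
noncomputable def η (P : CohB1.PMod X) :
    P ⟶ CohB1.toPMod ((CohB1.sheafifyMod X).obj (show X.PresheafOfModules from P)) :=
  (adj X).unit.app P

/-- The counit of sheafification at a sheaf is an isomorphism. -/
noncomputable def counitIso (M : X.Modules) :
    (CohB1.sheafifyMod X).obj (show X.PresheafOfModules from CohB1.toPMod M) ≅ M :=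
  (asIso (adj X).counit).app M

/-- The sheafification functor, typed on `CohB1.PMod X`. -/
noncomputable abbrev L (X : Scheme.{u}) : CohB1.PMod X ⥤ X.Modules := CohB1.sheafifyMod X

lemma isIso_L_map_iff {P Q : CohB1.PMod X} (g : P ⟶ Q) :
    IsIso ((L X).map g) ↔
      Presheaf.IsLocallyInjective (Opens.grothendieckTopology X)
        ((PresheafOfModules.toPresheaf _).map g) ∧
      Presheaf.IsLocallySurjective (Opens.grothendieckTopology X)
        ((PresheafOfModules.toPresheaf _).map g) := by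
  rw [← GrothendieckTopology.W_iff_isLocallyBijective]
  have := PresheafOfModules.inverseImage_W_toPresheaf_eq_inverseImage_isomorphisms.{u}
    (J := Opens.grothendieckTopology X) (𝟙 X.ringCatSheaf.obj)
  have h2 := congrFun (congrFun (congrFun this P) Q) g
  simp only [MorphismProperty.inverseImage_iff, MorphismProperty.isomorphisms.iff] at h2
  exact (Iff.of_eq h2).symm

instance isIso_L_map_η (P : CohB1.PMod X) : IsIso ((L X).map (η P)) := by
  have h := (adj X).left_triangle_components P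
  have : IsIso ((adj X).counit.app ((CohB1.sheafifyMod X).obj P)) := inferInstance
  have e : (L X).map (η P) ≫ (adj X).counit.app ((CohB1.sheafifyMod X).obj P) = 𝟙 _ := h
  have : IsIso ((L X).map (η P) ≫ (adj X).counit.app ((CohB1.sheafifyMod X).obj P)) := by
    rw [e]; infer_instance
  exact IsIso.of_isIso_comp_right _ ((adj X).counit.app ((CohB1.sheafifyMod X).obj P))

lemma isIso_L_whiskerRight {P Q : CohB1.PMod X} (g : P ⟶ Q) [IsIso ((L X).map g)]
    (T : CohB1.PMod X) : IsIso ((L X).map (g ▷ T)) := by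
  obtain ⟨h1, h2⟩ := (isIso_L_map_iff g).1 inferInstance
  exact (isIso_L_map_iff (g ▷ T)).2
    (TensorW.whiskerRight_isLocallyBijective (Opens.grothendieckTopology X) g T)

lemma isIso_L_whiskerLeft {P Q : CohB1.PMod X} (g : P ⟶ Q) [IsIso ((L X).map g)]
    (T : CohB1.PMod X) : IsIso ((L X).map (T ◁ g)) := by
  obtain ⟨h1, h2⟩ := (isIso_L_map_iff g).1 inferInstance
  exact (isIso_L_map_iff (T ◁ g)).2
    (TensorW.whiskerLeft_isLocallyBijective (Opens.grothendieckTopology X) g T)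


/-- The forgetful functor to presheaves of modules, typed on `CohB1.PMod X`. -/
noncomputable abbrev V (X : Scheme.{u}) : X.Modules ⥤ CohB1.PMod X :=
  Scheme.Modules.toPresheafOfModules X

/-- Functoriality of `CohB1.tensorMod` in both variables. -/
noncomputable def tensorMap {M M' N N' : X.Modules} (f : M ⟶ M') (g : N ⟶ N') :
    CohB1.tensorMod M N ⟶ CohB1.tensorMod M' N' :=
  (L X).map ((V X).map f ⊗ₘ (V X).map g)

@[simp]
lemma tensorMap_id (M N : X.Modules) : tensorMap (𝟙 M) (𝟙 N) = 𝟙 (CohB1.tensorMod M N) := by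
  have h : ((V X).map (𝟙 M) ⊗ₘ (V X).map (𝟙 N)) = 𝟙 (CohB1.toPMod M ⊗ CohB1.toPMod N) := by
    rw [(V X).map_id, (V X).map_id]
    exact MonoidalCategory.id_tensorHom_id _ _
  unfold tensorMap
  rw [h]
  exact (L X).map_id _

@[reassoc]
lemma tensorMap_comp {M M' M'' N N' N'' : X.Modules} (f : M ⟶ M') (f' : M' ⟶ M'')
    (g : N ⟶ N') (g' : N' ⟶ N'') :
    tensorMap (f ≫ f') (g ≫ g') = tensorMap f g ≫ tensorMap f' g' := by
  have h : ((V X).map (f ≫ f') ⊗ₘ (V X).map (g ≫ g')) =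
      ((V X).map f ⊗ₘ (V X).map g) ≫ ((V X).map f' ⊗ₘ (V X).map g') := by
    rw [(V X).map_comp, (V X).map_comp]
    exact (MonoidalCategory.tensorHom_comp_tensorHom _ _ _ _).symm
  unfold tensorMap
  rw [h, (L X).map_comp]

/-- `CohB1.tensorMod` of isomorphisms. -/
noncomputable def tensorIso {M M' N N' : X.Modules} (e : M ≅ M') (e' : N ≅ N') :
    CohB1.tensorMod M N ≅ CohB1.tensorMod M' N' where
  hom := tensorMap e.hom e'.hom
  inv := tensorMap e.inv e'.inv
  hom_inv_id := by rw [← tensorMap_comp, e.hom_inv_id, e'.hom_inv_id, tensorMap_id]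
  inv_hom_id := by rw [← tensorMap_comp, e.inv_hom_id, e'.inv_hom_id, tensorMap_id]

/-- Sheafification of a sectionwise tensor product of presheaves is the tensor product of the
sheafifications. -/
noncomputable def sheafifyTensorIso (P Q : CohB1.PMod X) :
    (L X).obj (P ⊗ Q) ≅ CohB1.tensorMod ((L X).obj P) ((L X).obj Q) :=
  haveI : IsIso ((L X).map (η P ▷ Q)) := isIso_L_whiskerRight (η P) Q
  haveI : IsIso ((L X).map (CohB1.toPMod ((L X).obj P) ◁ η Q)) := isIso_L_whiskerLeft (η Q) _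
  asIso ((L X).map (η P ▷ Q)) ≪≫ asIso ((L X).map (CohB1.toPMod ((L X).obj P) ◁ η Q))

/-- The associativity isomorphism of `CohB1.tensorMod`. -/
noncomputable def assoc (A B C : X.Modules) :
    CohB1.tensorMod (CohB1.tensorMod A B) C ≅ CohB1.tensorMod A (CohB1.tensorMod B C) :=
  haveI : IsIso ((L X).map (η (CohB1.toPMod A ⊗ CohB1.toPMod B) ▷ CohB1.toPMod C)) :=
    isIso_L_whiskerRight (η _) _
  haveI : IsIso ((L X).map (CohB1.toPMod A ◁ η (CohB1.toPMod B ⊗ CohB1.toPMod C))) :=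
    isIso_L_whiskerLeft (η _) _
  (asIso ((L X).map (η (CohB1.toPMod A ⊗ CohB1.toPMod B) ▷ CohB1.toPMod C))).symm ≪≫
    (L X).mapIso (α_ (CohB1.toPMod A) (CohB1.toPMod B) (CohB1.toPMod C)) ≪≫
    asIso ((L X).map (CohB1.toPMod A ◁ η (CohB1.toPMod B ⊗ CohB1.toPMod C)))

/-- The symmetry isomorphism of `CohB1.tensorMod`. -/
noncomputable def braid (A B : X.Modules) : CohB1.tensorMod A B ≅ CohB1.tensorMod B A :=
  (L X).mapIso (β_ (CohB1.toPMod A) (CohB1.toPMod B))

/-- The left unit isomorphism `O ⊗ M ≅ M`. -/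
noncomputable def leftUnitor (M : X.Modules) :
    CohB1.tensorMod (Coh.structureModule X) M ≅ M :=
  (L X).mapIso (λ_ (CohB1.toPMod M)) ≪≫ counitIso M

/-- The right unit isomorphism `M ⊗ O ≅ M` (the Prelude's `SecTwist.unitorR`). -/
noncomputable def rightUnitor (M : X.Modules) :
    CohB1.tensorMod M (Coh.structureModule X) ≅ M :=
  SecTwist.unitorR M


/-- Tensor powers of isomorphic modules are isomorphic. -/
noncomputable def tensorPowIso {L₁ L₂ : X.Modules} (e : L₁ ≅ L₂) :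
    ∀ n : ℕ, CohB1.tensorPow L₁ n ≅ CohB1.tensorPow L₂ n
  | 0 => Iso.refl _
  | n + 1 => tensorIso (tensorPowIso e n) e

/-- `L^{⊗ 1} ≅ L`. -/
noncomputable def tensorPowOne (L₁ : X.Modules) : CohB1.tensorPow L₁ 1 ≅ L₁ := leftUnitor L₁

/-- `L^{⊗ m} ⊗ L^{⊗ n} ≅ L^{⊗ (m+n)}`. -/
noncomputable def tensorPowAdd (L₁ : X.Modules) (m : ℕ) :
    ∀ n : ℕ, CohB1.tensorMod (CohB1.tensorPow L₁ m) (CohB1.tensorPow L₁ n) ≅
      CohB1.tensorPow L₁ (m + n)
  | 0 => rightUnitor _
  | n + 1 => (assoc _ _ _).symm ≪≫ tensorIso (tensorPowAdd L₁ m n) (Iso.refl L₁)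

/-- `O^{⊗ n} ≅ O`. -/
noncomputable def tensorPowUnit : ∀ n : ℕ,
    CohB1.tensorPow (Coh.structureModule X) n ≅ Coh.structureModule X
  | 0 => Iso.refl _
  | n + 1 => tensorIso (tensorPowUnit n) (Iso.refl _) ≪≫ rightUnitor _

/-- `(L^{⊗ m})^{⊗ n} ≅ L^{⊗ (m n)}`. -/
noncomputable def tensorPowMul (L₁ : X.Modules) (m : ℕ) :
    ∀ n : ℕ, CohB1.tensorPow (CohB1.tensorPow L₁ m) n ≅ CohB1.tensorPow L₁ (m * n)
  | 0 => Iso.refl _
  | n + 1 => tensorIso (tensorPowMul L₁ m n) (Iso.refl _) ≪≫ tensorPowAdd L₁ (m * n) m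

/-- `(A ⊗ B) ⊗ (C ⊗ D) ≅ (A ⊗ C) ⊗ (B ⊗ D)`. -/
noncomputable def tensorTensorTensorComm (A B C D : X.Modules) :
    CohB1.tensorMod (CohB1.tensorMod A B) (CohB1.tensorMod C D) ≅
      CohB1.tensorMod (CohB1.tensorMod A C) (CohB1.tensorMod B D) :=
  assoc A B (CohB1.tensorMod C D) ≪≫
    tensorIso (Iso.refl A) ((assoc B C D).symm ≪≫ tensorIso (braid B C) (Iso.refl D) ≪≫
      assoc C B D) ≪≫
    (assoc A C (CohB1.tensorMod B D)).symm

/-- `(A ⊗ B)^{⊗ n} ≅ A^{⊗ n} ⊗ B^{⊗ n}`. -/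
noncomputable def tensorPowTensor (A B : X.Modules) :
    ∀ n : ℕ, CohB1.tensorPow (CohB1.tensorMod A B) n ≅
      CohB1.tensorMod (CohB1.tensorPow A n) (CohB1.tensorPow B n)
  | 0 => (rightUnitor _).symm
  | n + 1 => tensorIso (tensorPowTensor A B n) (Iso.refl _) ≪≫ tensorTensorTensorComm _ _ _ _

lemma isInverseOf_symm {L₁ M : X.Modules} (h : ClSub.IsInverseOf L₁ M) :
    ClSub.IsInverseOf M L₁ :=
  ⟨braid M L₁ ≪≫ h.some⟩

/-- Inverses for the tensor product are unique up to isomorphism. -/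
lemma isInverseOf_unique {L₁ M M' : X.Modules} (h : ClSub.IsInverseOf L₁ M)
    (h' : ClSub.IsInverseOf L₁ M') : Nonempty (M ≅ M') :=
  ⟨(leftUnitor M).symm ≪≫ tensorIso ((braid M' L₁ ≪≫ h'.some).symm) (Iso.refl M) ≪≫
    assoc M' L₁ M ≪≫ tensorIso (Iso.refl M') h.some ≪≫ rightUnitor M'⟩

lemma isInverseOf_of_iso {L₁ L₂ M₁ M₂ : X.Modules} (e : L₁ ≅ L₂) (e' : M₁ ≅ M₂)
    (h : ClSub.IsInverseOf L₁ M₁) : ClSub.IsInverseOf L₂ M₂ :=
  ⟨(tensorIso e e').symm ≪≫ h.some⟩

lemma isInverseOf_tensorPow {L₁ M : X.Modules} (h : ClSub.IsInverseOf L₁ M) (n : ℕ) :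
    ClSub.IsInverseOf (CohB1.tensorPow L₁ n) (CohB1.tensorPow M n) :=
  ⟨(tensorPowTensor L₁ M n).symm ≪≫ tensorPowIso h.some n ≪≫ tensorPowUnit n⟩

lemma isInverseOf_tensorMod {L₁ M₁ L₂ M₂ : X.Modules} (h₁ : ClSub.IsInverseOf L₁ M₁)
    (h₂ : ClSub.IsInverseOf L₂ M₂) :
    ClSub.IsInverseOf (CohB1.tensorMod L₁ L₂) (CohB1.tensorMod M₁ M₂) :=
  ⟨tensorTensorTensorComm L₁ L₂ M₁ M₂ ≪≫ tensorIso h₁.some h₂.some ≪≫ rightUnitor _⟩

lemma isInverseOf_unit : ClSub.IsInverseOf (Coh.structureModule X) (Coh.structureModule X) :=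
  ⟨rightUnitor _⟩

end Groth.Agent.Lib.Lead.ModTensor
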