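import Mathlib

/-!
# Localisation-type maps of cochain complexes induce localisation-type maps on homology (lead)

`IsLocMap μ ν φ` for additive maps `μ : A → A`, `ν : B → B`, `φ : A → B`: `φ` intertwines `μ` and `ν`,
`ν` is bijective, every element of `B` is in the image of `φ` after applying `ν` often enough, and every
element of the kernel of `φ` is killed by an iterate of `μ` (i.e. `B = A[μ⁻¹]`).

* `IsLocMap.pi`: finite products.
* `isLocMap_homologyMap`: if a morphism `φ : K ⟶ L` of cochain complexes of abelian groups is termwise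
  `IsLocMap` with respect to endomorphisms `μ`, `ν`, then so is the induced map on homology.
-/

set_option autoImplicit false

universe u

open CategoryTheory Limits

namespace Groth.Agent.Lib.Lead.LocHomology

/-- `φ` exhibits `B` as the localisation `A[μ⁻¹]`. -/
structure IsLocMap {A B : Type*} [AddCommGroup A] [AddCommGroup B]
    (μ : A →+ A) (ν : B →+ B) (φ : A →+ B) : Prop where
  comm : ∀ x, φ (μ x) = ν (φ x)
  bij : Function.Bijective ν
  surj : ∀ y, ∃ (N : ℕ) (x : A), φ x = (ν^[N]) y
  ker : ∀ x, φ x = 0 → ∃ N : ℕ, (μ^[N]) x = 0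

namespace IsLocMap

variable {A B : Type*} [AddCommGroup A] [AddCommGroup B] {μ : A →+ A} {ν : B →+ B} {φ : A →+ B}

lemma comm_iterate (h : IsLocMap μ ν φ) (N : ℕ) (x : A) : φ ((μ^[N]) x) = (ν^[N]) (φ x) := by
  have hs : Function.Semiconj φ μ ν := fun x => h.comm x
  exact (hs.iterate_right N) x

lemma iterate_bijective (h : IsLocMap μ ν φ) (N : ℕ) : Function.Bijective (ν^[N]) :=
  h.bij.iterate N

lemma surj_ge (h : IsLocMap μ ν φ) (y : B) :
    ∃ N₀ : ℕ, ∀ N, N₀ ≤ N → ∃ x : A, φ x = (ν^[N]) y := by
  obtain ⟨N₀, x, hx⟩ := h.surj y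
  refine ⟨N₀, fun N hN => ⟨(μ^[N - N₀]) x, ?_⟩⟩
  rw [h.comm_iterate, hx, ← Function.iterate_add_apply, Nat.sub_add_cancel hN]

lemma ker_ge (h : IsLocMap μ ν φ) (x : A) (hx : φ x = 0) :
    ∃ N₀ : ℕ, ∀ N, N₀ ≤ N → (μ^[N]) x = 0 := by
  obtain ⟨N₀, h0⟩ := h.ker x hx
  refine ⟨N₀, fun N hN => ?_⟩
  have : N = (N - N₀) + N₀ := (Nat.sub_add_cancel hN).symm
  rw [this, Function.iterate_add_apply, h0, iterate_map_zero]

end IsLocMap

section complexes

variable (K : CochainComplex AddCommGrpCat.{u} ℕ) (q : ℕ)

lemma homologyπ_surjective : Function.Surjective (K.homologyπ q) :=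
  (AddCommGrpCat.epi_iff_surjective (K.homologyπ q)).1 inferInstance

lemma iCycles_injective : Function.Injective (K.iCycles q) :=
  (AddCommGrpCat.mono_iff_injective (K.iCycles q)).1 inferInstance

lemma d_iCycles (x : K.cycles q) : K.d q (q + 1) (K.iCycles q x) = 0 := by
  have := ConcreteCategory.congr_hom (K.iCycles_d q (q + 1)) x
  rw [ConcreteCategory.comp_apply] at this
  exact this

lemma exists_cycle (z : K.X q) (hz : K.d q (q + 1) z = 0) :
    ∃ x : K.cycles q, K.iCycles q x = z := by
  let k : AddCommGrpCat.of (ULift.{u} ℤ) ⟶ K.X q :=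
    AddCommGrpCat.ofHom ((zmultiplesHom _ z).comp AddEquiv.ulift.toAddMonoidHom)
  have hk : k ≫ K.d q (q + 1) = 0 := by
    apply AddCommGrpCat.hom_ext
    apply AddMonoidHom.ext
    intro m
    show K.d q (q + 1) (m.down • z) = 0
    rw [map_zsmul, hz, smul_zero]
  refine ⟨K.liftCycles k (q + 1) (by simp) hk (ULift.up 1), ?_⟩
  have := ConcreteCategory.congr_hom (K.liftCycles_i k (q + 1) (by simp) hk) (ULift.up 1)
  rw [ConcreteCategory.comp_apply] at this
  rw [this]
  show (1 : ℤ) • z = z
  rw [one_smul]

lemma iCycles_toCycles (j : ℕ) (y : K.X j) : K.iCycles q (K.toCycles j q y) = K.d j q y := by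
  have := ConcreteCategory.congr_hom (K.toCycles_i j q) y
  rw [ConcreteCategory.comp_apply] at this
  exact this

lemma homologyπ_toCycles (j : ℕ) (y : K.X j) : K.homologyπ q (K.toCycles j q y) = 0 := by
  have := ConcreteCategory.congr_hom (K.toCycles_comp_homologyπ j q) y
  rw [ConcreteCategory.comp_apply] at this
  exact this

lemma exists_of_homologyπ_eq_zero (c : K.cycles q) (h : K.homologyπ q c = 0) :
    ∃ y : K.X ((ComplexShape.up ℕ).prev q), K.toCycles ((ComplexShape.up ℕ).prev q) q y = c := by
  have hex : (ShortComplex.mk _ _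
      (K.toCycles_comp_homologyπ ((ComplexShape.up ℕ).prev q) q)).Exact :=
    ShortComplex.exact_of_g_is_cokernel _ (K.homologyIsCokernel _ q rfl)
  rw [ShortComplex.ab_exact_iff] at hex
  exact hex c h

variable {K} {L : CochainComplex AddCommGrpCat.{u} ℕ} (φ : K ⟶ L)

lemma iCycles_cyclesMap (x : K.cycles q) :
    L.iCycles q (HomologicalComplex.cyclesMap φ q x) = φ.f q (K.iCycles q x) := by
  have := ConcreteCategory.congr_hom (HomologicalComplex.cyclesMap_i φ q) x
  rw [ConcreteCategory.comp_apply, ConcreteCategory.comp_apply] at this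
  exact this

lemma homologyMap_homologyπ (x : K.cycles q) :
    HomologicalComplex.homologyMap φ q (K.homologyπ q x) =
      L.homologyπ q (HomologicalComplex.cyclesMap φ q x) := by
  have := ConcreteCategory.congr_hom (HomologicalComplex.homologyπ_naturality φ q) x
  rw [ConcreteCategory.comp_apply, ConcreteCategory.comp_apply] at this
  exact this

lemma map_d (j k : ℕ) (x : K.X j) : φ.f k (K.d j k x) = L.d j k (φ.f j x) := by
  have := ConcreteCategory.congr_hom (φ.comm j k) x
  rw [ConcreteCategory.comp_apply, ConcreteCategory.comp_apply] at this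
  exact this.symm

end complexes

section main

variable {K L : CochainComplex AddCommGrpCat.{u} ℕ} (μ : K ⟶ K) (ν : L ⟶ L) (φ : K ⟶ L)

lemma iterate_iCycles_cyclesMap (q N : ℕ) (x : K.cycles q) :
    K.iCycles q (((HomologicalComplex.cyclesMap μ q).hom^[N]) x) = ((μ.f q).hom^[N]) (K.iCycles q x) := by
  have hs : Function.Semiconj (K.iCycles q) (HomologicalComplex.cyclesMap μ q).hom (μ.f q).hom :=
    fun x => iCycles_cyclesMap q μ x
  exact (hs.iterate_right N) x

lemma iterate_homologyMap_homologyπ (q N : ℕ) (x : K.cycles q) :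
    ((HomologicalComplex.homologyMap μ q).hom^[N]) (K.homologyπ q x) =
      K.homologyπ q (((HomologicalComplex.cyclesMap μ q).hom^[N]) x) := by
  have hs : Function.Semiconj (K.homologyπ q) (HomologicalComplex.cyclesMap μ q).hom
      (HomologicalComplex.homologyMap μ q).hom :=
    fun x => (homologyMap_homologyπ q μ x).symm
  exact ((hs.iterate_right N) x).symm

lemma iterate_map_d (j k N : ℕ) (x : K.X j) :
    ((μ.f k).hom^[N]) (K.d j k x) = K.d j k (((μ.f j).hom^[N]) x) := by
  have hs : Function.Semiconj (K.d j k) (μ.f j).hom (μ.f k).hom :=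
    fun x => (map_d μ j k x).symm
  exact ((hs.iterate_right N) x).symm

/-- **Localisation commutes with homology.** -/
theorem isLocMap_homologyMap (hc : μ ≫ φ = φ ≫ ν)
    (h : ∀ p, IsLocMap (μ.f p).hom (ν.f p).hom (φ.f p).hom) (q : ℕ) :
    IsLocMap (HomologicalComplex.homologyMap μ q).hom (HomologicalComplex.homologyMap ν q).hom
      (HomologicalComplex.homologyMap φ q).hom := by
  refine ⟨?_, ?_, ?_, ?_⟩
  · intro x
    have h1 : HomologicalComplex.homologyMap μ q ≫ HomologicalComplex.homologyMap φ q =
        HomologicalComplex.homologyMap φ q ≫ HomologicalComplex.homologyMap ν q := by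
      rw [← HomologicalComplex.homologyMap_comp, ← HomologicalComplex.homologyMap_comp, hc]
    have := ConcreteCategory.congr_hom h1 x
    rw [ConcreteCategory.comp_apply, ConcreteCategory.comp_apply] at this
    exact this
  · -- `ν` is an isomorphism of complexes
    have hiso : ∀ p, IsIso (ν.f p) := fun p =>
      (ConcreteCategory.isIso_iff_bijective (ν.f p)).2 (h p).bij
    have : IsIso ν := HomologicalComplex.Hom.isIso_of_components ν
    have : IsIso (HomologicalComplex.homologyMap ν q) := inferInstance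
    exact (ConcreteCategory.isIso_iff_bijective _).1 this
  · -- surjectivity up to iterates
    intro y
    obtain ⟨b, rfl⟩ := homologyπ_surjective L q y
    obtain ⟨N, x, hx⟩ := (h q).surj (L.iCycles q b)
    have h0 : (φ.f (q + 1)).hom (K.d q (q + 1) x) = 0 := by
      have e1 := map_d φ q (q + 1) x
      have e2 : L.d q (q + 1) ((φ.f q) x) = 0 := by
        have hx' : (φ.f q) x = ((ν.f q).hom^[N]) (L.iCycles q b) := hx
        rw [hx', ← iterate_map_d, d_iCycles, iterate_map_zero]
      exact e1.trans e2
    obtain ⟨N', hN'⟩ := (h (q + 1)).ker _ h0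
    have hcyc : K.d q (q + 1) (((μ.f q).hom^[N']) x) = 0 := by
      rw [← iterate_map_d]; exact hN'
    obtain ⟨a, ha⟩ := exists_cycle K q _ hcyc
    refine ⟨N + N', K.homologyπ q a, ?_⟩
    show (HomologicalComplex.homologyMap φ q) (K.homologyπ q a) = _
    rw [homologyMap_homologyπ, iterate_homologyMap_homologyπ]
    congr 1
    apply iCycles_injective L q
    rw [iCycles_cyclesMap, ha, iterate_iCycles_cyclesMap]
    have := (h q).comm_iterate N' x
    rw [show (φ.f q) (((μ.f q).hom^[N']) x) = (φ.f q).hom (((μ.f q).hom^[N']) x) from rfl, this, hx,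
      ← Function.iterate_add_apply, Nat.add_comm]
  · -- kernel
    intro x hx
    obtain ⟨a, rfl⟩ := homologyπ_surjective K q x
    have hx' : L.homologyπ q (HomologicalComplex.cyclesMap φ q a) = 0 := by
      rw [← homologyMap_homologyπ]; exact hx
    have key := exists_of_homologyπ_eq_zero L q _ hx'
    generalize (ComplexShape.up ℕ).prev q = j at key
    obtain ⟨y', hy'⟩ := key
    have hy'' : L.d j q y' = (φ.f q) (K.iCycles q a) := by
      rw [← iCycles_toCycles, hy', iCycles_cyclesMap]
    obtain ⟨N, w, hw⟩ := (h j).surj y'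
    have hk : (φ.f q).hom (((μ.f q).hom^[N]) (K.iCycles q a) - K.d j q w) = 0 := by
      rw [map_sub, (h q).comm_iterate]
      have e1 : (φ.f q).hom (K.d j q w) = L.d j q ((φ.f j) w) := map_d φ j q w
      have hw' : (φ.f j) w = ((ν.f j).hom^[N]) y' := hw
      rw [e1, hw', ← iterate_map_d, hy'']
      exact sub_self _
    obtain ⟨N', hN'⟩ := (h q).ker _ hk
    rw [iterate_map_sub, sub_eq_zero, ← Function.iterate_add_apply, iterate_map_d] at hN'
    refine ⟨N' + N, ?_⟩
    rw [iterate_homologyMap_homologyπ]
    have : ((HomologicalComplex.cyclesMap μ q).hom^[N' + N]) a =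
        K.toCycles j q (((μ.f j).hom^[N']) w) := by
      apply iCycles_injective K q
      rw [iterate_iCycles_cyclesMap, iCycles_toCycles]
      exact hN'
    rw [this, homologyπ_toCycles]

end main

end Groth.Agent.Lib.Lead.LocHomology
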