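import Mathlib
import Groth.Agent.Lib.Lead.LocHomology
import Groth.Agent.Lib.Helper27.CechLeray

set_option autoImplicit false
universe u
open CategoryTheory CategoryTheory.Limits
open Groth.Agent.Lib.helper27

namespace Groth.Agent.Lib.Lead.LocHomology

section pi

variable {J : Type u} {A B : J → AddCommGrpCat.{u}}

lemma π_iterate_map (g : ∀ a, A a ⟶ A a) (a : J) (N : ℕ) (x : (∏ᶜ A : AddCommGrpCat.{u})) :
    Pi.π A a (((Limits.Pi.map g).hom^[N]) x) = ((g a).hom^[N]) (Pi.π A a x) := by
  have hs : Function.Semiconj (Pi.π A a) (Limits.Pi.map g).hom (g a).hom :=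
    fun x => CechLeray.π_map_apply _ _ g a x
  exact (hs.iterate_right N) x

/-- finite products of localisation-type maps -/
theorem IsLocMap.pi [Finite J] (μ : ∀ a, A a ⟶ A a) (ν : ∀ a, B a ⟶ B a) (φ : ∀ a, A a ⟶ B a)
    (h : ∀ a, IsLocMap (μ a).hom (ν a).hom (φ a).hom) :
    IsLocMap (Limits.Pi.map μ).hom (Limits.Pi.map ν).hom (Limits.Pi.map φ).hom := by
  classical
  cases nonempty_fintype J
  refine ⟨?_, ⟨?_, ?_⟩, ?_, ?_⟩
  · intro x
    apply CechLeray.prod_ext
    intro a
    show Pi.π B a (Limits.Pi.map φ (Limits.Pi.map μ x)) = Pi.π B a (Limits.Pi.map ν (Limits.Pi.map φ x))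
    rw [CechLeray.π_map_apply, CechLeray.π_map_apply, CechLeray.π_map_apply, CechLeray.π_map_apply]
    exact (h a).comm _
  · intro x y hxy
    apply CechLeray.prod_ext
    intro a
    apply (h a).bij.1
    have := congrArg (Pi.π B a) hxy
    have e1 := CechLeray.π_map_apply _ _ ν a x
    have e2 := CechLeray.π_map_apply _ _ ν a y
    exact e1.symm.trans (this.trans e2)
  · intro z
    choose y hy using fun a => (h a).bij.2 (Pi.π B a z)
    refine ⟨(Concrete.productEquiv B).symm y, ?_⟩
    apply CechLeray.prod_ext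
    intro a
    show Pi.π B a (Limits.Pi.map ν ((Concrete.productEquiv B).symm y)) = _
    rw [CechLeray.π_map_apply, Concrete.productEquiv_symm_apply_π]
    exact hy a
  · intro y
    choose N₀ hN₀ using fun a => (h a).surj_ge (Pi.π B a y)
    let N := Finset.univ.sup N₀
    choose x hx using fun a => hN₀ a N (Finset.le_sup (Finset.mem_univ a))
    refine ⟨N, (Concrete.productEquiv A).symm x, ?_⟩
    apply CechLeray.prod_ext
    intro a
    show Pi.π B a (Limits.Pi.map φ ((Concrete.productEquiv A).symm x)) = _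
    rw [CechLeray.π_map_apply, Concrete.productEquiv_symm_apply_π, π_iterate_map]
    exact hx a
  · intro x hx
    have hx' : ∀ a, (φ a).hom (Pi.π A a x) = 0 := by
      intro a
      have := congrArg (Pi.π B a) hx
      rw [map_zero] at this
      exact (CechLeray.π_map_apply _ _ φ a x).symm.trans this
    choose N₀ hN₀ using fun a => (h a).ker_ge (Pi.π A a x) (hx' a)
    refine ⟨Finset.univ.sup N₀, ?_⟩
    apply CechLeray.prod_ext
    intro a
    rw [π_iterate_map, map_zero]
    exact hN₀ a _ (Finset.le_sup (Finset.mem_univ a))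

end pi

section transport

variable {A B A' B' : Type*} [AddCommGroup A] [AddCommGroup B] [AddCommGroup A'] [AddCommGroup B']
  {μ : A →+ A} {ν : B →+ B} {φ : A →+ B} {μ' : A' →+ A'} {ν' : B' →+ B'} {φ' : A' →+ B'}

/-- transport along additive equivalences -/
theorem IsLocMap.of_equiv (h : IsLocMap μ ν φ) (eA : A ≃+ A') (eB : B ≃+ B')
    (hμ : ∀ x, eA (μ x) = μ' (eA x)) (hν : ∀ y, eB (ν y) = ν' (eB y))
    (hφ : ∀ x, eB (φ x) = φ' (eA x)) : IsLocMap μ' ν' φ' := by
  have hμi : ∀ (N : ℕ) x, eA ((μ^[N]) x) = (μ'^[N]) (eA x) := fun N x =>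
    (Function.Semiconj.iterate_right (f := eA) (ga := μ) (gb := μ') hμ N) x
  have hνi : ∀ (N : ℕ) y, eB ((ν^[N]) y) = (ν'^[N]) (eB y) := fun N y =>
    (Function.Semiconj.iterate_right (f := eB) (ga := ν) (gb := ν') hν N) y
  refine ⟨?_, ⟨?_, ?_⟩, ?_, ?_⟩
  · intro x'
    obtain ⟨x, rfl⟩ := eA.surjective x'
    rw [← hμ, ← hφ, ← hφ, ← hν, h.comm]
  · intro y₁ y₂ hy
    obtain ⟨z₁, rfl⟩ := eB.surjective y₁
    obtain ⟨z₂, rfl⟩ := eB.surjective y₂
    rw [← hν, ← hν] at hy
    rw [h.bij.1 (eB.injective hy)]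
  · intro y'
    obtain ⟨y, rfl⟩ := eB.surjective y'
    obtain ⟨z, rfl⟩ := h.bij.2 y
    exact ⟨eB z, (hν z).symm⟩
  · intro y'
    obtain ⟨y, rfl⟩ := eB.surjective y'
    obtain ⟨N, x, hx⟩ := h.surj y
    exact ⟨N, eA x, by rw [← hφ, hx, hνi]⟩
  · intro x' hx'
    obtain ⟨x, rfl⟩ := eA.surjective x'
    rw [← hφ] at hx'
    have : φ x = 0 := eB.injective (by rw [hx', map_zero])
    obtain ⟨N, hN⟩ := h.ker x this
    exact ⟨N, by rw [← hμi, hN, map_zero]⟩

end transport

section localized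

variable {R : Type*} [CommRing R] {A B : Type*} [AddCommGroup A] [AddCommGroup B] [Module R A]
  [Module R B]

/-- a localisation-type map for multiplication by `f` is a localisation at the powers of `f` -/
theorem IsLocMap.isLocalizedModule (f : R) (φ : A →ₗ[R] B)
    (h : IsLocMap (DistribSMul.toAddMonoidHom A f) (DistribSMul.toAddMonoidHom B f)
      φ.toAddMonoidHom) : IsLocalizedModule (Submonoid.powers f) φ := by
  have hiter : ∀ (N : ℕ) (y : B), ((DistribSMul.toAddMonoidHom B f)^[N]) y = f ^ N • y := by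
    intro N y
    induction N generalizing y with
    | zero => simp
    | succ n ih =>
      rw [Function.iterate_succ_apply', ih, pow_succ', mul_smul]; rfl
  have hiterA : ∀ (N : ℕ) (x : A), ((DistribSMul.toAddMonoidHom A f)^[N]) x = f ^ N • x := by
    intro N y
    induction N generalizing y with
    | zero => simp
    | succ n ih =>
      rw [Function.iterate_succ_apply', ih, pow_succ', mul_smul]; rfl
  refine ⟨?_, ?_, ?_⟩
  · rintro ⟨s, n, rfl⟩
    rw [Module.End.isUnit_iff]
    have := h.iterate_bijective n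
    convert this using 1
    funext y
    rw [hiter]
    rfl
  · intro y
    obtain ⟨N, x, hx⟩ := h.surj y
    refine ⟨⟨x, ⟨f ^ N, N, rfl⟩⟩, ?_⟩
    show f ^ N • y = φ x
    rw [← hiter]
    exact hx.symm
  · intro x₁ x₂ hx
    have : φ.toAddMonoidHom (x₁ - x₂) = 0 := by
      show φ (x₁ - x₂) = 0
      rw [map_sub, hx, sub_self]
    obtain ⟨N, hN⟩ := h.ker _ this
    refine ⟨⟨f ^ N, N, rfl⟩, ?_⟩
    show f ^ N • x₁ = f ^ N • x₂
    rw [hiterA, smul_sub, sub_eq_zero] at hN
    exact hN

end localized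

end Groth.Agent.Lib.Lead.LocHomology
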