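import Mathlib
import Groth.Prelude.Def_Coh
import Groth.Agent.Lib.Helper18.HHPush
import Groth.Agent.Lib.Helper7.QCohExtend
import Groth.Agent.Lib.Lead.LocHomology

/-!
# `M ⟶ j_* (M|_{X_f})` is a localisation on sections over affine opens (lead)

For a scheme `X`, a global function `f` and a quasi-coherent `O_X`-module `M`, let `j : X_f ⟶ X` be the
inclusion of the basic open, `Mf f M := j_* (M|_{X_f})` and `eta f M : M ⟶ Mf f M` the unit.

* `isIso_smulAb_Mf`: multiplication by `f` is an automorphism of (the abelian sheaf of) `Mf f M`.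
* `isLocMap_sections`: over an affine open `V`, the map `Γ(M, V) → Γ(Mf f M, V)` exhibits the target
  as the localisation of the source at (multiplication by) `f`, in the sense of `LocHomology.IsLocMap`.
-/

set_option autoImplicit false
universe u
open CategoryTheory CategoryTheory.Limits AlgebraicGeometry Opposite TopologicalSpace
open Groth.Agent.Lib.Helper18.HH Groth.Agent.Lib.helper7 Groth.Agent.Lib.Lead.LocHomology

namespace Groth.Agent.Lib.Lead.LocModule

variable {X : Scheme.{u}}

/-- multiplication by a unit is an isomorphism -/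
lemma isIso_smulAb_of_isUnit (N : X.Modules) (u : Coh.Γtop X) (hu : IsUnit u) :
    IsIso (Coh.smulAb N u) := by
  obtain ⟨v, rfl⟩ := hu
  refine ⟨Coh.smulAb N (↑v⁻¹ : Coh.Γtop X), ?_, ?_⟩
  · rw [← Coh.smulAb_mul, Units.inv_mul, Coh.smulAb_one]
  · rw [← Coh.smulAb_mul, Units.mul_inv, Coh.smulAb_one]

variable (f : Γ(X, ⊤)) (M : X.Modules)

/-- the inclusion of the basic open -/
noncomputable abbrev jj : (X.basicOpen f : Scheme.{u}) ⟶ X := (X.basicOpen f).ι

/-- `j_* (M|_{X_f})` -/
noncomputable abbrev Mf : X.Modules :=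
  (Scheme.Modules.pushforward (jj f)).obj ((Scheme.Modules.restrictFunctor (jj f)).obj M)

/-- the unit `M ⟶ j_* (M|_{X_f})` -/
noncomputable abbrev eta : M ⟶ Mf f M := (Scheme.Modules.restrictAdjunction (jj f)).unit.app M

lemma isUnit_appTop : IsUnit (appTopΓ (jj f) f) := by
  have h := RingedSpace.isUnit_res_basicOpen X.toRingedSpace f
  have hle : (X.basicOpen f).ι ''ᵁ ⊤ ≤ X.basicOpen f := by
    rw [Scheme.Opens.ι_image_top]
  have h2 := h.map (X.presheaf.map (homOfLE hle).op).hom
  have e : (X.basicOpen f).ι.appTop.hom f = (X.presheaf.map (homOfLE hle).op).hom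
      ((X.toRingedSpace.presheaf.map (homOfLE (X.toRingedSpace.basicOpen_le f)).op).hom f) := by
    rw [Scheme.Opens.ι_appTop]
    have := X.presheaf.map_comp (homOfLE (X.toRingedSpace.basicOpen_le f)).op (homOfLE hle).op
    exact congrArg (fun φ => φ.hom f) this
  change IsUnit ((X.basicOpen f).ι.appTop.hom f)
  rw [e]
  exact h2

/-- the open `X_f ∩ V`, in the form in which it occurs as `Γ(Mf, V) = Γ(M, W f V)` -/
noncomputable abbrev W (V : X.Opens) : X.Opens := (jj f) ''ᵁ ((jj f) ⁻¹ᵁ V)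

lemma W_le (V : X.Opens) : W f V ≤ V := (jj f).image_preimage_le V

lemma W_eq (V : X.Opens) : W f V = V ⊓ X.basicOpen f := by
  rw [W, Scheme.Hom.image_preimage_eq_opensRange_inf, Scheme.Opens.opensRange_ι, inf_comm]

/-- the action of functions on `V` on `Γ(Mf, V) = Γ(M, W)` is through restriction to `W` -/
lemma smul_Mf (V : X.Opens) (r : Γ(X, V)) (y : Γ(Mf f M, V)) :
    r • y = (show Γ(M, W f V) from (X.presheaf.map (homOfLE (W_le f V)).op r) • (show Γ(M, W f V) from y)) := by
  have h := (jj f).app_appIso_inv V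
  have h2 : (X.presheaf.map (homOfLE (W_le f V)).op r) =
    ((jj f).appIso ((jj f) ⁻¹ᵁ V)).inv ((jj f).app V r) := by
    exact (congrArg (fun φ => φ.hom r) h).symm
  rw [h2]
  rfl

lemma iterate_eq_pow_smul {R A : Type*} [Monoid R] [MulAction R A] (g : A → A) (r : R)
    (h : ∀ x, g x = r • x) (n : ℕ) (x : A) : g^[n] x = r ^ n • x := by
  induction n generalizing x with
  | zero => simp
  | succ n ih => rw [Function.iterate_succ_apply', ih, h, pow_succ', mul_smul]

lemma smulAb_iterate (N : X.Modules) (r : Γ(X, ⊤)) (V : X.Opens) (n : ℕ) (x : Γ(N, V)) :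
    (((Coh.smulAb N r).hom.app (op V)).hom^[n]) x = (res r V) ^ n • x :=
  iterate_eq_pow_smul (R := Γ(X, V)) (A := Γ(N, V)) _ (res r V) (fun _ => rfl) n x

lemma isIso_smulAb_Mf : IsIso (Coh.smulAb (Mf f M) f) := by
  have h := smulAb_push (jj f) ((Scheme.Modules.restrictFunctor (jj f)).obj M) f
  have h' : Coh.smulAb (Mf f M) f = (Coh.pushAb (jj f)).map (Coh.smulAb _ (appTopΓ (jj f) f)) := h
  rw [h']
  have := isIso_smulAb_of_isUnit ((Scheme.Modules.restrictFunctor (jj f)).obj M) _ (isUnit_appTop f)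
  exact Functor.map_isIso (Coh.pushAb (jj f)) _

lemma bijective_of_isIso {F G : Sheaf (Opens.grothendieckTopology X) AddCommGrpCat.{u}}
    (φ : F ⟶ G) [IsIso φ] (V : X.Opens) : Function.Bijective (φ.hom.app (op V)).hom := by
  refine Function.bijective_iff_has_inverse.2 ⟨((inv φ).hom.app (op V)).hom, fun x => ?_, fun x => ?_⟩
  · exact congrArg (fun ψ : F ⟶ F => ψ.hom.app (op V) x) (IsIso.hom_inv_id φ)
  · exact congrArg (fun ψ : G ⟶ G => ψ.hom.app (op V) x) (IsIso.inv_hom_id φ)

lemma eta_app (V : X.Opens) (x : Γ(M, V)) :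
    (abMap (eta f M)).hom.app (op V) x = M.presheaf.map (homOfLE (W_le f V)).op x := rfl

lemma iterate_Mf (V : X.Opens) (n : ℕ) (y : Γ(Mf f M, V)) :
    (((Coh.smulAb (Mf f M) f).hom.app (op V)).hom^[n]) y =
      (show Γ(M, W f V) from (res f (W f V)) ^ n • (show Γ(M, W f V) from y)) := by
  refine (smulAb_iterate (Mf f M) f V n y).trans ?_
  rw [smul_Mf, map_pow, res_res]

lemma surj_aux [M.IsQuasicoherent] (V : X.Opens) (hV : IsAffineOpen V) (y : Γ(M, W f V)) :
    ∃ (n : ℕ) (s : Γ(M, V)),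
      M.presheaf.map (homOfLE (W_le f V)).op s = (res f (W f V)) ^ n • y := by
  have e := W_eq f V
  obtain ⟨n, s, hs⟩ := exists_res_pow_smul_eq_map M hV f (M.presheaf.map (homOfLE e.ge).op y)
  refine ⟨n, s, ?_⟩
  apply map_injective_of_eq M e
  rw [map_map, hs, map_res_pow_smul]

lemma ker_aux [M.IsQuasicoherent] (V : X.Opens) (hV : IsAffineOpen V) (x : Γ(M, V))
    (hx : M.presheaf.map (homOfLE (W_le f V)).op x = 0) : ∃ n : ℕ, (res f V) ^ n • x = 0 := by
  have e := W_eq f V
  apply exists_res_pow_smul_eq_zero M hV.isCompact f x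
  rw [← map_map M (W_le f V) e.ge, hx, _root_.map_zero]

theorem isLocMap_sections [M.IsQuasicoherent] (V : X.Opens) (hV : IsAffineOpen V) :
    IsLocMap ((Coh.smulAb M f).hom.app (op V)).hom ((Coh.smulAb (Mf f M) f).hom.app (op V)).hom
      ((abMap (eta f M)).hom.app (op V)).hom where
  comm x := congrArg (fun ψ : Coh.toAb M ⟶ Coh.toAb (Mf f M) => ψ.hom.app (op V) x)
    (smulAb_naturality (eta f M) f)
  bij := by
    have := isIso_smulAb_Mf f M
    exact bijective_of_isIso _ V
  surj y := by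
    obtain ⟨n, s, hs⟩ := surj_aux f M V hV y
    exact ⟨n, s, hs.trans (iterate_Mf f M V n y).symm⟩
  ker x hx := by
    obtain ⟨n, hn⟩ := ker_aux f M V hV x hx
    exact ⟨n, (smulAb_iterate M f V n x).trans hn⟩

end Groth.Agent.Lib.Lead.LocModule
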