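import Mathlib
import Groth.Agent.Lib.Lead.LocPi
import Groth.Agent.Lib.Lead.LocModule
import Groth.Agent.Lib.Helper20.CechNatTop
import Groth.Agent.Lib.Helper20.ProjTopFin
import Groth.Agent.Lib.Helper16.QCohAffinePush

set_option autoImplicit false
universe u
open CategoryTheory CategoryTheory.Limits AlgebraicGeometry Opposite TopologicalSpace
open Groth.Agent.Lib.Helper18.HH Groth.Agent.Lib.helper7 Groth.Agent.Lib.Lead.LocHomology
open Groth.Agent.Lib.Helper20 Groth.Agent.Lib.Helper20.CechNatTop Groth.Agent.Lib.helper27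

namespace Groth.Agent.Lib.Lead.CechLoc

open Groth.Agent.Lib.Lead.LocModule

variable {X : Scheme.{u}} (f : Γ(X, ⊤)) (M : X.Modules) [M.IsQuasicoherent]

instance : (Mf f M).IsQuasicoherent :=
  Groth.Agent.Lib.helper16.QCohAffinePush.isQuasicoherent_push (jj f)
    ((Scheme.Modules.restrictFunctor (jj f)).obj M)

variable {ι : Type u} [Finite ι] (U : ι → X.Opens)

omit [Finite ι] in
lemma prod_eq_iInf {n : ℕ} (a : Fin (n + 1) → ι) : (∏ᶜ (U ∘ a) : X.Opens) = ⨅ k, U (a k) := by
  apply le_antisymm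
  · exact le_iInf fun k => leOfHom (Limits.Pi.π (U ∘ a) k)
  · exact leOfHom (Limits.Pi.lift (fun k => homOfLE (iInf_le (fun k => U (a k)) k)))

omit [Finite ι] in
lemma isAffineOpen_prod (hU : ∀ s : Finset ι, s.Nonempty → IsAffineOpen (⨅ i ∈ s, U i))
    (n : ℕ) (a : Fin (n + 1) → ι) : IsAffineOpen (∏ᶜ (U ∘ a) : X.Opens) := by
  classical
  rw [prod_eq_iInf]
  have := hU (Finset.univ.image a) (Finset.image_nonempty.2 Finset.univ_nonempty)
  have e : (⨅ i ∈ Finset.univ.image a, U i) = iInf fun k => U (a k) := by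
    apply le_antisymm
    · exact le_iInf fun k => iInf₂_le (a k) (Finset.mem_image_of_mem a (Finset.mem_univ k))
    · refine le_iInf₂ fun i hi => ?_
      obtain ⟨k, -, rfl⟩ := Finset.mem_image.1 hi
      exact iInf_le (fun k => U (a k)) k
  rwa [e] at this

/-- termwise localisation property of the Čech complexes -/
theorem isLocMap_cech_f (hU : ∀ (n : ℕ) (a : Fin (n + 1) → ι), IsAffineOpen (∏ᶜ (U ∘ a) : X.Opens))
    (p : ℕ) :
    IsLocMap (((Č (X := X.toTopCat) U).map (Coh.smulAb M f)).f p).hom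
      (((Č (X := X.toTopCat) U).map (Coh.smulAb (Mf f M) f)).f p).hom
      (((Č (X := X.toTopCat) U).map (abMap (eta f M))).f p).hom := by
  have h := IsLocMap.pi (J := Fin (p + 1) → ι)
    (fun a => (Coh.smulAb M f).hom.app (op (∏ᶜ (U ∘ a))))
    (fun a => (Coh.smulAb (Mf f M) f).hom.app (op (∏ᶜ (U ∘ a))))
    (fun a => (abMap (eta f M)).hom.app (op (∏ᶜ (U ∘ a))))
    (fun a => isLocMap_sections f M _ (hU p a))
  exact h

/-- localisation property on sheaf cohomology -/
theorem isLocMap_H (hcov : iSup U = ⊤)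
    (hU : ∀ s : Finset ι, s.Nonempty → IsAffineOpen (⨅ i ∈ s, U i)) (q : ℕ) :
    IsLocMap (Sheaf.H.map (Coh.smulAb M f) q) (Sheaf.H.map (Coh.smulAb (Mf f M) f) q)
      (Sheaf.H.map (abMap (eta f M)) q) := by
  have hM := ProjTopFin.isAcyc_of_affine X U hU M
  have hMf := ProjTopFin.isAcyc_of_affine X U hU (Mf f M)
  have hc : (Č (X := X.toTopCat) U).map (Coh.smulAb M f) ≫ (Č (X := X.toTopCat) U).map (abMap (eta f M)) =
      (Č (X := X.toTopCat) U).map (abMap (eta f M)) ≫ (Č (X := X.toTopCat) U).map (Coh.smulAb (Mf f M) f) := by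
    rw [← Functor.map_comp, ← Functor.map_comp]
    exact congrArg _ (smulAb_naturality (eta f M) f)
  have h1 := isLocMap_homologyMap _ _ _ hc
    (isLocMap_cech_f f M U (isAffineOpen_prod U hU)) q
  let eM := cechIso (X := X.toTopCat) U hcov q (Coh.toAb M) hM
  let eMf := cechIso (X := X.toTopCat) U hcov q (Coh.toAb (Mf f M)) hMf
  refine h1.of_equiv eM.addCommGroupIsoToAddEquiv eMf.addCommGroupIsoToAddEquiv ?_ ?_ ?_
  · intro x
    exact ConcreteCategory.congr_hom
      (cechIso_natural (X := X.toTopCat) U hcov q _ _ hM hM (Coh.smulAb M f)) x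
  · intro x
    exact ConcreteCategory.congr_hom
      (cechIso_natural (X := X.toTopCat) U hcov q _ _ hMf hMf (Coh.smulAb (Mf f M) f)) x
  · intro x
    exact ConcreteCategory.congr_hom
      (cechIso_natural (X := X.toTopCat) U hcov q _ _ hM hMf (abMap (eta f M))) x

end Groth.Agent.Lib.Lead.CechLoc
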