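import Mathlib
import Groth.Agent.Lib.Helper12.PullPic
import Groth.Agent.Lib.Helper20.TensorEquiv

/-!
# The projection formula for invertible modules (lead)

For any morphism of schemes `h : Y ⟶ X`, an invertible `O_X`-module `L` (with a given inverse
`L ⊗ L' ≅ O_X`) and any `O_Y`-module `F`:

  `projIso : (h_* F) ⊗ L ≅ h_* (F ⊗ h^* L)`.

Obtained formally: `− ⊗ L` and `− ⊗ h^*L` are equivalences, `h^*(M ⊗ L) ≅ h^*M ⊗ h^*L` naturally in `M`
(helper12's `pullTensorIso`), and right adjoints of isomorphic functors are isomorphic.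
-/

set_option autoImplicit false
universe u

open CategoryTheory AlgebraicGeometry Opposite

namespace Groth.Agent.Lib.Lead.ProjFormula

open Groth.Agent.Lib.helper12.PullTensor Groth.Agent.Lib.helper12.PullPic
open Groth.Agent.Lib.Helper20.TensorEquiv Groth.Agent.Lib.Lead.ModTensor

variable {X Y : Scheme.{u}} (h : Y ⟶ X) {L L' : X.Modules}

/-- `h^*(− ⊗ L) ≅ h^*(−) ⊗ h^*L` as functors, for `L` invertible. -/
noncomputable def pullTensorNatIso (hL : PicF.IsInvertible L) :
    tensorRight L ⋙ Scheme.Modules.pullback h ≅
      Scheme.Modules.pullback h ⋙ tensorRight ((Scheme.Modules.pullback h).obj L) :=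
  NatIso.ofComponents (fun M => pullTensorIso h M L hL) (by
    intro M N f
    have := pullTensorHom_naturality h f (𝟙 L)
    simp only [Functor.comp_obj, Functor.comp_map, tensorRight_obj, tensorRight_map]
    rw [CategoryTheory.Functor.map_id] at this
    exact this)

variable (e : CohB1.tensorMod L L' ≅ Coh.structureModule X)
  (e' : CohB1.tensorMod ((Scheme.Modules.pullback h).obj L) ((Scheme.Modules.pullback h).obj L') ≅
    Coh.structureModule Y)

/-- the comparison of right adjoints -/
noncomputable def pushTensorInvIso (hL : PicF.IsInvertible L) :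
    Scheme.Modules.pushforward h ⋙ (tensorEquiv e).inverse ≅
      (tensorEquiv e').inverse ⋙ Scheme.Modules.pushforward h :=
  conjugateIsoEquiv ((tensorEquiv e).toAdjunction.comp (pbAdj h))
    ((pbAdj h).comp (tensorEquiv e').toAdjunction) (pullTensorNatIso h hL).symm

/-- **Projection formula** (with explicit inverse data). -/
noncomputable def projIsoAux (hL : PicF.IsInvertible L) (F : Y.Modules) :
    CohB1.tensorMod ((Scheme.Modules.pushforward h).obj F) L ≅
      (Scheme.Modules.pushforward h).obj
        (CohB1.tensorMod F ((Scheme.Modules.pullback h).obj L)) :=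
  (tensorEquiv e).functor.mapIso ((Scheme.Modules.pushforward h).mapIso
      ((tensorEquiv e').unitIso.app F)) ≪≫
    (tensorEquiv e).functor.mapIso ((pushTensorInvIso h e e' hL).symm.app
      ((tensorEquiv e').functor.obj F)) ≪≫
    (tensorEquiv e).counitIso.app _

/-- **Projection formula**: `(h_* F) ⊗ L ≅ h_*(F ⊗ h^*L)` for `L` invertible with inverse `L'`. -/
theorem nonempty_projIso (hL : PicF.IsInvertible L) (hLL' : ClSub.IsInverseOf L L') (F : Y.Modules) :
    Nonempty (CohB1.tensorMod ((Scheme.Modules.pushforward h).obj F) L ≅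
      (Scheme.Modules.pushforward h).obj
        (CohB1.tensorMod F ((Scheme.Modules.pullback h).obj L))) := by
  obtain ⟨e⟩ := hLL'
  obtain ⟨e'⟩ := isInverseOf_pullback' h hL ⟨e⟩
  exact ⟨projIsoAux h e e' hL F⟩

end Groth.Agent.Lib.Lead.ProjFormula
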