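import Mathlib
import Groth.Prelude.Def_Twist2
import Groth.Agent.Lib.Helper18.HHLES
import Groth.Agent.Lib.Helper7.CohKer
import Groth.Agent.Lib.Helper19.ProjSpaceProper
import Groth.Agent.S0022

/-!
# Serre finiteness on projective space: the descending induction (lead, LT21)

* `finite_of_exact`: over a Noetherian ring, the middle term of an exact sequence of modules with finite
  outer terms is finite.
* `isLocallyNoetherian_projSpace`.
* `finite_HH_of_resolving`: if every coherent module `F` on `P^n_R` is a quotient of a coherent module `E`
  all of whose cohomology groups are finite `R`-modules, then every `H^i(P^n_R, F)` is a finite `R`-module.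
-/

set_option autoImplicit false
set_option linter.style.haveILetI false
universe u
open CategoryTheory CategoryTheory.Limits AlgebraicGeometry Opposite

namespace Groth.Agent.Lib.Lead.SerreFin

section Algebra

variable {R A B C : Type*} [CommRing R] [IsNoetherianRing R]
  [AddCommGroup A] [Module R A] [AddCommGroup B] [Module R B] [AddCommGroup C] [Module R C]

/-- Over a Noetherian ring, the middle term of an exact sequence with finite outer terms is finite. -/
theorem finite_of_exact (f : A →ₗ[R] B) (g : B →ₗ[R] C) (h : Function.Exact f g)
    [Module.Finite R A] [Module.Finite R C] : Module.Finite R B := by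
  have hker : LinearMap.ker g = LinearMap.range f := LinearMap.exact_iff.mp h
  have : Module.Finite R (LinearMap.ker g) := by
    rw [hker]; exact Module.Finite.range f
  have : IsNoetherian R C := isNoetherian_of_isNoetherianRing_of_finite R C
  have : Module.Finite R (LinearMap.range g) := Module.IsNoetherian.finite R _
  have : Module.Finite R (B ⧸ LinearMap.ker g) :=
    Module.Finite.equiv g.quotKerEquivRange.symm
  exact Module.Finite.of_submodule_quotient (LinearMap.ker g)

end Algebra

variable (n : ℕ) (R : Type u) [CommRing R]

instance isLocallyNoetherian_projSpace [IsNoetherianRing R] :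
    IsLocallyNoetherian (CohB1.ProjSpace n R) :=
  LocallyOfFiniteType.isLocallyNoetherian (CohB1.ProjSpace.toSpec n R)

variable [IsNoetherianRing R]

open Groth.Agent.Lib.Helper18.HH in
/-- The descending induction in Serre's finiteness theorem. -/
theorem finite_HH_of_resolving
    (P1 : ∀ F : (CohB1.ProjSpace n R).Modules, Coh.IsCoh F →
      ∃ (E : (CohB1.ProjSpace n R).Modules) (π : E ⟶ F), Epi π ∧ Coh.IsCoh E ∧
        ∀ q : ℕ, Module.Finite R (Coh.HH (CohB1.ProjSpace n R) E q))
    (i : ℕ) (F : (CohB1.ProjSpace n R).Modules) (hF : Coh.IsCoh F) :
    Module.Finite R (Coh.HH (CohB1.ProjSpace n R) F i) := by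
  suffices H : ∀ (k i : ℕ), n + 1 ≤ i + k → ∀ F : (CohB1.ProjSpace n R).Modules, Coh.IsCoh F →
      Module.Finite R (Coh.HH (CohB1.ProjSpace n R) F i) from H (n + 1) i (by omega) F hF
  intro k
  induction k with
  | zero =>
    intro i hi F hF
    have : Coh.IsQCoh F := hF.1
    have := Groth.Agent.S0022.result n R F i (by omega)
    exact inferInstance
  | succ k ih =>
    intro i hi F hF
    obtain ⟨E, π, hπ, hE, hEfin⟩ := P1 F hF
    have hK : Coh.IsCoh (kernel π) :=
      Groth.Agent.Lib.helper7.CohKer.isCoh_kernel hE hF π
    let S : ShortComplex (CohB1.ProjSpace n R).Modules :=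
      ShortComplex.mk (kernel.ι π) π (kernel.condition π)
    have hS : S.ShortExact :=
      { exact := ShortComplex.exact_of_f_is_kernel S (kernelIsKernel π)
        mono_f := inferInstanceAs (Mono (kernel.ι π))
        epi_g := hπ }
    have := hEfin i
    have : Module.Finite R (Coh.HH (CohB1.ProjSpace n R) (kernel π) (i + 1)) :=
      ih (i + 1) (by omega) (kernel π) hK
    exact finite_of_exact (mapOver R S.g i) (δOver hS R i) (exactOver₃ hS R i)

end Groth.Agent.Lib.Lead.SerreFin
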