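import Mathlib
import Groth.Agent.Lib.Lead.SerreFin
import Groth.Agent.Lib.Helper16.FLF5
import Groth.Agent.Lib.Helper16.FLF3
import Groth.Agent.Lib.Helper18.HHSum
import Groth.Agent.Lib.Helper20.ProjTopFin
import Groth.Agent.Lib.Helper28.TwistPn
import Groth.Agent.S0843
import Groth.Agent.S0844

/-!
# Serre finiteness, part 2 (lead, LT21)

* `sigmaFinSuccIso`, `isFinLocFree_sigma`, `isCoh_of_isFinLocFree`.
* `finite_HH_twist`: every `H^q(P^n_R, O(d))` is a finite `R`-module (`R` Noetherian); assembled from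
  helper20's `S0843`, `S0844`, `ProjTopFin.finite_top` and helper28's `TwistPn`.
* `finite_HH_projSpace`: Serre finiteness on `P^n_R`, assuming that every coherent module is a quotient
  of a finite direct sum of copies of some `O(d)`.
-/

set_option autoImplicit false
set_option linter.style.haveILetI false
universe u
open CategoryTheory CategoryTheory.Limits AlgebraicGeometry Opposite

namespace Groth.Agent.Lib.Lead.SerreFin

section Cat

variable {C : Type*} [Category C] [Preadditive C] [HasFiniteCoproducts C] [HasBinaryBiproducts C]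

/-- `∐_{Fin (m+1)} A ≅ A 0 ⊞ ∐_{Fin m} (A ∘ succ)`. -/
noncomputable def sigmaFinSuccIso {m : ℕ} (A : Fin (m + 1) → C) :
    (∐ A) ≅ A 0 ⊞ ∐ (fun j : Fin m => A j.succ) :=
  (coproductIsCoproduct A).coconePointUniqueUpToIso
    (extendCofanIsColimit A (c₁ := Cofan.mk (∐ fun j : Fin m => A j.succ) (Sigma.ι _))
      (c₂ := (BinaryBiproduct.bicone (A 0) (∐ fun j : Fin m => A j.succ)).toCocone)
      (coproductIsCoproduct _) (BinaryBiproduct.isColimit _ _))

end Cat

section FLF

variable {X : Scheme.{u}}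

open Groth.Agent.Lib.helper16.FLF

theorem isCoh_of_isFinLocFree {E : X.Modules} (h : FlatMod.IsFinLocFree E) : Coh.IsCoh E := by
  exact Groth.Agent.Lib.helper16.CohFinite.isCoh_of_isFinitePresentation E
    (isFinitePresentation_of_isFinLocFree E h)

/-- A coproduct over an empty type is initial. -/
noncomputable def isInitialSigmaOfIsEmpty {C : Type*} [Category C] {ι : Type*} [IsEmpty ι]
    (A : ι → C) [HasCoproduct A] : IsInitial (∐ A) :=
  (isColimitEquivIsInitialOfIsEmpty _ (colimit.cocone (Discrete.functor A)))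
    (colimit.isColimit (Discrete.functor A))

theorem isFinLocFree_of_isInitial {E : X.Modules} (h : IsInitial E) : FlatMod.IsFinLocFree E := by
  intro x
  refine ⟨⊤, 0, trivial, ⟨?_⟩⟩
  haveI : PreservesColimitsOfSize.{0, 0} (Scheme.Modules.restrictFunctor (⊤ : X.Opens).ι) :=
    (Scheme.Modules.restrictAdjunction (⊤ : X.Opens).ι).leftAdjoint_preservesColimits
  have h1 : IsInitial ((Scheme.Modules.restrictFunctor (⊤ : X.Opens).ι).obj E) :=
    IsInitial.isInitialObj _ _ h
  have h2 : IsInitial (FlatMod.freeMod (↑(⊤ : X.Opens)) 0) := isInitialSigmaOfIsEmpty _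
  exact h1.uniqueUpToIso h2

theorem isFinLocFree_sigma : ∀ {m : ℕ} (A : Fin m → X.Modules)
    (_ : ∀ j, FlatMod.IsFinLocFree (A j)), FlatMod.IsFinLocFree (∐ A)
  | 0, A, _ => isFinLocFree_of_isInitial (isInitialSigmaOfIsEmpty A)
  | m + 1, A, h =>
    isFinLocFree_of_iso (sigmaFinSuccIso A).symm
      (isFinLocFree_biprod (h 0) (isFinLocFree_sigma (fun j : Fin m => A j.succ) fun j => h _))

end FLF

variable (n : ℕ) (R : Type u) [CommRing R] [IsNoetherianRing R]

open Groth.Agent.Lib.Helper18.HH Groth.Agent.Lib.helper28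

/-- On `P^0_R` every `O(d)` is trivial. -/
theorem nonempty_iso_twist_zero (d : ℤ) :
    Nonempty (Twist.twistProjSpace 0 R d ≅ Coh.structureModule (CohB1.ProjSpace 0 R)) := by
  have h := TwistPn.isTrivOn 0 R d 0
  have htop : Proj.basicOpen (CohB1.polyGrading 0 R) (MvPolynomial.X 0) = ⊤ := by
    rw [eq_top_iff]
    intro x _
    obtain ⟨i, hi⟩ := TwistPn.exists_X_notMem 0 R x
    have : i = 0 := Fin.fin_one_eq_zero i
    subst this
    exact (Proj.mem_basicOpen _ _ x).2 hi
  rw [htop] at h
  exact Groth.Agent.Lib.helper11.InvMod.isTrivOn_top_iff.1 h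

/-- Every `H^q(P^n_R, O(d))` is a finite `R`-module. -/
theorem finite_HH_twist (d : ℤ) (q : ℕ) :
    Module.Finite R (Coh.HH (CohB1.ProjSpace n R) (Twist.twistProjSpace n R d) q) := by
  have key : ∀ k : ℕ, Module.Finite R
      (Coh.HH (CohB1.ProjSpace n R) (Twist.twistProjSpace n R (k : ℤ)) 0) := by
    intro k
    obtain ⟨e⟩ := Groth.Agent.S0843.result R n k
    haveI : Module.Finite R ↥(MvPolynomial.homogeneousSubmodule (Fin (n + 1)) R k) :=
      Module.Finite.iff_fg.2 (MvPolynomial.homogeneousSubmodule_fg _ _ k)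
    exact Module.Finite.equiv e.symm
  by_cases h0 : q = 0 ∧ 0 ≤ d
  · obtain ⟨rfl, hd⟩ := h0
    obtain ⟨k, rfl⟩ := Int.eq_ofNat_of_zero_le hd
    exact key k
  · by_cases hn : q = n ∧ d ≤ -((n : ℤ) + 1)
    · obtain ⟨rfl, hd⟩ := hn
      cases q with
      | zero =>
        obtain ⟨e⟩ := nonempty_iso_twist_zero R d
        have e' : Twist.twistProjSpace 0 R d ≅ Twist.twistProjSpace 0 R ((0 : ℕ) : ℤ) :=
          e ≪≫ TwistPn.zeroIso 0 R
        haveI := key 0
        exact Module.Finite.equiv (isoEquivOver R e' 0).symm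
      | succ p => exact Groth.Agent.Lib.Helper20.ProjTopFin.finite_top p R d
    · haveI := Groth.Agent.S0844.result R n d q h0 hn
      exact inferInstance

/-- **Serre finiteness on projective space**, assuming Serre's global generation theorem in the form:
every coherent module is a quotient of a finite direct sum of copies of some `O(d)`. -/
theorem finite_HH_projSpace
    (P1 : ∀ F : (CohB1.ProjSpace n R).Modules, Coh.IsCoh F →
      ∃ (m : ℕ) (d : ℤ) (π : (∐ fun _ : Fin m => Twist.twistProjSpace n R d) ⟶ F), Epi π)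
    (i : ℕ) (F : (CohB1.ProjSpace n R).Modules) (hF : Coh.IsCoh F) :
    Module.Finite R (Coh.HH (CohB1.ProjSpace n R) F i) := by
  refine finite_HH_of_resolving n R (fun F hF => ?_) i F hF
  obtain ⟨m, d, π, hπ⟩ := P1 F hF
  refine ⟨_, π, hπ, isCoh_of_isFinLocFree (isFinLocFree_sigma _ fun _ =>
    Groth.Agent.Lib.helper16.FLF.isFinLocFree_of_isInvertible (TwistPn.isInvertible n R d)),
    fun q => ?_⟩
  haveI := fun (_ : Fin m) => finite_HH_twist n R d q
  exact Module.Finite.equiv (sigmaEquivOver R (fun _ : Fin m => Twist.twistProjSpace n R d) q).symm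

end Groth.Agent.Lib.Lead.SerreFin
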