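import Mathlib
import Groth.Agent.Lib.Lead.SerreFin2
import Groth.Agent.Lib.Helper11.SerrePn
import Groth.Agent.Lib.Helper18.HHPush
import Groth.Agent.Lib.Helper18.HHEuler
import Groth.Agent.S0019
import Groth.Agent.S0022
import Groth.Agent.Lib.Helper16.QCohAffinePush

/-!
# Coherent cohomology of projective schemes over a Noetherian ring (lead)

`ι : X ⟶ P^n_A` a closed immersion over `Spec A`, `A` Noetherian, `F` coherent on `X`.

* `finite_HH_projSpace'` : Serre finiteness on `P^n_A` (unconditional form of `SerreFin2.finite_HH_projSpace`).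
* `isCoh_push` : `ι_* F` is coherent.
* `finite_HH` : `H^p(X, F)` is a finite `A`-module.
* `subsingleton_HH` : `H^p(X, F) = 0` for `p > n` (`F` quasi-coherent suffices, any ring).
* `euler_additive` : over a field, `χ` is additive in short exact sequences of coherent modules.
* `euler_eq_sum` : over a field, `χ(F) = Σ_{i ≤ n} (-1)^i dim H^i(X, F)`.
-/

set_option autoImplicit false
universe u

open CategoryTheory CategoryTheory.Limits AlgebraicGeometry Opposite

namespace Groth.Agent.Lib.Lead.ProjectiveCoh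

open Groth.Agent.Lib.Helper18.HH

/-- **Serre finiteness on projective space** (S0038). -/
theorem finite_HH_projSpace' (n : ℕ) (R : Type u) [CommRing R] [IsNoetherianRing R]
    (F : (CohB1.ProjSpace n R).Modules) (hF : Coh.IsCoh F) (i : ℕ) :
    Module.Finite R (Coh.HH (CohB1.ProjSpace n R) F i) :=
  Groth.Agent.Lib.Lead.SerreFin.finite_HH_projSpace n R
    (fun F hF => Groth.Agent.Lib.helper11.SerrePn.exists_epi_twist n R F hF) i F hF

section Ring

variable {n : ℕ} {A : Type u} [CommRing A] {X : Scheme.{u}} [X.Over (Spec (CommRingCat.of A))]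
  (ι : X ⟶ CohB1.ProjSpace n A) [IsClosedImmersion ι]
  (hι : ι ≫ CohB1.ProjSpace.toSpec n A = X ↘ Spec (CommRingCat.of A))

include hι in
/-- the `IsOver` instance from the compatibility hypothesis -/
theorem isOver : ι.IsOver (Spec (CommRingCat.of A)) := ⟨hι⟩

omit [X.Over (Spec (CommRingCat.of A))] in
/-- `ι_* F` is coherent for `F` coherent. -/
theorem isCoh_push [IsNoetherianRing A] {F : X.Modules} (hF : Coh.IsCoh F) :
    Coh.IsCoh ((Coh.push ι).obj F) := by
  haveI : IsLocallyNoetherian (CohB1.ProjSpace n A) :=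
    Groth.Agent.Lib.Lead.SerreFin.isLocallyNoetherian_projSpace n A
  exact Groth.Agent.S0019.result ι F hF

include hι in
/-- `H^p(X, F)` is a finite `A`-module for `X` projective over a Noetherian ring `A`. -/
theorem finite_HH [IsNoetherianRing A] {F : X.Modules} (hF : Coh.IsCoh F) (p : ℕ) :
    Module.Finite A (Coh.HH X F p) := by
  haveI := isOver ι hι
  haveI : F.IsQuasicoherent := hF.1
  rw [finite_iff_push ι F A p]
  exact finite_HH_projSpace' n A _ (isCoh_push ι hF) p

omit [X.Over (Spec (CommRingCat.of A))] in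
include ι in
/-- `H^p(X, F) = 0` for `p > n` when `X` is a closed subscheme of `P^n_A`. -/
theorem subsingleton_HH (F : X.Modules) [F.IsQuasicoherent] (p : ℕ) (hp : n < p) :
    Subsingleton (Coh.HH X F p) := by
  rw [subsingleton_iff_push ι F p]
  haveI : Coh.IsQCoh ((Coh.push ι).obj F) := by
    exact Groth.Agent.Lib.helper16.QCohAffinePush.isQuasicoherent_push ι F
  exact Groth.Agent.S0022.result n A _ p hp

end Ring

section Field

variable {n : ℕ} {k : Type u} [Field k] {X : Scheme.{u}} [X.Over (Spec (CommRingCat.of k))]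
  (ι : X ⟶ CohB1.ProjSpace n k) [IsClosedImmersion ι]
  (hι : ι ≫ CohB1.ProjSpace.toSpec n k = X ↘ Spec (CommRingCat.of k))

include ι in
/-- `χ(F) = Σ_{i ≤ n} (-1)^i dim H^i(X, F)` on a closed subscheme of `P^n_k`. -/
theorem euler_eq_sum (F : X.Modules) [F.IsQuasicoherent] :
    Curv2.euler k X F =
      ∑ i ∈ Finset.range (n + 1), (-1 : ℤ) ^ i * (Module.finrank k (Coh.HH X F i) : ℤ) :=
  Groth.Agent.Lib.Helper18.HH.euler_eq_sum k F n (fun i hi => subsingleton_HH ι F i hi)

include hι in
/-- additivity of the Euler characteristic on a projective `k`-scheme -/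
theorem euler_additive {S : ShortComplex X.Modules} (hS : S.ShortExact)
    (h₁ : Coh.IsCoh S.X₁) (h₃ : Coh.IsCoh S.X₃) :
    Curv2.euler k X S.X₂ = Curv2.euler k X S.X₁ + Curv2.euler k X S.X₃ := by
  haveI : S.X₁.IsQuasicoherent := h₁.1
  haveI : S.X₃.IsQuasicoherent := h₃.1
  exact Groth.Agent.Lib.Helper18.HH.euler_additive k hS
    (fun i => finite_HH ι hι h₁ i) (fun i => finite_HH ι hι h₃ i) n
    (fun i hi => subsingleton_HH ι S.X₁ i hi) (fun i hi => subsingleton_HH ι S.X₃ i hi)

end Field

end Groth.Agent.Lib.Lead.ProjectiveCoh
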