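import Mathlib
import Groth.Agent.Lib.Lead.SerreFin2
import Groth.Agent.Lib.Helper11.SerrePn
import Groth.Agent.Lib.Helper20.TwistEquivPn
import Groth.Agent.Lib.Helper2.TensorQCoh
import Groth.Agent.Lib.Helper12.AmpleBasis

/-!
# Serre vanishing on projective space (lead)

For a Noetherian ring `R` and a coherent module `F` on `P^n_R` there is `d₀` such that
`H^i(P^n_R, F ⊗ O(d)) = 0` for all `d ≥ d₀` and all `i ≥ 1`.

* `isCoh_twist`: `F` coherent ⇒ `F ⊗ O(d)` coherent.
* `sigmaTwistIso`: `(∐_{j<m} O(a)) ⊗ O(d) ≅ ∐_{j<m} O(a + d)`.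
* `subsingleton_HH_sigma_twist`: `H^i((∐ O(a)) ⊗ O(d)) = 0` for `i ≥ 1`, `a + d ≥ -n`.
* `serre_vanishing`.
-/

set_option autoImplicit false
universe u

open CategoryTheory CategoryTheory.Limits AlgebraicGeometry Opposite

namespace Groth.Agent.Lib.Lead.SerreVan

open Groth.Agent.Lib.helper28 Groth.Agent.Lib.Helper20.TensorEquiv
open Groth.Agent.Lib.Helper20.TwistEquivPn Groth.Agent.Lib.Helper18.HH
open Groth.Agent.Lib.Lead.ModTensor

variable (n : ℕ) (R : Type u) [CommRing R]

/-- `F` coherent ⇒ `F ⊗ O(d)` coherent. -/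
theorem isCoh_twist {F : (CohB1.ProjSpace n R).Modules} (hF : Coh.IsCoh F) (d : ℤ) :
    Coh.IsCoh (CohB1.tensorMod F (Twist.twistProjSpace n R d)) := by
  have hq : F.IsQuasicoherent := hF.1
  have hL := TwistPn.isInvertible n R d
  have hq' : (Twist.twistProjSpace n R d).IsQuasicoherent :=
    Groth.Agent.Lib.helper12.AmpleBasis.isQuasicoherent_of_isInvertible hL
  have hft : CohB1.IsFT (Twist.twistProjSpace n R d) :=
    Groth.Agent.Lib.helper16.FLF.isFiniteType_of_isFinLocFree _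
      (Groth.Agent.Lib.helper16.FLF.isFinLocFree_of_isInvertible hL)
  exact ⟨Groth.Agent.Lib.helper2.TensorQCoh.isQuasicoherent_tensorMod _ _,
    Groth.Agent.Lib.helper2.TensorQCoh.isFiniteType_tensorMod _ _ hF.2 hft⟩

/-- `(∐_{j<m} O(a)) ⊗ O(d) ≅ ∐_{j<m} O(a + d)`. -/
noncomputable def sigmaTwistIso (m : ℕ) (a d : ℤ) :
    CohB1.tensorMod (∐ fun _ : Fin m => Twist.twistProjSpace n R a) (Twist.twistProjSpace n R d) ≅
      ∐ fun _ : Fin m => Twist.twistProjSpace n R (a + d) := by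
  haveI := isEquivalence_tensorRight (invIso n R d)
  exact PreservesCoproduct.iso (tensorRight (Twist.twistProjSpace n R d))
      (fun _ : Fin m => Twist.twistProjSpace n R a) ≪≫
    Sigma.mapIso (fun _ => TwistPn.tensorIso n R a d)

/-- `H^i((∐ O(a)) ⊗ O(d)) = 0` for `i ≥ 1` as soon as `a + d ≥ -n`. -/
theorem subsingleton_HH_sigma_twist (m : ℕ) (a d : ℤ) (i : ℕ) (hi : 1 ≤ i)
    (had : -(n : ℤ) ≤ a + d) :
    Subsingleton (Coh.HH (CohB1.ProjSpace n R)
      (CohB1.tensorMod (∐ fun _ : Fin m => Twist.twistProjSpace n R a)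
        (Twist.twistProjSpace n R d)) i) := by
  have h1 : Subsingleton (Coh.HH (CohB1.ProjSpace n R) (Twist.twistProjSpace n R (a + d)) i) :=
    Groth.Agent.S0844.result R n (a + d) i (fun h => by omega) (fun h => by omega)
  have h2 : Subsingleton (Coh.HH (CohB1.ProjSpace n R)
      (∐ fun _ : Fin m => Twist.twistProjSpace n R (a + d)) i) :=
    (sigmaEquiv (fun _ : Fin m => Twist.twistProjSpace n R (a + d)) i).toEquiv.subsingleton
  exact subsingleton_of_iso (sigmaTwistIso n R m a d).symm i h2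

variable [IsNoetherianRing R]

/-- **Serre vanishing on projective space**. -/
theorem serre_vanishing (F : (CohB1.ProjSpace n R).Modules) (hF : Coh.IsCoh F) :
    ∃ d₀ : ℤ, ∀ d : ℤ, d₀ ≤ d → ∀ i : ℕ, 1 ≤ i →
      Subsingleton (Coh.HH (CohB1.ProjSpace n R)
        (CohB1.tensorMod F (Twist.twistProjSpace n R d)) i) := by
  suffices H : ∀ (k : ℕ) (F : (CohB1.ProjSpace n R).Modules), Coh.IsCoh F →
      ∃ d₀ : ℤ, ∀ d : ℤ, d₀ ≤ d → ∀ i : ℕ, 1 ≤ i → n + 1 ≤ i + k →
        Subsingleton (Coh.HH (CohB1.ProjSpace n R)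
          (CohB1.tensorMod F (Twist.twistProjSpace n R d)) i) by
    obtain ⟨d₀, h⟩ := H (n + 1) F hF
    exact ⟨d₀, fun d hd i hi => h d hd i hi (by omega)⟩
  intro k
  induction k with
  | zero =>
    intro F hF
    refine ⟨0, fun d _ i _ hik => ?_⟩
    have : Coh.IsQCoh (CohB1.tensorMod F (Twist.twistProjSpace n R d)) := (isCoh_twist n R hF d).1
    exact Groth.Agent.S0022.result n R _ i (by omega)
  | succ k ih =>
    intro F hF
    obtain ⟨m, a, π, hπ⟩ := Groth.Agent.Lib.helper11.SerrePn.exists_epi_twist n R F hF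
    have hE : Coh.IsCoh (∐ fun _ : Fin m => Twist.twistProjSpace n R a) :=
      Groth.Agent.Lib.Lead.SerreFin.isCoh_of_isFinLocFree
        (Groth.Agent.Lib.Lead.SerreFin.isFinLocFree_sigma _ fun _ =>
          Groth.Agent.Lib.helper16.FLF.isFinLocFree_of_isInvertible (TwistPn.isInvertible n R a))
    have hK : Coh.IsCoh (kernel π) :=
      Groth.Agent.Lib.helper7.CohKer.isCoh_kernel hE hF π
    let S : ShortComplex (CohB1.ProjSpace n R).Modules :=
      ShortComplex.mk (kernel.ι π) π (kernel.condition π)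
    have hS : S.ShortExact :=
      { exact := ShortComplex.exact_of_f_is_kernel S (kernelIsKernel π)
        mono_f := inferInstanceAs (Mono (kernel.ι π))
        epi_g := hπ }
    obtain ⟨d₁, h₁⟩ := ih (kernel π) hK
    refine ⟨max d₁ (-(n : ℤ) - a), fun d hd i hi hik => ?_⟩
    have hd₁ : d₁ ≤ d := le_trans (le_max_left _ _) hd
    have hd₂ : -(n : ℤ) ≤ a + d := by
      have := le_trans (le_max_right d₁ (-(n : ℤ) - a)) hd
      omega
    have hS' := shortExact_twistSC n R d hS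
    have hE0 : Subsingleton (Coh.HH (CohB1.ProjSpace n R) (twistSC n R d S).X₂ i) :=
      subsingleton_HH_sigma_twist n R m a d i hi hd₂
    have hK0 : Subsingleton (Coh.HH (CohB1.ProjSpace n R) (twistSC n R d S).X₁ (i + 1)) :=
      h₁ d hd₁ (i + 1) (by omega) (by omega)
    have hex := exact₃ hS' i
    -- `H^i(E(d)) → H^i(F(d)) → H^{i+1}(K(d))` exact with both ends zero
    change Subsingleton (Coh.HH (CohB1.ProjSpace n R) (twistSC n R d S).X₃ i)
    refine ⟨fun x y => ?_⟩
    have hx : δ hS' i x = 0 := Subsingleton.elim _ _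
    have hy : δ hS' i y = 0 := Subsingleton.elim _ _
    obtain ⟨x', rfl⟩ := (hex x).1 hx
    obtain ⟨y', rfl⟩ := (hex y).1 hy
    rw [Subsingleton.elim x' y']

end Groth.Agent.Lib.Lead.SerreVan
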