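import Mathlib
import Groth.Agent.Lib.Lead.ProjectiveCoh
import Groth.Agent.Lib.Lead.ProjFormula
import Groth.Agent.Lib.Lead.SerreVan

/-!
# Serre vanishing on projective schemes over a Noetherian ring (lead)

`ι : X ⟶ P^n_A` a closed immersion, `A` Noetherian, `F` coherent on `X`, `O_X(d) = ι^* O(d)`.

* `twistOn ι F d = F ⊗ ι^*O(d)`; `isQuasicoherent_twistOn`.
* `pushTwistIso` : `ι_*(F ⊗ ι^*O(d)) ≅ ι_*F ⊗ O(d)` (projection formula).
* `serre_vanishing` : `∃ d₀, ∀ d ≥ d₀, ∀ i ≥ 1, H^i(X, F ⊗ ι^*O(d)) = 0`.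
-/

set_option autoImplicit false
universe u

open CategoryTheory CategoryTheory.Limits AlgebraicGeometry Opposite

namespace Groth.Agent.Lib.Lead.ProjectiveVan

open Groth.Agent.Lib.helper28 Groth.Agent.Lib.Helper18.HH

variable {n : ℕ} {A : Type u} [CommRing A] {X : Scheme.{u}}
  (ι : X ⟶ CohB1.ProjSpace n A)

/-- `F(d) = F ⊗ ι^*O(d)` is quasi-coherent for `F` quasi-coherent. -/
theorem isQuasicoherent_twistOn (F : X.Modules) [F.IsQuasicoherent] (d : ℤ) :
    (CohB1.tensorMod F ((Scheme.Modules.pullback ι).obj (Twist.twistProjSpace n A d))).IsQuasicoherent := by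
  have hL : PicF.IsInvertible ((Scheme.Modules.pullback ι).obj (Twist.twistProjSpace n A d)) :=
    Groth.Agent.Lib.helper11.InvMod.isInvertible_pullback ι (TwistPn.isInvertible n A d)
  haveI : ((Scheme.Modules.pullback ι).obj (Twist.twistProjSpace n A d)).IsQuasicoherent :=
    Groth.Agent.Lib.helper12.AmpleBasis.isQuasicoherent_of_isInvertible hL
  exact Groth.Agent.Lib.helper2.TensorQCoh.isQuasicoherent_tensorMod _ _

/-- projection formula for the twists: `ι_*F ⊗ O(d) ≅ ι_*(F ⊗ ι^*O(d))`. -/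
theorem nonempty_pushTwistIso (F : X.Modules) (d : ℤ) :
    Nonempty (CohB1.tensorMod ((Scheme.Modules.pushforward ι).obj F) (Twist.twistProjSpace n A d) ≅
      (Scheme.Modules.pushforward ι).obj
        (CohB1.tensorMod F ((Scheme.Modules.pullback ι).obj (Twist.twistProjSpace n A d)))) :=
  Groth.Agent.Lib.Lead.ProjFormula.nonempty_projIso ι (TwistPn.isInvertible n A d)
    ⟨Groth.Agent.Lib.Helper20.TwistEquivPn.invIso n A d⟩ F

variable [IsClosedImmersion ι] [IsNoetherianRing A]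

/-- **Serre vanishing** on a closed subscheme of `P^n_A`, `A` Noetherian. -/
theorem serre_vanishing (F : X.Modules) (hF : Coh.IsCoh F) :
    ∃ d₀ : ℤ, ∀ d : ℤ, d₀ ≤ d → ∀ i : ℕ, 1 ≤ i →
      Subsingleton (Coh.HH X
        (CohB1.tensorMod F ((Scheme.Modules.pullback ι).obj (Twist.twistProjSpace n A d))) i) := by
  obtain ⟨d₀, h⟩ := Groth.Agent.Lib.Lead.SerreVan.serre_vanishing n A _
    (Groth.Agent.Lib.Lead.ProjectiveCoh.isCoh_push ι hF)
  refine ⟨d₀, fun d hd i hi => ?_⟩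
  haveI : F.IsQuasicoherent := hF.1
  haveI := isQuasicoherent_twistOn ι F d
  rw [subsingleton_iff_push ι _ i]
  obtain ⟨e⟩ := nonempty_pushTwistIso ι F d
  exact Groth.Agent.Lib.Helper20.TwistEquivPn.subsingleton_of_iso e i (h d hd i hi)

end Groth.Agent.Lib.Lead.ProjectiveVan
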