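import Mathlib
import Groth.Agent.Lib.Helper18.HHPush

/-!
# `H^p(S, f_* M) ≃ H^p(X, M)` when the higher direct images of `M` vanish (lead)

The same construction as `Helper18.HH.pushEquivAdd / pushEquivOver`, for an arbitrary morphism `f` and a module
`M` with the explicit hypothesis `R^i f_* M = 0` for `i > 0` (on underlying abelian sheaves).
-/

set_option autoImplicit false

namespace Groth.Agent.Lib.Lead.HHPushGen

open CategoryTheory Limits AlgebraicGeometry Opposite TopologicalSpace Abelian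
open Groth.Agent.Lib.helper27 Groth.Agent.Lib.Helper18.HH

universe u
variable {X S : Scheme.{u}} (f : X ⟶ S) (M : X.Modules)
  (hM : ∀ i : ℕ, 0 < i → IsZero (((CohTop.push f.base).rightDerived i).obj (Coh.toAb M)))

/-- `H^p(S, f_* M) ≃ H^p(X, M)` when `R^i f_* M = 0` for `i > 0` (additive) -/
noncomputable def pushEquivAdd (p : ℕ) : Coh.HH S ((Coh.push f).obj M) p ≃+ Coh.HH X M p :=
  (ExtAdj.extAddEquiv.{u, u} (PullConst.pbAdj f.base) (ZZ' S) (Coh.toAb M) hM p).trans
    (ExtAdj.extIsoLeft.{u} ((PullConst.pullConstIso f.base).app (AddCommGrpCat.of (ULift ℤ)))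
      (Coh.toAb M) p)

lemma pushEquivAdd_apply (p : ℕ) (x : Coh.HH S ((Coh.push f).obj M) p) :
    pushEquivAdd f M hM p x =
      (Ext.mk₀ ((PullConst.pullConstIso f.base).app (AddCommGrpCat.of (ULift ℤ))).inv).comp
        (ExtAdj.Ψ (PullConst.pbAdj f.base) (ZZ' S) (Coh.toAb M) p x) (zero_add p) := rfl

lemma pushEquivAdd_natural {M' : X.Modules}
    (hM' : ∀ i : ℕ, 0 < i → IsZero (((CohTop.push f.base).rightDerived i).obj (Coh.toAb M')))
    (φ : Coh.toAb M ⟶ Coh.toAb M') (p : ℕ) (x : Coh.HH S ((Coh.push f).obj M) p) :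
    pushEquivAdd f M' hM' p (Sheaf.H.map ((Coh.pushAb f).map φ) p x) =
      Sheaf.H.map φ p (pushEquivAdd f M hM p x) := by
  refine (pushEquivAdd_apply f M' hM' p _).trans ?_
  rw [pushEquivAdd_apply f M hM p x, Sheaf.H.map_apply]
  have h := ExtAdj.Ψ_natural (PullConst.pbAdj f.base) (ZZ' S) φ p x
  erw [Sheaf.H.map_apply, h]
  rw [Ext.comp_assoc_of_third_deg_zero]

/-- semilinearity: the isomorphism intertwines `s ∈ Γ(S, O_S)` with `f^♯ s ∈ Γ(X, O_X)` -/
lemma pushEquivAdd_smul (p : ℕ) (s : Coh.Γtop S) (x : Coh.HH S ((Coh.push f).obj M) p) :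
    pushEquivAdd f M hM p (s • x) = appTopΓ f s • pushEquivAdd f M hM p x := by
  rw [smul_def, smul_def, smulAb_push]
  exact pushEquivAdd_natural f M hM hM (Coh.smulAb M (appTopΓ f s)) p x

section Over

variable (A : Type u) [CommRing A] [X.Over (Spec (CommRingCat.of A))]
  [S.Over (Spec (CommRingCat.of A))] [f.IsOver (Spec (CommRingCat.of A))]

/-- `H^p(S, f_* M) ≃ H^p(X, M)`, `A`-linearly, when `R^i f_* M = 0` for `i > 0` -/
noncomputable def pushEquivOver (p : ℕ) : Coh.HH S ((Coh.push f).obj M) p ≃ₗ[A] Coh.HH X M p :=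
  { pushEquivAdd f M hM p with
    map_smul' := fun a x => by
      change pushEquivAdd f M hM p (Coh.toGlobal (S ↘ Spec (CommRingCat.of A)) a • x) =
        Coh.toGlobal (X ↘ Spec (CommRingCat.of A)) a • pushEquivAdd f M hM p x
      rw [pushEquivAdd_smul, toGlobal_comp f A a] }

include hM in
lemma finite_iff_push (p : ℕ) :
    Module.Finite A (Coh.HH X M p) ↔ Module.Finite A (Coh.HH S ((Coh.push f).obj M) p) :=
  ⟨fun _ => Module.Finite.equiv (pushEquivOver f M hM A p).symm,
    fun _ => Module.Finite.equiv (pushEquivOver f M hM A p)⟩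

end Over

end Groth.Agent.Lib.Lead.HHPushGen
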