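import Mathlib
import Groth.Agent.Lib.Helper18.HHConseq

/-!
# Closure properties of "all cohomology groups are finite `A`-modules" (lead)

For a scheme `X` over a Noetherian ring `A`: two-out-of-three along short exact sequences, direct
summands, isomorphisms.
-/

set_option autoImplicit false
universe u
open CategoryTheory CategoryTheory.Limits AlgebraicGeometry Opposite TopologicalSpace
open Groth.Agent.Lib.Helper18.HH

namespace Groth.Agent.Lib.Lead.FinK

variable (A : Type u) [CommRing A] [IsNoetherianRing A] (X : Scheme.{u})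
  [X.Over (Spec (CommRingCat.of A))]

/-- T7a: two-out-of-three. -/
theorem two_of_three (S : ShortComplex X.Modules) (hS : S.ShortExact) :
    ((∀ n, Module.Finite A (Coh.HH X S.X₂ n)) → (∀ n, Module.Finite A (Coh.HH X S.X₃ n)) →
        ∀ n, Module.Finite A (Coh.HH X S.X₁ n)) ∧
    ((∀ n, Module.Finite A (Coh.HH X S.X₁ n)) → (∀ n, Module.Finite A (Coh.HH X S.X₃ n)) →
        ∀ n, Module.Finite A (Coh.HH X S.X₂ n)) := by
  refine ⟨fun h₂ h₃ n => ?_, fun h₁ h₃ n => finite_X₂ hS A n (h₁ n) (h₃ n)⟩
  cases n with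
  | zero => exact finite_X₁_zero hS A (h₂ 0)
  | succ n => exact finite_X₁_succ hS A n (h₃ n) (h₂ (n + 1))

/-- retracts -/
theorem finite_of_retract {F G : X.Modules} (i : F ⟶ G) (r : G ⟶ F) (hir : i ≫ r = 𝟙 F) (n : ℕ)
    (h : Module.Finite A (Coh.HH X G n)) : Module.Finite A (Coh.HH X F n) := by
  have : IsNoetherian A (Coh.HH X G n) := isNoetherian_of_isNoetherianRing_of_finite A _
  refine Module.Finite.of_injective (mapOver A i n) ?_
  intro x y hxy
  have h1 : ∀ z, mapOver A r n (mapOver A i n z) = z := by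
    intro z
    show map r n (map i n z) = z
    rw [← map_comp_apply, hir, map_id]
    rfl
  rw [← h1 x, ← h1 y, hxy]

/-- isomorphisms -/
theorem finite_of_iso {F G : X.Modules} (e : F ≅ G) (n : ℕ)
    (h : Module.Finite A (Coh.HH X G n)) : Module.Finite A (Coh.HH X F n) :=
  finite_of_retract A X e.hom e.inv e.hom_inv_id n h

/-- T7b: direct summand of a finite direct sum. -/
theorem finite_of_sum (F : X.Modules) (d : ℕ) (hd : 1 ≤ d)
    (h : ∀ n, Module.Finite A (Coh.HH X (∐ fun _ : Fin d => F) n)) (n : ℕ) :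
    Module.Finite A (Coh.HH X F n) := by
  refine finite_of_retract A X (Sigma.ι (fun _ : Fin d => F) ⟨0, hd⟩)
    (Sigma.desc fun _ => 𝟙 F) ?_ n (h n)
  simp

end Groth.Agent.Lib.Lead.FinK
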