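import Mathlib
import Groth.Agent.S10865
import Groth.Agent.Lib.Lead.FinK
import Groth.Agent.Lib.Helper8.Chevalley

set_option autoImplicit false
universe u
open CategoryTheory CategoryTheory.Limits AlgebraicGeometry Opposite TopologicalSpace
open Groth.Agent.Lib.Helper18.HH

namespace Groth.Agent.Lib.Lead.ProperFin

variable (A : Type u) [CommRing A] [IsNoetherianRing A] (X : Scheme.{u})
  [X.Over (Spec (CommRingCat.of A))]

/-- the class of modules all of whose cohomology groups are finite over `A` -/
def K : ObjectProperty X.Modules := fun F => ∀ n, Module.Finite A (Coh.HH X F n)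

instance : (K A X).IsClosedUnderIsomorphisms where
  of_iso e h := fun n => Groth.Agent.Lib.Lead.FinK.finite_of_iso A X e.symm n (h n)

lemma subsingleton_HH_of_isEmpty [IsEmpty X] (M : X.Modules) (n : ℕ) :
    Subsingleton (Coh.HH X M n) := by
  apply Groth.Agent.Lib.helper8.Dev.subsingleton_HH_of_isZero
  rw [IsZero.iff_id_eq_zero]
  apply Scheme.Modules.hom_ext
  intro U
  have hU : U = ⊥ := by
    ext x
    exact (IsEmpty.false x).elim
  have ht : Limits.IsTerminal (M.presheaf.obj (op U)) :=
    TopCat.Sheaf.isTerminalOfEqEmpty ⟨M.presheaf, M.isSheaf⟩ hU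
  exact ht.hom_ext _ _

theorem finite_of_hgen [LocallyOfFiniteType (X ↘ Spec (CommRingCat.of A))]
    [QuasiCompact (X ↘ Spec (CommRingCat.of A))]
    (hgen : ∀ (Z : Scheme.{u}) (i : Z ⟶ X) [IsClosedImmersion i] [IsIntegral Z],
      ∃ H : Z.Modules, Coh.IsCoh H ∧ Nontrivial (H.presheaf.stalk (genericPoint Z)) ∧
        K A X ((Scheme.Modules.pushforward i).obj H))
    (M : X.Modules) (hM : Coh.IsCoh M) (n : ℕ) : Module.Finite A (Coh.HH X M n) := by
  have hN : IsNoetherian X := by
    have h1 : IsLocallyNoetherian X :=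
      LocallyOfFiniteType.isLocallyNoetherian (X ↘ Spec (CommRingCat.of A))
    have h2 : CompactSpace X :=
      QuasiCompact.compactSpace_of_compactSpace (X ↘ Spec (CommRingCat.of A))
    exact { }
  rcases isEmpty_or_nonempty X with hX | hX
  · have := subsingleton_HH_of_isEmpty X M n
    infer_instance
  · exact Groth.Agent.S10865.result X (K A X)
      (fun S hS _ _ _ => ⟨fun h2 h3 => (Groth.Agent.Lib.Lead.FinK.two_of_three A X S hS).1 h2 h3,
        fun h1 h3 => (Groth.Agent.Lib.Lead.FinK.two_of_three A X S hS).2 h1 h3⟩)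
      (fun F d hd _ h => Groth.Agent.Lib.Lead.FinK.finite_of_sum A X F d hd h)
      hgen M hM n

end Groth.Agent.Lib.Lead.ProperFin
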