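import Mathlib
import Groth.Agent.Lib.Lead.ProperFin
import Groth.Agent.Lib.Lead.HHPushGen
import Groth.Agent.Lib.Helper12.Chow5
import Groth.Agent.Lib.Helper11.S0002T5
import Groth.Agent.Lib.Helper11.S0002T3
import Groth.Agent.Lib.Helper21.PushCoh
import Groth.Agent.Lib.Helper8.S0002T7

set_option autoImplicit false
universe u
open CategoryTheory CategoryTheory.Limits AlgebraicGeometry Opposite TopologicalSpace
open Groth.Agent.Lib.Helper18.HH

namespace Groth.Agent.Lib.Lead.ProperFin

variable (A : Type u) [CommRing A] [IsNoetherianRing A] (X : Scheme.{u})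
  [X.Over (Spec (CommRingCat.of A))]

theorem hgen_step [IsProper (X ↘ Spec (CommRingCat.of A))]
    (Z : Scheme.{u}) (i : Z ⟶ X) [IsClosedImmersion i] [IsIntegral Z] :
    ∃ H : Z.Modules, Coh.IsCoh H ∧ Nontrivial (H.presheaf.stalk (genericPoint Z)) ∧
      K A X ((Scheme.Modules.pushforward i).obj H) := by
  classical
  let f : Z ⟶ Spec (CommRingCat.of A) := i ≫ (X ↘ Spec (CommRingCat.of A))
  have hfprop : IsProper f := by dsimp only [f]; infer_instance
  obtain ⟨n, Z'', π, j, hjcl, hjf, hπ, hsurj, ⟨U, hUne, hUiso⟩, hirr⟩ :=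
    Groth.Agent.Lib.helper12.Chow5.chow_irreducible_proper f
  have hZN : IsLocallyNoetherian Z := LocallyOfFiniteType.isLocallyNoetherian f
  have hZc : CompactSpace Z := QuasiCompact.compactSpace_of_compactSpace f
  -- a finite affine cover of `Z`
  obtain ⟨s, hs, e⟩ := isCompact_and_isOpen_iff_finite_and_eq_biUnion_affineOpens.mp
    ⟨(CompactSpace.isCompact_univ : IsCompact (Set.univ : Set Z)), isOpen_univ⟩
  let s' : Set Z.Opens := (fun V : Z.affineOpens => V.1) '' s
  have hs' : s'.Finite := hs.image _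
  have hs'aff : ∀ V ∈ s', IsAffineOpen V := by
    rintro _ ⟨V, _, rfl⟩
    exact V.2
  have hcov : ∀ z : Z, ∃ V ∈ s', z ∈ V := by
    intro z
    have hz : z ∈ (Set.univ : Set Z) := trivial
    rw [e] at hz
    simp only [Set.mem_iUnion] at hz
    obtain ⟨V, hV, hzV⟩ := hz
    exact ⟨V.1, ⟨V, hV, rfl⟩, hzV⟩
  obtain ⟨G, hGcoh, hGinv, h3, h4, h5, h6⟩ :=
    Groth.Agent.Lib.helper11.S0002T5.T5_main_set A f π n j hjf s' hs' hs'aff
  haveI : G.IsQuasicoherent := hGcoh.1
  -- vanishing of the higher direct images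
  have hR : ∀ q : ℕ, 0 < q →
      IsZero (((CohTop.push π.base).rightDerived q).obj (Coh.toAb G)) := by
    intro q hq
    exact Groth.Agent.Lib.helper11.S0002T3.isZero_RpushAb_of_affine_cover π G q hq (fun z => by
      obtain ⟨V, hVs, hzV⟩ := hcov z
      exact ⟨V, hs'aff V hVs, hzV, h3 V hVs q hq⟩)
  -- coherence of the direct image
  have hHcoh : Coh.IsCoh ((Scheme.Modules.pushforward π).obj G) :=
    Groth.Agent.Lib.helper21.PushCoh.isCoh_push_of_affine_cover π G (fun z => by
      obtain ⟨V, hVs, hzV⟩ := hcov z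
      exact ⟨V, hs'aff V hVs, hzV, h4 V hVs⟩)
  refine ⟨(Scheme.Modules.pushforward π).obj G, hHcoh, ?_, ?_⟩
  · exact Groth.Agent.Lib.helper8.S0002T7.T7c π U hUne G h6
  · intro p
    letI : Z.Over (Spec (CommRingCat.of A)) := ⟨f⟩
    haveI : i.IsOver (Spec (CommRingCat.of A)) := ⟨rfl⟩
    letI : Z''.Over (Spec (CommRingCat.of A)) := ⟨π ≫ f⟩
    haveI : π.IsOver (Spec (CommRingCat.of A)) := ⟨rfl⟩
    haveI : ((Scheme.Modules.pushforward π).obj G).IsQuasicoherent := hHcoh.1
    have e1 := pushEquivOver i ((Scheme.Modules.pushforward π).obj G) A p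
    have e2 := Groth.Agent.Lib.Lead.HHPushGen.pushEquivOver π G hR A p
    have := h5 p
    exact Module.Finite.equiv (e1.trans e2).symm

/-- **Finiteness of coherent cohomology for proper schemes over a Noetherian ring** (EGA III 3.2.1,
affine base). -/
theorem finite_HH_of_isProper [IsProper (X ↘ Spec (CommRingCat.of A))]
    (M : X.Modules) (hM : Coh.IsCoh M) (n : ℕ) : Module.Finite A (Coh.HH X M n) :=
  finite_of_hgen A X (fun Z i _ _ => hgen_step A X Z i) M hM n

end Groth.Agent.Lib.Lead.ProperFin
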