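import Mathlib
import Groth.Agent.Lib.Helper21.RpushQCohAffine
import Groth.Agent.Lib.Helper21.ModOpenBC2
import Groth.Agent.Lib.Helper16.CohFinite
import Groth.Agent.Lib.Helper25.DCohHomology
import Groth.Agent.Lib.Helper11.CounitEpi
import Groth.Agent.Lib.Helper7.CohKer
import Groth.Agent.Lib.Lead.ProperFin2

/-!
# Higher direct images of coherent modules along proper morphisms are coherent (lead)
-/

set_option autoImplicit false

universe u

namespace Groth.Agent.Lib.Lead.RpushCoh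

open CategoryTheory CategoryTheory.Limits Opposite TopologicalSpace AlgebraicGeometry
open Groth.Agent.Lib.helper21.RpushSections Groth.Agent.Lib.helper21.RpushQCohAffine
open Groth.Agent.Lib.helper21

section top

variable {X : TopCat.{u}} {F G : CohTop.Ab X} (σ : F ⟶ G) (n : ℕ)

/-- naturality of helper27's comparison `H^n(⊤, F) ≃ H^n(X, F)` -/
lemma HEquivHU_map (y : CohTop.HU F n ⊤) :
    Groth.Agent.Lib.helper27.SerreVan.HEquivHU G n (CohTop.HUmap σ n ⊤ y) =
      Sheaf.H.map σ n (Groth.Agent.Lib.helper27.SerreVan.HEquivHU F n y) := by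
  exact (Abelian.Ext.comp_assoc_of_third_deg_zero (Abelian.Ext.mk₀ _) y (Abelian.Ext.mk₀ σ)
    (zero_add n)).symm

end top

section affine

variable {Y T : Scheme.{u}} (g : Y ⟶ T) (N : Y.Modules) (i : ℕ)

lemma toGlobal_eq [IsAffine T] (a : Γ(T, ⊤)) :
    Coh.toGlobal (A := Γ(T, ⊤)) (g ≫ T.isoSpec.hom) a = φ g a := by
  show ((g ≫ T.isoSpec.hom).appTop).hom ((Scheme.ΓSpecIso (CommRingCat.of Γ(T, ⊤))).inv.hom a) =
    g.appTop.hom a
  rw [Scheme.Hom.comp_appTop, Scheme.isoSpec_hom, Scheme.toSpecΓ_appTop]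
  show g.appTop.hom ((Scheme.ΓSpecIso Γ(T, ⊤)).hom.hom ((Scheme.ΓSpecIso Γ(T, ⊤)).inv.hom a)) = _
  congr 1
  exact ConcreteCategory.congr_hom (Scheme.ΓSpecIso Γ(T, ⊤)).inv_hom_id a

variable [HasInjectiveResolutions Y.Modules]

/-- `H^i(g⁻¹ ⊤, N) ≃+ Γ(T, (V ↦ H^i(g⁻¹V, N))^#)` -/
noncomputable def e2 [QuasiCompact g] [QuasiSeparated g] [IsAffine T] [N.IsQuasicoherent] :
    CohTop.HU (Coh.toAb N) i ⊤ ≃+
      (sheafify (Opens.grothendieckTopology T) (P g N i)).obj (op (⊤ : Opens T)) :=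
  AddEquiv.ofBijective _ (bijective_toSheafify_P_top g N i)

omit [HasInjectiveResolutions Y.Modules] in
lemma e2_apply [QuasiCompact g] [QuasiSeparated g] [IsAffine T] [N.IsQuasicoherent]
    (y : CohTop.HU (Coh.toAb N) i ⊤) :
    e2 g N i y =
      ((toSheafify (Opens.grothendieckTopology T) (P g N i)).app (op (⊤ : Opens T))).hom y := rfl

/-- the comparison `Γ(T, R^i g_* N) ≃+ H^i(Y, N)` -/
noncomputable def secEquiv [QuasiCompact g] [QuasiSeparated g] [IsAffine T] [N.IsQuasicoherent]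
    (Θ : Coh.Rpush g i ⋙ SheafOfModules.toSheaf.{u} T.ringCatSheaf ≅
      SheafOfModules.toSheaf.{u} Y.ringCatSheaf ⋙ RpushTheta.Q g i) :
    (Coh.toAb ((Coh.Rpush g i).obj N)).obj.obj (op (⊤ : T.Opens)) ≃+ Coh.HH Y N i :=
  ((thetaEquiv g N i Θ ⊤).trans (e2 g N i).symm).trans
    (Groth.Agent.Lib.helper27.SerreVan.HEquivHU (Coh.toAb N) i)

lemma secEquiv_apply [QuasiCompact g] [QuasiSeparated g] [IsAffine T] [N.IsQuasicoherent]
    (Θ : Coh.Rpush g i ⋙ SheafOfModules.toSheaf.{u} T.ringCatSheaf ≅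
      SheafOfModules.toSheaf.{u} Y.ringCatSheaf ⋙ RpushTheta.Q g i)
    (x : (Coh.toAb ((Coh.Rpush g i).obj N)).obj.obj (op (⊤ : T.Opens))) :
    secEquiv g N i Θ x = Groth.Agent.Lib.helper27.SerreVan.HEquivHU (Coh.toAb N) i
      ((e2 g N i).symm (thetaEquiv g N i Θ ⊤ x)) := rfl

lemma secEquiv_smul [QuasiCompact g] [QuasiSeparated g] [IsAffine T] [N.IsQuasicoherent]
    (Θ : Coh.Rpush g i ⋙ SheafOfModules.toSheaf.{u} T.ringCatSheaf ≅
      SheafOfModules.toSheaf.{u} Y.ringCatSheaf ⋙ RpushTheta.Q g i) (a : Γ(T, ⊤))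
    (x : (Coh.toAb ((Coh.Rpush g i).obj N)).obj.obj (op (⊤ : T.Opens))) :
    secEquiv g N i Θ (((Coh.smulAb ((Coh.Rpush g i).obj N) a).hom.app (op ⊤)).hom x) =
      Sheaf.H.map (Coh.smulAb N (φ g a)) i (secEquiv g N i Θ x) := by
  rw [secEquiv_apply, secEquiv_apply, ← HEquivHU_map]
  congr 1
  rw [AddEquiv.symm_apply_eq, thetaEquiv_apply, theta_smul_apply]
  set y := (e2 g N i).symm (thetaEquiv g N i Θ ⊤ x) with hy
  have hy' : e2 g N i y = thetaEquiv g N i Θ ⊤ x := (e2 g N i).apply_symm_apply _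
  rw [← thetaEquiv_apply, ← hy', e2_apply, e2_apply]
  have := toSheafify_naturality (Opens.grothendieckTopology T) (m g N i a)
  exact (ConcreteCategory.congr_hom (congrArg (fun t => t.app (op (⊤ : T.Opens))) this) y).symm

/-- the global sections of `R^i g_* N` are a finite module, for `g` proper, `N` coherent, over an
affine Noetherian base -/
theorem finite_sections_rpush [IsProper g] [IsAffine T] [IsNoetherianRing Γ(T, ⊤)]
    (hN : Coh.IsCoh N) :
    Module.Finite Γ(T, ⊤) Γ((Coh.Rpush g i).obj N, ⊤) := by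
  have : N.IsQuasicoherent := hN.1
  let _ : Y.Over (Spec (CommRingCat.of Γ(T, ⊤))) := ⟨g ≫ T.isoSpec.hom⟩
  have : IsProper (Y ↘ Spec (CommRingCat.of Γ(T, ⊤))) := by
    show IsProper (g ≫ T.isoSpec.hom)
    infer_instance
  have hfin : Module.Finite Γ(T, ⊤) (Coh.HH Y N i) :=
    Groth.Agent.Lib.Lead.ProperFin.finite_HH_of_isProper Γ(T, ⊤) Y N hN i
  obtain ⟨Θ⟩ := RpushTheta.nonempty_theta g i
  let E := secEquiv g N i Θ
  have hE : ∀ (a : Γ(T, ⊤)) (x : Γ((Coh.Rpush g i).obj N, ⊤)), E (a • x) = a • E x := by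
    intro a x
    have h1 : a • x = ((Coh.smulAb ((Coh.Rpush g i).obj N) a).hom.app (op ⊤)).hom x := by
      have := Coh.smulAb_app ((Coh.Rpush g i).obj N) a (op ⊤) x
      refine Eq.trans ?_ this.symm
      have h1 : Coh.resTop T (op (⊤ : T.Opens)) a = a := by
        show (T.ringCatSheaf.obj.map (𝟙 (op (⊤ : T.Opens)))).hom a = a
        rw [CategoryTheory.Functor.map_id]
        rfl
      rw [h1]
      rfl
    rw [h1]
    refine (secEquiv_smul g N i Θ a x).trans ?_
    show Sheaf.H.map (Coh.smulAb N (φ g a)) i (E x) =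
      Sheaf.H.map (Coh.smulAb N (Coh.toGlobal (A := Γ(T, ⊤)) (g ≫ T.isoSpec.hom) a)) i (E x)
    rw [toGlobal_eq]
  let L : Coh.HH Y N i →ₗ[Γ(T, ⊤)] Γ((Coh.Rpush g i).obj N, ⊤) :=
    { toFun := E.symm
      map_add' := E.symm.map_add
      map_smul' := by
        intro a z
        apply E.injective
        have h2 := hE a (E.symm z)
        rw [E.apply_symm_apply] at h2
        exact (E.apply_symm_apply _).trans h2.symm }
  exact Module.Finite.of_surjective L E.symm.surjective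

/-- `R^i g_* N` is coherent, for `g` proper, `N` coherent, over an affine Noetherian base -/
theorem isCoh_rpush_of_isAffine [IsProper g] [IsAffine T] [IsNoetherianRing Γ(T, ⊤)]
    (hN : Coh.IsCoh N) : Coh.IsCoh ((Coh.Rpush g i).obj N) := by
  have : N.IsQuasicoherent := hN.1
  have : ((Coh.Rpush g i).obj N).IsQuasicoherent := isQuasicoherent_rpush g N i
  exact Groth.Agent.Lib.helper16.CohFinite.isCoh_of_finite_sections _
    (fun _ : PUnit.{u + 1} => (⊤ : T.Opens)) (fun _ => isAffineOpen_top T) (by simp)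
    (fun _ => finite_sections_rpush g N i hN)

end affine

section general

open AlgebraicGeometry.Scheme.Modules

/-- **EGA III 3.2.1**: `R^i f_* M` is coherent for `f` proper, `M` coherent, over a locally
Noetherian base. -/
theorem isCoh_rpush {X S : Scheme.{u}} (f : X ⟶ S) [IsProper f] [IsLocallyNoetherian S]
    [HasInjectiveResolutions X.Modules] (M : X.Modules) (hM : Coh.IsCoh M) (i : ℕ) :
    Coh.IsCoh ((Coh.Rpush f i).obj M) := by
  refine Groth.Agent.Lib.helper25.DCohHomology.isCoh_of_cover _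
    (fun V : S.affineOpens => V.1) (iSup_affineOpens_eq_top S) (fun V => ?_)
  obtain ⟨e⟩ := ModOpenBC.nonempty_restrict_rpush_iso f V.1 M i
  have : IsAffine (V.1 : Scheme.{u}) := V.2
  have : IsNoetherianRing Γ((V.1 : Scheme.{u}), ⊤) :=
    IsLocallyNoetherian.component_noetherian ⟨⊤, isAffineOpen_top _⟩
  have hN : Coh.IsCoh ((restrictFunctor (f ⁻¹ᵁ V.1).ι).obj M) :=
    Groth.Agent.Lib.helper11.CounitEpi.isCoh_restrict hM (f ⁻¹ᵁ V.1)
  exact Groth.Agent.Lib.helper7.CohKer.isCoh_of_iso e.symm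
    (isCoh_rpush_of_isAffine (f ∣_ V.1) _ i hN)

end general

end Groth.Agent.Lib.Lead.RpushCoh
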