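import Mathlib
import Groth.Prelude.Def_Formal
import Groth.Agent.Lib.Helper8.ReesSys
import Groth.Agent.Lib.Helper8.FormalQuot
import Groth.Agent.Lib.Helper16.QCohEpi
import Groth.Agent.Lib.Helper7.QCohAffine
import Groth.Agent.Lib.Helper7.CohKer
import Groth.Agent.Lib.Helper25.QCohCoprod

/-!
# Grothendieck existence, part 2 (lead): sections of `M / 𝔞 M` over affine opens

`X` a scheme over `Spec A`, `𝔞` an ideal of `A`, `M` a quasi-coherent `O_X`-module, `U` an affine open,
`R = Γ(X, U)`, `resA A U : A →+* R` the structure map.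

* `hom_eq_zero_of_cover` : a morphism out of a quasi-coherent module which vanishes on sections over
  an affine open cover is zero.
* `exists_appLin_eq_of_exact` : exactness of sections over affine opens for exact sequences of
  quasi-coherent modules.
* `isQuasicoherent_Q`, `isCoh_Q'` : `M / 𝔞 M` is quasi-coherent (coherent) — no finiteness on `A`.
* `ker_appLin_qπ` : on a quasi-compact locally Noetherian `X`, the kernel of
  `Γ(M, U) → Γ(M / 𝔞 M, U)` is `𝔞 Γ(M, U)` (`= (𝔞.map (resA A U)) • ⊤`).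
* `range_appLin_sbι` : sections of `𝔞 M` over `U` are `𝔞 Γ(M, U)`.
-/

set_option autoImplicit false
set_option backward.isDefEq.respectTransparency false
set_option linter.style.haveILetI false
set_option linter.unusedSectionVars false
universe u

namespace Groth.Agent.Lib.Lead.GE

open CategoryTheory CategoryTheory.Limits AlgebraicGeometry Opposite TopologicalSpace Formal
open Groth.Agent.Lib.helper8.FF Groth.Agent.Lib.helper8.Rees Groth.Agent.Lib.helper8.Rees.Sys
open Scheme.Modules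

attribute [local instance] Abelian.hasFiniteBiproducts

section NoBase

variable {X : Scheme.{u}}

/-- a morphism out of a quasi-coherent module vanishing on sections over an affine cover is zero -/
theorem hom_eq_zero_of_cover {F G : X.Modules} [F.IsQuasicoherent] (f : F ⟶ G)
    {ι : Type*} (W : ι → X.Opens) (hW : ∀ i, IsAffineOpen (W i)) (hcov : ∀ x : X, ∃ i, x ∈ W i)
    (h : ∀ i (s : Γ(F, W i)), appLin f (W i) s = 0) : f = 0 := by
  let 𝔅 : Set X.Opens := {D | ∃ (i : ι) (g : Γ(X, W i)), D = X.basicOpen g}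
  refine Groth.Agent.Lib.helper16.QCohEpi.hom_ext_of_basis f 0 𝔅 ?_ ?_
  · rw [Opens.isBasis_iff_nbhd]
    intro O x hx
    obtain ⟨i, hi⟩ := hcov x
    obtain ⟨g, hg, hxg⟩ := (hW i).exists_basicOpen_le (V := O) ⟨x, hx⟩ hi
    exact ⟨X.basicOpen g, ⟨i, g, rfl⟩, hxg, hg⟩
  · rintro D ⟨i, g, rfl⟩ s
    obtain ⟨n, s', hs'⟩ := Groth.Agent.Lib.helper7.exists_pow_smul_eq_map_of_isAffineOpen
      (F := F) (hW i) g s
    have h1 := Groth.Agent.Lib.helper16.QCohEpi.app_map f (X.basicOpen_le g) s'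
    rw [hs'] at h1
    have h2 : (f.app (W i)).hom s' = 0 := h i s'
    rw [h2, map_zero] at h1
    have h3 := Scheme.Modules.Hom.app_smul f
      ((X.presheaf.map (homOfLE (X.basicOpen_le g)).op g) ^ n) s
    have hunit : IsUnit (X.presheaf.map (homOfLE (X.basicOpen_le g)).op g) :=
      RingedSpace.isUnit_res_basicOpen X.toRingedSpace g
    obtain ⟨v, hv⟩ := hunit.pow n
    have h4 : ((X.presheaf.map (homOfLE (X.basicOpen_le g)).op g) ^ n) •
        (f.app (X.basicOpen g)).hom s = 0 := by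
      rw [← h1]; exact h3.symm
    rw [← hv] at h4
    have := congrArg (fun z => (↑v⁻¹ : Γ(X, X.basicOpen g)) • z) h4
    simp only [smul_smul, smul_zero] at this
    simpa using this

/-- two morphisms out of a quasi-coherent module agreeing on sections over an affine cover agree -/
theorem hom_ext_of_cover {F G : X.Modules} [F.IsQuasicoherent] (f g : F ⟶ G)
    {ι : Type*} (W : ι → X.Opens) (hW : ∀ i, IsAffineOpen (W i)) (hcov : ∀ x : X, ∃ i, x ∈ W i)
    (h : ∀ i (s : Γ(F, W i)), appLin f (W i) s = appLin g (W i) s) : f = g := by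
  rw [← sub_eq_zero]
  refine hom_eq_zero_of_cover (f - g) W hW hcov (fun i s => ?_)
  have : appLin (f - g) (W i) s = appLin f (W i) s - appLin g (W i) s := rfl
  rw [this, h i s, sub_self]

/-- sections over an affine open are exact on exact sequences of quasi-coherent modules -/
theorem exists_appLin_eq_of_exact (S : ShortComplex X.Modules) (hS : S.Exact)
    [S.X₁.IsQuasicoherent] [S.X₂.IsQuasicoherent] [S.X₃.IsQuasicoherent]
    {U : X.Opens} (hU : IsAffineOpen U) (y : Γ(S.X₂, U)) (hy : appLin S.g U y = 0) :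
    ∃ x : Γ(S.X₁, U), appLin S.f U x = y := by
  haveI : (kernel S.g).IsQuasicoherent := Groth.Agent.Lib.helper7.CohKer.isQuasicoherent_kernel S.g
  haveI : Epi (kernel.lift S.g S.f S.zero) := (ShortComplex.exact_iff_epi_kernel_lift S).mp hS
  have hy' : y ∈ LinearMap.range (appLin (kernel.ι S.g) U) := by
    rw [range_appLin_kernel_ι]; exact hy
  obtain ⟨z, hz⟩ := hy'
  obtain ⟨x, hx⟩ := appLin_surjective_of_epi (kernel.lift S.g S.f S.zero) hU z
  refine ⟨x, ?_⟩
  rw [← hz, ← hx, ← appLin_comp_apply, kernel.lift_ι]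

/-- sections of a finite sum of morphisms -/
theorem sum_appLin {ι : Type*} (s : Finset ι) {F G : X.Modules} (f : ι → (F ⟶ G)) (W : X.Opens)
    (x : Γ(F, W)) : appLin (∑ k ∈ s, f k) W x = ∑ k ∈ s, appLin (f k) W x := by
  classical
  induction s using Finset.induction_on with
  | empty =>
    rw [Finset.sum_empty, Finset.sum_empty]
    rfl
  | insert a s ha ih =>
    rw [Finset.sum_insert ha, Finset.sum_insert ha, ← ih]
    rfl

/-- a section of a finite biproduct is the sum of its components -/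
theorem biproduct_section_eq {d : ℕ} (f : Fin d → X.Modules) (W : X.Opens) (x : Γ(⨁ f, W)) :
    x = ∑ k, appLin (biproduct.ι f k) W (appLin (biproduct.π f k) W x) := by
  have h := biproduct.total (f := f)
  have h1 : appLin (∑ k, biproduct.π f k ≫ biproduct.ι f k) W x = x := by
    rw [h]
    rfl
  rw [sum_appLin] at h1
  exact h1.symm

/-- a finite biproduct of quasi-coherent modules is quasi-coherent -/
theorem isQuasicoherent_biproduct' {d : ℕ} (f : Fin d → X.Modules)
    (hf : ∀ k, (f k).IsQuasicoherent) : (⨁ f).IsQuasicoherent := by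
  have h1 : (∐ fun k : ULift.{u} (Fin d) => f k.down).IsQuasicoherent :=
    Groth.Agent.Lib.helper25.QCohCoprod.isQuasicoherent_coproduct X _ (fun k => hf k.down)
  let e1 : (∐ fun k : ULift.{u} (Fin d) => f k.down) ≅ ∐ f :=
    Sigma.reindex (Equiv.ulift (α := Fin d)) f
  exact (SheafOfModules.isQuasicoherent X.ringCatSheaf).prop_of_iso
    (e1 ≪≫ (biproduct.isoCoproduct f).symm) h1

end NoBase

variable {A : Type u} [CommRing A] {X : Scheme.{u}} [X.Over (Spec (CommRingCat.of A))]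

variable (A) in
/-- the structure map `A → Γ(X, U)` -/
noncomputable def resA (U : X.Opens) : A →+* Γ(X, U) :=
  (Coh.resTop X (op U)).comp (Coh.toGlobal (X ↘ Spec (CommRingCat.of A)))

lemma appLin_smulMod (M : X.Modules) (a : A) (U : X.Opens) (x : Γ(M, U)) :
    appLin (smulMod A M a) U x = resA A U a • x := rfl

/-- `M / 𝔞 M` is quasi-coherent. -/
theorem isQuasicoherent_Q (𝔞 : Ideal A) (M : X.Modules) [M.IsQuasicoherent] :
    (Q 𝔞 M).IsQuasicoherent := by
  haveI : (∐ fun _ : 𝔞 => M).IsQuasicoherent :=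
    Groth.Agent.Lib.helper25.QCohCoprod.isQuasicoherent_coproduct X _ (fun _ => inferInstance)
  exact Groth.Agent.Lib.helper7.CohKer.isQuasicoherent_cokernel _

/-- `𝔞 M` is quasi-coherent. -/
theorem isQuasicoherent_Sb (𝔞 : Ideal A) (M : X.Modules) [M.IsQuasicoherent] :
    (Sb 𝔞 M).IsQuasicoherent := by
  haveI := isQuasicoherent_Q 𝔞 M
  exact Groth.Agent.Lib.helper7.CohKer.isQuasicoherent_kernel _

/-- `M / 𝔞 M` is coherent for `M` coherent (no hypothesis on `A`). -/
theorem isCoh_Q' (𝔞 : Ideal A) (M : X.Modules) (hM : Coh.IsCoh M) : Coh.IsCoh (Q 𝔞 M) := by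
  haveI : M.IsQuasicoherent := hM.1
  exact ⟨isQuasicoherent_Q 𝔞 M, Groth.Agent.Lib.helper7.CohKer.isFiniteType_of_epi (qπ 𝔞 M) hM.2⟩

/-- the easy inclusion: `𝔞 Γ(M, U)` dies in `Γ(M / 𝔞 M, U)`. -/
theorem smul_top_le_ker_appLin_qπ (𝔞 : Ideal A) (M : X.Modules) (U : X.Opens) :
    (𝔞.map (resA A U)) • (⊤ : Submodule Γ(X, U) Γ(M, U)) ≤ LinearMap.ker (appLin (qπ 𝔞 M) U) := by
  rw [Submodule.smul_le]
  intro r hr x _
  rw [LinearMap.mem_ker, LinearMap.map_smul]
  -- `r` lies in the ideal of elements killing `Γ(Q, U)`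
  have hle : 𝔞.map (resA A U) ≤ Module.annihilator Γ(X, U) Γ(Q 𝔞 M, U) := by
    rw [Ideal.map_le_iff_le_comap]
    intro a ha
    rw [Ideal.mem_comap, Module.mem_annihilator]
    intro y
    have h1 : appLin (smulMod A (Q 𝔞 M) a) U y = 0 := by
      rw [smulMod_Q M ha]; rfl
    rw [appLin_smulMod] at h1
    exact h1
  exact Module.mem_annihilator.mp (hle hr) _

/-- for a finitely generated ideal, sections of `𝔞 M` over an affine open are `𝔞 Γ(M, U)` -/
theorem range_appLin_sbι_of_fg (𝔞 : Ideal A) (h𝔞 : 𝔞.FG) (M : X.Modules) [M.IsQuasicoherent]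
    {U : X.Opens} (hU : IsAffineOpen U) :
    LinearMap.range (appLin (sbι 𝔞 M) U) ≤
      (𝔞.map (resA A U)) • (⊤ : Submodule Γ(X, U) Γ(M, U)) := by
  classical
  obtain ⟨t, ht⟩ := h𝔞
  obtain ⟨d, ⟨e⟩⟩ : ∃ d : ℕ, Nonempty (Fin d ≃ t) := ⟨_, ⟨(Fintype.equivFin t).symm⟩⟩
  let g : Fin d → A := fun k => (e k : A)
  have hg : ∀ k, g k ∈ 𝔞 := fun k => by
    rw [← ht]; exact Ideal.subset_span (e k).2
  have hspan : Ideal.span (Set.range g) = 𝔞 := by
    rw [← ht]
    congr 1
    ext a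
    constructor
    · rintro ⟨k, rfl⟩; exact (e k).2
    · intro ha; exact ⟨e.symm ⟨a, ha⟩, by simp [g]⟩
  let β : ∀ _ : Fin d, M ⟶ Sb 𝔞 M := fun k => sbLift M (hg k)
  let φ : (⨁ fun _ : Fin d => M) ⟶ Sb 𝔞 M := biproduct.desc β
  have hφ : ∀ k, biproduct.ι (fun _ : Fin d => M) k ≫ φ = sbLift M (hg k) := fun k =>
    biproduct.ι_desc _ _
  haveI : Epi φ := by
    refine ⟨fun {T} g₁ g₂ h12 => ?_⟩
    apply sb_hom_ext
    intro b
    rw [← Category.assoc, ← Category.assoc, ι_sbCover]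
    -- write `b` as a combination of the generators
    have hb : (b : A) ∈ Ideal.span (Set.range g) := by rw [hspan]; exact b.2
    obtain ⟨c, hc⟩ := (Submodule.mem_span_range_iff_exists_fun A).mp hb
    have key : sbLift M b.2 = ∑ k, smulMod A M (c k) ≫ sbLift M (hg k) := by
      rw [← cancel_mono (sbι 𝔞 M), sbLift_ι, Preadditive.sum_comp]
      have : ∀ k, (smulMod A M (c k) ≫ sbLift M (hg k)) ≫ sbι 𝔞 M = smulMod A M (c k * g k) := by
        intro k
        rw [Category.assoc, sbLift_ι, ← smulMod_mul']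
      simp only [this]
      rw [← hc]
      clear hc hb
      induction (Finset.univ : Finset (Fin d)) using Finset.induction_on with
      | empty => simp [smulMod_zero]
      | insert a s ha ih =>
        rw [Finset.sum_insert ha, Finset.sum_insert ha, smulMod_add, ih]
        rfl
    rw [key, Preadditive.sum_comp, Preadditive.sum_comp]
    refine Finset.sum_congr rfl (fun k _ => ?_)
    rw [Category.assoc, Category.assoc, ← hφ k, Category.assoc, Category.assoc, h12]
  haveI : (⨁ fun _ : Fin d => M).IsQuasicoherent :=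
    isQuasicoherent_biproduct' _ (fun _ => inferInstance)
  haveI := isQuasicoherent_Sb 𝔞 M
  rintro _ ⟨z, rfl⟩
  obtain ⟨y, rfl⟩ := appLin_surjective_of_epi φ hU z
  rw [biproduct_section_eq _ U y, map_sum, map_sum]
  refine Submodule.sum_mem _ (fun k _ => ?_)
  rw [← appLin_comp_apply, ← appLin_comp_apply, ← Category.assoc, hφ k, sbLift_ι, appLin_smulMod]
  exact Submodule.smul_mem_smul (Ideal.mem_map_of_mem _ (hg k)) Submodule.mem_top


/-- a finite affine open cover of a quasi-compact scheme -/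
theorem exists_finite_affine_cover (X : Scheme.{u}) [CompactSpace X] :
    ∃ (n : ℕ) (W : Fin n → X.Opens), (∀ i, IsAffineOpen (W i)) ∧ ∀ x : X, ∃ i, x ∈ W i := by
  classical
  obtain ⟨t, ht, hcov⟩ := (isCompact_iff_finite_and_eq_biUnion_affineOpens (X := X)
    (U := ⊤)).mp (by simpa using isCompact_univ)
  haveI := ht.fintype
  let e := Fintype.equivFin t
  refine ⟨_, fun i => ((e.symm i : t) : X.affineOpens).1, fun i => ((e.symm i : t) : X.affineOpens).2,
    fun x => ?_⟩
  have hx : x ∈ (⊤ : X.Opens) := trivial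
  rw [hcov] at hx
  simp only [Opens.mem_iSup] at hx
  obtain ⟨V, hV, hxV⟩ := hx
  refine ⟨e ⟨V, hV⟩, ?_⟩
  show x ∈ (((e.symm (e ⟨V, hV⟩) : t) : X.affineOpens) : X.Opens)
  rw [Equiv.symm_apply_apply]
  exact hxV

/-- if `𝔞₀ ≤ 𝔞` have the same extension to the rings of an affine open cover, then
`M / 𝔞₀ M ⟶ M / 𝔞 M` is an isomorphism (`M` quasi-coherent). -/
theorem isIso_qTrans_of_map_le {𝔞₀ 𝔞 : Ideal A} (h : 𝔞₀ ≤ 𝔞) (M : X.Modules) [M.IsQuasicoherent]
    {ι : Type*} (W : ι → X.Opens) (hW : ∀ i, IsAffineOpen (W i)) (hcov : ∀ x : X, ∃ i, x ∈ W i)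
    (hmap : ∀ i, 𝔞.map (resA A (W i)) ≤ 𝔞₀.map (resA A (W i))) : IsIso (qTrans h M) := by
  have key : smulFamily 𝔞 M ≫ qπ 𝔞₀ M = 0 := by
    apply smulFamily_comp_eq_zero
    intro b hb
    refine hom_eq_zero_of_cover _ W hW hcov (fun i s => ?_)
    rw [appLin_comp_apply, appLin_smulMod]
    have h1 : resA A (W i) b • s ∈ (𝔞₀.map (resA A (W i))) • (⊤ : Submodule Γ(X, W i) Γ(M, W i)) :=
      Submodule.smul_mem_smul (hmap i (Ideal.mem_map_of_mem _ hb)) Submodule.mem_top
    exact smul_top_le_ker_appLin_qπ 𝔞₀ M (W i) h1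
  refine ⟨cokernel.desc _ (qπ 𝔞₀ M) key, ?_, ?_⟩
  · rw [← cancel_epi (qπ 𝔞₀ M)]
    simp
  · rw [← cancel_epi (qπ 𝔞 M)]
    simp

/-- on a Noetherian scheme, every ideal has a finitely generated sub-ideal with the same extension
to the rings of a finite affine open cover -/
theorem exists_fg_le_map_le [IsNoetherian X] (𝔞 : Ideal A) {n : ℕ} (W : Fin n → X.Opens)
    (hW : ∀ i, IsAffineOpen (W i)) :
    ∃ 𝔞₀ : Ideal A, 𝔞₀.FG ∧ 𝔞₀ ≤ 𝔞 ∧ ∀ i, 𝔞.map (resA A (W i)) ≤ 𝔞₀.map (resA A (W i)) := by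
  classical
  have h1 : ∀ i, ∃ t : Finset A, (↑t : Set A) ⊆ 𝔞 ∧
      𝔞.map (resA A (W i)) ≤ Ideal.span ((resA A (W i)) '' (↑t : Set A)) := by
    intro i
    haveI : IsNoetherianRing Γ(X, W i) := IsLocallyNoetherian.component_noetherian ⟨W i, hW i⟩
    have hfg : (Ideal.span ((resA A (W i)) '' (𝔞 : Set A))).FG :=
      (isNoetherianRing_iff_ideal_fg _).mp inferInstance _
    obtain ⟨t', ht', hspan⟩ := (Submodule.fg_span_iff_fg_span_finset_subset _).mp hfg
    obtain ⟨t, ht, rfl⟩ := Finset.subset_set_image_iff.mp ht'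
    refine ⟨t, ht, ?_⟩
    have h2 : 𝔞.map (resA A (W i)) = Ideal.span ((resA A (W i)) '' (𝔞 : Set A)) := rfl
    rw [h2]
    refine le_of_eq ?_
    have h3 : Ideal.span ((resA A (W i)) '' (𝔞 : Set A)) =
        Submodule.span _ ((resA A (W i)) '' (𝔞 : Set A)) := rfl
    rw [h3, hspan, Finset.coe_image]
  choose t ht ht' using h1
  refine ⟨Ideal.span (↑(Finset.univ.biUnion t) : Set A), ⟨_, rfl⟩, ?_, fun i => ?_⟩
  · rw [Ideal.span_le]
    intro a ha
    simp only [Finset.coe_biUnion, Finset.coe_univ, Set.mem_univ, Set.iUnion_true,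
      Set.mem_iUnion] at ha
    obtain ⟨i, hi⟩ := ha
    exact ht i hi
  · refine (ht' i).trans ?_
    rw [Ideal.span_le]
    rintro _ ⟨a, ha, rfl⟩
    refine Ideal.mem_map_of_mem _ (Ideal.subset_span ?_)
    simp only [Finset.coe_biUnion, Finset.coe_univ, Set.mem_univ, Set.iUnion_true, Set.mem_iUnion]
    exact ⟨i, ha⟩

/-- **sections of `M / 𝔞 M` over an affine open**: the kernel of `Γ(M, U) → Γ(M / 𝔞 M, U)` is
`𝔞 Γ(M, U)` (Noetherian `X`, `M` quasi-coherent, `𝔞` arbitrary) -/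
theorem ker_appLin_qπ [IsNoetherian X] (𝔞 : Ideal A) (M : X.Modules) [M.IsQuasicoherent]
    {U : X.Opens} (hU : IsAffineOpen U) :
    LinearMap.ker (appLin (qπ 𝔞 M) U) =
      (𝔞.map (resA A U)) • (⊤ : Submodule Γ(X, U) Γ(M, U)) := by
  refine le_antisymm ?_ (smul_top_le_ker_appLin_qπ 𝔞 M U)
  obtain ⟨n, W, hW, hcov⟩ := exists_finite_affine_cover X
  obtain ⟨𝔞₀, hfg, hle, hmap⟩ := exists_fg_le_map_le 𝔞 W hW
  haveI := isIso_qTrans_of_map_le hle M W hW hcov hmap
  intro x hx
  rw [LinearMap.mem_ker] at hx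
  have h1 : appLin (qπ 𝔞₀ M) U x = 0 := by
    have h2 : appLin (qTrans hle M) U (appLin (qπ 𝔞₀ M) U x) = 0 := by
      rw [← appLin_comp_apply, qπ_qTrans]; exact hx
    have hinj := appLin_injective_of_mono (qTrans hle M) U
    exact hinj (h2.trans (map_zero _).symm)
  have h3 : x ∈ LinearMap.range (appLin (sbι 𝔞₀ M) U) := by
    rw [range_appLin_kernel_ι]; exact h1
  have h4 := range_appLin_sbι_of_fg 𝔞₀ hfg M hU h3
  exact Submodule.smul_mono_left (Ideal.map_mono hle) h4

/-- sections of `𝔞 M` over an affine open are `𝔞 Γ(M, U)` -/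
theorem range_appLin_sbι [IsNoetherian X] (𝔞 : Ideal A) (M : X.Modules) [M.IsQuasicoherent]
    {U : X.Opens} (hU : IsAffineOpen U) :
    LinearMap.range (appLin (sbι 𝔞 M) U) =
      (𝔞.map (resA A U)) • (⊤ : Submodule Γ(X, U) Γ(M, U)) := by
  rw [range_appLin_kernel_ι, ker_appLin_qπ 𝔞 M hU]

/-- `Γ(M, U) → Γ(M / 𝔞 M, U)` is surjective for `U` affine -/
theorem appLin_qπ_surjective (𝔞 : Ideal A) (M : X.Modules) [M.IsQuasicoherent]
    {U : X.Opens} (hU : IsAffineOpen U) : Function.Surjective (appLin (qπ 𝔞 M) U) := by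
  haveI := isQuasicoherent_Q 𝔞 M
  exact appLin_surjective_of_epi (qπ 𝔞 M) hU

end Groth.Agent.Lib.Lead.GE
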