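import Mathlib

/-!
# A dense affine open with discrete complement in a Noetherian scheme of dimension ≤ 1 (lead)

* `exists_affineOpen_generic`: in a scheme whose underlying space is Noetherian there is an affine open containing the
  generic point of every irreducible component.
* `isClosed_singleton_of_dim_le_one`: in a scheme of topological Krull dimension ≤ 1, every point which is not the generic
  point of an irreducible component is closed.
* `exists_affineOpen_compl_closed`: a Noetherian scheme of dimension ≤ 1 has an affine open `U` such that all points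
  outside `U` are closed.
-/

set_option autoImplicit false
universe u
open CategoryTheory AlgebraicGeometry TopologicalSpace

namespace Groth.Agent.Lib.Lead.DimOneAffine

variable (X : Scheme.{u})

/-- a point whose closure is an irreducible component -/
def IsGen (x : X) : Prop := closure ({x} : Set X) ∈ irreducibleComponents X

theorem exists_affineOpen_generic [NoetherianSpace X] :
    ∃ U : X.Opens, IsAffineOpen U ∧ ∀ x : X, IsGen X x → x ∈ U := by
  classical
  have hfin : (irreducibleComponents X).Finite := NoetherianSpace.finite_irreducibleComponents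
  -- for each component `T`, the open complement of the other components
  let W : Set X → X.Opens := fun T =>
    ⟨(⋃₀ ((irreducibleComponents X) \ {T}))ᶜ, by
      rw [isOpen_compl_iff]
      rw [Set.sUnion_eq_biUnion]
      exact Set.Finite.isClosed_biUnion (hfin.subset Set.sdiff_subset)
        (fun s hs => isClosed_of_mem_irreducibleComponents s hs.1)⟩
  -- generic points
  have hgen : ∀ T ∈ irreducibleComponents X, ∃ η : X, closure ({η} : Set X) = T := by
    intro T hT
    obtain ⟨η, hη⟩ := QuasiSober.sober (hT.1) (isClosed_of_mem_irreducibleComponents T hT)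
    exact ⟨η, hη.def⟩
  have hmemW : ∀ T ∈ irreducibleComponents X, ∀ η : X, closure ({η} : Set X) = T → η ∈ W T := by
    intro T hT η hη
    change η ∈ (⋃₀ ((irreducibleComponents X) \ {T}))ᶜ
    rintro ⟨T', ⟨hT', hne⟩, hηT'⟩
    apply hne
    have hsub : T ⊆ T' := by
      rw [← hη]
      exact (isClosed_of_mem_irreducibleComponents T' hT').closure_subset_iff.mpr
        (Set.singleton_subset_iff.mpr hηT')
    exact (hT.2 hT'.1 hsub).antisymm hsub |>.symm ▸ rfl
  -- choose affine neighbourhoods
  have hV : ∀ T : Set X, ∃ V : X.Opens, (T ∈ irreducibleComponents X →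
      IsAffineOpen V ∧ V ≤ W T ∧ ∀ η : X, closure ({η} : Set X) = T → η ∈ V) := by
    intro T
    by_cases hT : T ∈ irreducibleComponents X
    · obtain ⟨η, hη⟩ := hgen T hT
      obtain ⟨V, hVaff, hηV, hVW⟩ :=
        (Opens.isBasis_iff_nbhd.mp X.isBasis_affineOpens) (hmemW T hT η hη)
      refine ⟨V, fun _ => ⟨hVaff, hVW, ?_⟩⟩
      intro η' hη'
      have : η' = η := by
        have h1 : closure ({η'} : Set X) = closure {η} := hη'.trans hη.symm
        exact ((specializes_iff_closure_subset.mpr h1.ge).antisymm
          (specializes_iff_closure_subset.mpr h1.le)).eq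
      rw [this]; exact hηV
    · exact ⟨⊥, fun h => (hT h).elim⟩
  choose V hV using hV
  refine ⟨⨆ T ∈ irreducibleComponents X, V T, ?_, ?_⟩
  · apply IsAffineOpen.biSup_of_disjoint hfin (fun T hT => (hV T hT).1)
    intro T hT T' hT' hne
    change Disjoint (V T) (V T')
    rw [disjoint_iff_inf_le]
    intro x ⟨hx, hx'⟩
    have h1 := (hV T hT).2.1 hx
    have h2 := (hV T' hT').2.1 hx'
    -- `x` lies in some component
    have hx0 : x ∈ ⋃₀ irreducibleComponents X := by rw [sUnion_irreducibleComponents]; trivial
    obtain ⟨T'', hT'', hxT''⟩ := hx0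
    by_cases h : T'' = T
    · subst h
      exact (h2 ⟨T'', ⟨hT'', fun h' => hne (by simpa using h')⟩, hxT''⟩).elim
    · exact (h1 ⟨T'', ⟨hT'', h⟩, hxT''⟩).elim
  · intro x hx
    have := (hV _ hx).2.2 x rfl
    exact Opens.mem_iSup.mpr ⟨_, Opens.mem_iSup.mpr ⟨hx, this⟩⟩

theorem isClosed_singleton_of_dim_le_one (hdim : topologicalKrullDim X ≤ 1) (x : X)
    (hx : ¬ IsGen X x) : IsClosed ({x} : Set X) := by
  by_contra hcl
  -- there is `y ∈ closure {x}`, `y ≠ x`
  have : ∃ y ∈ closure ({x} : Set X), y ≠ x := by
    by_contra h
    push Not at h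
    apply hcl
    have : closure ({x} : Set X) = {x} := by
      apply Set.Subset.antisymm
      · intro y hy; exact h y hy
      · exact subset_closure
    rw [← this]; exact isClosed_closure
  obtain ⟨y, hy, hyx⟩ := this
  -- a component containing `x`
  obtain ⟨T, hT, hxT⟩ := exists_mem_irreducibleComponents_subset_of_isIrreducible
    (closure ({x} : Set X)) isIrreducible_singleton.closure
  have hTne : closure ({x} : Set X) ≠ T := fun h => hx (by unfold IsGen; rw [h]; exact hT)
  let a : IrreducibleCloseds X := ⟨closure {y}, isIrreducible_singleton.closure, isClosed_closure⟩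
  let b : IrreducibleCloseds X := ⟨closure {x}, isIrreducible_singleton.closure, isClosed_closure⟩
  let c : IrreducibleCloseds X := ⟨T, hT.1, isClosed_of_mem_irreducibleComponents T hT⟩
  have hab : a < b := by
    refine lt_of_le_of_ne ?_ ?_
    · change closure ({y} : Set X) ⊆ closure {x}
      exact isClosed_closure.closure_subset_iff.mpr (Set.singleton_subset_iff.mpr hy)
    · intro h
      have h1 : closure ({y} : Set X) = closure {x} := congrArg (fun s : IrreducibleCloseds X => (s : Set X)) h
      exact hyx ((specializes_iff_closure_subset.mpr h1.ge).antisymm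
        (specializes_iff_closure_subset.mpr h1.le)).eq
  have hbc : b < c := by
    refine lt_of_le_of_ne hxT ?_
    intro h
    exact hTne (congrArg (fun s : IrreducibleCloseds X => (s : Set X)) h)
  let s : LTSeries (IrreducibleCloseds X) :=
    { length := 2
      toFun := ![a, b, c]
      step := by
        intro i
        fin_cases i
        · exact hab
        · exact hbc }
  have h2 : (2 : WithBot ℕ∞) ≤ topologicalKrullDim X := by
    have := Order.LTSeries.length_le_krullDim s
    exact this
  have : (2 : WithBot ℕ∞) ≤ 1 := h2.trans hdim
  exact absurd this (by decide)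

theorem exists_affineOpen_compl_closed [NoetherianSpace X] (hdim : topologicalKrullDim X ≤ 1) :
    ∃ U : X.Opens, IsAffineOpen U ∧ ∀ x : X, x ∉ U → IsClosed ({x} : Set X) := by
  obtain ⟨U, hU, hgen⟩ := exists_affineOpen_generic X
  exact ⟨U, hU, fun x hx => isClosed_singleton_of_dim_le_one X hdim x (fun h => hx (hgen x h))⟩

end Groth.Agent.Lib.Lead.DimOneAffine
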