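import Mathlib
import Groth.Agent.Lib.Lead.DimOneAffine
import Groth.Agent.Lib.Helper20.ZeroDimSupp
import Groth.Agent.Lib.Helper18.HHPush
import Groth.Agent.Lib.Helper18.HHConseq
import Groth.Agent.Lib.Helper16.Satur1
import Groth.Agent.S0007
import Groth.Agent.S0453

/-!
# Vanishing of `H^i`, `i ≥ 2`, on Noetherian separated schemes of dimension ≤ 1 (lead)

* `subsingleton_HH_of_sections_vanish`: an `O_X`-module on a locally Noetherian scheme whose sections vanish on all
  opens contained in an open `U` with `X ∖ U` consisting of closed points has `H^i = 0` for `i > 0` (it is flasque).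
* `subsingleton_HH_of_dim_le_one`: `H^i(X, F) = 0` for `i ≥ 2`, `F` quasi-coherent, `X` Noetherian separated of
  topological Krull dimension `≤ 1` (Grothendieck vanishing in dimension one).
-/

set_option autoImplicit false
set_option linter.style.haveILetI false
universe u
open CategoryTheory CategoryTheory.Limits AlgebraicGeometry Opposite TopologicalSpace

namespace Groth.Agent.Lib.Lead.DimOneVanish

variable {X : Scheme.{u}}

/-- sections vanish on opens inside `U`, and the complement of `U` consists of closed points ⇒ flasque -/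
theorem isFlasque_of_sections_vanish [IsLocallyNoetherian X] (M : X.Modules) (U : X.Opens)
    (hU : ∀ x : X, x ∉ U → IsClosed ({x} : Set X))
    (h0 : ∀ O : X.Opens, O ≤ U → Subsingleton Γ(M, O)) :
    TopCat.Sheaf.IsFlasque (X := X.carrier) (Coh.toAb M) := by
  have hZc : IsClosed ((U : Set X)ᶜ) := U.isOpen.isClosed_compl
  have hZ : ∀ S : Set X, S ⊆ (U : Set X)ᶜ → IsClosed S := fun S hS =>
    Groth.Agent.Lib.Helper20.ZeroDimSupp.isClosed_of_subset_closed_points X _ hZc
      (fun x hx => hU x hx) S hS
  have hfl : TopCat.Sheaf.IsFlasque (X := X.carrier) (Coh.toAb M) := by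
    refine Groth.Agent.Lib.Helper20.ZeroDimSupp.isFlasque_of_discrete_support (X := X.carrier)
      (Coh.toAb M) ((U : Set X)ᶜ) (fun x hx => ?_) hZ
    have hxU : x ∈ U := by
      by_contra h
      exact hx h
    refine ⟨fun a b => ?_⟩
    have key : ∀ t : ((TopCat.Presheaf.stalk (C := AddCommGrpCat.{u}) (X := X.carrier)
        (Coh.toAb M).obj x : AddCommGrpCat.{u}) : Type u), t = 0 := by
      intro t
      obtain ⟨O, hxO, s, rfl⟩ := TopCat.Presheaf.exists_germ_eq (C := AddCommGrpCat.{u})
        (X := X.carrier) (Coh.toAb M).obj t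
      have hle : O ⊓ U ≤ O := inf_le_left
      have hsub : Subsingleton ((Coh.toAb M).obj.obj (op (O ⊓ U))) := h0 (O ⊓ U) inf_le_right
      have h1 := TopCat.Presheaf.germ_res_apply (C := AddCommGrpCat.{u}) (X := X.carrier)
        (Coh.toAb M).obj (homOfLE hle) x ⟨hxO, hxU⟩ s
      rw [← h1]
      have : ((Coh.toAb M).obj.map (homOfLE hle).op) s = 0 := Subsingleton.elim _ _
      rw [this, map_zero]
    rw [key a, key b]
  exact hfl

/-- sections vanish on opens inside `U`, and the complement of `U` consists of closed points ⇒ acyclic -/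
theorem subsingleton_HH_of_sections_vanish [IsLocallyNoetherian X] (M : X.Modules) (U : X.Opens)
    (hU : ∀ x : X, x ∉ U → IsClosed ({x} : Set X))
    (h0 : ∀ O : X.Opens, O ≤ U → Subsingleton Γ(M, O)) (n : ℕ) :
    Subsingleton (Coh.HH X M (n + 1)) := by
  have hfl := isFlasque_of_sections_vanish M U hU h0
  exact Groth.Agent.S0453.result (X := X.carrier) (Coh.toAb M) n

/-- a module with vanishing global sections, whose sections vanish on opens inside `U`, where the complement of `U`
consists of closed points, is zero -/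
theorem isZero_of_sections_vanish [IsLocallyNoetherian X] (M : X.Modules) (U : X.Opens)
    (hU : ∀ x : X, x ∉ U → IsClosed ({x} : Set X))
    (h0 : ∀ O : X.Opens, O ≤ U → Subsingleton Γ(M, O)) (htop : Subsingleton Γ(M, ⊤)) : IsZero M := by
  have hfl := isFlasque_of_sections_vanish M U hU h0
  have hsub : ∀ O : X.Opens, Subsingleton Γ(M, O) := by
    intro O
    have hepi : Epi ((Coh.toAb M).obj.map (homOfLE (le_top : O ≤ ⊤)).op) :=
      TopCat.Presheaf.IsFlasque.epi (F := (Coh.toAb M).obj) (homOfLE (le_top : O ≤ ⊤)).op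
    have hsurj : Function.Surjective ((Coh.toAb M).obj.map (homOfLE (le_top : O ≤ ⊤)).op) :=
      (AddCommGrpCat.epi_iff_surjective _).mp hepi
    refine ⟨fun a b => ?_⟩
    obtain ⟨a', rfl⟩ := hsurj a
    obtain ⟨b', rfl⟩ := hsurj b
    have : a' = b' := htop.elim a' b'
    rw [this]
  rw [IsZero.iff_id_eq_zero]
  apply Scheme.Modules.hom_ext
  intro O
  ext m
  exact (hsub O).elim _ _


lemma res_injective_of_le_of_ge (M : X.Modules) {O O' : X.Opens} (h : O' ≤ O) (h' : O ≤ O') :
    Function.Injective (M.presheaf.map (homOfLE h).op) := by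
  have : M.presheaf.map (homOfLE h).op ≫ M.presheaf.map (homOfLE h').op = 𝟙 _ := by
    rw [← Functor.map_comp, ← M.presheaf.map_id]
    rfl
  intro a b hab
  have h1 := congrArg (M.presheaf.map (homOfLE h').op) hab
  have h2 : ∀ c, (M.presheaf.map (homOfLE h').op) ((M.presheaf.map (homOfLE h).op) c) = c := by
    intro c
    have := congrArg (fun φ => φ c) this
    simpa using this
  rw [h2, h2] at h1
  exact h1

lemma subsingleton_sections_of_isZero {M : X.Modules} (hM : IsZero M) (O : X.Opens) :
    Subsingleton Γ(M, O) := by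
  refine ⟨fun a b => ?_⟩
  have h : (𝟙 M : M ⟶ M) = 0 := hM.eq_of_src _ _
  have h1 : ∀ c : Γ(M, O), c = 0 := by
    intro c
    have := congrArg (fun φ : M ⟶ M => φ.app O c) h
    simpa using this
  rw [h1 a, h1 b]

open Groth.Agent.Lib.Helper18.HH in
lemma subsingleton_HH_of_iso {F G : X.Modules} (e : F ≅ G) (n : ℕ)
    (h : Subsingleton (Coh.HH X G n)) : Subsingleton (Coh.HH X F n) := by
  refine ⟨fun x y => ?_⟩
  have h1 : ∀ z, map e.inv n (map e.hom n z) = z := by
    intro z
    rw [← map_comp_apply, e.hom_inv_id, map_id]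
    rfl
  rw [← h1 x, ← h1 y, Subsingleton.elim (map e.hom n x) (map e.hom n y)]

/-- **Grothendieck vanishing in dimension one**: on a Noetherian separated scheme of dimension `≤ 1`, quasi-coherent
cohomology vanishes in degrees `≥ 2`. -/
theorem subsingleton_HH_of_dim_le_one [IsNoetherian X] [X.IsSeparated]
    (hdim : topologicalKrullDim X ≤ 1) (F : X.Modules) [F.IsQuasicoherent] (n : ℕ) :
    Subsingleton (Coh.HH X F (n + 2)) := by
  obtain ⟨U, hUaff, hUc⟩ := Groth.Agent.Lib.Lead.DimOneAffine.exists_affineOpen_compl_closed X hdim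
  haveI : IsAffine (U : Scheme.{u}) := hUaff
  haveI : IsAffineHom U.ι := by
    haveI : IsAffineHom (U.ι ≫ terminal.from X) := by
      rw [terminal.comp_from]; infer_instance
    exact IsAffineHom.of_comp U.ι (terminal.from X)
  let G : (U : Scheme.{u}).Modules := F.restrict U.ι
  haveI : G.IsQuasicoherent := inferInstance
  let L := Scheme.Modules.restrictFunctor U.ι
  let adj := Scheme.Modules.restrictAdjunction U.ι
  let N : X.Modules := (Scheme.Modules.pushforward U.ι).obj G
  let η : F ⟶ N := adj.unit.app F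
  -- cohomology of `N`
  have hN : ∀ m : ℕ, Subsingleton (Coh.HH X N (m + 1)) := fun m =>
    (Groth.Agent.Lib.Helper18.HH.subsingleton_iff_push U.ι G (m + 1)).mp
      (Groth.Agent.S0007.result (U : Scheme.{u}) G (m + 1) (by omega))
  -- `η` is injective on sections over opens inside `U`
  have hηinj : ∀ O : X.Opens, O ≤ U → Function.Injective (η.app O) := by
    intro O hO
    have : η.app O = F.presheaf.map (homOfLE (U.ι.image_preimage_le O)).op :=
      Scheme.Modules.restrictAdjunction_unit_app_app U.ι F O
    rw [this]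
    apply res_injective_of_le_of_ge
    intro x hx
    exact ⟨⟨x, hO hx⟩, hx, rfl⟩
  -- kernel
  have hK : ∀ m : ℕ, Subsingleton (Coh.HH X (kernel η) (m + 1)) := by
    refine subsingleton_HH_of_sections_vanish (kernel η) U hUc (fun O hO => ?_)
    refine ⟨fun a b => ?_⟩
    apply Groth.Agent.Lib.helper16.Satur.injective_app_of_mono (kernel.ι η) O
    apply hηinj O hO
    have h : (kernel.ι η ≫ η).app O = 0 := by rw [kernel.condition]; rfl
    have ha := congrArg (fun φ => φ a) h
    have hb := congrArg (fun φ => φ b) h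
    simp only [Scheme.Modules.Hom.comp_app] at ha hb
    exact ha.trans hb.symm
  -- cokernel
  have hLη : IsIso (L.map η) := by
    have h := adj.left_triangle_components F
    haveI : IsIso (adj.counit.app (L.obj F)) := inferInstance
    haveI : IsIso (L.map (adj.unit.app F) ≫ adj.counit.app (L.obj F)) := by rw [h]; infer_instance
    exact IsIso.of_isIso_comp_right (L.map (adj.unit.app F)) (adj.counit.app (L.obj F))
  have hLC : IsZero (L.obj (cokernel η)) := by
    haveI : PreservesColimitsOfSize.{0, 0} L := adj.leftAdjoint_preservesColimits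
    have e : L.obj (cokernel η) ≅ cokernel (L.map η) := PreservesCokernel.iso L η
    exact IsZero.of_iso (isZero_cokernel_of_epi (L.map η)) e
  have hC : ∀ m : ℕ, Subsingleton (Coh.HH X (cokernel η) (m + 1)) := by
    refine subsingleton_HH_of_sections_vanish (cokernel η) U hUc (fun O hO => ?_)
    have h1 : Subsingleton Γ(L.obj (cokernel η), U.ι ⁻¹ᵁ O) :=
      subsingleton_sections_of_isZero hLC _
    have hle : U.ι ''ᵁ (U.ι ⁻¹ᵁ O) ≤ O := U.ι.image_preimage_le O
    have hge : O ≤ U.ι ''ᵁ (U.ι ⁻¹ᵁ O) := fun x hx => ⟨⟨x, hO hx⟩, hx, rfl⟩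
    haveI : Subsingleton ↑((cokernel η).presheaf.obj (op (U.ι ''ᵁ U.ι ⁻¹ᵁ O))) := h1
    exact (res_injective_of_le_of_ge (cokernel η) hle hge).subsingleton
  -- the two short exact sequences
  let S₁ : ShortComplex X.Modules :=
    ShortComplex.mk (kernel.ι η) (cokernel.π (kernel.ι η)) (cokernel.condition _)
  have hS₁ : S₁.ShortExact :=
    { exact := ShortComplex.exact_cokernel (kernel.ι η)
      mono_f := inferInstanceAs (Mono (kernel.ι η))
      epi_g := inferInstanceAs (Epi (cokernel.π (kernel.ι η))) }
  let S₂ : ShortComplex X.Modules :=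
    ShortComplex.mk (kernel.ι (cokernel.π η)) (cokernel.π η) (kernel.condition _)
  have hS₂ : S₂.ShortExact :=
    { exact := ShortComplex.exact_kernel (cokernel.π η)
      mono_f := inferInstanceAs (Mono (kernel.ι (cokernel.π η)))
      epi_g := inferInstanceAs (Epi (cokernel.π η)) }
  -- image
  have hI : Subsingleton (Coh.HH X (kernel (cokernel.π η)) (n + 2)) :=
    Groth.Agent.Lib.Helper18.HH.subsingleton_X₁_succ hS₂ (n + 1) (hC n) (hN (n + 1))
  have hI' : Subsingleton (Coh.HH X (cokernel (kernel.ι η)) (n + 2)) :=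
    subsingleton_HH_of_iso (Abelian.coimageIsoImage η) (n + 2) hI
  exact Groth.Agent.Lib.Helper18.HH.subsingleton_X₂ hS₁ (n + 2) (hK (n + 1)) hI'

end Groth.Agent.Lib.Lead.DimOneVanish
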