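import Mathlib
import Groth.Agent.S0002
import Groth.Agent.S0016
import Groth.Agent.Lib.Helper18.HHEuler

/-!
# Euler characteristics on proper schemes over a field (lead)

For `X` proper over a field `k` all hypotheses of `Helper18.HH.euler_additive` are automatic:
finiteness is S0002 (`Groth.Agent.S0002.result`), vanishing in large degrees is S0016.

* `finite_HH k X F hF i : Module.Finite k (HH X F i)` for coherent `F`;
* `exists_vanishing_bound X : ∃ N, ∀ F qcoh, ∀ i > N, Subsingleton (HH X F i)`;
* `euler_additive k hS h₁ h₃`, `deg_additive k hS h₁ h₃ n₁ n₂ n₃ hn` for short exact sequences of coherent modules;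
* `euler_eq_sum'`: the Euler characteristic as a finite sum.
-/

set_option autoImplicit false
universe u
open CategoryTheory CategoryTheory.Limits AlgebraicGeometry Opposite TopologicalSpace Module
open Groth.Agent.Lib.Helper18.HH

namespace Groth.Agent.Lib.Lead.ProperEuler

variable (k : Type u) [Field k] (X : Scheme.{u}) [X.Over (Spec (CommRingCat.of k))]
  [IsProper (X ↘ Spec (CommRingCat.of k))]

/-- finite-dimensionality of coherent cohomology on a proper `k`-scheme (S0002) -/
theorem finite_HH (F : X.Modules) (hF : Coh.IsCoh F) (i : ℕ) : Module.Finite k (Coh.HH X F i) :=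
  Groth.Agent.S0002.result k X F hF i

include k in
lemma compactSpace : CompactSpace X :=
  QuasiCompact.compactSpace_of_compactSpace (X ↘ Spec (CommRingCat.of k))

include k in
lemma quasiSeparatedSpace : QuasiSeparatedSpace X :=
  quasiSeparatedSpace_of_quasiSeparated (X ↘ Spec (CommRingCat.of k))

include k in
/-- vanishing of quasi-coherent cohomology in large degrees (S0016) -/
theorem exists_vanishing_bound :
    ∃ N : ℕ, ∀ (F : X.Modules), Coh.IsQCoh F → ∀ i : ℕ, N < i → Subsingleton (Coh.HH X F i) := by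
  haveI := compactSpace k X
  haveI := quasiSeparatedSpace k X
  obtain ⟨d, hd⟩ := Groth.Agent.S0016.result X
  exact ⟨d, fun F hF i hi => hd F hF i hi.le⟩

variable {X}

/-- the Euler characteristic as a finite sum -/
theorem euler_eq_sum' (F : X.Modules) (hF : Coh.IsQCoh F) :
    ∃ N : ℕ, Curv2.euler k X F =
      ∑ i ∈ Finset.range (N + 1), (-1 : ℤ) ^ i * (finrank k (Coh.HH X F i) : ℤ) := by
  obtain ⟨N, hN⟩ := exists_vanishing_bound k X
  exact ⟨N, euler_eq_sum k F N (hN F hF)⟩

variable {S : ShortComplex X.Modules} (hS : S.ShortExact)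

include hS in
/-- **additivity of the Euler characteristic** on a proper `k`-scheme -/
theorem euler_additive (h₁ : Coh.IsCoh S.X₁) (h₃ : Coh.IsCoh S.X₃) :
    Curv2.euler k X S.X₂ = Curv2.euler k X S.X₁ + Curv2.euler k X S.X₃ := by
  obtain ⟨N, hN⟩ := exists_vanishing_bound k X
  exact Groth.Agent.Lib.Helper18.HH.euler_additive k hS (finite_HH k X _ h₁) (finite_HH k X _ h₃) N
    (hN _ h₁.1) (hN _ h₃.1)

include hS in
/-- additivity of the degree on a proper `k`-scheme -/
theorem deg_additive (h₁ : Coh.IsCoh S.X₁) (h₃ : Coh.IsCoh S.X₃) (n₁ n₂ n₃ : ℕ)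
    (hn : n₂ = n₁ + n₃) :
    Curv2.deg k X S.X₂ n₂ = Curv2.deg k X S.X₁ n₁ + Curv2.deg k X S.X₃ n₃ := by
  obtain ⟨N, hN⟩ := exists_vanishing_bound k X
  exact Groth.Agent.Lib.Helper18.HH.deg_additive k hS (finite_HH k X _ h₁) (finite_HH k X _ h₃) N
    (hN _ h₁.1) (hN _ h₃.1) n₁ n₂ n₃ hn

end Groth.Agent.Lib.Lead.ProperEuler
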