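import Mathlib
import Groth.Agent.Lib.Helper8.StalkExact
import Groth.Agent.Lib.Helper16.FLF5
import Groth.Agent.Lib.Helper16.FLF7

/-!
# Rank additivity for short exact sequences of finite locally free modules (lead)

* `finrank_add_of_exact`: for an exact sequence `0 → M₁ → M₂ → M₃ → 0` of modules over a nontrivial commutative
  ring with `M₃` projective and `M₁, M₃` finite free, `finrank M₂ = finrank M₁ + finrank M₃`.
* `rank_add_of_shortExact`: ranks add in a short exact sequence of finite locally free `O_X`-modules of constant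
  ranks on a nonempty scheme.
* `isCoh_of_isFinLocFree`: finite locally free modules are quasi-coherent of finite type.
-/

set_option autoImplicit false
set_option linter.style.haveILetI false
universe u
open CategoryTheory CategoryTheory.Limits AlgebraicGeometry

namespace Groth.Agent.Lib.Lead.RankAdd

theorem finrank_add_of_exact {R : Type*} [CommRing R] [Nontrivial R] {M₁ M₂ M₃ : Type*}
    [AddCommGroup M₁] [AddCommGroup M₂] [AddCommGroup M₃] [Module R M₁] [Module R M₂] [Module R M₃]
    [Module.Free R M₁] [Module.Finite R M₁] [Module.Free R M₃] [Module.Finite R M₃]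
    (f : M₁ →ₗ[R] M₂) (g : M₂ →ₗ[R] M₃) (hf : Function.Injective f) (hfg : Function.Exact f g)
    (hg : Function.Surjective g) :
    Module.finrank R M₂ = Module.finrank R M₁ + Module.finrank R M₃ := by
  obtain ⟨s, hs⟩ := Module.projective_lifting_property g LinearMap.id hg
  have e : (M₁ × M₃) ≃ₗ[R] M₂ := by
    refine LinearEquiv.ofBijective (f.coprod s) ⟨?_, ?_⟩
    · rw [injective_iff_map_eq_zero]
      rintro ⟨a, b⟩ h
      have h' : f a + s b = 0 := by simpa using h
      have hb : b = 0 := by
        have := congrArg g h'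
        rw [map_add, hfg.apply_apply_eq_zero, zero_add, map_zero] at this
        have h2 : g (s b) = b := by
          have := LinearMap.congr_fun hs b
          simpa using this
        rw [h2] at this
        exact this
      subst hb
      rw [map_zero, add_zero] at h'
      have ha : a = 0 := hf (by rw [h', map_zero])
      subst ha
      rfl
    · intro m
      have h2 : g (m - s (g m)) = 0 := by
        rw [map_sub]
        have := LinearMap.congr_fun hs (g m)
        simp only [LinearMap.coe_comp, Function.comp_apply, LinearMap.id_coe, id_eq] at this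
        rw [this, sub_self]
      obtain ⟨a, ha⟩ := (hfg _).mp h2
      refine ⟨(a, g m), ?_⟩
      simp [ha]
  rw [← LinearEquiv.finrank_eq e, Module.finrank_prod]

variable {X : Scheme.{u}}

open Groth.Agent.Lib.helper17.FlatOver7 Groth.Agent.Lib.helper8.StalkLen in
theorem rank_add_of_shortExact [Nonempty X] (S : ShortComplex X.Modules) (hS : S.ShortExact)
    (n₁ n₂ n₃ : ℕ) (h₁ : FlatMod.IsFinLocFreeOfRank n₁ S.X₁) (h₂ : FlatMod.IsFinLocFreeOfRank n₂ S.X₂)
    (h₃ : FlatMod.IsFinLocFreeOfRank n₃ S.X₃) : n₂ = n₁ + n₃ := by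
  obtain ⟨x⟩ := ‹Nonempty X›
  have f₁ := Groth.Agent.Lib.helper16.FLF.isFinLocFree_of_isFinLocFreeOfRank h₁
  have f₂ := Groth.Agent.Lib.helper16.FLF.isFinLocFree_of_isFinLocFreeOfRank h₂
  have f₃ := Groth.Agent.Lib.helper16.FLF.isFinLocFree_of_isFinLocFreeOfRank h₃
  haveI : S.X₂.IsQuasicoherent := Groth.Agent.Lib.helper16.FLF.isQuasicoherent_of_isFinLocFree _ f₂
  haveI : S.X₃.IsQuasicoherent := Groth.Agent.Lib.helper16.FLF.isQuasicoherent_of_isFinLocFree _ f₃
  obtain ⟨fr₁, fi₁⟩ := Groth.Agent.Lib.helper16.FLF.free_stalk_of_isFinLocFree _ f₁ x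
  obtain ⟨fr₃, fi₃⟩ := Groth.Agent.Lib.helper16.FLF.free_stalk_of_isFinLocFree _ f₃ x
  haveI := hS.mono_f
  haveI := hS.epi_g
  have hinj := stalkAdd_injective_of_mono S.f x
  have hex := stalkAdd_exact S.f S.g S.zero hS.exact x
  have hsurj := stalkAdd_surjective_of_epi S.g x
  have := finrank_add_of_exact (R := X.presheaf.stalk x) (stalkLin S.f x) (stalkLin S.g x) hinj hex hsurj
  rw [Groth.Agent.Lib.helper16.FLF.finrank_stalk_of_isFinLocFreeOfRank _ h₁,
    Groth.Agent.Lib.helper16.FLF.finrank_stalk_of_isFinLocFreeOfRank _ h₂,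
    Groth.Agent.Lib.helper16.FLF.finrank_stalk_of_isFinLocFreeOfRank _ h₃] at this
  exact this

theorem isCoh_of_isFinLocFree {M : X.Modules} (hM : FlatMod.IsFinLocFree M) : Coh.IsCoh M :=
  ⟨Groth.Agent.Lib.helper16.FLF.isQuasicoherent_of_isFinLocFree _ hM,
    Groth.Agent.Lib.helper16.FLF.isFiniteType_of_isFinLocFree _ hM⟩

theorem isCoh_of_isFinLocFreeOfRank {n : ℕ} {M : X.Modules} (hM : FlatMod.IsFinLocFreeOfRank n M) :
    Coh.IsCoh M :=
  isCoh_of_isFinLocFree (Groth.Agent.Lib.helper16.FLF.isFinLocFree_of_isFinLocFreeOfRank hM)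

end Groth.Agent.Lib.Lead.RankAdd
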