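import Mathlib
import Groth.Agent.Lib.Lead.ProperEuler
import Groth.Agent.Lib.Lead.DimOneVanish
import Groth.Agent.Lib.Lead.RankAdd

/-!
# Euler characteristic on proper schemes of dimension ≤ 1 over a field (lead)

For `X` proper over a field `k` with `topologicalKrullDim X ≤ 1`:
* `subsingleton_HH k X hdim F hF n : Subsingleton (HH X F (n + 2))` for quasi-coherent `F`;
* `euler_eq k X hdim F hF : χ(F) = h⁰(F) − h¹(F)`;
* `riemann_roch k X hdim E n hE : h⁰(E) − h¹(E) = deg E + n (h⁰(O) − g)` (Riemann–Roch in the form that is definitional for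
  `Curv2.deg`), and `riemann_roch' ` with `h⁰(O) = 1`;
* `deg_structureModule : deg O_X = 0`, `deg_eq_of_iso`.
-/

set_option autoImplicit false
set_option linter.style.haveILetI false
universe u
open CategoryTheory CategoryTheory.Limits AlgebraicGeometry Opposite TopologicalSpace Module

namespace Groth.Agent.Lib.Lead.CurveEuler

variable (k : Type u) [Field k] (X : Scheme.{u}) [X.Over (Spec (CommRingCat.of k))]
  [IsProper (X ↘ Spec (CommRingCat.of k))]

include k in
lemma isNoetherian : IsNoetherian X := by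
  haveI : IsLocallyNoetherian X :=
    LocallyOfFiniteType.isLocallyNoetherian (X ↘ Spec (CommRingCat.of k))
  haveI : CompactSpace X :=
    QuasiCompact.compactSpace_of_compactSpace (X ↘ Spec (CommRingCat.of k))
  exact {}

include k in
lemma isSeparated : X.IsSeparated := by
  refine ⟨?_⟩
  rw [← terminal.comp_from (X ↘ Spec (CommRingCat.of k))]
  infer_instance

include k in
/-- Grothendieck vanishing on proper schemes of dimension ≤ 1 -/
theorem subsingleton_HH (hdim : topologicalKrullDim X ≤ 1) (F : X.Modules) (hF : Coh.IsQCoh F) (n : ℕ) :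
    Subsingleton (Coh.HH X F (n + 2)) := by
  haveI := isNoetherian k X
  haveI := isSeparated k X
  haveI : F.IsQuasicoherent := hF
  exact Groth.Agent.Lib.Lead.DimOneVanish.subsingleton_HH_of_dim_le_one hdim F n

/-- `χ(F) = h⁰(F) − h¹(F)` on a proper scheme of dimension ≤ 1 -/
theorem euler_eq (hdim : topologicalKrullDim X ≤ 1) (F : X.Modules) (hF : Coh.IsQCoh F) :
    Curv2.euler k X F = (finrank k (Coh.HH X F 0) : ℤ) - (finrank k (Coh.HH X F 1) : ℤ) := by
  rw [Groth.Agent.Lib.Helper18.HH.euler_eq_sum k F 1 (fun i hi => by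
    obtain ⟨m, rfl⟩ : ∃ m, i = m + 2 := ⟨i - 2, by omega⟩
    exact subsingleton_HH k X hdim F hF m)]
  simp [Finset.sum_range_succ]
  ring

/-- Riemann–Roch (the definition of `Curv2.deg` unfolded): `h⁰(E) − h¹(E) = deg E + n (h⁰(O) − g)` -/
theorem riemann_roch (hdim : topologicalKrullDim X ≤ 1) (E : X.Modules) (hE : Coh.IsQCoh E) (n : ℕ) :
    (finrank k (Coh.HH X E 0) : ℤ) - (finrank k (Coh.HH X E 1) : ℤ) =
      Curv2.deg k X E n +
        n * ((finrank k (Coh.HH X (Coh.structureModule X) 0) : ℤ) - (Curv2.genus k X : ℤ)) := by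
  have hO : Coh.IsQCoh (Coh.structureModule X) := inferInstance
  have h1 := euler_eq k X hdim E hE
  have h2 := euler_eq k X hdim (Coh.structureModule X) hO
  unfold Curv2.deg Curv2.genus
  rw [h1, h2]
  ring

/-- Riemann–Roch when `h⁰(O_X) = 1`: `h⁰(E) − h¹(E) = deg E + n (1 − g)` -/
theorem riemann_roch' (hdim : topologicalKrullDim X ≤ 1)
    (h0 : finrank k (Coh.HH X (Coh.structureModule X) 0) = 1)
    (E : X.Modules) (hE : Coh.IsQCoh E) (n : ℕ) :
    (finrank k (Coh.HH X E 0) : ℤ) - (finrank k (Coh.HH X E 1) : ℤ) =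
      Curv2.deg k X E n + n * (1 - (Curv2.genus k X : ℤ)) := by
  rw [riemann_roch k X hdim E hE n, h0]
  simp

omit [IsProper (X ↘ Spec (CommRingCat.of k))] in
theorem deg_structureModule : Curv2.deg k X (Coh.structureModule X) 1 = 0 := by
  unfold Curv2.deg
  simp

omit [IsProper (X ↘ Spec (CommRingCat.of k))] in
theorem euler_eq_of_iso {F G : X.Modules} (e : F ≅ G) : Curv2.euler k X F = Curv2.euler k X G := by
  unfold Curv2.euler
  congr 1
  funext i
  congr 2
  exact LinearEquiv.finrank_eq
    { Groth.Agent.Lib.Helper18.HH.mapOver k e.hom i with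
      invFun := Groth.Agent.Lib.Helper18.HH.mapOver k e.inv i
      left_inv := fun x => by
        change Groth.Agent.Lib.Helper18.HH.map e.inv i (Groth.Agent.Lib.Helper18.HH.map e.hom i x) = x
        rw [← Groth.Agent.Lib.Helper18.HH.map_comp_apply, e.hom_inv_id,
          Groth.Agent.Lib.Helper18.HH.map_id]
        rfl
      right_inv := fun x => by
        change Groth.Agent.Lib.Helper18.HH.map e.hom i (Groth.Agent.Lib.Helper18.HH.map e.inv i x) = x
        rw [← Groth.Agent.Lib.Helper18.HH.map_comp_apply, e.inv_hom_id,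
          Groth.Agent.Lib.Helper18.HH.map_id]
        rfl }

omit [IsProper (X ↘ Spec (CommRingCat.of k))] in
theorem deg_eq_of_iso {F G : X.Modules} (e : F ≅ G) (n : ℕ) : Curv2.deg k X F n = Curv2.deg k X G n := by
  unfold Curv2.deg
  rw [euler_eq_of_iso k X e]

end Groth.Agent.Lib.Lead.CurveEuler
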