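import Groth.Agent.Lib.Helper11.InvHom
import Groth.Agent.Lib.Helper12.TensorPowAdd

/-!
# Non-vanishing loci of nonzero sections on integral schemes (lead)

* `isoLocus_ne_bot`: on an integral scheme a nonzero morphism of invertible modules is an isomorphism
  on a nonempty open.
* `genLocus_ne_bot`: `X_s ≠ ∅` for a nonzero section of an invertible module.
* `isIso_of_isUnit_fn`, `isIso_of_genLocus_eq_basicOpen_unit`.
* `isIso_of_field_of_comp`: if `Γ(X, O)` is a field, a section `s` of an invertible `L` with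
  `X_σ = X_s` for some nonzero endomorphism... (see statements).
-/

set_option autoImplicit false
universe u
open CategoryTheory CategoryTheory.Limits AlgebraicGeometry TopologicalSpace Opposite
open Scheme.Modules
open Groth.Agent.Lib.helper11.IsoLocus Groth.Agent.Lib.helper11.InvMod
  Groth.Agent.Lib.helper11.GenLocus Groth.Agent.Lib.helper11.InvHom

namespace Groth.Agent.Lib.Lead.GenLocusInt

variable {X : Scheme.{u}}

/-- On an integral scheme, a nonzero morphism between invertible modules is an isomorphism on a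
nonempty open. -/
theorem isoLocus_ne_bot [IsIntegral X] {M N : X.Modules} (hM : PicF.IsInvertible M)
    (hN : PicF.IsInvertible N) (φ : M ⟶ N) (hφ : φ ≠ 0) : isoLocus φ ≠ ⊥ := by
  intro h
  apply hφ
  obtain ⟨x⟩ : Nonempty X := inferInstance
  obtain ⟨U₁, hx₁, h₁⟩ := hM x
  obtain ⟨U₂, hx₂, h₂⟩ := hN x
  obtain ⟨eM⟩ : IsTrivOn M (U₁ ⊓ U₂) := IsTrivOn.of_le inf_le_left h₁
  obtain ⟨eN⟩ : IsTrivOn N (U₁ ⊓ U₂) := IsTrivOn.of_le inf_le_right h₂
  have h1 := isoLocus_inf_eq_basicOpen_localFn φ eM eN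
  rw [h, bot_inf_eq] at h1
  have h2 : localFn φ eM eN = 0 := (basicOpen_eq_bot_iff _).1 h1.symm
  have h3 : fn (localEnd φ eM eN) ⊤ = 0 := by
    have hinj : Function.Injective ((U₁ ⊓ U₂).topIso.hom) :=
      (ConcreteCategory.bijective_of_isIso ((U₁ ⊓ U₂).topIso.hom)).1
    apply hinj
    rw [map_zero]
    exact h2
  have h4 : IsZeroOn φ ((U₁ ⊓ U₂).ι ''ᵁ ⊤) := (isZeroOn_image_iff φ eM eN ⊤).2 h3
  rw [(U₁ ⊓ U₂).ι_image_top] at h4
  exact eq_zero_of_isZeroOn hM hN φ (V := U₁ ⊓ U₂) ⟨x, ⟨hx₁, hx₂⟩⟩ h4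

/-- On an integral scheme, `X_s` is nonempty for a nonzero section `s` of an invertible module. -/
theorem genLocus_ne_bot [IsIntegral X] {L : X.Modules} (hL : PicF.IsInvertible L)
    (s : Coh.structureModule X ⟶ L) (hs : s ≠ 0) : CohB1.genLocus L s ≠ ⊥ :=
  isoLocus_ne_bot (isInvertible_structureModule X) hL s hs

/-- If `Γ(X, O)` is a field, an endomorphism of `O` with nonempty `X_σ` is an isomorphism. -/
theorem genLocus_eq_top_of_isField (hfield : IsField (Γ(X, ⊤) : Type u))
    (σ : Coh.structureModule X ⟶ Coh.structureModule X)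
    (hσ : CohB1.genLocus (Coh.structureModule X) σ ≠ ⊥) :
    CohB1.genLocus (Coh.structureModule X) σ = ⊤ := by
  rw [genLocus_structureModule] at hσ ⊢
  have hne : fn σ ⊤ ≠ 0 := by
    intro h0
    apply hσ
    rw [h0]
    exact Scheme.basicOpen_zero X ⊤
  let _ := hfield.toField
  exact Scheme.basicOpen_of_isUnit X (isUnit_iff_ne_zero.2 hne)

end Groth.Agent.Lib.Lead.GenLocusInt
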