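import Mathlib
import Groth.Agent.Lib.Lead.CurveEuler
import Groth.Agent.Lib.Lead.GenLocusInt
import Groth.Agent.Lib.Helper7.CohKer
import Groth.Agent.Lib.Helper20.AcyclicEmb
import Groth.Agent.Lib.Helper18.HHZero

/-!
# Morphisms of invertible modules on integral proper curves (lead)

Let `X` be an integral scheme.
* `res_injective_of_isInvertible`: restriction maps of an invertible module to nonempty opens are injective.
* `mono_of_ne_zero`: a nonzero morphism `φ : N ⟶ L` of invertible modules is a monomorphism.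
* `sections_cokernel_subsingleton`: `coker φ` has no sections on opens inside `isoLocus φ`.

If moreover `X` is proper over a field `k`, of dimension `≤ 1`:
* `isClosed_singleton_of_not_mem`: points outside a nonempty open are closed.
* `subsingleton_HH_cokernel`: `H^{n+1}(X, coker φ) = 0`.
* `deg_sub_deg`: `deg L − deg N = h⁰(coker φ)`; `deg_le`: `deg N ≤ deg L`;
* `isIso_of_deg_eq`: if `deg N = deg L` then `φ` is an isomorphism.
-/

set_option autoImplicit false
set_option linter.style.haveILetI false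
universe u
open CategoryTheory CategoryTheory.Limits AlgebraicGeometry Opposite TopologicalSpace Module
open Groth.Agent.Lib.helper11.IsoLocus

namespace Groth.Agent.Lib.Lead.CurveInv

section general

variable {X : Scheme.{u}}

/-- restriction of an invertible module on an integral scheme to a nonempty open is injective -/
theorem res_eq_zero_of_isInvertible [IsIntegral X] {N : X.Modules} (hN : PicF.IsInvertible N)
    {O W : X.Opens} (hW : (W : Set X).Nonempty) (t : Γ(N, O))
    (ht : N.presheaf.map (homOfLE (inf_le_left : O ⊓ W ≤ O)).op t = 0) : t = 0 := by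
  refine TopCat.Presheaf.section_ext ⟨N.presheaf, N.isSheaf⟩ O _ _ (fun x hx => ?_)
  obtain ⟨U, hxU, ⟨e⟩⟩ := hN x
  let V' : U.toScheme.Opens := U.ι ⁻¹ᵁ O
  let V'' : U.toScheme.Opens := U.ι ⁻¹ᵁ (O ⊓ W)
  have hle : U.ι ''ᵁ V' ≤ O := U.ι.image_preimage_le O
  have hle'' : V'' ≤ V' := fun y hy => hy.1
  have hle2 : U.ι ''ᵁ V'' ≤ O ⊓ W := U.ι.image_preimage_le (O ⊓ W)
  let tV : Γ(N, U.ι ''ᵁ V') := N.presheaf.map (homOfLE hle).op t
  let f : Γ(Coh.structureModule (↑U : Scheme.{u}), V') := (e.hom.app V').hom tV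
  -- `f` restricted to `V''` vanishes
  have hres : (Coh.structureModule (↑U : Scheme.{u})).presheaf.map (homOfLE hle'').op f = 0 := by
    have nat := congrFun (congrArg (fun g => (AddCommGrpCat.Hom.hom g : _ → _))
      (e.hom.mapPresheaf.naturality (homOfLE hle'').op)) tV
    change (Coh.structureModule (↑U : Scheme.{u})).presheaf.map (homOfLE hle'').op
      ((e.hom.app V').hom tV) = 0
    have nat' : (Coh.structureModule (↑U : Scheme.{u})).presheaf.map (homOfLE hle'').op
        ((e.hom.app V').hom tV) =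
        (e.hom.app V'').hom ((N.restrict U.ι).presheaf.map (homOfLE hle'').op tV) := nat.symm
    rw [nat']
    have h0 : (N.restrict U.ι).presheaf.map (homOfLE hle'').op tV = 0 := by
      change N.presheaf.map (U.ι.opensFunctor.map (homOfLE hle'')).op
        (N.presheaf.map (homOfLE hle).op t) = 0
      have h1 : N.presheaf.map (U.ι.opensFunctor.map (homOfLE hle'')).op
          (N.presheaf.map (homOfLE hle).op t) =
          N.presheaf.map (homOfLE hle2).op
            (N.presheaf.map (homOfLE (inf_le_left : O ⊓ W ≤ O)).op t) := by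
        rw [← ConcreteCategory.comp_apply, ← ConcreteCategory.comp_apply, ← Functor.map_comp,
          ← Functor.map_comp]
        rfl
      rw [h1, ht, map_zero]
    rw [h0, map_zero]
  -- hence `f = 0`
  haveI : Nonempty U := ⟨⟨x, hxU⟩⟩
  have hUint : IsIntegral U.toScheme := isIntegral_of_isOpenImmersion U.ι
  have hne : Nonempty V'' := by
    have h1 : ((O ⊓ U ⊓ W : X.Opens) : Set X).Nonempty :=
      nonempty_preirreducible_inter (O ⊓ U).isOpen W.isOpen ⟨x, hx, hxU⟩ hW
    obtain ⟨y, ⟨hyO, hyU⟩, hyW⟩ := h1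
    exact ⟨⟨⟨y, hyU⟩, hyO, hyW⟩⟩
  have hf : f = 0 := by
    have hinj := map_injective_of_isIntegral U.toScheme (homOfLE hle'')
    have h3 : (ConcreteCategory.hom ((↑U : Scheme.{u}).presheaf.map (homOfLE hle'').op))
        (show Γ((↑U : Scheme.{u}), V') from f) =
        (ConcreteCategory.hom ((↑U : Scheme.{u}).presheaf.map (homOfLE hle'').op)) 0 := by
      rw [map_zero]; exact hres
    exact hinj h3
  have htV : tV = 0 := by
    have h1 : (e.inv.app V').hom f = tV := by
      change (e.inv.app V').hom ((e.hom.app V').hom tV) = tV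
      have h4 : e.hom.app V' ≫ e.inv.app V' = 𝟙 _ := by
        rw [← Scheme.Modules.Hom.comp_app, e.hom_inv_id]; rfl
      have h5 := congrArg (fun g : Γ(N.restrict U.ι, V') ⟶ Γ(N.restrict U.ι, V') => g.hom tV) h4
      exact h5
    rw [← h1, hf]
    exact map_zero _
  have hx' : x ∈ U.ι ''ᵁ V' := ⟨⟨x, hxU⟩, hx, rfl⟩
  have h2 := TopCat.Presheaf.germ_res_apply N.presheaf (homOfLE hle) x hx' t
  rw [← h2]
  change N.presheaf.germ _ x hx' tV = _
  rw [htV, map_zero, map_zero]

/-- sections of the kernel vanish ⇒ mono; a nonzero morphism of invertible modules on an integral scheme is mono -/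
theorem mono_of_ne_zero [IsIntegral X] {N L : X.Modules} (hN : PicF.IsInvertible N)
    (hL : PicF.IsInvertible L) (φ : N ⟶ L) (hφ : φ ≠ 0) : Mono φ := by
  have hW : isoLocus φ ≠ ⊥ := Groth.Agent.Lib.Lead.GenLocusInt.isoLocus_ne_bot hN hL φ hφ
  have hWne : ((isoLocus φ : X.Opens) : Set X).Nonempty := by
    by_contra h
    apply hW
    ext x
    simp only [Opens.coe_bot, Set.mem_empty_iff_false, iff_false]
    exact fun hx => h ⟨x, hx⟩
  apply Groth.Agent.Lib.Helper20.AcyclicEmb.mono_of_injective_app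
  intro O
  rw [injective_iff_map_eq_zero]
  intro t ht
  apply res_eq_zero_of_isInvertible hN hWne t
  -- on `O ⊓ W` the map `φ` is an isomorphism
  haveI : IsIso (φ.app (O ⊓ isoLocus φ)) := isIso_app_of_le_isoLocus φ inf_le_right
  have hinj : Function.Injective (φ.app (O ⊓ isoLocus φ)) := by
    have : Mono (φ.app (O ⊓ isoLocus φ)) := inferInstance
    exact (AddCommGrpCat.mono_iff_injective _).mp this
  apply hinj
  rw [map_zero]
  have nat := congrFun (congrArg (fun g => (AddCommGrpCat.Hom.hom g : _ → _))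
    (φ.mapPresheaf.naturality (homOfLE (inf_le_left : O ⊓ isoLocus φ ≤ O)).op)) t
  have nat' : (φ.app (O ⊓ isoLocus φ)).hom
      (N.presheaf.map (homOfLE (inf_le_left : O ⊓ isoLocus φ ≤ O)).op t) =
      L.presheaf.map (homOfLE (inf_le_left : O ⊓ isoLocus φ ≤ O)).op ((φ.app O).hom t) := nat
  exact nat'.trans (by rw [ht, map_zero])


/-- if `η` restricts to an isomorphism on `U`, the cokernel of `η` has no sections on opens inside `U` -/
theorem sections_cokernel_subsingleton_of_isIso_restrict {M N : X.Modules} (η : M ⟶ N) (U : X.Opens)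
    (h : IsIso ((Scheme.Modules.restrictFunctor U.ι).map η)) (O : X.Opens) (hO : O ≤ U) :
    Subsingleton Γ(cokernel η, O) := by
  let L := Scheme.Modules.restrictFunctor U.ι
  have hLC : IsZero (L.obj (cokernel η)) := by
    haveI : PreservesColimitsOfSize.{0, 0} L :=
      (Scheme.Modules.restrictAdjunction U.ι).leftAdjoint_preservesColimits
    have e : L.obj (cokernel η) ≅ cokernel (L.map η) := PreservesCokernel.iso L η
    exact IsZero.of_iso (isZero_cokernel_of_epi (L.map η)) e
  have h1 : Subsingleton Γ(L.obj (cokernel η), U.ι ⁻¹ᵁ O) :=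
    Groth.Agent.Lib.Lead.DimOneVanish.subsingleton_sections_of_isZero hLC _
  have hle : U.ι ''ᵁ (U.ι ⁻¹ᵁ O) ≤ O := U.ι.image_preimage_le O
  have hge : O ≤ U.ι ''ᵁ (U.ι ⁻¹ᵁ O) := fun x hx => ⟨⟨x, hO hx⟩, hx, rfl⟩
  haveI : Subsingleton ↑((cokernel η).presheaf.obj (op (U.ι ''ᵁ U.ι ⁻¹ᵁ O))) := h1
  exact (Groth.Agent.Lib.Lead.DimOneVanish.res_injective_of_le_of_ge (cokernel η) hle hge).subsingleton

theorem sections_cokernel_subsingleton {N L : X.Modules} (φ : N ⟶ L) (O : X.Opens)
    (hO : O ≤ isoLocus φ) : Subsingleton Γ(cokernel φ, O) :=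
  sections_cokernel_subsingleton_of_isIso_restrict φ (isoLocus φ) (isIso_restrict_isoLocus φ) O hO

/-- in an irreducible scheme of dimension `≤ 1`, points outside a nonempty open are closed -/
theorem isClosed_singleton_of_not_mem [IrreducibleSpace X] (hdim : topologicalKrullDim X ≤ 1)
    (W : X.Opens) (hW : (W : Set X).Nonempty) (x : X) (hx : x ∉ W) : IsClosed ({x} : Set X) := by
  apply Groth.Agent.Lib.Lead.DimOneAffine.isClosed_singleton_of_dim_le_one X hdim x
  intro hgen
  unfold Groth.Agent.Lib.Lead.DimOneAffine.IsGen at hgen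
  rw [irreducibleComponents_eq_singleton] at hgen
  have hcl : closure ({x} : Set X) = Set.univ := hgen
  obtain ⟨y, hy⟩ := hW
  have hy' : y ∈ closure ({x} : Set X) := by rw [hcl]; trivial
  have := mem_closure_iff.mp hy' W W.isOpen hy
  obtain ⟨z, hzW, hzx⟩ := this
  rw [Set.mem_singleton_iff] at hzx
  exact hx (hzx ▸ hzW)

end general

section proper

variable (k : Type u) [Field k] (X : Scheme.{u}) [X.Over (Spec (CommRingCat.of k))]
  [IsProper (X ↘ Spec (CommRingCat.of k))] [IsIntegral X]

omit [X.Over (Spec (CommRingCat.of k))] [IsProper (X ↘ Spec (CommRingCat.of k))] in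
theorem isoLocus_nonempty {N L : X.Modules} (hN : PicF.IsInvertible N)
    (hL : PicF.IsInvertible L) (φ : N ⟶ L) (hφ : φ ≠ 0) : ((isoLocus φ : X.Opens) : Set X).Nonempty := by
  have hW : isoLocus φ ≠ ⊥ := Groth.Agent.Lib.Lead.GenLocusInt.isoLocus_ne_bot hN hL φ hφ
  by_contra h
  apply hW
  ext x
  simp only [Opens.coe_bot, Set.mem_empty_iff_false, iff_false]
  exact fun hx => h ⟨x, hx⟩

omit [X.Over (Spec (CommRingCat.of k))] [IsProper (X ↘ Spec (CommRingCat.of k))] [IsIntegral X] in
theorem isCoh_of_isInvertible {L : X.Modules} (hL : PicF.IsInvertible L) : Coh.IsCoh L :=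
  Groth.Agent.Lib.Lead.RankAdd.isCoh_of_isFinLocFreeOfRank
    ((Groth.Agent.Lib.helper16.FLF.isInvertible_iff_isFinLocFreeOfRank_one L).mp hL)

include k in
theorem subsingleton_HH_cokernel (hdim : topologicalKrullDim X ≤ 1) {N L : X.Modules}
    (hN : PicF.IsInvertible N) (hL : PicF.IsInvertible L) (φ : N ⟶ L) (hφ : φ ≠ 0) (n : ℕ) :
    Subsingleton (Coh.HH X (cokernel φ) (n + 1)) := by
  haveI := Groth.Agent.Lib.Lead.CurveEuler.isNoetherian k X
  exact Groth.Agent.Lib.Lead.DimOneVanish.subsingleton_HH_of_sections_vanish (cokernel φ) (isoLocus φ)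
    (fun x hx => isClosed_singleton_of_not_mem hdim _ (isoLocus_nonempty X hN hL φ hφ) x hx)
    (fun O hO => sections_cokernel_subsingleton φ O hO) n

omit [X.Over (Spec (CommRingCat.of k))] [IsProper (X ↘ Spec (CommRingCat.of k))] in
/-- the short exact sequence `0 → N → L → coker φ → 0` -/
theorem shortExact_cokernel {N L : X.Modules} (hN : PicF.IsInvertible N)
    (hL : PicF.IsInvertible L) (φ : N ⟶ L) (hφ : φ ≠ 0) :
    (ShortComplex.mk φ (cokernel.π φ) (cokernel.condition φ)).ShortExact :=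
  { exact := ShortComplex.exact_cokernel φ
    mono_f := mono_of_ne_zero hN hL φ hφ
    epi_g := inferInstanceAs (Epi (cokernel.π φ)) }

/-- `χ(coker φ) = h⁰(coker φ)` -/
theorem euler_cokernel (hdim : topologicalKrullDim X ≤ 1) {N L : X.Modules}
    (hN : PicF.IsInvertible N) (hL : PicF.IsInvertible L) (φ : N ⟶ L) (hφ : φ ≠ 0) :
    Curv2.euler k X (cokernel φ) = (finrank k (Coh.HH X (cokernel φ) 0) : ℤ) := by
  rw [Groth.Agent.Lib.Helper18.HH.euler_eq_sum k (cokernel φ) 0 (fun i hi => by
    obtain ⟨m, rfl⟩ : ∃ m, i = m + 1 := ⟨i - 1, by omega⟩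
    exact subsingleton_HH_cokernel k X hdim hN hL φ hφ m)]
  simp

/-- `deg L − deg N = h⁰(coker φ)` -/
theorem deg_sub_deg (hdim : topologicalKrullDim X ≤ 1) {N L : X.Modules}
    (hN : PicF.IsInvertible N) (hL : PicF.IsInvertible L) (φ : N ⟶ L) (hφ : φ ≠ 0) :
    Curv2.deg k X L 1 - Curv2.deg k X N 1 = (finrank k (Coh.HH X (cokernel φ) 0) : ℤ) := by
  have hS := shortExact_cokernel X hN hL φ hφ
  have hNc := isCoh_of_isInvertible X hN
  have hLc := isCoh_of_isInvertible X hL
  have hQc : Coh.IsCoh (cokernel φ) := Groth.Agent.Lib.helper7.CohKer.isCoh_cokernel hNc hLc φ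
  have h1 := Groth.Agent.Lib.Lead.ProperEuler.euler_additive k hS hNc hQc
  have h2 := euler_cokernel k X hdim hN hL φ hφ
  simp only at h1
  unfold Curv2.deg
  rw [h1, h2]
  ring

theorem deg_le (hdim : topologicalKrullDim X ≤ 1) {N L : X.Modules}
    (hN : PicF.IsInvertible N) (hL : PicF.IsInvertible L) (φ : N ⟶ L) (hφ : φ ≠ 0) :
    Curv2.deg k X N 1 ≤ Curv2.deg k X L 1 := by
  have := deg_sub_deg k X hdim hN hL φ hφ
  have h0 : (0 : ℤ) ≤ (finrank k (Coh.HH X (cokernel φ) 0) : ℤ) := Int.natCast_nonneg _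
  linarith

/-- equality of degrees forces an isomorphism -/
theorem isIso_of_deg_eq (hdim : topologicalKrullDim X ≤ 1) {N L : X.Modules}
    (hN : PicF.IsInvertible N) (hL : PicF.IsInvertible L) (φ : N ⟶ L) (hφ : φ ≠ 0)
    (hdeg : Curv2.deg k X N 1 = Curv2.deg k X L 1) : IsIso φ := by
  have h1 := deg_sub_deg k X hdim hN hL φ hφ
  rw [hdeg, sub_self] at h1
  have h2 : finrank k (Coh.HH X (cokernel φ) 0) = 0 := by exact_mod_cast h1.symm
  have hNc := isCoh_of_isInvertible X hN
  have hLc := isCoh_of_isInvertible X hL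
  have hQc : Coh.IsCoh (cokernel φ) := Groth.Agent.Lib.helper7.CohKer.isCoh_cokernel hNc hLc φ
  haveI : Module.Finite k (Coh.HH X (cokernel φ) 0) :=
    Groth.Agent.Lib.Lead.ProperEuler.finite_HH k X (cokernel φ) hQc 0
  have h3 : Subsingleton (Coh.HH X (cokernel φ) 0) := Module.finrank_zero_iff.mp h2
  have h4 : Subsingleton Γ(cokernel φ, ⊤) :=
    (Groth.Agent.Lib.Helper18.HH.equiv₀ (cokernel φ)).symm.toEquiv.subsingleton
  haveI := Groth.Agent.Lib.Lead.CurveEuler.isNoetherian k X
  have hz : IsZero (cokernel φ) :=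
    Groth.Agent.Lib.Lead.DimOneVanish.isZero_of_sections_vanish (cokernel φ) (isoLocus φ)
      (fun x hx => isClosed_singleton_of_not_mem hdim _ (isoLocus_nonempty X hN hL φ hφ) x hx)
      (fun O hO => sections_cokernel_subsingleton φ O hO) h4
  haveI : Mono φ := mono_of_ne_zero hN hL φ hφ
  haveI : Epi φ := Preadditive.epi_of_isZero_cokernel φ hz
  exact isIso_of_mono_of_epi φ

end proper

end Groth.Agent.Lib.Lead.CurveInv
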