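import Mathlib
import Groth.Agent.Lib.Lead.CurveInv
import Groth.Agent.Lib.Helper20.SplitH1

/-!
# Sections of invertible modules on integral proper curves (lead)

* `exists_hom_ne_zero_of_finrank_pos`: `0 < h⁰(M)` gives a nonzero morphism `O_X ⟶ M`.
* `subsingleton_H1_of_section`: if `H¹(O_X) = 0` and `L` (invertible on an integral proper curve) has a nonzero section,
  then `H¹(L) = 0`.
* `finrank_H0_le`: `h⁰(L) ≤ h⁰(O) + deg L` if `L` has a nonzero section.
-/

set_option autoImplicit false
set_option linter.style.haveILetI false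
universe u
open CategoryTheory CategoryTheory.Limits AlgebraicGeometry Opposite TopologicalSpace Module

namespace Groth.Agent.Lib.Lead.CurveSec

section general

variable {X : Scheme.{u}}

theorem exists_hom_ne_zero_of_nontrivial (M : X.Modules) (h : Nontrivial (Coh.HH X M 0)) :
    ∃ s : Coh.structureModule X ⟶ M, s ≠ 0 := by
  obtain ⟨x, hx⟩ := exists_ne (0 : Coh.HH X M 0)
  let t : M.val.obj (op ⊤) := Groth.Agent.Lib.Helper18.HH.equiv₀ M x
  have ht : t ≠ 0 := by
    intro h0
    apply hx
    apply (Groth.Agent.Lib.Helper18.HH.equiv₀ M).injective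
    rw [map_zero]; exact h0
  refine ⟨Groth.Agent.Lib.Helper20.SplitH1.homOfGlobal M t, fun hs => ht ?_⟩
  have h1 := Groth.Agent.Lib.Helper20.SplitH1.homOfGlobal_top M t
  rw [hs] at h1
  exact h1.symm.trans rfl

end general

section proper

variable (k : Type u) [Field k] (X : Scheme.{u}) [X.Over (Spec (CommRingCat.of k))]
  [IsProper (X ↘ Spec (CommRingCat.of k))] [IsIntegral X]

omit [IsProper (X ↘ Spec (CommRingCat.of k))] [IsIntegral X] in
theorem exists_hom_ne_zero_of_finrank_pos (M : X.Modules) (h : 0 < finrank k (Coh.HH X M 0)) :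
    ∃ s : Coh.structureModule X ⟶ M, s ≠ 0 := by
  apply exists_hom_ne_zero_of_nontrivial
  by_contra hn
  rw [not_nontrivial_iff_subsingleton] at hn
  rw [finrank_zero_of_subsingleton] at h
  exact lt_irrefl _ h

include k in
open Groth.Agent.Lib.Lead.CurveInv Groth.Agent.Lib.helper11.InvMod in
/-- `H¹(O) = 0` and a nonzero section of `L` ⇒ `H¹(L) = 0` -/
theorem subsingleton_H1_of_section (hdim : topologicalKrullDim X ≤ 1)
    (h1 : Subsingleton (Coh.HH X (Coh.structureModule X) 1))
    {L : X.Modules} (hL : PicF.IsInvertible L) (s : Coh.structureModule X ⟶ L) (hs : s ≠ 0) :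
    Subsingleton (Coh.HH X L 1) := by
  have hS := shortExact_cokernel X (isInvertible_structureModule X) hL s hs
  exact Groth.Agent.Lib.Helper18.HH.subsingleton_X₂ hS 1 h1
    (subsingleton_HH_cokernel k X hdim (isInvertible_structureModule X) hL s hs 0)

open Groth.Agent.Lib.Lead.CurveInv Groth.Agent.Lib.helper11.InvMod in
/-- `h⁰(L) ≤ h⁰(O) + deg L` for `L` with a nonzero section -/
theorem finrank_H0_le (hdim : topologicalKrullDim X ≤ 1)
    {L : X.Modules} (hL : PicF.IsInvertible L) (s : Coh.structureModule X ⟶ L) (hs : s ≠ 0) :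
    (finrank k (Coh.HH X L 0) : ℤ) ≤
      (finrank k (Coh.HH X (Coh.structureModule X) 0) : ℤ) + Curv2.deg k X L 1 := by
  have hO := isInvertible_structureModule X
  have hS := shortExact_cokernel X hO hL s hs
  have hd := deg_sub_deg k X hdim hO hL s hs
  rw [Groth.Agent.Lib.Lead.CurveEuler.deg_structureModule k X, sub_zero] at hd
  rw [hd]
  have hOc := isCoh_of_isInvertible X hO
  have hLc := isCoh_of_isInvertible X hL
  have hQc : Coh.IsCoh (cokernel s) := Groth.Agent.Lib.helper7.CohKer.isCoh_cokernel hOc hLc s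
  haveI := Groth.Agent.Lib.Lead.ProperEuler.finite_HH k X _ hOc 0
  haveI := Groth.Agent.Lib.Lead.ProperEuler.finite_HH k X _ hLc 0
  haveI := Groth.Agent.Lib.Lead.ProperEuler.finite_HH k X _ hQc 0
  -- exactness `H⁰(O) → H⁰(L) → H⁰(Q)`
  have hex := Groth.Agent.Lib.Helper18.HH.exactOver₂ hS k 0
  have hle : finrank k (Coh.HH X L 0) ≤
      finrank k (Coh.HH X (Coh.structureModule X) 0) + finrank k (Coh.HH X (cokernel s) 0) := by
    let f := Groth.Agent.Lib.Helper18.HH.mapOver k s 0
    let g := Groth.Agent.Lib.Helper18.HH.mapOver k (cokernel.π s) 0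
    have h1 := LinearMap.finrank_range_add_finrank_ker g
    have h2 : LinearMap.ker g = LinearMap.range f := (LinearMap.exact_iff.mp hex)
    have h3 : finrank k (LinearMap.range f) ≤ finrank k (Coh.HH X (Coh.structureModule X) 0) :=
      LinearMap.finrank_range_le f
    have h4 : finrank k (LinearMap.range g) ≤ finrank k (Coh.HH X (cokernel s) 0) :=
      Submodule.finrank_le _
    rw [h2] at h1
    omega
  exact_mod_cast hle

end proper

end Groth.Agent.Lib.Lead.CurveSec
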