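import Mathlib
import Groth.Agent.S0469
import Groth.Prelude.Def_Coh

/-!
# Grothendieck vanishing for schemes (lead; wrapper around helper27's S0469 = Scheiderer's theorem for spectral spaces)

* `spectralSpace_of_qcqs`: a quasi-compact quasi-separated scheme is a spectral space.
* `subsingleton_HH_of_dim_le`: `X` qcqs scheme with `topologicalKrullDim X ≤ d`, `F` any `O_X`-module, `p > d`
  ⇒ `H^p(X, F) = 0`.
* `subsingleton_H_of_dim_le`: same for abelian sheaves.
-/

set_option autoImplicit false
universe u
open CategoryTheory AlgebraicGeometry TopologicalSpace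

namespace Groth.Agent.Lib.Lead.GrothVanish

theorem spectralSpace_of_qcqs (X : Scheme.{u}) [CompactSpace X] [QuasiSeparatedSpace X] :
    SpectralSpace X :=
  { (inferInstance : T0Space X), (inferInstance : CompactSpace X), (inferInstance : QuasiSober X),
    (inferInstance : QuasiSeparatedSpace X) with
    isTopologicalBasis := by
      have hB := X.isBasis_affineOpens
      rw [Opens.isBasis_iff_nbhd] at hB
      refine isTopologicalBasis_of_isOpen_of_nhds (fun U hU => hU.1) ?_
      intro x U hxU hU
      obtain ⟨V, hV, hxV, hVU⟩ := @hB ⟨U, hU⟩ x hxU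
      exact ⟨V, ⟨V.isOpen, hV.isCompact⟩, hxV, hVU⟩ }

/-- Grothendieck vanishing for abelian sheaves on a qcqs scheme -/
theorem subsingleton_H_of_dim_le (X : Scheme.{u}) [CompactSpace X] [QuasiSeparatedSpace X] (d : ℕ)
    (hd : topologicalKrullDim X ≤ d) (F : CohTop.Ab X.toTopCat) (p : ℕ) (hp : d < p) :
    Subsingleton (CohTop.H F p) := by
  haveI : SpectralSpace X.toTopCat := spectralSpace_of_qcqs X
  exact Groth.Agent.S0469.result (X := X.toTopCat) d hd F p hp

/-- Grothendieck vanishing for `O_X`-modules on a qcqs scheme -/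
theorem subsingleton_HH_of_dim_le (X : Scheme.{u}) [CompactSpace X] [QuasiSeparatedSpace X] (d : ℕ)
    (hd : topologicalKrullDim X ≤ d) (F : X.Modules) (p : ℕ) (hp : d < p) :
    Subsingleton (Coh.HH X F p) :=
  subsingleton_H_of_dim_le X d hd (Coh.toAb F) p hp

end Groth.Agent.Lib.Lead.GrothVanish
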