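import Mathlib
import Groth.Agent.Lib.Lead.GrothVanish
import Groth.Agent.Lib.Lead.ProperEuler

/-!
# Cohomological dimension of proper schemes over a field (lead)

`X` proper over a field `k`, `topologicalKrullDim X ≤ d`:
* `subsingleton_HH k X d hd F p hp : Subsingleton (HH X F p)` for `p > d` (any `O_X`-module `F`);
* `euler_eq_sum k X d hd F : χ(F) = Σ_{i ≤ d} (-1)^i h^i(F)`;
* `euler_eq_surface : χ(F) = h⁰ − h¹ + h²` for `d = 2`.
-/

set_option autoImplicit false
universe u
open CategoryTheory CategoryTheory.Limits AlgebraicGeometry Module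

namespace Groth.Agent.Lib.Lead.ProperDim

variable (k : Type u) [Field k] (X : Scheme.{u}) [X.Over (Spec (CommRingCat.of k))]
  [IsProper (X ↘ Spec (CommRingCat.of k))]

include k in
theorem subsingleton_HH (d : ℕ) (hd : topologicalKrullDim X ≤ d) (F : X.Modules) (p : ℕ) (hp : d < p) :
    Subsingleton (Coh.HH X F p) := by
  have := Groth.Agent.Lib.Lead.ProperEuler.compactSpace k X
  have := Groth.Agent.Lib.Lead.ProperEuler.quasiSeparatedSpace k X
  exact Groth.Agent.Lib.Lead.GrothVanish.subsingleton_HH_of_dim_le X d hd F p hp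

theorem euler_eq_sum (d : ℕ) (hd : topologicalKrullDim X ≤ d) (F : X.Modules) :
    Curv2.euler k X F =
      ∑ i ∈ Finset.range (d + 1), (-1 : ℤ) ^ i * (finrank k (Coh.HH X F i) : ℤ) :=
  Groth.Agent.Lib.Helper18.HH.euler_eq_sum k F d (fun i hi => subsingleton_HH k X d hd F i hi)

theorem euler_eq_surface (hd : topologicalKrullDim X ≤ 2) (F : X.Modules) :
    Curv2.euler k X F = (finrank k (Coh.HH X F 0) : ℤ) - (finrank k (Coh.HH X F 1) : ℤ) +
      (finrank k (Coh.HH X F 2) : ℤ) := by
  rw [euler_eq_sum k X 2 (by exact_mod_cast hd) F]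
  simp [Finset.sum_range_succ]
  ring

end Groth.Agent.Lib.Lead.ProperDim
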