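import Mathlib

/-!
# Grothendieck existence, part 1 (lead): Artin–Rees consequences for `Hom` modules

Pure commutative algebra over a Noetherian ring `R` with an ideal `J`, `P`, `Q` finite `R`-modules.

* `ar_sub` : Artin–Rees in the form `J^(n+c) • ⊤ ⊓ N ≤ J^n • N` (as submodules of `M`).
* `hom_mem_pow_smul_top` (K_alg): a linear map `η : P → Q` with values in `J^(n+c) Q` lies in
  `J^n • Hom(P, Q)`.
* `exists_hom_lift` (C_alg): a linear map `P → Q / J^(n+c) Q` can be lifted to `P → Q` modulo `J^n`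
  (stated for arbitrary models `π : Q → T`, `π' : Q → T'` of the two quotients).
-/

set_option autoImplicit false
universe u v w

namespace Groth.Agent.Lib.Lead.GE

open Submodule

section AR

variable {R : Type u} [CommRing R] [IsNoetherianRing R] (J : Ideal R)
  {M : Type v} [AddCommGroup M] [Module R M] [Module.Finite R M]

/-- Artin–Rees: there is `c` with `J^(n+c) M ⊓ N ≤ J^n N` for all `n`. -/
theorem ar_sub (N : Submodule R M) :
    ∃ c : ℕ, ∀ n : ℕ, (J ^ (n + c) • (⊤ : Submodule R M)) ⊓ N ≤ J ^ n • N := by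
  obtain ⟨k, hk⟩ := Ideal.exists_pow_inf_eq_pow_smul J N
  refine ⟨k, fun n => ?_⟩
  rw [hk (n + k) (Nat.le_add_left k n), Nat.add_sub_cancel]
  exact Submodule.smul_mono (le_refl _) inf_le_right

end AR

section Hom

variable {R : Type u} [CommRing R] (J : Ideal R)
  {P : Type v} {Q : Type w} [AddCommGroup P] [Module R P] [AddCommGroup Q] [Module R Q]

/-- a family with all coordinates in `𝔞 Q` lies in `𝔞 (ι → Q)` (finite `ι`). -/
theorem pi_mem_smul_top {ι : Type*} [Finite ι] (𝔞 : Ideal R) (x : ι → Q)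
    (hx : ∀ i, x i ∈ 𝔞 • (⊤ : Submodule R Q)) : x ∈ 𝔞 • (⊤ : Submodule R (ι → Q)) := by
  classical
  haveI := Fintype.ofFinite ι
  have e : x = ∑ i, LinearMap.single R (fun _ : ι => Q) i (x i) := by
    ext j
    simp [Finset.sum_apply, Pi.single_apply]
  rw [e]
  refine Submodule.sum_mem _ (fun i _ => ?_)
  have h1 : LinearMap.single R (fun _ : ι => Q) i (x i) ∈
      Submodule.map (LinearMap.single R (fun _ : ι => Q) i) (𝔞 • (⊤ : Submodule R Q)) :=
    ⟨x i, hx i, rfl⟩
  rw [Submodule.map_smul''] at h1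
  exact Submodule.smul_mono (le_refl _) le_top h1

/-- a linear map in `𝔞 • Hom(P, Q)` has values in `𝔞 Q`. -/
theorem apply_mem_smul_top (𝔞 : Ideal R) (η : P →ₗ[R] Q)
    (hη : η ∈ 𝔞 • (⊤ : Submodule R (P →ₗ[R] Q))) (p : P) : η p ∈ 𝔞 • (⊤ : Submodule R Q) := by
  refine Submodule.smul_induction_on hη ?_ ?_
  · intro r hr ζ _
    rw [LinearMap.smul_apply]
    exact Submodule.smul_mem_smul hr mem_top
  · intro a b ha hb
    rw [LinearMap.add_apply]
    exact add_mem ha hb

variable [IsNoetherianRing R] [Module.Finite R P] [Module.Finite R Q]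

/-- evaluation at a finite generating family embeds `Hom(P, Q)` into a finite power of `Q`. -/
theorem exists_ev_injective :
    ∃ (b : ℕ) (ev : (P →ₗ[R] Q) →ₗ[R] (Fin b → Q)), Function.Injective ev ∧
      ∀ (𝔞 : Ideal R) (η : P →ₗ[R] Q), (∀ p, η p ∈ 𝔞 • (⊤ : Submodule R Q)) →
        ev η ∈ 𝔞 • (⊤ : Submodule R (Fin b → Q)) := by
  obtain ⟨b, σ, hσ⟩ := Module.Finite.exists_fin' R P
  let g : Fin b → P := fun i => σ (Pi.single i 1)
  let ev : (P →ₗ[R] Q) →ₗ[R] (Fin b → Q) := LinearMap.pi (fun i => LinearMap.applyₗ (g i))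
  refine ⟨b, ev, ?_, ?_⟩
  · intro η η' h
    have h2 : η.comp σ = η'.comp σ := by
      apply LinearMap.pi_ext'
      intro i
      ext
      have := congrFun h i
      simpa [ev, g] using this
    ext p
    obtain ⟨x, rfl⟩ := hσ p
    exact congrArg (fun f => f x) h2
  · intro 𝔞 η hη
    exact pi_mem_smul_top 𝔞 _ (fun i => hη (g i))

instance finite_hom : Module.Finite R (P →ₗ[R] Q) := by
  obtain ⟨b, ev, hev, -⟩ := exists_ev_injective (R := R) (P := P) (Q := Q)
  haveI : IsNoetherian R (P →ₗ[R] Q) := isNoetherian_of_injective ev hev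
  infer_instance

/-- (K_alg) a linear map with values in `J^(n+c) Q` lies in `J^n Hom(P, Q)`. -/
theorem hom_mem_pow_smul_top :
    ∃ c : ℕ, ∀ (n : ℕ) (η : P →ₗ[R] Q), (∀ p, η p ∈ J ^ (n + c) • (⊤ : Submodule R Q)) →
      η ∈ J ^ n • (⊤ : Submodule R (P →ₗ[R] Q)) := by
  obtain ⟨b, ev, hev, hev'⟩ := exists_ev_injective (R := R) (P := P) (Q := Q)
  obtain ⟨c, hc⟩ := ar_sub J (LinearMap.range ev)
  refine ⟨c, fun n η hη => ?_⟩
  have h1 : ev η ∈ (J ^ (n + c) • (⊤ : Submodule R (Fin b → Q))) ⊓ LinearMap.range ev :=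
    ⟨hev' _ η hη, ⟨η, rfl⟩⟩
  have h2 := hc n h1
  rw [LinearMap.range_eq_map, ← Submodule.map_smul''] at h2
  obtain ⟨η', hη', e⟩ := h2
  rwa [← hev e]

/-- (C_alg) lifting linear maps modulo powers of `J`, with a uniform shift. -/
theorem exists_hom_lift :
    ∃ c : ℕ, ∀ (n : ℕ) {T : Type*} {T' : Type*} [AddCommGroup T] [Module R T] [AddCommGroup T']
      [Module R T'] (π : Q →ₗ[R] T) (π' : Q →ₗ[R] T') (t : T →ₗ[R] T')
      (_ : Function.Surjective π) (_ : LinearMap.ker π ≤ J ^ (n + c) • (⊤ : Submodule R Q))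
      (_ : t.comp π = π') (_ : J ^ n • (⊤ : Submodule R Q) ≤ LinearMap.ker π')
      (η' : P →ₗ[R] T), ∃ η : P →ₗ[R] Q, π'.comp η = t.comp η' := by
  obtain ⟨b, σ, hσ⟩ := Module.Finite.exists_fin' R P
  let K : Submodule R (Fin b → R) := LinearMap.ker σ
  obtain ⟨c₁, hc₁⟩ := hom_mem_pow_smul_top J (P := K) (Q := Q)
  let ρ : ((Fin b → R) →ₗ[R] Q) →ₗ[R] (K →ₗ[R] Q) := LinearMap.lcomp R Q K.subtype
  obtain ⟨c₂, hc₂⟩ := ar_sub J (LinearMap.range ρ)
  refine ⟨c₂ + c₁, ?_⟩
  intro n T T' _ _ _ _ π π' t hπ hker ht hker' η'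
  -- lift the values on the basis
  choose q hq using fun i : Fin b => hπ (η' (σ (Pi.single i 1)))
  let g : (Fin b → R) →ₗ[R] Q := Fintype.linearCombination R q
  have hg : π.comp g = η'.comp σ := by
    apply LinearMap.pi_ext'
    intro i
    ext
    simp [g, hq, Fintype.linearCombination_apply_single]
  have hgK : ∀ k : K, (ρ g) k ∈ J ^ (n + c₂ + c₁) • (⊤ : Submodule R Q) := by
    intro k
    have : π (g k) = 0 := by
      have := congrArg (fun f => f (k : Fin b → R)) hg
      simp only [LinearMap.comp_apply] at this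
      rw [this, show σ (k : Fin b → R) = 0 from k.2, map_zero]
    have h2 : g k ∈ LinearMap.ker π := this
    have h3 := hker h2
    rwa [← add_assoc] at h3
  have h1 := hc₁ (n + c₂) (ρ g) hgK
  have h2 : ρ g ∈ (J ^ (n + c₂) • (⊤ : Submodule R (K →ₗ[R] Q))) ⊓ LinearMap.range ρ :=
    ⟨h1, ⟨g, rfl⟩⟩
  have h3 := hc₂ n h2
  rw [LinearMap.range_eq_map, ← Submodule.map_smul''] at h3
  obtain ⟨g'', hg'', e⟩ := h3
  let g' := g - g''
  have hg' : K ≤ LinearMap.ker g' := by
    intro x hx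
    have := congrArg (fun f => f ⟨x, hx⟩) e
    simp only [ρ, LinearMap.lcomp_apply, Submodule.subtype_apply] at this
    simp [g', this]
  let η : P →ₗ[R] Q :=
    (K.liftQ g' hg').comp (LinearMap.quotKerEquivOfSurjective σ hσ).symm.toLinearMap
  have hη : ∀ x, η (σ x) = g' x := by
    intro x
    have : (LinearMap.quotKerEquivOfSurjective σ hσ).symm (σ x) = K.mkQ x := by
      rw [LinearEquiv.symm_apply_eq]
      rfl
    simp [η, this]
  refine ⟨η, ?_⟩
  ext p
  obtain ⟨x, rfl⟩ := hσ p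
  simp only [LinearMap.comp_apply, hη, g', LinearMap.sub_apply, map_sub]
  have h4 : π' (g'' x) = 0 := hker' (apply_mem_smul_top _ g'' hg'' x)
  have h5 : π (g x) = η' (σ x) := congrArg (fun f => f x) hg
  rw [h4, sub_zero, ← ht, LinearMap.comp_apply, h5]

end Hom

end Groth.Agent.Lib.Lead.GE
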