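import Mathlib
import Groth.Agent.Lib.Helper8.ReesSys

/-!
# Grothendieck existence, part 3 (lead): pro-isomorphisms of inverse systems and limits of sections

`Q H' : ℕᵒᵖ ⥤ X.Modules` inverse systems of `O_X`-modules, `γ : Q ⟶ H'`.

* `tr Q n c : Q_{n+c} ⟶ Q_n` the `c`-step transition map.
* `Compat Q x` : `x n ∈ Γ(X, Q_n)` is a compatible family (an element of `lim_n Γ(X, Q_n)`).
* `ProIso γ c` : the kernel and the cokernel of `γ` are killed by the `c`-step transition maps.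
* `ProIso.injective`, `ProIso.surjective` : then `lim Γ(X, Q_n) → lim Γ(X, H'_n)` is bijective.
-/

set_option autoImplicit false
set_option backward.isDefEq.respectTransparency false
set_option linter.style.haveILetI false
set_option linter.unusedSectionVars false
universe u

namespace Groth.Agent.Lib.Lead.GE

open CategoryTheory CategoryTheory.Limits AlgebraicGeometry Opposite
open Groth.Agent.Lib.helper8.Rees

variable {X : Scheme.{u}}

/-- the `c`-step transition map `Q_{n+c} ⟶ Q_n` -/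
noncomputable abbrev tr (Q : ℕᵒᵖ ⥤ X.Modules) (n c : ℕ) : Q.obj (op (n + c)) ⟶ Q.obj (op n) :=
  Q.map (homOfLE (Nat.le_add_right n c)).op

lemma tr_zero (Q : ℕᵒᵖ ⥤ X.Modules) (n : ℕ) : tr Q n 0 = 𝟙 _ := by
  exact Q.map_id (op n)

lemma tr_succ (Q : ℕᵒᵖ ⥤ X.Modules) (n c : ℕ) :
    tr Q n (c + 1) = Q.map (homOfLE (Nat.le_succ (n + c))).op ≫ tr Q n c := by
  show Q.map _ = Q.map _ ≫ Q.map _
  rw [← Q.map_comp]
  rfl

lemma tr_add (Q : ℕᵒᵖ ⥤ X.Modules) (n c d : ℕ) :
    Q.map (homOfLE (show n + c ≤ n + c + d from Nat.le_add_right _ _)).op ≫ tr Q n c =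
      Q.map (homOfLE (show n ≤ n + c + d by omega)).op := by
  rw [← Q.map_comp]
  rfl

lemma tr_naturality {Q H' : ℕᵒᵖ ⥤ X.Modules} (γ : Q ⟶ H') (n c : ℕ) :
    tr Q n c ≫ γ.app (op n) = γ.app (op (n + c)) ≫ tr H' n c :=
  γ.naturality _

/-- compatible families of global sections of an inverse system -/
def Compat (Q : ℕᵒᵖ ⥤ X.Modules) (x : ∀ n, Γ(Q.obj (op n), ⊤)) : Prop :=
  ∀ n, appLin (Q.map (homOfLE (Nat.le_succ n)).op) ⊤ (x (n + 1)) = x n

lemma Compat.tr_apply {Q : ℕᵒᵖ ⥤ X.Modules} {x : ∀ n, Γ(Q.obj (op n), ⊤)} (h : Compat Q x)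
    (n c : ℕ) : appLin (tr Q n c) ⊤ (x (n + c)) = x n := by
  induction c with
  | zero =>
    rw [tr_zero]
    rfl
  | succ c ih =>
    rw [tr_succ, appLin_comp_apply]
    have h2 : appLin (tr Q n c) ⊤
        (appLin (Q.map (homOfLE (Nat.le_succ (n + c))).op) ⊤ (x (n + c + 1))) = x n := by
      rw [h (n + c), ih]
    exact h2

lemma Compat.map {Q H' : ℕᵒᵖ ⥤ X.Modules} (γ : Q ⟶ H') {x : ∀ n, Γ(Q.obj (op n), ⊤)}
    (h : Compat Q x) : Compat H' (fun n => appLin (γ.app (op n)) ⊤ (x n)) := by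
  intro n
  show appLin _ ⊤ (appLin _ ⊤ _) = _
  rw [← appLin_comp_apply, ← γ.naturality, appLin_comp_apply, h n]

/-- the kernel and the cokernel of `γ` are killed by the `c`-step transition maps -/
structure ProIso {Q H' : ℕᵒᵖ ⥤ X.Modules} (γ : Q ⟶ H') (c : ℕ) : Prop where
  K : ∀ n, kernel.ι (γ.app (op (n + c))) ≫ tr Q n c = 0
  C : ∀ n, tr H' n c ≫ cokernel.π (γ.app (op n)) = 0

section

variable {Q H' : ℕᵒᵖ ⥤ X.Modules} {γ : Q ⟶ H'} {c : ℕ}

lemma ProIso.tr_eq_zero (h : ProIso γ c) (n : ℕ) (x : Γ(Q.obj (op (n + c)), ⊤))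
    (hx : appLin (γ.app (op (n + c))) ⊤ x = 0) : appLin (tr Q n c) ⊤ x = 0 := by
  have h1 : x ∈ LinearMap.range (appLin (kernel.ι (γ.app (op (n + c)))) ⊤) := by
    rw [range_appLin_kernel_ι]
    exact hx
  obtain ⟨x', rfl⟩ := h1
  rw [← appLin_comp_apply, h.K n, appLin_zero]
  rfl

theorem ProIso.injective (h : ProIso γ c) {x : ∀ n, Γ(Q.obj (op n), ⊤)} (hx : Compat Q x)
    (h0 : ∀ n, appLin (γ.app (op n)) ⊤ (x n) = 0) (n : ℕ) : x n = 0 := by
  rw [← hx.tr_apply n c]
  exact h.tr_eq_zero n _ (h0 _)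

/-- the key lifting: sections of `H'_{n+c+c}` lift to `Q_n` after transition -/
lemma ProIso.exists_lift (h : ProIso γ c) (n : ℕ) (y : Γ(H'.obj (op (n + c + c)), ⊤)) :
    ∃ x : Γ(Q.obj (op n), ⊤), appLin (γ.app (op n)) ⊤ x =
      appLin (tr H' n c) ⊤ (appLin (tr H' (n + c) c) ⊤ y) := by
  set g := γ.app (op (n + c)) with hg
  -- `y' = tr y` lies in the image of `g`
  have h1 : appLin (cokernel.π g) ⊤ (appLin (tr H' (n + c) c) ⊤ y) = 0 := by
    rw [← appLin_comp_apply, h.C (n + c), appLin_zero]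
    rfl
  -- image of g = kernel of cokernel.π g
  have h2 : appLin (tr H' (n + c) c) ⊤ y ∈ LinearMap.range (appLin (Abelian.image.ι g) ⊤) := by
    show _ ∈ LinearMap.range (appLin (kernel.ι (cokernel.π g)) ⊤)
    rw [range_appLin_kernel_ι]
    exact h1
  obtain ⟨w, hw⟩ := h2
  -- the map `image g ⟶ Q_n`
  have hK : kernel.ι g ≫ tr Q n c = 0 := h.K n
  let f : Abelian.image g ⟶ Q.obj (op n) :=
    inv (Abelian.coimageImageComparison g) ≫ cokernel.desc (kernel.ι g) (tr Q n c) hK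
  have hf : Abelian.factorThruImage g ≫ f = tr Q n c := by
    have h3 : Abelian.coimage.π g ≫ Abelian.coimageImageComparison g =
        Abelian.factorThruImage g := by
      rw [← cancel_mono (Abelian.image.ι g)]
      simp
    show Abelian.factorThruImage g ≫ inv (Abelian.coimageImageComparison g) ≫ _ = _
    rw [← h3, Category.assoc, IsIso.hom_inv_id_assoc]
    exact cokernel.π_desc _ _ _
  have hfγ : f ≫ γ.app (op n) = Abelian.image.ι g ≫ tr H' n c := by
    rw [← cancel_epi (Abelian.factorThruImage g), ← Category.assoc, hf, tr_naturality,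
      ← Category.assoc, Abelian.image.fac]
  refine ⟨appLin f ⊤ w, ?_⟩
  rw [← appLin_comp_apply, hfγ, appLin_comp_apply, hw]

theorem ProIso.surjective (h : ProIso γ c) {y : ∀ n, Γ(H'.obj (op n), ⊤)} (hy : Compat H' y) :
    ∃ x : ∀ n, Γ(Q.obj (op n), ⊤), Compat Q x ∧ ∀ n, appLin (γ.app (op n)) ⊤ (x n) = y n := by
  have h1 : ∀ n, ∃ x : Γ(Q.obj (op n), ⊤), appLin (γ.app (op n)) ⊤ x = y n := by
    intro n
    obtain ⟨x, hx⟩ := h.exists_lift n (y (n + c + c))
    refine ⟨x, ?_⟩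
    rw [hx, hy.tr_apply (n + c) c, hy.tr_apply n c]
  choose x hx using h1
  refine ⟨fun n => appLin (tr Q n c) ⊤ (x (n + c)), ?_, ?_⟩
  · intro n
    show appLin (Q.map (homOfLE (Nat.le_succ n)).op) ⊤ (appLin (tr Q (n + 1) c) ⊤ (x (n + 1 + c))) =
      appLin (tr Q n c) ⊤ (x (n + c))
    -- both are images of `z₁ = Q.map (..) (x (n+1+c))` and `z₂ = x (n+c)` in `Q_{n+c}`
    have e : n + 1 + c = n + c + 1 := by omega
    have key : ∀ (m : ℕ) (hm : m = n + c + 1) (z : Γ(Q.obj (op m), ⊤)),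
        appLin (γ.app (op m)) ⊤ z = y m →
        appLin (Q.map (homOfLE (show n ≤ m by omega)).op) ⊤ z = appLin (tr Q n c) ⊤ (x (n + c)) := by
      intro m hm z hz
      subst hm
      have h2 : Q.map (homOfLE (show n ≤ n + c + 1 by omega)).op =
          Q.map (homOfLE (Nat.le_succ (n + c))).op ≫ tr Q n c := by
        rw [← Q.map_comp]; rfl
      rw [h2, appLin_comp_apply]
      have h3 : appLin (tr Q n c) ⊤
          (appLin (Q.map (homOfLE (Nat.le_succ (n + c))).op) ⊤ z - x (n + c)) = 0 := by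
        apply h.tr_eq_zero
        rw [map_sub, ← appLin_comp_apply, γ.naturality, appLin_comp_apply, hz, hx, hy (n + c),
          sub_self]
      rw [map_sub, sub_eq_zero] at h3
      exact h3
    have h4 := key (n + 1 + c) e (x (n + 1 + c)) (hx _)
    have h5 : tr Q (n + 1) c ≫ Q.map (homOfLE (Nat.le_succ n)).op =
        Q.map (homOfLE (show n ≤ n + 1 + c by omega)).op := by
      rw [← Q.map_comp]
      rfl
    rw [← appLin_comp_apply, h5]
    exact h4
  · intro n
    rw [← appLin_comp_apply, tr_naturality, appLin_comp_apply, hx, hy.tr_apply]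

end

end Groth.Agent.Lib.Lead.GE
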