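import Mathlib
import Groth.Agent.Lib.Lead.GE1
import Groth.Agent.Lib.Lead.GE2
import Groth.Agent.Lib.Lead.GE3
import Groth.Agent.Lib.Helper8.ReesFinal
import Groth.Agent.Lib.Helper16.CohFinite

/-!
# Grothendieck existence, part 4 (lead): `ℋom(M, N) / I^n → ℋom(M, N / I^n N)` is a pro-isomorphism

`HomDict A M 𝓗` : an abstract "sheaf Hom out of `M`": a functor `𝓗 : X.Modules ⥤ X.Modules` together with
a natural identification of the sections of `𝓗 G` over affine opens `U` with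
`Hom_{Γ(X,U)}(Γ(M,U), Γ(G,U))`, compatible with multiplication by elements of `A`.

For `M`, `N` coherent on a Noetherian scheme over `Spec A` and an ideal `I` of `A`:
* `cmp D 𝔞 N : 𝓗 N / 𝔞 𝓗 N ⟶ 𝓗 (N / 𝔞 N)`;
* `cmpSys D I N : completion I (𝓗 N) ⟶ completion I N ⋙ 𝓗`;
* `proIso_cmpSys` : `cmpSys` is a pro-isomorphism (`ProIso`).
-/

set_option autoImplicit false
set_option backward.isDefEq.respectTransparency false
set_option linter.style.haveILetI false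
set_option linter.unusedSectionVars false
universe u

namespace Groth.Agent.Lib.Lead.GE

open CategoryTheory CategoryTheory.Limits AlgebraicGeometry Opposite TopologicalSpace Formal
open Groth.Agent.Lib.helper8.FF Groth.Agent.Lib.helper8.Rees
open Scheme.Modules

variable {A : Type u} [CommRing A] {X : Scheme.{u}} [X.Over (Spec (CommRingCat.of A))]

/-- an abstract sheaf Hom out of `M` -/
structure HomDict (A : Type u) [CommRing A] {X : Scheme.{u}} [X.Over (Spec (CommRingCat.of A))]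
    (M : X.Modules) (𝓗 : X.Modules ⥤ X.Modules) where
  /-- a section of `𝓗 G` over `U` as a linear map on sections -/
  sec : ∀ (G : X.Modules) (U : X.Opens), Γ(𝓗.obj G, U) →+ (Γ(M, U) →ₗ[Γ(X, U)] Γ(G, U))
  sec_map : ∀ {G G' : X.Modules} (g : G ⟶ G') (U : X.Opens) (s : Γ(𝓗.obj G, U)),
    sec G' U (appLin (𝓗.map g) U s) = (appLin g U).comp (sec G U s)
  bij : ∀ (G : X.Modules) [G.IsQuasicoherent] (U : X.Opens), IsAffineOpen U →
    Function.Bijective (sec G U)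
  map_smulMod : ∀ (G : X.Modules) (a : A), 𝓗.map (smulMod A G a) = smulMod A (𝓗.obj G) a
  map_zero : ∀ (G G' : X.Modules), 𝓗.map (0 : G ⟶ G') = 0

namespace HomDict

variable {M : X.Modules} {𝓗 : X.Modules ⥤ X.Modules}

lemma sec_smul (D : HomDict A M 𝓗) (G : X.Modules) (U : X.Opens) (a : A) (s : Γ(𝓗.obj G, U)) :
    D.sec G U (resA A U a • s) = resA A U a • D.sec G U s := by
  rw [← appLin_smulMod (𝓗.obj G) a U s, ← D.map_smulMod, D.sec_map]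
  ext m
  rfl

lemma smulFamily_comp (D : HomDict A M 𝓗) (𝔞 : Ideal A) (N : X.Modules) :
    smulFamily 𝔞 (𝓗.obj N) ≫ 𝓗.map (qπ 𝔞 N) = 0 := by
  apply smulFamily_comp_eq_zero
  intro b hb
  rw [← D.map_smulMod, ← 𝓗.map_comp, smulMod_qπ N hb, D.map_zero]

/-- the comparison `𝓗 N / 𝔞 𝓗 N ⟶ 𝓗 (N / 𝔞 N)` -/
noncomputable def cmp (D : HomDict A M 𝓗) (𝔞 : Ideal A) (N : X.Modules) : Q 𝔞 (𝓗.obj N) ⟶ 𝓗.obj (Q 𝔞 N) :=
  cokernel.desc _ (𝓗.map (qπ 𝔞 N)) (D.smulFamily_comp 𝔞 N)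

@[reassoc]
lemma qπ_cmp (D : HomDict A M 𝓗) (𝔞 : Ideal A) (N : X.Modules) :
    qπ 𝔞 (𝓗.obj N) ≫ D.cmp 𝔞 N = 𝓗.map (qπ 𝔞 N) := cokernel.π_desc _ _ _

lemma cmp_trans (D : HomDict A M 𝓗) {𝔞 𝔟 : Ideal A} (h : 𝔞 ≤ 𝔟) (N : X.Modules) :
    D.cmp 𝔞 N ≫ 𝓗.map (qTrans h N) = qTrans h (𝓗.obj N) ≫ D.cmp 𝔟 N := by
  rw [← cancel_epi (qπ 𝔞 (𝓗.obj N)), D.qπ_cmp_assoc, ← 𝓗.map_comp, qπ_qTrans, qπ_qTrans_assoc,
    D.qπ_cmp]

/-- if `sec s` lies in `𝔟 Hom(M(U), N(U))` then `s` lies in `𝔟 Γ(𝓗 N, U)` -/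
lemma mem_smul_top_of_sec (D : HomDict A M 𝓗) (𝔟 : Ideal A) (N : X.Modules) [N.IsQuasicoherent] {U : X.Opens}
    (hU : IsAffineOpen U) (s : Γ(𝓗.obj N, U))
    (hs : D.sec N U s ∈ (𝔟.map (resA A U)) • (⊤ : Submodule Γ(X, U) (Γ(M, U) →ₗ[Γ(X, U)] Γ(N, U)))) :
    s ∈ (𝔟.map (resA A U)) • (⊤ : Submodule Γ(X, U) Γ(𝓗.obj N, U)) := by
  have hbij := D.bij N U hU
  -- the set of linear maps which are images of elements of `𝔟 Γ(𝓗 N, U)`
  let S : AddSubgroup (Γ(M, U) →ₗ[Γ(X, U)] Γ(N, U)) :=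
    AddSubgroup.map (D.sec N U)
      ((𝔟.map (resA A U)) • (⊤ : Submodule Γ(X, U) Γ(𝓗.obj N, U))).toAddSubgroup
  have key : ∀ r ∈ 𝔟.map (resA A U), ∀ t : Γ(M, U) →ₗ[Γ(X, U)] Γ(N, U), r • t ∈ S := by
    intro r hr
    refine Submodule.span_induction (p := fun r _ => ∀ t : Γ(M, U) →ₗ[Γ(X, U)] Γ(N, U), r • t ∈ S)
      ?_ ?_ ?_ ?_ hr
    · rintro _ ⟨b, hb, rfl⟩ t
      obtain ⟨s', rfl⟩ := hbij.2 t
      refine ⟨resA A U b • s', ?_, D.sec_smul N U b s'⟩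
      exact Submodule.smul_mem_smul (Ideal.mem_map_of_mem _ hb) Submodule.mem_top
    · intro t
      rw [zero_smul]
      exact S.zero_mem
    · intro x y _ _ hx hy t
      rw [add_smul]
      exact S.add_mem (hx t) (hy t)
    · intro a x _ hx t
      rw [smul_eq_mul, mul_comm, mul_smul]
      exact hx (a • t)
  have h2 : D.sec N U s ∈ S := by
    refine Submodule.smul_induction_on hs ?_ ?_
    · intro r hr t _
      exact key r hr t
    · intro x y hx hy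
      exact S.add_mem hx hy
  obtain ⟨s', hs', e⟩ := h2
  rw [← hbij.1 e]
  exact hs'

/-- (K), local form -/
theorem K_local (D : HomDict A M 𝓗) [IsNoetherian X] {𝔞 𝔟 : Ideal A} (h : 𝔞 ≤ 𝔟) (N : X.Modules) [N.IsQuasicoherent]
    [(𝓗.obj N).IsQuasicoherent] [(𝓗.obj (Q 𝔞 N)).IsQuasicoherent]
    {ι : Type*} (W : ι → X.Opens) (hW : ∀ i, IsAffineOpen (W i)) (hcov : ∀ x : X, ∃ i, x ∈ W i)
    (halg : ∀ i (η : Γ(M, W i) →ₗ[Γ(X, W i)] Γ(N, W i)),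
      (∀ p, η p ∈ (𝔞.map (resA A (W i))) • (⊤ : Submodule Γ(X, W i) Γ(N, W i))) →
      η ∈ (𝔟.map (resA A (W i))) •
        (⊤ : Submodule Γ(X, W i) (Γ(M, W i) →ₗ[Γ(X, W i)] Γ(N, W i)))) :
    kernel.ι (D.cmp 𝔞 N) ≫ qTrans h (𝓗.obj N) = 0 := by
  haveI := isQuasicoherent_Q 𝔞 (𝓗.obj N)
  haveI : (kernel (D.cmp 𝔞 N)).IsQuasicoherent :=
    Groth.Agent.Lib.helper7.CohKer.isQuasicoherent_kernel _
  refine hom_eq_zero_of_cover _ W hW hcov (fun i s => ?_)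
  rw [appLin_comp_apply]
  obtain ⟨s₁, hs₁⟩ := appLin_qπ_surjective 𝔞 (𝓗.obj N) (hW i) (appLin (kernel.ι (D.cmp 𝔞 N)) (W i) s)
  have h1 : appLin (𝓗.map (qπ 𝔞 N)) (W i) s₁ = 0 := by
    rw [← D.qπ_cmp, appLin_comp_apply, hs₁, ← appLin_comp_apply, kernel.condition, appLin_zero]
    rfl
  have h2 : ∀ p, D.sec N (W i) s₁ p ∈
      (𝔞.map (resA A (W i))) • (⊤ : Submodule Γ(X, W i) Γ(N, W i)) := by
    intro p
    rw [← ker_appLin_qπ 𝔞 N (hW i), LinearMap.mem_ker]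
    have h3 := D.sec_map (qπ 𝔞 N) (W i) s₁
    rw [h1, (D.sec (Q 𝔞 N) (W i)).map_zero] at h3
    exact (LinearMap.congr_fun h3 p).symm
  have h4 := D.mem_smul_top_of_sec 𝔟 N (hW i) s₁ (halg i _ h2)
  rw [← hs₁, ← appLin_comp_apply, qπ_qTrans]
  exact smul_top_le_ker_appLin_qπ 𝔟 (𝓗.obj N) (W i) h4

/-- (C), local form -/
theorem C_local (D : HomDict A M 𝓗) [IsNoetherian X] {𝔞 𝔟 : Ideal A} (h : 𝔞 ≤ 𝔟) (N : X.Modules) [N.IsQuasicoherent]
    [(𝓗.obj (Q 𝔞 N)).IsQuasicoherent]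
    {ι : Type*} (W : ι → X.Opens) (hW : ∀ i, IsAffineOpen (W i)) (hcov : ∀ x : X, ∃ i, x ∈ W i)
    (halg : ∀ i (ξ : Γ(M, W i) →ₗ[Γ(X, W i)] Γ(Q 𝔞 N, W i)),
      ∃ η : Γ(M, W i) →ₗ[Γ(X, W i)] Γ(N, W i),
        (appLin (qπ 𝔟 N) (W i)).comp η = (appLin (qTrans h N) (W i)).comp ξ) :
    𝓗.map (qTrans h N) ≫ cokernel.π (D.cmp 𝔟 N) = 0 := by
  haveI := isQuasicoherent_Q 𝔟 N
  refine hom_eq_zero_of_cover _ W hW hcov (fun i s => ?_)
  obtain ⟨η, hη⟩ := halg i (D.sec (Q 𝔞 N) (W i) s)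
  obtain ⟨s₁, hs₁⟩ := (D.bij N (W i) (hW i)).2 η
  have h1 : appLin (𝓗.map (qTrans h N)) (W i) s = appLin (𝓗.map (qπ 𝔟 N)) (W i) s₁ := by
    apply (D.bij (Q 𝔟 N) (W i) (hW i)).1
    rw [D.sec_map, D.sec_map, hs₁, hη]
  rw [appLin_comp_apply, h1, ← D.qπ_cmp, appLin_comp_apply, ← appLin_comp_apply (D.cmp 𝔟 N),
    cokernel.condition, appLin_zero]
  rfl

/-- (K) and (C) for the powers of an ideal, with a uniform shift -/
theorem exists_K_C (D : HomDict A M 𝓗) [IsNoetherian X] (I : Ideal A) (hM : Coh.IsCoh M)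
    (N : X.Modules) (hN : Coh.IsCoh N)
    (h𝓗 : ∀ G : X.Modules, Coh.IsCoh G → (𝓗.obj G).IsQuasicoherent) :
    ∃ c : ℕ, ∀ n : ℕ,
      kernel.ι (D.cmp (I ^ (n + c + 1)) N) ≫
        qTrans (Ideal.pow_le_pow_right (show n + 1 ≤ n + c + 1 by omega)) (𝓗.obj N) = 0 ∧
      𝓗.map (qTrans (Ideal.pow_le_pow_right (show n + 1 ≤ n + c + 1 by omega)) N) ≫
        cokernel.π (D.cmp (I ^ (n + 1)) N) = 0 := by
  classical
  haveI : N.IsQuasicoherent := hN.1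
  obtain ⟨m, W, hW, hcov⟩ := exists_finite_affine_cover X
  have hnoeth : ∀ i, IsNoetherianRing Γ(X, W i) := fun i =>
    IsLocallyNoetherian.component_noetherian ⟨W i, hW i⟩
  have hfM : ∀ i, Module.Finite Γ(X, W i) Γ(M, W i) := fun i =>
    Groth.Agent.Lib.helper16.CohFinite.finite_sections_of_isCoh M hM (hW i)
  have hfN : ∀ i, Module.Finite Γ(X, W i) Γ(N, W i) := fun i =>
    Groth.Agent.Lib.helper16.CohFinite.finite_sections_of_isCoh N hN (hW i)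
  have h1 : ∀ i, ∃ c : ℕ, ∀ (n : ℕ) (η : Γ(M, W i) →ₗ[Γ(X, W i)] Γ(N, W i)),
      (∀ p, η p ∈ (I.map (resA A (W i))) ^ (n + c) • (⊤ : Submodule Γ(X, W i) Γ(N, W i))) →
      η ∈ (I.map (resA A (W i))) ^ n •
        (⊤ : Submodule Γ(X, W i) (Γ(M, W i) →ₗ[Γ(X, W i)] Γ(N, W i))) := fun i => by
    haveI := hnoeth i; haveI := hfM i; haveI := hfN i
    exact hom_mem_pow_smul_top (I.map (resA A (W i)))
  have h2 : ∀ i, ∃ c : ℕ, ∀ (n : ℕ) {T : Type u} {T' : Type u} [AddCommGroup T]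
      [Module Γ(X, W i) T] [AddCommGroup T'] [Module Γ(X, W i) T']
      (π : Γ(N, W i) →ₗ[Γ(X, W i)] T) (π' : Γ(N, W i) →ₗ[Γ(X, W i)] T') (t : T →ₗ[Γ(X, W i)] T')
      (_ : Function.Surjective π)
      (_ : LinearMap.ker π ≤ (I.map (resA A (W i))) ^ (n + c) •
        (⊤ : Submodule Γ(X, W i) Γ(N, W i)))
      (_ : t.comp π = π')
      (_ : (I.map (resA A (W i))) ^ n • (⊤ : Submodule Γ(X, W i) Γ(N, W i)) ≤ LinearMap.ker π')
      (η' : Γ(M, W i) →ₗ[Γ(X, W i)] T), ∃ η : Γ(M, W i) →ₗ[Γ(X, W i)] Γ(N, W i),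
        π'.comp η = t.comp η' := fun i => by
    haveI := hnoeth i; haveI := hfM i; haveI := hfN i
    exact exists_hom_lift.{u, u, u, u, u} (I.map (resA A (W i)))
  choose c₁ hc₁ using h1
  choose c₂ hc₂ using h2
  refine ⟨∑ i, (c₁ i + c₂ i), fun n => ?_⟩
  set c := ∑ i, (c₁ i + c₂ i) with hc
  have hle : ∀ i, c₁ i + c₂ i ≤ c := fun i =>
    Finset.single_le_sum (f := fun i => c₁ i + c₂ i) (fun _ _ => Nat.zero_le _) (Finset.mem_univ i)
  have hQ𝓗 : (𝓗.obj (Q (I ^ (n + c + 1)) N)).IsQuasicoherent := h𝓗 _ (isCoh_Q' _ N hN)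
  have h𝓗N : (𝓗.obj N).IsQuasicoherent := h𝓗 _ hN
  constructor
  · refine D.K_local _ N W hW hcov (fun i η hη => ?_)
    rw [Ideal.map_pow]
    refine hc₁ i (n + 1) η (fun p => ?_)
    have h3 := hη p
    rw [Ideal.map_pow] at h3
    refine Submodule.smul_mono_left (Ideal.pow_le_pow_right ?_) h3
    have := hle i
    omega
  · refine D.C_local _ N W hW hcov (fun i ξ => ?_)
    refine hc₂ i (n + 1) (appLin (qπ (I ^ (n + c + 1)) N) (W i)) (appLin (qπ (I ^ (n + 1)) N) (W i))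
      (appLin (qTrans _ N) (W i)) (appLin_qπ_surjective _ N (hW i)) ?_ ?_ ?_ ξ
    · rw [ker_appLin_qπ _ N (hW i), Ideal.map_pow]
      refine Submodule.smul_mono_left (Ideal.pow_le_pow_right ?_)
      have := hle i
      omega
    · rw [← appLin_comp, qπ_qTrans]
    · rw [← Ideal.map_pow]
      exact smul_top_le_ker_appLin_qπ _ N (W i)

/-- the comparison of inverse systems `(𝓗 N / I^(n+1) 𝓗 N)_n ⟶ (𝓗 (N / I^(n+1) N))_n` -/
noncomputable def cmpSys (D : HomDict A M 𝓗) (I : Ideal A) (N : X.Modules) :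
    Formal.completion I (𝓗.obj N) ⟶ Formal.completion I N ⋙ 𝓗 where
  app n := D.cmp (I ^ (n.unop + 1)) N
  naturality := by
    intro k n f
    have hle : n.unop ≤ k.unop := leOfHom f.unop
    have hf : f = (homOfLE hle).op := Subsingleton.elim _ _
    subst hf
    show (Formal.completion I (𝓗.obj N)).map (homOfLE hle).op ≫ D.cmp (I ^ (n.unop + 1)) N =
      D.cmp (I ^ (k.unop + 1)) N ≫ 𝓗.map ((Formal.completion I N).map (homOfLE hle).op)
    rw [completion_map, completion_map]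
    exact (D.cmp_trans _ N).symm

lemma cmpSys_app (D : HomDict A M 𝓗) (I : Ideal A) (N : X.Modules) (n : ℕ) :
    (D.cmpSys I N).app (op n) = D.cmp (I ^ (n + 1)) N := rfl

/-- **the comparison `𝓗 N / I^n ⟶ 𝓗 (N / I^n N)` is a pro-isomorphism** -/
theorem proIso_cmpSys (D : HomDict A M 𝓗) [IsNoetherian X] (I : Ideal A) (hM : Coh.IsCoh M)
    (N : X.Modules) (hN : Coh.IsCoh N)
    (h𝓗 : ∀ G : X.Modules, Coh.IsCoh G → (𝓗.obj G).IsQuasicoherent) :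
    ∃ c : ℕ, ProIso (D.cmpSys I N) c := by
  obtain ⟨c, hc⟩ := D.exists_K_C I hM N hN h𝓗
  refine ⟨c, ⟨fun n => ?_, fun n => ?_⟩⟩
  · have h1 : tr (Formal.completion I (𝓗.obj N)) n c =
        qTrans (Ideal.pow_le_pow_right (show n + 1 ≤ n + c + 1 by omega)) (𝓗.obj N) :=
      completion_map I (𝓗.obj N) (Nat.le_add_right n c)
    rw [h1]
    exact (hc n).1
  · have h1 : tr (Formal.completion I N ⋙ 𝓗) n c =
        𝓗.map (qTrans (Ideal.pow_le_pow_right (show n + 1 ≤ n + c + 1 by omega)) N) := by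
      show 𝓗.map ((Formal.completion I N).map _) = _
      rw [completion_map I N (Nat.le_add_right n c)]
    rw [h1]
    exact (hc n).2

end HomDict

end Groth.Agent.Lib.Lead.GE
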