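import Mathlib
import Groth.Agent.Lib.Lead.GE4

/-!
# Grothendieck existence, part 5 (lead): full faithfulness of completion from a Hom dictionary

Abstract form of "`Hom(M, N) → lim_n Hom(M, N / I^(n+1) N)` is bijective":
given an abstract sheaf Hom `𝓗` out of `M` (`HomDict`), its global form `GlobDict`
(`Γ(X, 𝓗 G) ≃ Hom(M, G)` naturally in `G`) and `LimBij I (𝓗 N)`
(`Γ(X, H) → lim_n Γ(X, H / I^(n+1) H)` bijective), every morphism of systems
`(M / I^(n+1) M) ⟶ (N / I^(n+1) N)` is induced by a unique `M ⟶ N`.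
-/

set_option autoImplicit false
set_option backward.isDefEq.respectTransparency false
set_option linter.style.haveILetI false
set_option linter.unusedSectionVars false
universe u

namespace Groth.Agent.Lib.Lead.GE

open CategoryTheory CategoryTheory.Limits AlgebraicGeometry Opposite TopologicalSpace Formal
open Groth.Agent.Lib.helper8.FF Groth.Agent.Lib.helper8.Rees
open Scheme.Modules

variable {A : Type u} [CommRing A] {X : Scheme.{u}} [X.Over (Spec (CommRingCat.of A))]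

/-- global sections of `𝓗 G` are morphisms `M ⟶ G`, naturally in `G` -/
structure GlobDict (M : X.Modules) (𝓗 : X.Modules ⥤ X.Modules) where
  glob : ∀ G : X.Modules, Γ(𝓗.obj G, ⊤) ≃ (M ⟶ G)
  glob_map : ∀ {G G' : X.Modules} (g : G ⟶ G') (s : Γ(𝓗.obj G, ⊤)),
    glob G' (appLin (𝓗.map g) ⊤ s) = glob G s ≫ g

/-- `Γ(X, H) → lim_n Γ(X, H / I^(n+1) H)` is bijective -/
def LimBij (I : Ideal A) (H : X.Modules) : Prop :=
  ∀ x : ∀ n, Γ((Formal.completion I H).obj (op n), ⊤), Compat (Formal.completion I H) x →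
    ∃! h : Γ(H, ⊤), ∀ n, appLin (qπ (I ^ (n + 1)) H) ⊤ h = x n

lemma compat_qπ (I : Ideal A) (H : X.Modules) (h : Γ(H, ⊤)) :
    Compat (Formal.completion I H) (fun n => appLin (qπ (I ^ (n + 1)) H) ⊤ h) := by
  intro n
  show appLin _ ⊤ (appLin _ ⊤ h) = _
  rw [← appLin_comp_apply, qπ_completion_map]
  rfl

variable {M : X.Modules} {𝓗 : X.Modules ⥤ X.Modules}

/-- **full faithfulness of completion, abstract form** -/
theorem existsUnique_hom_of_dict (D : HomDict A M 𝓗) (E : GlobDict M 𝓗) [IsNoetherian X]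
    (I : Ideal A) (hM : Coh.IsCoh M) (N : X.Modules) (hN : Coh.IsCoh N)
    (h𝓗 : ∀ G : X.Modules, Coh.IsCoh G → (𝓗.obj G).IsQuasicoherent)
    (hlim : LimBij I (𝓗.obj N))
    (τ : Formal.completion I M ⟶ Formal.completion I N) :
    ∃! φ : M ⟶ N, ∀ n : ℕ,
      Formal.modPowπ I (n + 1) M ≫ τ.app (op n) = φ ≫ Formal.modPowπ I (n + 1) N := by
  obtain ⟨c, hpro⟩ := D.proIso_cmpSys I hM N hN h𝓗
  -- the compatible family `t n : M ⟶ N / I^(n+1) N`
  let t : ∀ n : ℕ, M ⟶ Q (I ^ (n + 1)) N := fun n => qπ (I ^ (n + 1)) M ≫ τ.app (op n)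
  have ht : ∀ n, t (n + 1) ≫ (Formal.completion I N).map (homOfLE (Nat.le_succ n)).op = t n := by
    intro n
    show (qπ (I ^ (n + 1 + 1)) M ≫ τ.app (op (n + 1))) ≫ _ = _
    rw [Category.assoc, ← τ.naturality, ← Category.assoc, qπ_completion_map]
  -- as sections of `𝓗 (N / I^(n+1) N)`
  let y : ∀ n : ℕ, Γ((Formal.completion I N ⋙ 𝓗).obj (op n), ⊤) := fun n => (E.glob _).symm (t n)
  have hy : Compat (Formal.completion I N ⋙ 𝓗) y := by
    intro n
    apply (E.glob _).injective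
    show E.glob _ (appLin (𝓗.map ((Formal.completion I N).map _)) ⊤ (y (n + 1))) = E.glob _ (y n)
    rw [E.glob_map]
    show E.glob _ ((E.glob _).symm (t (n + 1))) ≫ _ = E.glob _ ((E.glob _).symm (t n))
    rw [Equiv.apply_symm_apply, Equiv.apply_symm_apply, ht]
  -- key: for `h : Γ(H, ⊤)`, `glob h ≫ π_n = t n` iff `cmp (qπ h) = y n`
  have key : ∀ (h : Γ(𝓗.obj N, ⊤)) (n : ℕ),
      E.glob N h ≫ qπ (I ^ (n + 1)) N = t n ↔
        appLin ((D.cmpSys I N).app (op n)) ⊤ (appLin (qπ (I ^ (n + 1)) (𝓗.obj N)) ⊤ h) = y n := by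
    intro h n
    have e : appLin ((D.cmpSys I N).app (op n)) ⊤ (appLin (qπ (I ^ (n + 1)) (𝓗.obj N)) ⊤ h) =
        appLin (𝓗.map (qπ (I ^ (n + 1)) N)) ⊤ h := by
      show appLin (D.cmp (I ^ (n + 1)) N) ⊤ (appLin (qπ (I ^ (n + 1)) (𝓗.obj N)) ⊤ h) = _
      rw [← appLin_comp_apply, D.qπ_cmp]
    rw [e, ← E.glob_map]
    constructor
    · intro h1
      apply (E.glob _).injective
      rw [h1]
      exact (Equiv.apply_symm_apply _ _).symm
    · intro h1
      rw [h1]
      exact Equiv.apply_symm_apply _ _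
  -- existence
  obtain ⟨x, hx, hxy⟩ := hpro.surjective hy
  obtain ⟨h, hh, -⟩ := hlim x hx
  refine ⟨E.glob N h, fun n => ?_, ?_⟩
  · refine ((key h n).mpr ?_).symm
    rw [hh n, hxy n]
  · intro φ' hφ'
    -- uniqueness
    obtain ⟨h', rfl⟩ := (E.glob N).surjective φ'
    congr 1
    have h1 : ∀ n, appLin ((D.cmpSys I N).app (op n)) ⊤ (appLin (qπ (I ^ (n + 1)) (𝓗.obj N)) ⊤ h') = y n :=
      fun n => (key h' n).mp (hφ' n).symm
    -- the difference of the two families is killed by `cmp`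
    have h2 : ∀ n, appLin (qπ (I ^ (n + 1)) (𝓗.obj N)) ⊤ (h' - h) = 0 := by
      have hc : Compat (Formal.completion I (𝓗.obj N))
          (fun n => appLin (qπ (I ^ (n + 1)) (𝓗.obj N)) ⊤ (h' - h)) := compat_qπ I (𝓗.obj N) (h' - h)
      refine hpro.injective hc (fun n => ?_)
      show appLin ((D.cmpSys I N).app (op n)) ⊤ (appLin (qπ (I ^ (n + 1)) (𝓗.obj N)) ⊤ (h' - h)) = 0
      rw [map_sub, map_sub, h1 n, hh n, hxy n, sub_self]
    obtain ⟨h₀, -, huniq⟩ := hlim (fun n => appLin (qπ (I ^ (n + 1)) (𝓗.obj N)) ⊤ h) (compat_qπ I (𝓗.obj N) h)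
    have e1 : h = h₀ := huniq h (fun n => rfl)
    have e2 : h' = h₀ := by
      refine huniq h' (fun n => ?_)
      have := h2 n
      rw [map_sub, sub_eq_zero] at this
      exact this
    rw [e1, e2]

end Groth.Agent.Lib.Lead.GE
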