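import Mathlib
import Groth.Agent.Lib.Lead.GE5
import Groth.Agent.Lib.Helper20.SplitH1
import Groth.Agent.Lib.Helper20.SheafHomLin
import Groth.Agent.Lib.Helper21.TensorMon
import Groth.Agent.Lib.Helper21.ExtShDelta
import Groth.Agent.Lib.Helper21.ShHomCoh2
import Groth.Agent.Lib.Helper8.FormalTorsion
import Groth.Agent.Lib.Helper8.FormalCompletion
import Groth.Agent.Lib.Helper18.HHZero
import Groth.Agent.S0003

/-!
# Grothendieck existence, part 6 (lead): the global Hom dictionary for `ℋom(M, -)`; `LimBij`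

* `globDict M : GlobDict M (ModSite.sheafHom M)` : `Γ(X, ℋom(M, G)) ≃ Hom(M, G)` naturally in `G`.
* `sheafHom_map_smulMod`, `sheafHom_map_zero`.
* `limBij_of_complete` : `LimBij I H` from the theorem on formal functions (S0003).
* `limBij_of_killedBy` : `LimBij I H` for `H` killed by a power of `I`.
-/

set_option autoImplicit false
set_option backward.isDefEq.respectTransparency false
set_option linter.style.haveILetI false
set_option linter.unusedSectionVars false
universe u

namespace Groth.Agent.Lib.Lead.GE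

open CategoryTheory CategoryTheory.Limits AlgebraicGeometry Opposite TopologicalSpace Formal
open Groth.Agent.Lib.helper8.FF Groth.Agent.Lib.helper8.Rees Groth.Agent.Lib.helper8.FTors
open Groth.Agent.Lib.Helper20.SplitH1 Groth.Agent.Lib.Helper21.TensorMon
open Scheme.Modules

instance hasSheafHomInst (Y : Scheme.{u}) (F : Y.Modules) : ModSite.HasSheafHom (O := Y.sheaf) F :=
  Groth.Agent.Lib.helper21.ExtShDelta.hasSheafHom Y.sheaf F

section Glob

variable {X : Scheme.{u}} (M : X.Modules)

/-- the sheaf Hom functor `ℋom(M, -)` -/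
noncomputable abbrev shHom : X.Modules ⥤ X.Modules := ModSite.sheafHom (O := X.sheaf) M

/-- `M ≅ O ⊗ M` -/
noncomputable def unitTensIso :
    ((ModSite.tensorBi X.sheaf).flip.obj M).obj (Coh.structureModule X) ≅ M :=
  (unitIso X.sheaf).app M

lemma homOfGlobal_map {G G' : X.Modules} (g : G ⟶ G') (s : G.val.obj (op ⊤)) :
    homOfGlobal G' ((g.val.app (op ⊤)).hom s) = homOfGlobal G s ≫ g := by
  apply hom_ext_top
  rw [homOfGlobal_top]
  show _ = (g.val.app (op ⊤)).hom (((homOfGlobal G s).val.app (op ⊤)).hom _)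
  rw [homOfGlobal_top]

/-- `Γ(X, ℋom(M, G)) ≃ Hom(M, G)` -/
noncomputable def globEquiv (G : X.Modules) : Γ((shHom M).obj G, ⊤) ≃ (M ⟶ G) where
  toFun s := (unitTensIso M).inv ≫
    ((ModSite.sheafHomAdj (O := X.sheaf) M).homEquiv (Coh.structureModule X) G).symm
      (homOfGlobal ((shHom M).obj G) s)
  invFun φ := ((((ModSite.sheafHomAdj (O := X.sheaf) M).homEquiv (Coh.structureModule X) G)
    ((unitTensIso M).hom ≫ φ)).val.app (op ⊤)).hom (1 : X.ringCatSheaf.obj.obj (op ⊤))
  left_inv s := by
    show ((((ModSite.sheafHomAdj (O := X.sheaf) M).homEquiv (Coh.structureModule X) G)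
      ((unitTensIso M).hom ≫ (unitTensIso M).inv ≫ _)).val.app (op ⊤)).hom _ = s
    rw [Iso.hom_inv_id_assoc, Equiv.apply_symm_apply, homOfGlobal_top]
  right_inv φ := by
    show (unitTensIso M).inv ≫
      ((ModSite.sheafHomAdj (O := X.sheaf) M).homEquiv (Coh.structureModule X) G).symm
        (homOfGlobal ((shHom M).obj G) _) = φ
    have h1 : homOfGlobal ((shHom M).obj G)
        (((((ModSite.sheafHomAdj (O := X.sheaf) M).homEquiv (Coh.structureModule X) G)
          ((unitTensIso M).hom ≫ φ)).val.app (op ⊤)).hom (1 : X.ringCatSheaf.obj.obj (op ⊤))) =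
        ((ModSite.sheafHomAdj (O := X.sheaf) M).homEquiv (Coh.structureModule X) G)
          ((unitTensIso M).hom ≫ φ) := by
      apply hom_ext_top
      rw [homOfGlobal_top]
    rw [h1, Equiv.symm_apply_apply, Iso.inv_hom_id_assoc]

/-- the global Hom dictionary for `ℋom(M, -)` -/
noncomputable def globDict : GlobDict M (shHom M) where
  glob := globEquiv M
  glob_map := by
    intro G G' g s
    show (unitTensIso M).inv ≫ _ = ((unitTensIso M).inv ≫ _) ≫ g
    rw [Category.assoc, ← Adjunction.homEquiv_naturality_right_symm]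
    congr 2
    exact homOfGlobal_map ((shHom M).map g) s

end Glob

section Base

variable {A : Type u} [CommRing A] {X : Scheme.{u}} [X.Over (Spec (CommRingCat.of A))]

lemma sheafHom_map_smulMod (M G : X.Modules) (a : A) :
    (shHom M).map (smulMod A G a) = smulMod A ((shHom M).obj G) a := by
  haveI : DCoh.HasSheafHom M := Groth.Agent.Lib.Helper21.TensorMon.isLeftAdjoint_tensL X.sheaf M
  have e := Groth.Agent.Lib.helper21.ShHomCoh.dcohSheafHomIso M
  have h1 := Groth.Agent.Lib.Helper20.SheafHomLin.sheafHom_map_smulModΓ M G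
    (Coh.toGlobal (X ↘ Spec (CommRingCat.of A)) a)
  have h2 : (shHom M).map (smulMod A G a) =
      e.inv.app G ≫ (DCoh.sheafHom M).map (smulMod A G a) ≫ e.hom.app G := by
    rw [e.hom.naturality, Iso.inv_hom_id_app_assoc]
  rw [h2]
  show e.inv.app G ≫ (DCoh.sheafHom M).map (smulModΓ G _) ≫ e.hom.app G = smulModΓ _ _
  rw [h1, smulModΓ_naturality, Iso.inv_hom_id_app_assoc]

lemma sheafHom_map_zero (M G G' : X.Modules) : (shHom M).map (0 : G ⟶ G') = 0 := by
  haveI : (shHom M).Additive := (ModSite.sheafHomAdj (O := X.sheaf) M).right_adjoint_additive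
  exact Functor.map_zero _ _ _

end Base

section Lim

variable {A : Type u} [CommRing A] {X : Scheme.{u}} [X.Over (Spec (CommRingCat.of A))]

/-- `LimBij` for a module killed by a power of `I` -/
theorem limBij_of_killedBy (I : Ideal A) (H : X.Modules) {c : ℕ} (hk : KilledBy (I ^ c) H) :
    LimBij I H := by
  intro x hx
  have hiso : ∀ n, c ≤ n + 1 → IsIso (qπ (I ^ (n + 1)) H) := fun n hn =>
    (Groth.Agent.Lib.helper8.FCompl.isCok_qπ _ H).isIso_of_killedBy
      (fun a ha => hk a (Ideal.pow_le_pow_right hn ha))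
  haveI := hiso c (Nat.le_succ c)
  refine ⟨appLin (inv (qπ (I ^ (c + 1)) H)) ⊤ (x c), ?_, ?_⟩
  · intro n
    rcases le_total n c with hnc | hcn
    · obtain ⟨d, rfl⟩ := Nat.exists_eq_add_of_le hnc
      rw [← hx.tr_apply n d]
      have h1 : qπ (I ^ (n + 1)) H = qπ (I ^ (n + d + 1)) H ≫ tr (Formal.completion I H) n d :=
        (qπ_completion_map I H _).symm
      rw [h1, appLin_comp_apply, ← appLin_comp_apply (inv _), IsIso.inv_hom_id]
      rfl
    · obtain ⟨d, rfl⟩ := Nat.exists_eq_add_of_le hcn
      haveI := hiso (c + d) (by omega)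
      have h1 : qπ (I ^ (c + d + 1)) H ≫ tr (Formal.completion I H) c d = qπ (I ^ (c + 1)) H :=
        qπ_completion_map I H _
      haveI : IsIso (tr (Formal.completion I H) c d) := by
        have h2 : tr (Formal.completion I H) c d =
            inv (qπ (I ^ (c + d + 1)) H) ≫ qπ (I ^ (c + 1)) H := by
          rw [IsIso.eq_inv_comp, h1]
        rw [h2]
        infer_instance
      apply appLin_injective_of_mono (tr (Formal.completion I H) c d) ⊤
      rw [hx.tr_apply c d]
      have e1 : appLin (tr (Formal.completion I H) c d) ⊤ (appLin (qπ (I ^ (c + d + 1)) H) ⊤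
          (appLin (inv (qπ (I ^ (c + 1)) H)) ⊤ (x c))) =
          appLin (inv (qπ (I ^ (c + 1)) H) ≫
            (qπ (I ^ (c + d + 1)) H ≫ tr (Formal.completion I H) c d)) ⊤ (x c) := rfl
      refine e1.trans ?_
      rw [h1, IsIso.inv_hom_id]
      rfl
  · intro h' hh'
    rw [← hh' c, ← appLin_comp_apply, IsIso.hom_inv_id]
    rfl

open Groth.Agent.Lib.Helper18 in
/-- `LimBij` from the theorem on formal functions in degree `0` -/
theorem limBij_of_bijective_toHHlim (I : Ideal A) (H : X.Modules)
    (hbij : Function.Bijective (Formal.toHHlim I H 0)) : LimBij I H := by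
  intro x hx
  have hξ : ∀ n, Formal.HHmodPowTrans I H 0 n
      ((HH.equiv₀ (Formal.modPow I (n + 1 + 1) H)).symm (x (n + 1))) =
      (HH.equiv₀ (Formal.modPow I (n + 1) H)).symm (x n) := by
    intro n
    have h1 := HH.equiv₀_symm_naturality (Formal.modPowTrans I (n + 1) H) (x (n + 1))
    refine h1.trans ?_
    congr 1
    have h2 := hx n
    have h3 : (Formal.completion I H).map (homOfLE (Nat.le_succ n)).op =
        Formal.modPowTrans I (n + 1) H := Functor.ofOpSequence_map_homOfLE_succ _ n
    rw [h3] at h2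
    exact h2
  let ξ : Formal.HHlim I H 0 :=
    ⟨fun n => (HH.equiv₀ (Formal.modPow I (n + 1) H)).symm (x n), hξ⟩
  have key : ∀ (h : Γ(H, ⊤)), Formal.toHHlim I H 0 ((HH.equiv₀ H).symm h) = ξ ↔
      ∀ n, appLin (qπ (I ^ (n + 1)) H) ⊤ h = x n := by
    intro h
    have h1 : ∀ n, (Formal.toHHlim I H 0 ((HH.equiv₀ H).symm h)).1 n =
        (HH.equiv₀ (Formal.modPow I (n + 1) H)).symm (appLin (qπ (I ^ (n + 1)) H) ⊤ h) :=
      fun n => HH.equiv₀_symm_naturality (Formal.modPowπ I (n + 1) H) h
    constructor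
    · intro e n
      have h2 := congrArg (fun z : Formal.HHlim I H 0 => z.1 n) e
      simp only [h1] at h2
      exact (HH.equiv₀ (Formal.modPow I (n + 1) H)).symm.injective h2
    · intro e
      apply Subtype.ext
      funext n
      rw [h1, e n]
  obtain ⟨h', hh'⟩ := hbij.2 ξ
  refine ⟨HH.equiv₀ H h', ?_, ?_⟩
  · apply (key _).mp
    rw [LinearEquiv.symm_apply_apply]
    exact hh'
  · intro h₁ hh₁
    have h2 := (key h₁).mpr hh₁
    have h3 : (HH.equiv₀ H).symm h₁ = h' := hbij.1 (h2.trans hh'.symm)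
    rw [← h3, LinearEquiv.apply_symm_apply]

end Lim

end Groth.Agent.Lib.Lead.GE
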