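import Mathlib
import Groth.Agent.Lib.Lead.GE6

/-!
# Grothendieck existence, part 7 (lead): full faithfulness statements from a Hom dictionary

* `existsUnique_of_killedBy_target` : the easy half of S0833 (`G` killed by a power of `I`).
* `HomDict.killedBy` : `ℋom(F, G)` is killed by an ideal killing `F`.
* `existsUnique_of_killedBy_source` : the other half of S0833, from a Hom dictionary.
* `existsUnique_of_proper` : S0060 from a Hom dictionary.
-/

set_option autoImplicit false
set_option backward.isDefEq.respectTransparency false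
set_option linter.style.haveILetI false
set_option linter.unusedSectionVars false
universe u

namespace Groth.Agent.Lib.Lead.GE

open CategoryTheory CategoryTheory.Limits AlgebraicGeometry Opposite TopologicalSpace Formal
open Groth.Agent.Lib.helper8.FF Groth.Agent.Lib.helper8.Rees Groth.Agent.Lib.helper8.FTors
open Scheme.Modules

variable {A : Type u} [CommRing A] {X : Scheme.{u}} [X.Over (Spec (CommRingCat.of A))]

/-- the easy half of S0833: the target is killed by a power of `I` -/
theorem existsUnique_of_killedBy_target (I : Ideal A) (F G : X.Modules) {c : ℕ}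
    (hk : KilledBy (I ^ c) G) (ψ : Formal.completion I F ⟶ Formal.completion I G) :
    ∃! φ : F ⟶ G, ∀ n : ℕ,
      Formal.modPowπ I (n + 1) F ≫ ψ.app (op n) = φ ≫ Formal.modPowπ I (n + 1) G := by
  have hiso : ∀ n, c ≤ n + 1 → IsIso (qπ (I ^ (n + 1)) G) := fun n hn =>
    (Groth.Agent.Lib.helper8.FCompl.isCok_qπ _ G).isIso_of_killedBy
      (fun a ha => hk a (Ideal.pow_le_pow_right hn ha))
  haveI := hiso c (Nat.le_succ c)
  refine ⟨qπ (I ^ (c + 1)) F ≫ ψ.app (op c) ≫ inv (qπ (I ^ (c + 1)) G), fun n => ?_, ?_⟩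
  · show qπ (I ^ (n + 1)) F ≫ ψ.app (op n) = _ ≫ qπ (I ^ (n + 1)) G
    rcases le_total n c with hnc | hcn
    · obtain ⟨d, rfl⟩ := Nat.exists_eq_add_of_le hnc
      have h1 : qπ (I ^ (n + d + 1)) F ≫ tr (Formal.completion I F) n d = qπ (I ^ (n + 1)) F :=
        qπ_completion_map I F _
      have h2 : qπ (I ^ (n + d + 1)) G ≫ tr (Formal.completion I G) n d = qπ (I ^ (n + 1)) G :=
        qπ_completion_map I G _
      have h3 : tr (Formal.completion I F) n d ≫ ψ.app (op n) =
          ψ.app (op (n + d)) ≫ tr (Formal.completion I G) n d := ψ.naturality _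
      rw [← h1, ← h2, Category.assoc, h3, Category.assoc, Category.assoc,
        IsIso.inv_hom_id_assoc]
    · obtain ⟨d, rfl⟩ := Nat.exists_eq_add_of_le hcn
      haveI := hiso (c + d) (by omega)
      have h1 : qπ (I ^ (c + d + 1)) F ≫ tr (Formal.completion I F) c d = qπ (I ^ (c + 1)) F :=
        qπ_completion_map I F _
      have h2 : qπ (I ^ (c + d + 1)) G ≫ tr (Formal.completion I G) c d = qπ (I ^ (c + 1)) G :=
        qπ_completion_map I G _
      have h3 : tr (Formal.completion I F) c d ≫ ψ.app (op c) =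
          ψ.app (op (c + d)) ≫ tr (Formal.completion I G) c d := ψ.naturality _
      haveI : IsIso (tr (Formal.completion I G) c d) := by
        have h4 : tr (Formal.completion I G) c d =
            inv (qπ (I ^ (c + d + 1)) G) ≫ qπ (I ^ (c + 1)) G := by
          rw [IsIso.eq_inv_comp, h2]
        rw [h4]
        infer_instance
      rw [← cancel_mono (tr (Formal.completion I G) c d), Category.assoc, ← h3, ← Category.assoc,
        h1, Category.assoc, Category.assoc, Category.assoc, h2, IsIso.inv_hom_id, Category.comp_id]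
  · intro φ' hφ'
    have h1 : qπ (I ^ (c + 1)) F ≫ ψ.app (op c) = φ' ≫ qπ (I ^ (c + 1)) G := hφ' c
    rw [← Category.assoc, h1, Category.assoc, IsIso.hom_inv_id, Category.comp_id]

/-- `𝓗 G` is killed by every ideal killing `M` -/
theorem HomDict.killedBy {M : X.Modules} {𝓗 : X.Modules ⥤ X.Modules} (D : HomDict A M 𝓗)
    (G : X.Modules) [G.IsQuasicoherent] [(𝓗.obj G).IsQuasicoherent] {J : Ideal A}
    (hk : KilledBy J M) : KilledBy J (𝓗.obj G) := by
  intro a ha
  refine hom_eq_zero_of_cover _ (fun U : X.affineOpens => U.1) (fun U => U.2) ?_ (fun U s => ?_)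
  · intro x
    obtain ⟨V, hV, hxV, -⟩ := Opens.isBasis_iff_nbhd.mp X.isBasis_affineOpens
      (Opens.mem_top x)
    exact ⟨⟨V, hV⟩, hxV⟩
  · rw [appLin_smulMod]
    apply (D.bij G U.1 U.2).1
    rw [D.sec_smul, (D.sec G U.1).map_zero]
    ext m
    rw [LinearMap.smul_apply, ← LinearMap.map_smul, ← appLin_smulMod, hk a ha, appLin_zero]
    simp

variable {M : X.Modules}

/-- the other half of S0833, from a Hom dictionary: the source is killed by a power of `I` -/
theorem existsUnique_of_killedBy_source (D : HomDict A M (shHom M)) [IsNoetherian X] (I : Ideal A)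
    (hM : Coh.IsCoh M) (N : X.Modules) (hN : Coh.IsCoh N) {c : ℕ} (hk : KilledBy (I ^ c) M)
    (τ : Formal.completion I M ⟶ Formal.completion I N) :
    ∃! φ : M ⟶ N, ∀ n : ℕ,
      Formal.modPowπ I (n + 1) M ≫ τ.app (op n) = φ ≫ Formal.modPowπ I (n + 1) N := by
  have h𝓗 : ∀ G : X.Modules, Coh.IsCoh G → ((shHom M).obj G).IsQuasicoherent := fun G hG =>
    (Groth.Agent.Lib.helper21.ShHomCoh.isCoh_sheafHom hM hG).1
  haveI : N.IsQuasicoherent := hN.1
  haveI := h𝓗 N hN
  exact existsUnique_hom_of_dict D (globDict M) I hM N hN h𝓗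
    (limBij_of_killedBy I _ (D.killedBy N hk)) τ

/-- S0060 from a Hom dictionary -/
theorem existsUnique_of_proper [IsNoetherianRing A] (I : Ideal A) [IsAdicComplete I A]
    [IsProper (X ↘ Spec (CommRingCat.of A))] (D : HomDict A M (shHom M))
    (hM : Coh.IsCoh M) (N : X.Modules) (hN : Coh.IsCoh N)
    (τ : Formal.completion I M ⟶ Formal.completion I N) :
    ∃! φ : M ⟶ N, ∀ n : ℕ,
      Formal.modPowπ I (n + 1) M ≫ τ.app (op n) = φ ≫ Formal.modPowπ I (n + 1) N := by
  haveI : IsLocallyNoetherian X :=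
    AlgebraicGeometry.LocallyOfFiniteType.isLocallyNoetherian
      (X ↘ AlgebraicGeometry.Spec (CommRingCat.of A))
  haveI : CompactSpace X :=
    AlgebraicGeometry.QuasiCompact.compactSpace_of_compactSpace
      (X ↘ AlgebraicGeometry.Spec (CommRingCat.of A))
  haveI : AlgebraicGeometry.IsNoetherian X := {}
  have h𝓗 : ∀ G : X.Modules, Coh.IsCoh G → ((shHom M).obj G).IsQuasicoherent := fun G hG =>
    (Groth.Agent.Lib.helper21.ShHomCoh.isCoh_sheafHom hM hG).1
  have hH : Coh.IsCoh ((shHom M).obj N) := Groth.Agent.Lib.helper21.ShHomCoh.isCoh_sheafHom hM hN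
  exact existsUnique_hom_of_dict D (globDict M) I hM N hN h𝓗
    (limBij_of_bijective_toHHlim I _ (Groth.Agent.S0003.result A I X _ hH 0)) τ

end Groth.Agent.Lib.Lead.GE
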