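import Mathlib
import Groth.Agent.Lib.Lead.GE7
import Groth.Agent.Lib.Helper21.ExtShAffine

/-!
# Grothendieck existence, part 8 (lead): the sections dictionary for `ℋom(M, -)`

For `M` quasi-coherent on a scheme `X` and an affine open `U`:
`Γ(ℋom(M, G), U) ≃ Hom_{Γ(X,U)}(Γ(M,U), Γ(G,U))`, naturally in `G`
(from helper21's `TildeHom.rho`, `sheafHomRestrIso`, `sheafHomRestrIso'` and helper16's `toSpecSections`).
-/

set_option autoImplicit false
set_option backward.isDefEq.respectTransparency false
set_option linter.style.haveILetI false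
set_option linter.unusedSectionVars false
universe u

namespace Groth.Agent.Lib.Lead.GE

open CategoryTheory CategoryTheory.Limits AlgebraicGeometry Opposite TopologicalSpace MonoidalCategory
open Groth.Agent.Lib.helper8.Rees
open Groth.Agent.Lib.helper21.ShRestr Groth.Agent.Lib.helper21.TildeHom
open Groth.Agent.Lib.helper12.InvDual
open Scheme.Modules

variable {X : Scheme.{u}} {U : X.Opens} (hU : IsAffineOpen U) (M : X.Modules)

/-- restriction to `Spec Γ(X, U)` -/
noncomputable abbrev Rj : X.Modules ⥤ (Spec Γ(X, U)).Modules := restrictFunctor hU.fromSpec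

/-- `j^* = e^* ∘ (U.ι)^*` -/
noncomputable def cIso : Rj hU ≅ restrictFunctor U.ι ⋙ restrictFunctor hU.isoSpec.inv :=
  restrictFunctorComp hU.isoSpec.inv U.ι

/-- `j^* ℋom(M, -) ≅ ℋom(j^* M, j^* -)` -/
noncomputable def alphaIso : shHom M ⋙ Rj hU ≅ Rj hU ⋙ shHom ((Rj hU).obj M) :=
  Functor.isoWhiskerLeft (shHom M) (cIso hU) ≪≫
    (Functor.associator _ _ _).symm ≪≫
    Functor.isoWhiskerRight (sheafHomRestrIso U M) (restrictFunctor hU.isoSpec.inv) ≪≫
    Functor.associator _ _ _ ≪≫
    Functor.isoWhiskerLeft (restrictFunctor U.ι)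
      (sheafHomRestrIso' hU.isoSpec.inv ((restrictFunctor U.ι).obj M)) ≪≫
    (Functor.associator _ _ _).symm ≪≫
    Functor.isoWhiskerRight (cIso hU).symm _ ≪≫
    Functor.isoWhiskerLeft (Rj hU) (sheafHomCongr (Spec Γ(X, U)).sheaf ((cIso hU).app M).symm)

section QC

variable [M.IsQuasicoherent]

/-- global sections on `Spec Γ(X, U)` -/
noncomputable abbrev GS : (Spec Γ(X, U)).Modules ⥤ ModuleCat Γ(X, U) :=
  moduleSpecΓFunctor (R := Γ(X, U))

/-- `P = Γ(Spec Γ(X,U), j^* M)` -/
noncomputable abbrev PP : ModuleCat Γ(X, U) := (GS (U := U)).obj ((Rj hU).obj M)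

instance : ((Rj hU).obj M).IsQuasicoherent :=
  inferInstanceAs ((restrictFunctor hU.fromSpec).obj M).IsQuasicoherent

/-- `P^~ ≅ j^* M` -/
noncomputable def tIso : tilde (PP hU M) ≅ (Rj hU).obj M :=
  haveI : IsIso (Scheme.Modules.fromTildeΓ (R := Γ(X, U)) ((Rj hU).obj M)) :=
    Scheme.Modules.isIso_fromTildeΓ_of_isQuasicoherent _
  asIso (Scheme.Modules.fromTildeΓ (R := Γ(X, U)) ((Rj hU).obj M))

/-- `Γ(Spec, j^* ℋom(M, G)) ≅ Hom(P, Γ(Spec, j^* G))`, naturally in `G` -/
noncomputable def psiIso :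
    shHom M ⋙ Rj hU ⋙ GS (U := U) ≅ Rj hU ⋙ GS (U := U) ⋙ ihom (PP hU M) :=
  (Functor.associator _ _ _).symm ≪≫
    Functor.isoWhiskerRight (alphaIso hU M) (GS (U := U)) ≪≫
    Functor.associator _ _ _ ≪≫
    Functor.isoWhiskerLeft (Rj hU)
      (Functor.isoWhiskerRight (sheafHomCongr (Spec Γ(X, U)).sheaf (tIso hU M).symm) (GS (U := U)) ≪≫
        rho Γ(X, U) (PP hU M))

end QC

section Sec

variable [M.IsQuasicoherent]

/-- `Γ(F, U) ≃ Γ(Spec Γ(X,U), j^* F)` -/
noncomputable def tss (F : X.Modules) : Γ(F, U) ≃ₗ[Γ(X, U)] ((GS (U := U)).obj ((Rj hU).obj F)) :=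
  Groth.Agent.Lib.helper21.ExtShAffine.secEquiv hU F

lemma tss_naturality {F F' : X.Modules} (g : F ⟶ F') (y : Γ(F, U)) :
    tss hU F' (appLin g U y) = ((GS (U := U)).map ((Rj hU).map g)).hom (tss hU F y) := by
  have e1 : hU.fromSpec ''ᵁ ⊤ = U := Groth.Agent.Lib.helper7.image_top_eq hU
  have h := g.mapPresheaf.naturality (homOfLE e1.le).op
  exact (ConcreteCategory.congr_hom h y).symm

/-- the linear map attached to a section of `ℋom(M, G)` over `U` -/
noncomputable def secFun (G : X.Modules) (s : Γ((shHom M).obj G, U)) :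
    Γ(M, U) →ₗ[Γ(X, U)] Γ(G, U) :=
  (tss hU G).symm.toLinearMap ∘ₗ
    (show PP hU M ⟶ (GS (U := U)).obj ((Rj hU).obj G) from
      ((psiIso hU M).hom.app G).hom (tss hU ((shHom M).obj G) s)).hom ∘ₗ
    (tss hU M).toLinearMap

end Sec

section Props

variable [M.IsQuasicoherent]

/-- the middle step of `secFun` -/
noncomputable def midFun (G : X.Modules) (s : Γ((shHom M).obj G, U)) :
    PP hU M ⟶ (GS (U := U)).obj ((Rj hU).obj G) :=
  ((psiIso hU M).hom.app G).hom (tss hU ((shHom M).obj G) s)

lemma secFun_eq (G : X.Modules) (s : Γ((shHom M).obj G, U)) :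
    secFun hU M G s =
      (tss hU G).symm.toLinearMap ∘ₗ (midFun hU M G s).hom ∘ₗ (tss hU M).toLinearMap := rfl

lemma midFun_add (G : X.Modules) (s s' : Γ((shHom M).obj G, U)) :
    midFun hU M G (s + s') = midFun hU M G s + midFun hU M G s' := by
  unfold midFun
  rw [map_add, map_add]

set_option maxRecDepth 8000 in
lemma midFun_map {G G' : X.Modules} (g : G ⟶ G') (s : Γ((shHom M).obj G, U)) :
    midFun hU M G' (appLin ((shHom M).map g) U s) =
      midFun hU M G s ≫ (GS (U := U)).map ((Rj hU).map g) := by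
  have e := tss_naturality hU ((shHom M).map g) s
  have h := (psiIso hU M).hom.naturality g
  have h2 : ((psiIso hU M).hom.app G').hom
      (((GS (U := U)).map ((Rj hU).map ((shHom M).map g))).hom (tss hU ((shHom M).obj G) s)) =
      ((ihom (PP hU M)).map ((GS (U := U)).map ((Rj hU).map g))).hom
        (((psiIso hU M).hom.app G).hom (tss hU ((shHom M).obj G) s)) :=
    ConcreteCategory.congr_hom h (tss hU ((shHom M).obj G) s)
  have h3 : ((ihom (PP hU M)).map ((GS (U := U)).map ((Rj hU).map g))).hom (midFun hU M G s) =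
      midFun hU M G s ≫ (GS (U := U)).map ((Rj hU).map g) := ModuleCat.ihom_map_apply _ _
  rw [← h3]
  unfold midFun
  rw [e]
  exact h2

lemma midFun_bijective (G : X.Modules) : Function.Bijective (midFun hU M G) := by
  have h1 : Function.Bijective ((psiIso hU M).hom.app G).hom :=
    ConcreteCategory.bijective_of_isIso ((psiIso hU M).hom.app G)
  exact h1.comp (tss hU ((shHom M).obj G)).bijective

lemma secFun_add (G : X.Modules) (s s' : Γ((shHom M).obj G, U)) :
    secFun hU M G (s + s') = secFun hU M G s + secFun hU M G s' := by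
  rw [secFun_eq, secFun_eq, secFun_eq, midFun_add]
  ext m
  simp

lemma secFun_map {G G' : X.Modules} (g : G ⟶ G') (s : Γ((shHom M).obj G, U)) :
    secFun hU M G' (appLin ((shHom M).map g) U s) = (appLin g U).comp (secFun hU M G s) := by
  rw [secFun_eq, secFun_eq, midFun_map]
  ext m
  simp only [LinearMap.comp_apply, LinearEquiv.coe_coe, ModuleCat.hom_comp]
  rw [LinearEquiv.symm_apply_eq, tss_naturality, LinearEquiv.apply_symm_apply]

lemma secFun_bijective (G : X.Modules) : Function.Bijective (secFun hU M G) := by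
  have h1 := midFun_bijective hU M G
  constructor
  · intro s s' h
    apply h1.1
    apply ModuleCat.hom_ext
    ext p
    obtain ⟨m, rfl⟩ := (tss hU M).surjective p
    have h2 := LinearMap.congr_fun h m
    rw [secFun_eq, secFun_eq] at h2
    simp only [LinearMap.comp_apply, LinearEquiv.coe_coe] at h2
    exact (tss hU G).symm.injective h2
  · intro η
    obtain ⟨s, hs⟩ := h1.2 (ModuleCat.ofHom (X := PP hU M)
      (Y := (GS (U := U)).obj ((Rj hU).obj G))
      ((tss hU G).toLinearMap ∘ₗ η ∘ₗ (tss hU M).symm.toLinearMap))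
    refine ⟨s, ?_⟩
    rw [secFun_eq, hs]
    ext m
    simp

end Props

section Dict

open Classical in
/-- `secFun` as an additive map, extended by zero to non-affine opens -/
noncomputable def secAdd (M : X.Modules) [M.IsQuasicoherent] (G : X.Modules) (U : X.Opens) :
    Γ((shHom M).obj G, U) →+ (Γ(M, U) →ₗ[Γ(X, U)] Γ(G, U)) :=
  if hU : IsAffineOpen U then AddMonoidHom.mk' (secFun hU M G) (secFun_add hU M G)
  else 0

lemma secAdd_of_isAffineOpen (M : X.Modules) [M.IsQuasicoherent] (G : X.Modules) {U : X.Opens}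
    (hU : IsAffineOpen U) (s : Γ((shHom M).obj G, U)) : secAdd M G U s = secFun hU M G s := by
  unfold secAdd
  rw [dif_pos hU]
  rfl

lemma secAdd_of_not (M : X.Modules) [M.IsQuasicoherent] (G : X.Modules) {U : X.Opens}
    (hU : ¬ IsAffineOpen U) : secAdd M G U = 0 := by
  unfold secAdd
  rw [dif_neg hU]

/-- **the sections dictionary for `ℋom(M, -)`**, `M` quasi-coherent -/
noncomputable def homDict (A : Type u) [CommRing A] [X.Over (Spec (CommRingCat.of A))]
    (M : X.Modules) [M.IsQuasicoherent] : HomDict A M (shHom M) where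
  sec := secAdd M
  sec_map := by
    intro G G' g U s
    by_cases hU : IsAffineOpen U
    · rw [secAdd_of_isAffineOpen M G' hU, secAdd_of_isAffineOpen M G hU]
      exact secFun_map hU M g s
    · rw [secAdd_of_not M G' hU, secAdd_of_not M G hU]
      simp
  bij := by
    intro G _ U hU
    have h := secFun_bijective hU M G
    have e : ⇑(secAdd M G U) = secFun hU M G := funext (secAdd_of_isAffineOpen M G hU)
    rw [e]
    exact h
  map_smulMod := sheafHom_map_smulMod M
  map_zero := sheafHom_map_zero M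

end Dict

end Groth.Agent.Lib.Lead.GE
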