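import Mathlib

/-!
# `O_{X'} ≅ g_* O_X` for the relative normalization of a universally closed morphism (lead)

* `isIso_app_of_locally_surjective`: gluing principle — if `g.app` is injective on all opens and
  every point of every open `U` has an open neighbourhood `B ≤ U` with `g.app B` surjective, then
  `g.app U` is an isomorphism for all `U`.
* `surjective_app_basicOpen`: `g.app W` bijective, `W` affine, `g⁻¹W` qcqs ⇒ `g.app (D(s))` surjective.
* `isIso_toNormalization_app`: Stein factorization, universally closed case (Stacks 03GY/03H0 part).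
-/

set_option autoImplicit false

universe u

namespace Groth.Agent.Lib.Lead.SteinUC

open AlgebraicGeometry CategoryTheory Limits TopologicalSpace Opposite

variable {X Y : Scheme.{u}}

/-- gluing principle for `O_Y → g_* O_X` -/
theorem isIso_app_of_locally_surjective (g : X ⟶ Y)
    (hinj : ∀ U : Y.Opens, Function.Injective (g.app U).hom)
    (hloc : ∀ (U : Y.Opens) (x : Y), x ∈ U →
      ∃ B : Y.Opens, x ∈ B ∧ B ≤ U ∧ Function.Surjective (g.app B).hom)
    (V : Y.Opens) : IsIso (g.app V) := by
  have hsurj : Function.Surjective (g.app V).hom := by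
    intro s
    have hcov : ∀ x : V, ∃ B : Y.Opens, x.1 ∈ B ∧ B ≤ V ∧ Function.Surjective (g.app B).hom :=
      fun x => hloc V x.1 x.2
    choose W hxW hWV hW using hcov
    have hlocs : ∀ x : V, ∃ t : Γ(Y, W x), (g.app (W x)).hom t =
        (X.presheaf.map (homOfLE (g.preimage_mono (hWV x))).op).hom s := fun x => hW x _
    choose sf hsf using hlocs
    have hcompat : TopCat.Presheaf.IsCompatible Y.sheaf.1 W sf := by
      intro x y
      apply hinj (W x ⊓ W y)
      have n1 := g.naturality (Opens.infLELeft (W x) (W y)).op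
      have n2 := g.naturality (Opens.infLERight (W x) (W y)).op
      have l1 : (g.app (W x ⊓ W y)).hom
          ((Y.presheaf.map (Opens.infLELeft (W x) (W y)).op).hom (sf x)) =
          (X.presheaf.map ((Opens.map g.base).map
            (Opens.infLELeft (W x) (W y))).op).hom ((g.app (W x)).hom (sf x)) := by
        have := congrArg (fun k => k.hom (sf x)) n1
        exact this
      have l2 : (g.app (W x ⊓ W y)).hom
          ((Y.presheaf.map (Opens.infLERight (W x) (W y)).op).hom (sf y)) =
          (X.presheaf.map ((Opens.map g.base).map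
            (Opens.infLERight (W x) (W y))).op).hom ((g.app (W y)).hom (sf y)) := by
        have := congrArg (fun k => k.hom (sf y)) n2
        exact this
      refine l1.trans (Eq.trans ?_ l2.symm)
      rw [hsf x, hsf y, ← CommRingCat.comp_apply, ← CommRingCat.comp_apply, ← Functor.map_comp,
        ← Functor.map_comp]
      rfl
    obtain ⟨t, ht, -⟩ := Y.sheaf.existsUnique_gluing' W V (fun x => homOfLE (hWV x))
      (by
        intro y hy
        exact Opens.mem_iSup.mpr ⟨⟨y, hy⟩, hxW _⟩) sf hcompat
    refine ⟨t, ?_⟩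
    refine X.sheaf.eq_of_locally_eq' (fun x : V => g ⁻¹ᵁ W x) (g ⁻¹ᵁ V)
      (fun x => homOfLE (g.preimage_mono (hWV x))) ?_ _ _ ?_
    · intro y hy
      exact Opens.mem_iSup.mpr ⟨⟨g y, hy⟩, hxW _⟩
    · intro x
      have n1 := g.naturality (homOfLE (hWV x)).op
      have l1 : (g.app (W x)).hom ((Y.presheaf.map (homOfLE (hWV x)).op).hom t) =
          (X.presheaf.map ((Opens.map g.base).map (homOfLE (hWV x))).op).hom
            ((g.app V).hom t) := by
        have := congrArg (fun k => k.hom t) n1
        exact this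
      have h2 : (Y.presheaf.map (homOfLE (hWV x)).op).hom t = sf x := ht x
      rw [h2, hsf x] at l1
      exact l1.symm
  exact (ConcreteCategory.isIso_iff_bijective (g.app V)).mpr ⟨hinj V, hsurj⟩

/-- qcqs lemma, with the basic open given up to equality -/
lemma exists_res_eq_pow_mul (U : X.Opens) (hU : IsCompact (U : Set X))
    (hU' : IsQuasiSeparated (U : Set X)) (t : Γ(X, U)) (B : X.Opens) (hB : B = X.basicOpen t)
    (y : Γ(X, B)) :
    ∃ (n : ℕ) (z : Γ(X, U)),
      (X.presheaf.map (homOfLE (hB.le.trans (X.basicOpen_le t))).op).hom z =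
        ((X.presheaf.map (homOfLE (hB.le.trans (X.basicOpen_le t))).op).hom t) ^ n * y := by
  subst hB
  obtain ⟨n, z, hz⟩ := exists_eq_pow_mul_of_isCompact_of_isQuasiSeparated X U hU hU' t y
  exact ⟨n, z, hz⟩

lemma isUnit_res_of_eq_basicOpen (U : X.Opens) (t : Γ(X, U)) (B : X.Opens)
    (hB : B = X.basicOpen t) :
    IsUnit ((X.presheaf.map (homOfLE (hB.le.trans (X.basicOpen_le t))).op).hom t) := by
  subst hB
  exact RingedSpace.isUnit_res_basicOpen _ t

/-- `g.app W` surjective, `g⁻¹W` qcqs ⇒ `g.app (D(s))` surjective for `s ∈ Γ(Y, W)` -/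
theorem surjective_app_basicOpen (g : X ⟶ Y) (W : Y.Opens)
    (hc : IsCompact ((g ⁻¹ᵁ W : X.Opens) : Set X))
    (hq : IsQuasiSeparated ((g ⁻¹ᵁ W : X.Opens) : Set X))
    (hsurj : Function.Surjective (g.app W).hom) (s : Γ(Y, W)) :
    Function.Surjective (g.app (Y.basicOpen s)).hom := by
  intro y
  have hpre : g ⁻¹ᵁ Y.basicOpen s = X.basicOpen ((g.app W).hom s) := Scheme.preimage_basicOpen g s
  obtain ⟨n, z, hz⟩ := exists_res_eq_pow_mul (g ⁻¹ᵁ W) hc hq ((g.app W).hom s) _ hpre y
  have hunitX := isUnit_res_of_eq_basicOpen (g ⁻¹ᵁ W) ((g.app W).hom s) _ hpre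
  have hunitY : IsUnit ((Y.presheaf.map (homOfLE (Y.basicOpen_le s)).op).hom s) :=
    RingedSpace.isUnit_res_basicOpen _ s
  obtain ⟨z', rfl⟩ := hsurj z
  have hnat : ∀ a : Γ(Y, W), (g.app (Y.basicOpen s)).hom
      ((Y.presheaf.map (homOfLE (Y.basicOpen_le s)).op).hom a) =
      (X.presheaf.map (homOfLE (hpre.le.trans (X.basicOpen_le _))).op).hom ((g.app W).hom a) := by
    intro a
    have n1 := g.naturality (homOfLE (Y.basicOpen_le s)).op
    have := congrArg (fun k => k.hom a) n1
    exact this
  obtain ⟨u, hu⟩ := hunitY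
  refine ⟨(Y.presheaf.map (homOfLE (Y.basicOpen_le s)).op).hom z' * ((u⁻¹ : _ˣ) : _) ^ n, ?_⟩
  apply (hunitX.pow n).mul_right_injective
  show _ ^ n * _ = _ ^ n * y
  rw [← hz, map_mul, map_pow, hnat z']
  have hT : (X.presheaf.map (homOfLE (hpre.le.trans (X.basicOpen_le _))).op).hom
      ((g.app W).hom s) = (g.app (Y.basicOpen s)).hom (u : Γ(Y, Y.basicOpen s)) := by
    rw [hu, hnat s]
  rw [hT, mul_left_comm, ← map_pow, ← map_pow, ← map_mul, ← mul_pow]
  simp

section normalization

variable {S : Scheme.{u}}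

theorem restrict_appTop_eq (π : X ⟶ S) (U : S.Opens) :
    (π ∣_ U).appTop = U.topIso.hom ≫ π.app U ≫ (π ⁻¹ᵁ U).topIso.inv := by
  have h : π ∣_ U = π.resLE U (π ⁻¹ᵁ U) le_rfl := by simp [Scheme.Hom.resLE]
  rw [h, Scheme.Hom.appTop, Scheme.Hom.resLE_app_top, Scheme.Hom.appLE_eq_app]

/-- integrality of `f.app W` for universally closed `f` and affine `W` (as in helper2's S2422). -/
theorem isIntegral_app (f : X ⟶ S) [UniversallyClosed f] (W : S.Opens)
    (hW : IsAffineOpen W) : (f.app W).hom.IsIntegral := by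
  have : IsAffine W.toScheme := hW
  have : UniversallyClosed (f ∣_ W) :=
    MorphismProperty.of_isPullback (isPullback_morphismRestrict f W).flip inferInstance
  have h1 : (f ∣_ W).appTop.hom.IsIntegral := isIntegral_appTop_of_universallyClosed (f ∣_ W)
  have h2 : f.app W = W.topIso.inv ≫ (f ∣_ W).appTop ≫ (f ⁻¹ᵁ W).topIso.hom := by
    rw [restrict_appTop_eq]
    simp only [Category.assoc, Iso.inv_hom_id, Category.comp_id, Iso.inv_hom_id_assoc]
  rw [h2]
  simp only [CommRingCat.hom_comp]
  refine RingHom.IsIntegral.trans _ _ ?_ (RingHom.IsIntegral.trans _ _ h1 ?_)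
  · exact RingHom.isIntegral_of_surjective _ (W.topIso.symm.commRingCatIsoToRingEquiv).surjective
  · exact RingHom.isIntegral_of_surjective _
      ((f ⁻¹ᵁ W).topIso.commRingCatIsoToRingEquiv).surjective

variable (f : X ⟶ S) [UniversallyClosed f] [QuasiSeparated f]

/-- over the preimage of an affine open of the base, `O_{X'} → g_* O_X` is an isomorphism -/
theorem isIso_toNormalization_app_preimage (V : S.affineOpens) :
    IsIso (f.toNormalization.app (f.fromNormalization ⁻¹ᵁ V.1)) := by
  let _ := (f.app V.1).hom.toAlgebra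
  have hint : integralClosure Γ(S, V.1) Γ(X, f ⁻¹ᵁ V.1) = ⊤ := by
    rw [integralClosure_eq_top_iff, ← algebraMap_isIntegral_iff, RingHom.algebraMap_toAlgebra]
    exact isIntegral_app f V.1 V.2
  have h := f.toNormalization_app_preimage V
  rw [h]
  refine @IsIso.comp_isIso _ _ _ _ _ _ _ inferInstance
    (@IsIso.comp_isIso _ _ _ _ _ _ _ ?_ inferInstance)
  rw [hint]
  exact inferInstanceAs (IsIso (Subalgebra.topEquiv
    (R := Γ(S, V.1)) (A := ↑Γ(X, f ⁻¹ᵁ V.1))).toCommRingCatIso.hom)

/-- **Stein factorization, universally closed case**: `O_{X'}(U) → O_X(g⁻¹U)` is an isomorphism for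
every open `U` of the relative normalization `X'` of `S` in `X`. -/
theorem isIso_toNormalization_app (U : f.normalization.Opens) :
    IsIso (f.toNormalization.app U) := by
  have : IsSchemeTheoreticallyDominant f.toNormalization := ⟨f.ker_toNormalization⟩
  refine isIso_app_of_locally_surjective f.toNormalization
    (fun U => f.toNormalization.app_injective U) ?_ U
  intro U x hx
  obtain ⟨_, ⟨V, hV, rfl⟩, hxV, -⟩ := S.isBasis_affineOpens.exists_subset_of_mem_open
    (Set.mem_univ (f.fromNormalization x)) isOpen_univ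
  have hW : IsAffineOpen (f.fromNormalization ⁻¹ᵁ V) := hV.preimage f.fromNormalization
  obtain ⟨s, hs1, hs2⟩ := hW.exists_basicOpen_le (V := U) ⟨x, hx⟩ hxV
  refine ⟨f.normalization.basicOpen s, hs2, hs1, ?_⟩
  have hiso := isIso_toNormalization_app_preimage f ⟨V, hV⟩
  refine surjective_app_basicOpen f.toNormalization (f.fromNormalization ⁻¹ᵁ V)
    (f.toNormalization.isCompact_preimage hW.isCompact)
    (f.toNormalization.isQuasiSeparated_preimage hW.isQuasiSeparated) ?_ s
  exact ((ConcreteCategory.isIso_iff_bijective _).mp hiso).2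

end normalization

end Groth.Agent.Lib.Lead.SteinUC
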