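import Mathlib

set_option autoImplicit false
set_option backward.isDefEq.respectTransparency false
set_option backward.isDefEq.respectTransparency.types false

universe u

/-! Graded rings generated by their parts of degree zero and one: a homogeneous induction
principle and its consequences for `Proj`. -/

namespace Groth.Agent.Lib.Lead.GenDegOne

open AlgebraicGeometry CategoryTheory CategoryTheory.Limits HomogeneousLocalization
open scoped HomogeneousIdeal

variable {A σ : Type u} [CommRing A] [SetLike σ A] [AddSubgroupClass σ A]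
  {𝒜 : ℕ → σ} [GradedRing 𝒜]

/-- Homogeneous induction for a graded ring generated by its parts of degree `0` and `1`. -/
theorem gen_induction (hgen : Subring.closure ((𝒜 0 : Set A) ∪ (𝒜 1 : Set A)) = ⊤)
    (P : ℕ → A → Prop)
    (h0 : ∀ a ∈ 𝒜 0, P 0 a) (h1 : ∀ a ∈ 𝒜 1, P 1 a)
    (hmul : ∀ i j a b, a ∈ 𝒜 i → b ∈ 𝒜 j → P i a → P j b → P (i + j) (a * b))
    (hzero : ∀ k, P k 0)
    (hadd : ∀ k a b, a ∈ 𝒜 k → b ∈ 𝒜 k → P k a → P k b → P k (a + b))
    (hneg : ∀ k a, a ∈ 𝒜 k → P k a → P k (-a)) :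
    ∀ k, ∀ a ∈ 𝒜 k, P k a := by
  classical
  have stage1 : ∀ h ∈ Submonoid.closure ((𝒜 0 : Set A) ∪ (𝒜 1 : Set A)),
      ∃ i, h ∈ 𝒜 i ∧ P i h := by
    intro h hh
    induction hh using Submonoid.closure_induction with
    | mem x hx =>
      rcases hx with hx | hx
      · exact ⟨0, hx, h0 x hx⟩
      · exact ⟨1, hx, h1 x hx⟩
    | one => exact ⟨0, SetLike.GradedOne.one_mem, h0 1 SetLike.GradedOne.one_mem⟩
    | mul x y _ _ hx hy =>
      obtain ⟨i, hi, hPi⟩ := hx
      obtain ⟨j, hj, hPj⟩ := hy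
      exact ⟨i + j, SetLike.mul_mem_graded hi hj, hmul i j x y hi hj hPi hPj⟩
  have stage2 : ∀ a ∈ AddSubgroup.closure
      (Submonoid.closure ((𝒜 0 : Set A) ∪ (𝒜 1 : Set A)) : Set A),
      ∀ k, P k (DirectSum.decompose 𝒜 a k : A) := by
    intro a ha
    induction ha using AddSubgroup.closure_induction with
    | mem x hx =>
      obtain ⟨i, hi, hPi⟩ := stage1 x hx
      intro k
      by_cases hik : i = k
      · subst hik
        rw [DirectSum.decompose_of_mem_same 𝒜 hi]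
        exact hPi
      · rw [DirectSum.decompose_of_mem_ne 𝒜 hi hik]
        exact hzero k
    | zero =>
      intro k
      rw [DirectSum.decompose_zero, DirectSum.zero_apply, ZeroMemClass.coe_zero]
      exact hzero k
    | add x y _ _ hx hy =>
      intro k
      rw [DirectSum.decompose_add, DirectSum.add_apply, AddMemClass.coe_add]
      exact hadd k _ _ (SetLike.coe_mem _) (SetLike.coe_mem _) (hx k) (hy k)
    | neg x _ hx =>
      intro k
      have e : (DirectSum.decompose 𝒜 (-x) k : A) = -(DirectSum.decompose 𝒜 x k : A) := by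
        rw [DirectSum.decompose_neg]
        rfl
      rw [e]
      exact hneg k _ (SetLike.coe_mem _) (hx k)
  intro k a ha
  have hmem : a ∈ Subring.closure ((𝒜 0 : Set A) ∪ (𝒜 1 : Set A)) := by rw [hgen]; trivial
  have := stage2 a (Subring.mem_closure_iff.mp hmem) k
  rwa [DirectSum.decompose_of_mem_same 𝒜 ha] at this

/-- In a graded ring generated in degrees `0` and `1`, the irrelevant ideal is generated by any
set spanning the degree-one part over (a subring mapping to) the degree-zero part. -/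
theorem irrelevant_le_span (hgen : Subring.closure ((𝒜 0 : Set A) ∪ (𝒜 1 : Set A)) = ⊤)
    (T : Set A) (hT : ∀ x ∈ 𝒜 1, x ∈ Ideal.span T) :
    (𝒜₊).toIdeal ≤ Ideal.span T := by
  have key := gen_induction hgen (fun k a => k = 0 ∨ a ∈ Ideal.span T)
    (fun _ _ => Or.inl rfl) (fun a ha => Or.inr (hT a ha))
    (fun i j a b _ _ hPa hPb => by
      rcases hPa with rfl | hPa
      · rcases hPb with rfl | hPb
        · exact Or.inl rfl
        · exact Or.inr (Ideal.mul_mem_left _ _ hPb)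
      · exact Or.inr (Ideal.mul_mem_right _ _ hPa))
    (fun _ => Or.inr (Ideal.zero_mem _))
    (fun k a b _ _ hPa hPb => by
      rcases hPa with rfl | hPa
      · exact Or.inl rfl
      · rcases hPb with rfl | hPb
        · exact Or.inl rfl
        · exact Or.inr (Ideal.add_mem _ hPa hPb))
    (fun k a _ hPa => by
      rcases hPa with rfl | hPa
      · exact Or.inl rfl
      · exact Or.inr ((Ideal.neg_mem_iff _).mpr hPa))
  rw [HomogeneousIdeal.toIdeal_irrelevant_le]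
  intro i hi x hx
  rcases key i x hx with h | h
  · omega
  · exact h

section away

variable {f : A} (hf : f ∈ 𝒜 1)

theorem mem_smul_one {k : ℕ} {a : A} (ha : a ∈ 𝒜 k) : a ∈ 𝒜 (k • 1) := by
  simpa using ha

theorem mk_mul {i j : ℕ} {a b : A} (ha : a ∈ 𝒜 (i • 1)) (hb : b ∈ 𝒜 (j • 1))
    (hab : a * b ∈ 𝒜 ((i + j) • 1)) :
    Away.mk 𝒜 hf (i + j) (a * b) hab = Away.mk 𝒜 hf i a ha * Away.mk 𝒜 hf j b hb := by
  apply HomogeneousLocalization.val_injective
  rw [HomogeneousLocalization.val_mul]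
  simp only [Away.val_mk, Localization.mk_mul]
  congr 1
  apply Subtype.ext
  simp [pow_add]

theorem mk_add {k : ℕ} {a b : A} (ha : a ∈ 𝒜 (k • 1)) (hb : b ∈ 𝒜 (k • 1))
    (hab : a + b ∈ 𝒜 (k • 1)) :
    Away.mk 𝒜 hf k (a + b) hab = Away.mk 𝒜 hf k a ha + Away.mk 𝒜 hf k b hb := by
  apply HomogeneousLocalization.val_injective
  rw [HomogeneousLocalization.val_add]
  simp only [Away.val_mk, Localization.add_mk_self]

theorem mk_zero {k : ℕ} (h0 : (0 : A) ∈ 𝒜 (k • 1)) : Away.mk 𝒜 hf k 0 h0 = 0 := by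
  apply HomogeneousLocalization.val_injective
  simp only [Away.val_mk, HomogeneousLocalization.val_zero, Localization.mk_zero]

theorem mk_neg {k : ℕ} {a : A} (ha : a ∈ 𝒜 (k • 1)) (hna : -a ∈ 𝒜 (k • 1)) :
    Away.mk 𝒜 hf k (-a) hna = - Away.mk 𝒜 hf k a ha := by
  apply HomogeneousLocalization.val_injective
  rw [HomogeneousLocalization.val_neg]
  simp only [Away.val_mk, Localization.neg_mk]

theorem mk_succ {k : ℕ} {a : A} (ha : a ∈ 𝒜 (k • 1)) (haf : a * f ∈ 𝒜 ((k + 1) • 1)) :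
    Away.mk 𝒜 hf k a ha = Away.mk 𝒜 hf (k + 1) (a * f) haf := by
  apply HomogeneousLocalization.val_injective
  simp only [Away.val_mk]
  rw [Localization.mk_eq_mk_iff, Localization.r_iff_exists]
  refine ⟨1, ?_⟩
  simp only [OneMemClass.coe_one, one_mul, pow_succ]
  ring

theorem mk_zero_eq {a : A} (ha : a ∈ 𝒜 0) (ha' : a ∈ 𝒜 (0 • 1)) :
    Away.mk 𝒜 hf 0 a ha' = fromZeroRingHom 𝒜 (Submonoid.powers f) ⟨a, ha⟩ := by
  apply HomogeneousLocalization.val_injective
  simp only [Away.val_mk, fromZeroRingHom, HomogeneousLocalization.val_mk, RingHom.coe_mk,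
    MonoidHom.coe_mk, OneHom.coe_mk]
  congr 1
  apply Subtype.ext
  simp

end away

section away2

variable {f : A} (hf : f ∈ 𝒜 1)

theorem mk_smul {k : ℕ} (r : 𝒜 0) {a : A} (ha : a ∈ 𝒜 (k • 1)) (hra : (r : A) * a ∈ 𝒜 (k • 1)) :
    Away.mk 𝒜 hf k ((r : A) * a) hra =
      fromZeroRingHom 𝒜 (Submonoid.powers f) r * Away.mk 𝒜 hf k a ha := by
  apply HomogeneousLocalization.val_injective
  rw [HomogeneousLocalization.val_mul]
  simp only [Away.val_mk, fromZeroRingHom, HomogeneousLocalization.val_mk, RingHom.coe_mk,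
    MonoidHom.coe_mk, OneHom.coe_mk, Localization.mk_mul]
  congr 1
  apply Subtype.ext
  simp

theorem mk_zero_succ {a : A} (ha : a ∈ 𝒜 (0 • 1)) (haf : a * f ∈ 𝒜 (1 • 1)) :
    Away.mk 𝒜 hf 0 a ha = Away.mk 𝒜 hf 1 (a * f) haf := by
  apply HomogeneousLocalization.val_injective
  simp only [Away.val_mk]
  rw [Localization.mk_eq_mk_iff, Localization.r_iff_exists]
  refine ⟨1, ?_⟩
  simp only [OneMemClass.coe_one, one_mul, pow_zero, pow_one]
  ring

theorem mk_sum_mem {k : ℕ} (B : AddSubmonoid (Away 𝒜 f)) {ι : Type*} (s : Finset ι) (g : ι → A)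
    (hg : ∀ i ∈ s, g i ∈ 𝒜 (k • 1))
    (hB : ∀ i (hi : i ∈ s), Away.mk 𝒜 hf k (g i) (hg i hi) ∈ B)
    (h : ∑ i ∈ s, g i ∈ 𝒜 (k • 1)) : Away.mk 𝒜 hf k (∑ i ∈ s, g i) h ∈ B := by
  classical
  induction s using Finset.induction_on with
  | empty =>
    have e : Away.mk 𝒜 hf k (∑ i ∈ (∅ : Finset ι), g i) h = 0 := by
      apply HomogeneousLocalization.val_injective
      simp only [Away.val_mk, HomogeneousLocalization.val_zero, Finset.sum_empty,
        Localization.mk_zero]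
    rw [e]; exact zero_mem _
  | insert a s has ih =>
    have hga : g a ∈ 𝒜 (k • 1) := hg a (Finset.mem_insert_self a s)
    have hgs : ∀ i ∈ s, g i ∈ 𝒜 (k • 1) := fun i hi => hg i (Finset.mem_insert_of_mem hi)
    have hsum : ∑ i ∈ s, g i ∈ 𝒜 (k • 1) := sum_mem hgs
    have e : Away.mk 𝒜 hf k (∑ i ∈ insert a s, g i) h =
        Away.mk 𝒜 hf k (g a) hga + Away.mk 𝒜 hf k (∑ i ∈ s, g i) hsum := by
      apply HomogeneousLocalization.val_injective
      rw [HomogeneousLocalization.val_add]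
      simp only [Away.val_mk, Localization.add_mk_self, Finset.sum_insert has]
    rw [e]
    exact add_mem (hB a (Finset.mem_insert_self a s))
      (ih hgs (fun i hi => hB i (Finset.mem_insert_of_mem hi)) hsum)

end away2

section finiteType

variable {R : Type u} [CommRing R] (ρ₀ : R →+* 𝒜 0)

/-- The ring hom `R → 𝒜_(f)` induced by `ρ₀ : R → 𝒜₀`. -/
noncomputable def toAway (f : A) : R →+* Away 𝒜 f :=
  (fromZeroRingHom 𝒜 (Submonoid.powers f)).comp ρ₀

/-- If `𝒜` is generated in degrees `0`, `1` and `𝒜₁` is spanned over `R` by the finite set `T`,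
then `𝒜_(f)` is generated as an `R`-algebra by the `t / f`, `t ∈ T`. -/
theorem away_adjoin_eq_top (hgen : Subring.closure ((𝒜 0 : Set A) ∪ (𝒜 1 : Set A)) = ⊤)
    (T : Finset A) (hT1 : ∀ t ∈ T, t ∈ 𝒜 1)
    (hT : ∀ x ∈ 𝒜 1, ∃ c : A → R, x = ∑ t ∈ T, ((ρ₀ (c t) : 𝒜 0) : A) * t)
    {f : A} (hf : f ∈ 𝒜 1) :
    letI := (toAway ρ₀ f).toAlgebra
    Algebra.adjoin R (Set.range fun t : T => Away.mk 𝒜 hf 1 t.1 (mem_smul_one (hT1 t.1 t.2))) = ⊤ := by
  letI := (toAway ρ₀ f).toAlgebra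
  set B := Algebra.adjoin R
    (Set.range fun t : T => Away.mk 𝒜 hf 1 t.1 (mem_smul_one (hT1 t.1 t.2))) with hB
  have hone : ∀ a ∈ 𝒜 1, ∀ ha : a ∈ 𝒜 (1 • 1), Away.mk 𝒜 hf 1 a ha ∈ B := by
    intro a ha1 ha
    obtain ⟨c, hc⟩ := hT a ha1
    subst hc
    refine mk_sum_mem hf B.toSubsemiring.toAddSubmonoid T _ ?_ ?_ ha
    · intro t ht
      exact mem_smul_one (by
        have := SetLike.mul_mem_graded (ρ₀ (c t)).2 (hT1 t ht)
        simpa using this)
    · intro t ht
      rw [mk_smul hf (ρ₀ (c t)) (mem_smul_one (hT1 t ht))]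
      refine B.mul_mem ?_ ?_
      · exact B.algebraMap_mem (c t)
      · exact Algebra.subset_adjoin ⟨⟨t, ht⟩, rfl⟩
  have key := gen_induction hgen (fun k a => ∀ ha : a ∈ 𝒜 (k • 1), Away.mk 𝒜 hf k a ha ∈ B)
    (fun a ha0 ha => by
      have haf : a * f ∈ 𝒜 1 := by
        have := SetLike.mul_mem_graded ha0 hf
        simpa using this
      rw [mk_zero_succ hf ha (mem_smul_one haf)]
      exact hone _ haf _)
    hone
    (fun i j a b hai hbj hPa hPb hab => by
      rw [mk_mul hf (mem_smul_one hai) (mem_smul_one hbj) hab]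
      exact B.mul_mem (hPa _) (hPb _))
    (fun k h0 => by rw [mk_zero hf h0]; exact B.zero_mem)
    (fun k a b hak hbk hPa hPb hab => by
      rw [mk_add hf (mem_smul_one hak) (mem_smul_one hbk) hab]
      exact B.add_mem (hPa _) (hPb _))
    (fun k a hak hPa hna => by
      rw [mk_neg hf (mem_smul_one hak) hna]
      exact B.neg_mem (hPa _))
  rw [eq_top_iff]
  rintro x -
  obtain ⟨n, a, ha, rfl⟩ := Away.mk_surjective 𝒜 hf x
  have ha' : a ∈ 𝒜 n := by simpa using ha
  exact key n a ha' ha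

theorem finiteType_toAway (hgen : Subring.closure ((𝒜 0 : Set A) ∪ (𝒜 1 : Set A)) = ⊤)
    (T : Finset A) (hT1 : ∀ t ∈ T, t ∈ 𝒜 1)
    (hT : ∀ x ∈ 𝒜 1, ∃ c : A → R, x = ∑ t ∈ T, ((ρ₀ (c t) : 𝒜 0) : A) * t)
    {f : A} (hf : f ∈ 𝒜 1) : (toAway ρ₀ f).FiniteType := by
  classical
  letI := (toAway ρ₀ f).toAlgebra
  change Algebra.FiniteType R (Away 𝒜 f)
  refine ⟨⟨Finset.univ.image
    (fun t : T => Away.mk 𝒜 hf 1 t.1 (mem_smul_one (hT1 t.1 t.2))), ?_⟩⟩
  rw [Finset.coe_image, Finset.coe_univ, Set.image_univ]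
  exact away_adjoin_eq_top ρ₀ hgen T hT1 hT hf

end finiteType

section scheme

/-- If `𝒜` is generated in degrees `0`, `1` and `𝒜₁` is finitely generated over `R`, then
`Proj 𝒜 ⟶ Spec R` is of finite type. -/
theorem proj_finiteType (R : CommRingCat.{u}) (ρ₀ : R ⟶ CommRingCat.of (𝒜 0))
    (hgen : Subring.closure ((𝒜 0 : Set A) ∪ (𝒜 1 : Set A)) = ⊤)
    (T : Finset A) (hT1 : ∀ t ∈ T, t ∈ 𝒜 1)
    (hT : ∀ x ∈ 𝒜 1, ∃ c : A → R, x = ∑ t ∈ T, ((ρ₀.hom (c t) : 𝒜 0) : A) * t) :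
    LocallyOfFiniteType (Proj.toSpecZero 𝒜 ≫ Spec.map ρ₀) ∧
      QuasiCompact (Proj.toSpecZero 𝒜 ≫ Spec.map ρ₀) := by
  classical
  have hspan : (𝒜₊).toIdeal ≤ Ideal.span (Set.range fun t : T => (t.1 : A)) := by
    refine irrelevant_le_span hgen _ fun x hx => ?_
    obtain ⟨c, rfl⟩ := hT x hx
    refine Ideal.sum_mem _ fun t ht => Ideal.mul_mem_left _ _ (Ideal.subset_span ⟨⟨t, ht⟩, rfl⟩)
  let 𝒰 := Proj.affineOpenCoverOfIrrelevantLESpan 𝒜 (fun t : T => (t.1 : A)) (m := fun _ => 1)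
    (fun t => hT1 t.1 t.2) (fun _ => Nat.one_pos) hspan
  constructor
  · refine (IsZariskiLocalAtSource.iff_of_openCover (P := @LocallyOfFiniteType) 𝒰.openCover).mpr
      fun t => ?_
    change LocallyOfFiniteType (Proj.awayι 𝒜 (t.1 : A) (hT1 t.1 t.2) Nat.one_pos ≫
      Proj.toSpecZero 𝒜 ≫ Spec.map ρ₀)
    rw [Proj.awayι_toSpecZero_assoc, ← Spec.map_comp,
      HasRingHomProperty.Spec_iff (P := @LocallyOfFiniteType)]
    exact finiteType_toAway ρ₀.hom hgen T hT1 hT (hT1 t.1 t.2)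
  · rw [HasAffineProperty.iff_of_isAffine (P := @QuasiCompact)]
    have : Finite 𝒰.openCover.I₀ := inferInstanceAs (Finite T)
    exact Scheme.OpenCover.compactSpace 𝒰.openCover

end scheme

end Groth.Agent.Lib.Lead.GenDegOne
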