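import Mathlib
import Groth.Agent.Lib.Lead.CurveInv
import Groth.Agent.Lib.Lead.RankAdd
import Groth.Agent.Lib.Lead.ProperEuler
import Groth.Agent.Lib.Helper25.StalkEpi
import Groth.Agent.Lib.Helper8.DevMaster

/-!
# Vector bundles on integral proper curves, part 1 (lead)

Let `X` be an integral scheme, `φ : E ⟶ E'` a monomorphism of finite locally free modules of the same rank `r`.
* `stalk_surjective_genericPoint`: `φ` is surjective on the stalk at the generic point.
* `exists_open_sections_cokernel_vanish`: `coker φ` has no sections on opens inside some nonempty open.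

If moreover `X` is proper over a field `k`, of dimension `≤ 1`:
* `subsingleton_HH_cokernel`: `H^{n+1}(X, coker φ) = 0`.
* `deg_sub_deg`: `deg E' − deg E = h⁰(coker φ)`; `deg_le`: `deg E ≤ deg E'`;
* `isIso_of_deg_eq`: if `deg E = deg E'` then `φ` is an isomorphism.
-/

set_option autoImplicit false
set_option linter.style.haveILetI false
universe u
open CategoryTheory CategoryTheory.Limits AlgebraicGeometry Opposite TopologicalSpace Module
open Groth.Agent.Lib.helper17.FlatOver7

namespace Groth.Agent.Lib.Lead.VBCurve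

section general

variable {X : Scheme.{u}}

/-- a module all of whose stalks at points of `O` vanish has no sections over `O` -/
theorem subsingleton_sections_of_stalks (M : X.Modules) (O : X.Opens)
    (h : ∀ x ∈ O, Subsingleton (M.presheaf.stalk x)) : Subsingleton Γ(M, O) := by
  refine ⟨fun s t => ?_⟩
  refine TopCat.Presheaf.section_ext ⟨M.presheaf, M.isSheaf⟩ O _ _ (fun x hx => ?_)
  exact (h x hx).elim _ _

/-- the stalk of the cokernel vanishes where the stalk map is surjective -/
theorem subsingleton_stalk_cokernel {E E' : X.Modules} (φ : E ⟶ E') (x : X)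
    (h : Function.Surjective (stalkAdd φ x)) :
    Subsingleton ((cokernel φ).presheaf.stalk x) := by
  refine ⟨fun a b => ?_⟩
  have key : ∀ m : (cokernel φ).presheaf.stalk x, m = 0 := by
    intro m
    obtain ⟨e', rfl⟩ := Groth.Agent.Lib.helper25.StalkEpi.stalkAdd_surjective_of_epi (cokernel.π φ) x m
    obtain ⟨e, rfl⟩ := h e'
    rw [← stalkAdd_comp, cokernel.condition]
    obtain ⟨U, hxU, s, rfl⟩ := E.presheaf.exists_germ_eq e
    rw [stalkAdd_germ]
    exact (congrArg _ (rfl : ((0 : E ⟶ cokernel φ).app U).hom s = 0)).trans (map_zero _)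
  rw [key a, key b]

/-- a mono between finite locally free modules of the same rank is surjective on the stalk at a point whose local ring
is a field -/
theorem stalk_surjective_of_isField {E E' : X.Modules} {r : ℕ}
    (hE : FlatMod.IsFinLocFreeOfRank r E) (hE' : FlatMod.IsFinLocFreeOfRank r E')
    (φ : E ⟶ E') [Mono φ] (x : X) (hx : IsField (X.presheaf.stalk x)) :
    Function.Surjective (stalkAdd φ x) := by
  letI : Field (X.presheaf.stalk x) := hx.toField
  have hinj := Groth.Agent.Lib.helper8.StalkLen.stalkAdd_injective_of_mono φ x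
  obtain ⟨f1, f2⟩ := Groth.Agent.Lib.helper16.FLF.free_stalk_of_isFinLocFree E
    (Groth.Agent.Lib.helper16.FLF.isFinLocFree_of_isFinLocFreeOfRank hE) x
  obtain ⟨g1, g2⟩ := Groth.Agent.Lib.helper16.FLF.free_stalk_of_isFinLocFree E'
    (Groth.Agent.Lib.helper16.FLF.isFinLocFree_of_isFinLocFreeOfRank hE') x
  have h1 := Groth.Agent.Lib.helper16.FLF.finrank_stalk_of_isFinLocFreeOfRank E hE x
  have h2 := Groth.Agent.Lib.helper16.FLF.finrank_stalk_of_isFinLocFreeOfRank E' hE' x
  have := (LinearMap.injective_iff_surjective_of_finrank_eq_finrank (K := X.presheaf.stalk x)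
    (f := stalkLin φ x) (h1.trans h2.symm)).mp hinj
  exact this

/-- on an integral scheme, the cokernel of a mono between finite locally free modules of the same rank has no sections
on opens inside some nonempty open -/
theorem exists_open_sections_cokernel_vanish [IsIntegral X] {E E' : X.Modules} {r : ℕ}
    (hE : FlatMod.IsFinLocFreeOfRank r E) (hE' : FlatMod.IsFinLocFreeOfRank r E')
    (φ : E ⟶ E') [Mono φ] :
    ∃ U : X.Opens, (U : Set X).Nonempty ∧
      ∀ O : X.Opens, O ≤ U → Subsingleton Γ(cokernel φ, O) := by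
  have hEc := Groth.Agent.Lib.Lead.RankAdd.isCoh_of_isFinLocFreeOfRank hE
  have hEc' := Groth.Agent.Lib.Lead.RankAdd.isCoh_of_isFinLocFreeOfRank hE'
  have hQc : Coh.IsCoh (cokernel φ) := Groth.Agent.Lib.helper7.CohKer.isCoh_cokernel hEc hEc' φ
  have hcl := Groth.Agent.Lib.helper8.Dev.isClosed_support_of_isCoh (cokernel φ) hQc
  refine ⟨⟨(CohB1.support (cokernel φ))ᶜ, hcl.isOpen_compl⟩, ⟨genericPoint X, ?_⟩, ?_⟩
  · intro hmem
    apply hmem
    apply subsingleton_stalk_cokernel
    apply stalk_surjective_of_isField hE hE'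
    exact Field.toIsField (X.functionField)
  · intro O hO
    apply subsingleton_sections_of_stalks
    intro x hx
    have := hO hx
    by_contra hns
    exact this hns

end general

section proper

open Groth.Agent.Lib.Lead.CurveInv

variable (k : Type u) [Field k] (X : Scheme.{u}) [X.Over (Spec (CommRingCat.of k))]
  [IsProper (X ↘ Spec (CommRingCat.of k))] [IsIntegral X]

include k in
theorem subsingleton_HH_cokernel (hdim : topologicalKrullDim X ≤ 1) {E E' : X.Modules} {r : ℕ}
    (hE : FlatMod.IsFinLocFreeOfRank r E) (hE' : FlatMod.IsFinLocFreeOfRank r E')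
    (φ : E ⟶ E') [Mono φ] (n : ℕ) :
    Subsingleton (Coh.HH X (cokernel φ) (n + 1)) := by
  haveI := Groth.Agent.Lib.Lead.CurveEuler.isNoetherian k X
  obtain ⟨U, hU, h0⟩ := exists_open_sections_cokernel_vanish hE hE' φ
  exact Groth.Agent.Lib.Lead.DimOneVanish.subsingleton_HH_of_sections_vanish (cokernel φ) U
    (fun x hx => isClosed_singleton_of_not_mem hdim U hU x hx) h0 n

omit [X.Over (Spec (CommRingCat.of k))] [IsProper (X ↘ Spec (CommRingCat.of k))] [IsIntegral X] in
/-- the short exact sequence `0 → E → E' → coker φ → 0` -/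
theorem shortExact_cokernel {E E' : X.Modules} (φ : E ⟶ E') [Mono φ] :
    (ShortComplex.mk φ (cokernel.π φ) (cokernel.condition φ)).ShortExact :=
  { exact := ShortComplex.exact_cokernel φ
    mono_f := inferInstanceAs (Mono φ)
    epi_g := inferInstanceAs (Epi (cokernel.π φ)) }

/-- `χ(coker φ) = h⁰(coker φ)` -/
theorem euler_cokernel (hdim : topologicalKrullDim X ≤ 1) {E E' : X.Modules} {r : ℕ}
    (hE : FlatMod.IsFinLocFreeOfRank r E) (hE' : FlatMod.IsFinLocFreeOfRank r E')
    (φ : E ⟶ E') [Mono φ] :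
    Curv2.euler k X (cokernel φ) = (finrank k (Coh.HH X (cokernel φ) 0) : ℤ) := by
  rw [Groth.Agent.Lib.Helper18.HH.euler_eq_sum k (cokernel φ) 0 (fun i hi => by
    obtain ⟨m, rfl⟩ : ∃ m, i = m + 1 := ⟨i - 1, by omega⟩
    exact subsingleton_HH_cokernel k X hdim hE hE' φ m)]
  simp

/-- `deg E' − deg E = h⁰(coker φ)` -/
theorem deg_sub_deg (hdim : topologicalKrullDim X ≤ 1) {E E' : X.Modules} {r : ℕ}
    (hE : FlatMod.IsFinLocFreeOfRank r E) (hE' : FlatMod.IsFinLocFreeOfRank r E')
    (φ : E ⟶ E') [Mono φ] :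
    Curv2.deg k X E' r - Curv2.deg k X E r = (finrank k (Coh.HH X (cokernel φ) 0) : ℤ) := by
  have hS := shortExact_cokernel X φ
  have hEc := Groth.Agent.Lib.Lead.RankAdd.isCoh_of_isFinLocFreeOfRank hE
  have hEc' := Groth.Agent.Lib.Lead.RankAdd.isCoh_of_isFinLocFreeOfRank hE'
  have hQc : Coh.IsCoh (cokernel φ) := Groth.Agent.Lib.helper7.CohKer.isCoh_cokernel hEc hEc' φ
  have h1 := Groth.Agent.Lib.Lead.ProperEuler.euler_additive k hS hEc hQc
  have h2 := euler_cokernel k X hdim hE hE' φ
  simp only at h1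
  unfold Curv2.deg
  rw [h1, h2]
  ring

theorem deg_le (hdim : topologicalKrullDim X ≤ 1) {E E' : X.Modules} {r : ℕ}
    (hE : FlatMod.IsFinLocFreeOfRank r E) (hE' : FlatMod.IsFinLocFreeOfRank r E')
    (φ : E ⟶ E') [Mono φ] :
    Curv2.deg k X E r ≤ Curv2.deg k X E' r := by
  have := deg_sub_deg k X hdim hE hE' φ
  have h0 : (0 : ℤ) ≤ (finrank k (Coh.HH X (cokernel φ) 0) : ℤ) := Int.natCast_nonneg _
  linarith

/-- equality of degrees forces an isomorphism -/
theorem isIso_of_deg_eq (hdim : topologicalKrullDim X ≤ 1) {E E' : X.Modules} {r : ℕ}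
    (hE : FlatMod.IsFinLocFreeOfRank r E) (hE' : FlatMod.IsFinLocFreeOfRank r E')
    (φ : E ⟶ E') [Mono φ] (hdeg : Curv2.deg k X E r = Curv2.deg k X E' r) : IsIso φ := by
  have h1 := deg_sub_deg k X hdim hE hE' φ
  rw [hdeg, sub_self] at h1
  have h2 : finrank k (Coh.HH X (cokernel φ) 0) = 0 := by exact_mod_cast h1.symm
  have hEc := Groth.Agent.Lib.Lead.RankAdd.isCoh_of_isFinLocFreeOfRank hE
  have hEc' := Groth.Agent.Lib.Lead.RankAdd.isCoh_of_isFinLocFreeOfRank hE'
  have hQc : Coh.IsCoh (cokernel φ) := Groth.Agent.Lib.helper7.CohKer.isCoh_cokernel hEc hEc' φ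
  haveI : Module.Finite k (Coh.HH X (cokernel φ) 0) :=
    Groth.Agent.Lib.Lead.ProperEuler.finite_HH k X (cokernel φ) hQc 0
  have h3 : Subsingleton (Coh.HH X (cokernel φ) 0) := Module.finrank_zero_iff.mp h2
  have h4 : Subsingleton Γ(cokernel φ, ⊤) :=
    (Groth.Agent.Lib.Helper18.HH.equiv₀ (cokernel φ)).symm.toEquiv.subsingleton
  haveI := Groth.Agent.Lib.Lead.CurveEuler.isNoetherian k X
  obtain ⟨U, hU, h0⟩ := exists_open_sections_cokernel_vanish hE hE' φ
  have hz : IsZero (cokernel φ) :=
    Groth.Agent.Lib.Lead.DimOneVanish.isZero_of_sections_vanish (cokernel φ) U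
      (fun x hx => isClosed_singleton_of_not_mem hdim U hU x hx) h0 h4
  haveI : Epi φ := Preadditive.epi_of_isZero_cokernel φ hz
  exact isIso_of_mono_of_epi φ

end proper

end Groth.Agent.Lib.Lead.VBCurve
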