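import Mathlib
import Groth.Agent.Lib.Lead.VBCurve1
import Groth.Agent.Lib.Helper16.FLF7
import Groth.Agent.Lib.Helper16.CohFinite

/-!
# Vector bundles on regular curves, part 2 (lead)

`PIDStalks X`: all local rings of `X` are principal ideal domains (e.g. `X` a regular scheme of dimension `≤ 1`,
such as a smooth curve over a field).
* `isFinLocFree_of_mono`: on a locally Noetherian scheme with PID stalks, a coherent submodule of a finite locally free
  module is finite locally free.
* `exists_rank_of_isFinLocFree`: on a preconnected scheme, a finite locally free module has constant rank.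
-/

set_option autoImplicit false
set_option linter.style.haveILetI false
universe u
open CategoryTheory CategoryTheory.Limits AlgebraicGeometry Opposite TopologicalSpace Module
open Groth.Agent.Lib.helper17.FlatOver7 Groth.Agent.Lib.helper16.FLF

namespace Groth.Agent.Lib.Lead.VBCurve

variable {X : Scheme.{u}}

/-- all local rings are principal ideal domains -/
def PIDStalks (X : Scheme.{u}) : Prop :=
  ∀ x : X, IsDomain (X.presheaf.stalk x) ∧ IsPrincipalIdealRing (X.presheaf.stalk x)

/-- stalks of a finite type quasi-coherent submodule of a finite locally free module are free, if the local rings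
are PIDs -/
theorem free_stalk_of_mono (hX : PIDStalks X) {G E : X.Modules} [G.IsQuasicoherent] (hG : CohB1.IsFT G)
    (hE : FlatMod.IsFinLocFree E) (i : G ⟶ E) [Mono i] (x : X) :
    Module.Free (X.presheaf.stalk x) (G.presheaf.stalk x) := by
  obtain ⟨hdom, hpid⟩ := hX x
  haveI := hdom
  haveI := hpid
  obtain ⟨f1, f2⟩ := free_stalk_of_isFinLocFree E hE x
  haveI := finite_stalk_of_isFiniteType G hG x
  have hinj := Groth.Agent.Lib.helper8.StalkLen.stalkAdd_injective_of_mono i x
  haveI : Module.IsTorsionFree (X.presheaf.stalk x) (G.presheaf.stalk x) :=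
    Function.Injective.moduleIsTorsionFree (stalkLin i x) hinj (fun r m => (stalkLin i x).map_smul r m)
  exact Module.free_of_finite_type_torsion_free'

/-- on a locally Noetherian scheme with PID stalks, a coherent submodule of a finite locally free module is finite
locally free -/
theorem isFinLocFree_of_mono [IsLocallyNoetherian X] (hX : PIDStalks X) {G E : X.Modules}
    (hG : Coh.IsCoh G) (hE : FlatMod.IsFinLocFree E) (i : G ⟶ E) [Mono i] :
    FlatMod.IsFinLocFree G := by
  haveI : G.IsQuasicoherent := hG.1
  rw [← isFinLocFree_iff_fp_free_stalks]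
  exact ⟨Groth.Agent.Lib.helper16.CohFinite.isFinitePresentation_of_isCoh G hG,
    fun x => free_stalk_of_mono hX hG.2 hE i x⟩

/-- on a preconnected scheme, a finite locally free module has constant rank -/
theorem exists_rank_of_isFinLocFree [PreconnectedSpace X] {G : X.Modules}
    (hG : FlatMod.IsFinLocFree G) : ∃ n : ℕ, FlatMod.IsFinLocFreeOfRank n G := by
  rcases isEmpty_or_nonempty X with h | ⟨⟨x₀⟩⟩
  · exact ⟨0, fun x => (h.false x).elim⟩
  · refine ⟨fibreRank G x₀, ?_⟩
    rw [isFinLocFreeOfRank_iff_finrank_stalk G hG]
    intro x
    haveI := (free_stalk_of_isFinLocFree G hG x).1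
    rw [← fibreRank_eq_finrank_of_free]
    exact (isLocallyConstant_fibreRank_of_isFinLocFree G hG).apply_eq_of_preconnectedSpace x x₀

end Groth.Agent.Lib.Lead.VBCurve
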