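import Mathlib
import Groth.Agent.Lib.Lead.VBCurve2

/-!
# Vector bundles on regular curves, part 3: kernels and images (lead)

* `shortExact_kernel_image`: `0 → ker f → E → im f → 0` in an abelian category.
* `isZero_of_isFinLocFreeOfRank_zero`, `euler_eq_zero_of_isZero`, `deg_zero_of_isZero`.
* `exists_kernel_image_ranks`: on an integral locally Noetherian scheme with PID stalks, the kernel and the image of a
  morphism of finite locally free modules are finite locally free and the ranks add up.
* `deg_kernel_add_deg_image`: the degrees add up (proper over a field).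
-/

set_option autoImplicit false
set_option linter.style.haveILetI false
universe u
open CategoryTheory CategoryTheory.Limits AlgebraicGeometry Opposite TopologicalSpace Module
open Groth.Agent.Lib.helper17.FlatOver7 Groth.Agent.Lib.helper16.FLF

namespace Groth.Agent.Lib.Lead.VBCurve

section abelian

variable {C : Type*} [Category C] [Abelian C] {E F : C} (f : E ⟶ F)

lemma kernel_ι_factorThruImage : kernel.ι f ≫ Abelian.factorThruImage f = 0 := by
  rw [← cancel_mono (Abelian.image.ι f), Category.assoc, Abelian.image.fac, kernel.condition,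
    zero_comp]

/-- `0 → ker f → E → im f → 0` -/
theorem shortExact_kernel_image :
    (ShortComplex.mk (kernel.ι f) (Abelian.factorThruImage f) (kernel_ι_factorThruImage f)).ShortExact := by
  have hk : IsLimit (KernelFork.ofι (kernel.ι f) (kernel_ι_factorThruImage f)) :=
    isKernelOfComp (Abelian.image.ι f) f (kernelIsKernel f) (kernel_ι_factorThruImage f)
      (Abelian.image.fac f)
  exact
    { exact := ShortComplex.exact_of_f_is_kernel _ hk
      mono_f := inferInstanceAs (Mono (kernel.ι f))
      epi_g := inferInstanceAs (Epi (Abelian.factorThruImage f)) }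

end abelian

section general

variable {X : Scheme.{u}}

/-- a finite locally free module of rank `0` is zero -/
theorem isZero_of_isFinLocFreeOfRank_zero {M : X.Modules} (hM : FlatMod.IsFinLocFreeOfRank 0 M) :
    IsZero M := by
  rw [IsZero.iff_id_eq_zero]
  apply Scheme.Modules.hom_ext
  intro O
  ext m
  have hsub : Subsingleton Γ(M, O) := by
    apply subsingleton_sections_of_stalks
    intro x _
    have h1 := finrank_stalk_of_isFinLocFreeOfRank M hM x
    obtain ⟨f1, f2⟩ := free_stalk_of_isFinLocFree M (isFinLocFree_of_isFinLocFreeOfRank hM) x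
    exact (Module.finrank_eq_zero_iff_of_free (X.presheaf.stalk x) (M.presheaf.stalk x)).mp h1
  exact hsub.elim _ _

theorem subsingleton_HH_of_isZero {M : X.Modules} (hM : IsZero M) (n : ℕ) :
    Subsingleton (Coh.HH X M n) := by
  refine subsingleton_of_forall_eq 0 (fun x => ?_)
  have hx : Groth.Agent.Lib.Helper18.HH.map (𝟙 M) n x = x := by
    rw [Groth.Agent.Lib.Helper18.HH.map_id]
    rfl
  have h0 : (𝟙 M : M ⟶ M) = 0 := (IsZero.iff_id_eq_zero M).mp hM
  rw [h0, Groth.Agent.Lib.Helper18.HH.map_zero] at hx
  exact hx.symm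

/-- kernel and image of a morphism of finite locally free modules on an integral locally Noetherian scheme with PID
stalks are finite locally free, and the ranks add up -/
theorem exists_kernel_image_ranks [IsLocallyNoetherian X] [PreconnectedSpace X] [Nonempty X]
    (hX : PIDStalks X) {E F : X.Modules} {r s : ℕ}
    (hE : FlatMod.IsFinLocFreeOfRank r E) (hF : FlatMod.IsFinLocFreeOfRank s F) (f : E ⟶ F) :
    ∃ rK rI : ℕ, FlatMod.IsFinLocFreeOfRank rK (kernel f) ∧
      FlatMod.IsFinLocFreeOfRank rI (Abelian.image f) ∧ r = rK + rI := by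
  have hEc := Groth.Agent.Lib.Lead.RankAdd.isCoh_of_isFinLocFreeOfRank hE
  have hFc := Groth.Agent.Lib.Lead.RankAdd.isCoh_of_isFinLocFreeOfRank hF
  have hKc : Coh.IsCoh (kernel f) := Groth.Agent.Lib.helper7.CohKer.isCoh_kernel hEc hFc f
  have hQc : Coh.IsCoh (cokernel f) := Groth.Agent.Lib.helper7.CohKer.isCoh_cokernel hEc hFc f
  have hIc : Coh.IsCoh (Abelian.image f) :=
    Groth.Agent.Lib.helper7.CohKer.isCoh_kernel hFc hQc (cokernel.π f)
  have hK := isFinLocFree_of_mono hX hKc (isFinLocFree_of_isFinLocFreeOfRank hE) (kernel.ι f)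
  have hI := isFinLocFree_of_mono hX hIc (isFinLocFree_of_isFinLocFreeOfRank hF) (Abelian.image.ι f)
  obtain ⟨rK, hrK⟩ := exists_rank_of_isFinLocFree hK
  obtain ⟨rI, hrI⟩ := exists_rank_of_isFinLocFree hI
  refine ⟨rK, rI, hrK, hrI, ?_⟩
  exact Groth.Agent.Lib.Lead.RankAdd.rank_add_of_shortExact _ (shortExact_kernel_image f) rK r rI
    hrK hE hrI

end general

section proper

variable (k : Type u) [Field k] (X : Scheme.{u}) [X.Over (Spec (CommRingCat.of k))]
  [IsProper (X ↘ Spec (CommRingCat.of k))]

omit [IsProper (X ↘ Spec (CommRingCat.of k))] in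
theorem euler_eq_zero_of_isZero {M : X.Modules} (hM : IsZero M) : Curv2.euler k X M = 0 := by
  unfold Curv2.euler
  apply finsum_eq_zero_of_forall_eq_zero
  intro i
  haveI := subsingleton_HH_of_isZero hM i
  rw [Module.finrank_zero_of_subsingleton]
  simp

omit [IsProper (X ↘ Spec (CommRingCat.of k))] in
theorem deg_zero_of_isZero {M : X.Modules} (hM : IsZero M) : Curv2.deg k X M 0 = 0 := by
  unfold Curv2.deg
  rw [euler_eq_zero_of_isZero k X hM]
  simp

/-- `deg E = deg (ker f) + deg (im f)` -/
theorem deg_kernel_add_deg_image {E F : X.Modules} {r rK rI : ℕ} (f : E ⟶ F)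
    (hK : FlatMod.IsFinLocFreeOfRank rK (kernel f))
    (hI : FlatMod.IsFinLocFreeOfRank rI (Abelian.image f)) (hr : r = rK + rI) :
    Curv2.deg k X E r = Curv2.deg k X (kernel f) rK + Curv2.deg k X (Abelian.image f) rI :=
  Groth.Agent.Lib.Lead.ProperEuler.deg_additive k (shortExact_kernel_image f)
    (Groth.Agent.Lib.Lead.RankAdd.isCoh_of_isFinLocFreeOfRank hK)
    (Groth.Agent.Lib.Lead.RankAdd.isCoh_of_isFinLocFreeOfRank hI) rK r rI hr

end proper

end Groth.Agent.Lib.Lead.VBCurve
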