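import Mathlib
import Groth.Agent.Lib.Lead.VBCurve3
import Groth.Agent.Lib.Helper13.Normal2
import Groth.Agent.Lib.Helper13.Normal3

/-!
# Smooth curves have PID local rings (lead)

* `isPrincipalIdealRing_of_normal_local`: a Noetherian integrally closed local domain of dimension `≤ 1` is a PID.
* `ringKrullDim_stalk_le`: `dim O_{X,x} ≤ dim X`.
* `pidStalks_of_normal`, `pidStalks_of_smooth`: normal locally Noetherian schemes of dimension `≤ 1` (e.g. smooth curves
  over a field) have PID local rings.
-/

set_option autoImplicit false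
set_option linter.style.haveILetI false
universe u
open CategoryTheory CategoryTheory.Limits AlgebraicGeometry Opposite TopologicalSpace Module

namespace Groth.Agent.Lib.Lead.VBCurve

theorem isPrincipalIdealRing_of_normal_local (R : Type*) [CommRing R] [IsLocalRing R] [IsDomain R]
    [IsIntegrallyClosed R] [IsNoetherianRing R] (hdim : ringKrullDim R ≤ 1) :
    IsPrincipalIdealRing R := by
  haveI hK : Ring.KrullDimLE 1 R := (Order.krullDimLE_iff 1 _).mpr hdim
  have hmax := Ring.krullDimLE_one_iff_of_noZeroDivisors.mp hK
  haveI : Ring.DimensionLEOne R := ⟨fun {p} hp hpp => hmax p hp hpp⟩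
  haveI : IsDedekindDomain R := { }
  apply IsPrincipalIdealRing.of_finite_primes
  apply Set.Finite.subset (Set.toFinite {(⊥ : Ideal R), IsLocalRing.maximalIdeal R})
  intro p hp
  by_cases h0 : p = ⊥
  · exact Or.inl h0
  · exact Or.inr (IsLocalRing.eq_maximalIdeal (hmax p h0 hp))

theorem ringKrullDim_stalk_le (X : Scheme.{u}) (x : X) :
    ringKrullDim (X.presheaf.stalk x) ≤ topologicalKrullDim X := by
  rw [← PrimeSpectrum.topologicalKrullDim_eq_ringKrullDim]
  exact (X.fromSpecStalk x).isEmbedding.isInducing.topologicalKrullDim_le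

variable {X : Scheme.{u}}

theorem pidStalks_of_normal [IsLocallyNoetherian X] (hN : Pi1.IsNormalScheme X)
    (hdim : topologicalKrullDim X ≤ 1) : PIDStalks X := by
  intro x
  obtain ⟨hd, hic⟩ := hN x
  haveI := hd
  haveI := hic
  exact ⟨hd, isPrincipalIdealRing_of_normal_local _ ((ringKrullDim_stalk_le X x).trans hdim)⟩

section field

variable (k : Type u) [Field k] (X : Scheme.{u}) [X.Over (Spec (CommRingCat.of k))]

theorem isNormalScheme_of_smooth [Smooth (X ↘ Spec (CommRingCat.of k))] : Pi1.IsNormalScheme X :=
  Groth.Agent.Lib.helper13.Normal.of_smooth (X ↘ Spec (CommRingCat.of k))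
    (Groth.Agent.Lib.helper13.Normal.Spec_of_isNormalDomain (CommRingCat.of k)
      ⟨inferInstanceAs (IsDomain k), inferInstanceAs (IsIntegrallyClosed k)⟩)

include k in
theorem isLocallyNoetherian_of_smooth [Smooth (X ↘ Spec (CommRingCat.of k))] :
    IsLocallyNoetherian X :=
  LocallyOfFiniteType.isLocallyNoetherian (X ↘ Spec (CommRingCat.of k))

/-- a smooth scheme of dimension `≤ 1` over a field has PID local rings -/
theorem pidStalks_of_smooth [Smooth (X ↘ Spec (CommRingCat.of k))]
    (hdim : topologicalKrullDim X ≤ 1) : PIDStalks X := by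
  haveI := isLocallyNoetherian_of_smooth k X
  exact pidStalks_of_normal (isNormalScheme_of_smooth k X) hdim

/-- a smooth proper geometrically connected scheme over a field is integral -/
theorem isIntegral_of_smooth_of_geometricallyConnected [IsProper (X ↘ Spec (CommRingCat.of k))]
    [Smooth (X ↘ Spec (CommRingCat.of k))] [GeometricallyConnected (X ↘ Spec (CommRingCat.of k))] :
    IsIntegral X := by
  haveI : ConnectedSpace X :=
    GeometricallyConnected.connectedSpace_of_subsingleton (f := X ↘ Spec (CommRingCat.of k))
  haveI := Groth.Agent.Lib.Lead.CurveEuler.isNoetherian k X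
  refine Groth.Agent.Lib.helper13.Normal.isIntegral_of_connected (isNormalScheme_of_smooth k X)
    (fun U _ => ?_)
  haveI : NoetherianSpace ((U : Set X) : Type u) := NoetherianSpace.set _
  exact NoetherianSpace.finite_irreducibleComponents

end field

end Groth.Agent.Lib.Lead.VBCurve
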