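import Mathlib
import Groth.Agent.Lib.Lead.VBCurve4

/-!
# Slopes of kernels and images on smooth proper curves (lead)

`X` an integral scheme proper over a field `k`, with PID local rings (e.g. a smooth proper curve).
* `image_rank_pos`: `f ≠ 0` ⇒ the image has positive rank.
* `slope_image_ge`: if `E` is semistable (tested on finite locally free submodules) then `μ(E) ≤ μ(im f)` for `f ≠ 0`.
* `kernel_image_data`: packaged ranks/degrees of kernel and image.
-/

set_option autoImplicit false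
set_option linter.style.haveILetI false
universe u
open CategoryTheory CategoryTheory.Limits AlgebraicGeometry Opposite TopologicalSpace Module

namespace Groth.Agent.Lib.Lead.VBCurve

variable (k : Type u) [Field k] (X : Scheme.{u}) [X.Over (Spec (CommRingCat.of k))]
  [IsProper (X ↘ Spec (CommRingCat.of k))] [IsIntegral X]

/-- packaged kernel/image data of a morphism of bundles -/
theorem kernel_image_data (hP : PIDStalks X) {E F : X.Modules} {r s : ℕ}
    (hE : FlatMod.IsFinLocFreeOfRank r E) (hF : FlatMod.IsFinLocFreeOfRank s F) (f : E ⟶ F) :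
    ∃ rK rI : ℕ, FlatMod.IsFinLocFreeOfRank rK (kernel f) ∧
      FlatMod.IsFinLocFreeOfRank rI (Abelian.image f) ∧ r = rK + rI ∧
      Curv2.deg k X E r = Curv2.deg k X (kernel f) rK + Curv2.deg k X (Abelian.image f) rI ∧
      (f ≠ 0 → 0 < rI) ∧ (rK = 0 → Mono f) ∧ (rK = 0 → Curv2.deg k X (kernel f) rK = 0) := by
  haveI := Groth.Agent.Lib.Lead.CurveEuler.isNoetherian k X
  obtain ⟨rK, rI, hK, hI, hrr⟩ := exists_kernel_image_ranks hP hE hF f
  refine ⟨rK, rI, hK, hI, hrr, deg_kernel_add_deg_image k X f hK hI hrr, ?_, ?_, ?_⟩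
  · intro hf
    rcases Nat.eq_zero_or_pos rI with h0 | h0
    · exfalso
      subst h0
      have hz := isZero_of_isFinLocFreeOfRank_zero hI
      apply hf
      rw [← Abelian.image.fac f, hz.eq_of_tgt (Abelian.factorThruImage f) 0, zero_comp]
    · exact h0
  · intro h0
    subst h0
    exact Preadditive.mono_of_isZero_kernel f (isZero_of_isFinLocFreeOfRank_zero hK)
  · intro h0
    subst h0
    exact deg_zero_of_isZero k X (isZero_of_isFinLocFreeOfRank_zero hK)

/-- if `E` is semistable then `μ(E) ≤ μ(im f)` for every nonzero `f : E ⟶ F` -/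
theorem slope_image_ge (hP : PIDStalks X) {E F : X.Modules} {r s : ℕ}
    (hE : FlatMod.IsFinLocFreeOfRank r E) (hF : FlatMod.IsFinLocFreeOfRank s F)
    (hEss : ∀ (G : X.Modules) (r' : ℕ) (i : G ⟶ E), Mono i → 0 < r' → FlatMod.IsFinLocFreeOfRank r' G →
      Curv2.deg k X G r' * (r : ℤ) ≤ Curv2.deg k X E r * (r' : ℤ))
    (f : E ⟶ F) (hf : f ≠ 0) :
    ∃ rK rI : ℕ, 0 < rI ∧ r = rK + rI ∧ FlatMod.IsFinLocFreeOfRank rK (kernel f) ∧
      FlatMod.IsFinLocFreeOfRank rI (Abelian.image f) ∧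
      Curv2.deg k X E r = Curv2.deg k X (kernel f) rK + Curv2.deg k X (Abelian.image f) rI ∧
      Curv2.deg k X E r * (rI : ℤ) ≤ Curv2.deg k X (Abelian.image f) rI * (r : ℤ) ∧
      (rK = 0 → Mono f) := by
  obtain ⟨rK, rI, hK, hI, hrr, hdeg, hpos, hmono, hK0⟩ := kernel_image_data k X hP hE hF f
  refine ⟨rK, rI, hpos hf, hrr, hK, hI, hdeg, ?_, hmono⟩
  have h2 : Curv2.deg k X (kernel f) rK * (r : ℤ) ≤ Curv2.deg k X E r * (rK : ℤ) := by
    rcases Nat.eq_zero_or_pos rK with h0 | h0
    · rw [hK0 h0, h0]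
      simp
    · exact hEss (kernel f) rK (kernel.ι f) inferInstance h0 hK
  have hr' : (r : ℤ) = (rK : ℤ) + (rI : ℤ) := by exact_mod_cast hrr
  have : Curv2.deg k X (kernel f) rK = Curv2.deg k X E r - Curv2.deg k X (Abelian.image f) rI := by
    linarith
  rw [this, hr'] at h2
  rw [hr']
  ring_nf at h2 ⊢
  linarith

omit [X.Over (Spec (CommRingCat.of k))] [IsProper (X ↘ Spec (CommRingCat.of k))] in
/-- the rank of a finite locally free submodule is at most the rank of the ambient module -/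
theorem rank_le_of_mono {G E : X.Modules} {r' r : ℕ} (hG : FlatMod.IsFinLocFreeOfRank r' G)
    (hE : FlatMod.IsFinLocFreeOfRank r E) (i : G ⟶ E) [Mono i] : r' ≤ r := by
  obtain ⟨x⟩ : Nonempty X := inferInstance
  obtain ⟨f1, f2⟩ := Groth.Agent.Lib.helper16.FLF.free_stalk_of_isFinLocFree E
    (Groth.Agent.Lib.helper16.FLF.isFinLocFree_of_isFinLocFreeOfRank hE) x
  have hinj := Groth.Agent.Lib.helper8.StalkLen.stalkAdd_injective_of_mono i x
  have := LinearMap.finrank_le_finrank_of_injective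
    (f := Groth.Agent.Lib.helper17.FlatOver7.stalkLin i x) hinj
  rwa [Groth.Agent.Lib.helper16.FLF.finrank_stalk_of_isFinLocFreeOfRank G hG x,
    Groth.Agent.Lib.helper16.FLF.finrank_stalk_of_isFinLocFreeOfRank E hE x] at this

/-- if `E` is stable and `f : E ⟶ F` is nonzero with nonzero kernel then `μ(E) < μ(im f)` -/
theorem slope_image_gt (hP : PIDStalks X) {E F : X.Modules} {r s : ℕ}
    (hE : FlatMod.IsFinLocFreeOfRank r E) (hF : FlatMod.IsFinLocFreeOfRank s F)
    (hEst : ∀ (G : X.Modules) (r' : ℕ) (i : G ⟶ E), Mono i → 0 < r' → r' < r →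
      FlatMod.IsFinLocFreeOfRank r' G →
      Curv2.deg k X G r' * (r : ℤ) < Curv2.deg k X E r * (r' : ℤ))
    (f : E ⟶ F) (hf : f ≠ 0) (hnm : ¬ Mono f) :
    ∃ rK rI : ℕ, 0 < rI ∧ r = rK + rI ∧ FlatMod.IsFinLocFreeOfRank rK (kernel f) ∧
      FlatMod.IsFinLocFreeOfRank rI (Abelian.image f) ∧
      Curv2.deg k X E r = Curv2.deg k X (kernel f) rK + Curv2.deg k X (Abelian.image f) rI ∧
      Curv2.deg k X E r * (rI : ℤ) < Curv2.deg k X (Abelian.image f) rI * (r : ℤ) := by
  obtain ⟨rK, rI, hK, hI, hrr, hdeg, hpos, hmono, -⟩ := kernel_image_data k X hP hE hF f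
  refine ⟨rK, rI, hpos hf, hrr, hK, hI, hdeg, ?_⟩
  have hrK : 0 < rK := by
    rcases Nat.eq_zero_or_pos rK with h0 | h0
    · exact absurd (hmono h0) hnm
    · exact h0
  have hrI := hpos hf
  have h2 := hEst (kernel f) rK (kernel.ι f) inferInstance hrK (by omega) hK
  have hr' : (r : ℤ) = (rK : ℤ) + (rI : ℤ) := by exact_mod_cast hrr
  have : Curv2.deg k X (kernel f) rK = Curv2.deg k X E r - Curv2.deg k X (Abelian.image f) rI := by
    linarith
  rw [this, hr'] at h2
  rw [hr']
  ring_nf at h2 ⊢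
  linarith

end Groth.Agent.Lib.Lead.VBCurve
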