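import Mathlib
import Groth.Agent.Lib.Lead.VBCurve5

/-!
# Degrees of submodules are bounded; maximal slope (lead)

`X` proper over a field `k`, `dim X ≤ 1`.
* `shortExact_of_mono`, `injective_H0_of_mono`: `H⁰` is left exact.
* `euler_le_finrank_H0_of_mono`: `χ(F) ≤ h⁰(E)` for `F ↪ E`, `F` quasi-coherent, `E` coherent.
* `deg_le_of_mono`: `deg F ≤ h⁰(E) − r' χ(O_X)` for a submodule `F` of `E` viewed of rank `r'`.
* `exists_maxSlope`: among finite locally free submodules of positive rank of a bundle `E` (integral `X`) there is one of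
  maximal slope and, among those, of maximal rank.
-/

set_option autoImplicit false
set_option linter.style.haveILetI false
universe u
open CategoryTheory CategoryTheory.Limits AlgebraicGeometry Opposite TopologicalSpace Module

namespace Groth.Agent.Lib.Lead.VBCurve

section arith

theorem exists_max_pair (S : ℤ → ℕ → Prop) (r : ℕ) (N : ℤ)
    (hS : ∀ d r', S d r' → 0 < r' ∧ r' ≤ r ∧ d ≤ N) (hne : ∃ d r', S d r') :
    ∃ d₁ r₁, S d₁ r₁ ∧ (∀ d r', S d r' → d * (r₁ : ℤ) ≤ d₁ * (r' : ℤ)) ∧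
      (∀ d r', S d r' → d * (r₁ : ℤ) = d₁ * (r' : ℤ) → r' ≤ r₁) := by
  classical
  set M : ℕ := r.factorial with hM
  have hMpos : 0 < M := Nat.factorial_pos r
  have hc : ∀ r', 0 < r' → r' ≤ r → (M / r') * r' = M := fun r' h1 h2 =>
    Nat.div_mul_cancel (Nat.dvd_factorial h1 h2)
  have hcpos : ∀ r', 0 < r' → r' ≤ r → 0 < M / r' := fun r' h1 h2 =>
    Nat.div_pos (Nat.le_of_dvd hMpos (Nat.dvd_factorial h1 h2)) h1
  -- stage 1
  obtain ⟨z₁, ⟨d₀, r₀, hS₀, hz₀⟩, hz₁⟩ := Int.exists_greatest_of_bdd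
    (P := fun z => ∃ d r', S d r' ∧ z = d * ((M / r' : ℕ) : ℤ))
    ⟨max N 0 * M, by
      rintro z ⟨d, r', hdr, rfl⟩
      obtain ⟨h1, h2, h3⟩ := hS d r' hdr
      have hcle : ((M / r' : ℕ) : ℤ) ≤ (M : ℤ) := by exact_mod_cast Nat.div_le_self M r'
      have hc0 : (0 : ℤ) ≤ ((M / r' : ℕ) : ℤ) := Int.natCast_nonneg _
      rcases le_or_gt d 0 with hd | hd
      · have : d * ((M / r' : ℕ) : ℤ) ≤ 0 := mul_nonpos_of_nonpos_of_nonneg hd hc0
        have h4 : (0 : ℤ) ≤ max N 0 * M := mul_nonneg (le_max_right _ _) (Int.natCast_nonneg _)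
        linarith
      · calc d * ((M / r' : ℕ) : ℤ) ≤ d * M := mul_le_mul_of_nonneg_left hcle hd.le
          _ ≤ max N 0 * M := mul_le_mul_of_nonneg_right (h3.trans (le_max_left _ _)) (Int.natCast_nonneg _)⟩
    (by obtain ⟨d, r', h⟩ := hne; exact ⟨_, d, r', h, rfl⟩)
  -- stage 2
  let Q : ℕ → Prop := fun n => ∃ d, S d n ∧ d * ((M / n : ℕ) : ℤ) = z₁
  have hQ₀ : Q r₀ := ⟨d₀, hS₀, hz₀.symm⟩
  have hr₀ := (hS d₀ r₀ hS₀).2.1
  obtain ⟨d₁, hS₁, hz⟩ : Q (Nat.findGreatest Q r) := Nat.findGreatest_spec hr₀ hQ₀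
  set r₁ := Nat.findGreatest Q r with hr₁
  obtain ⟨h1pos, h1le, -⟩ := hS d₁ r₁ hS₁
  have key : ∀ d r', S d r' → d * (r₁ : ℤ) * M ≤ d₁ * (r' : ℤ) * M ∧
      (d * (r₁ : ℤ) = d₁ * (r' : ℤ) → d * ((M / r' : ℕ) : ℤ) = z₁) := by
    intro d r' hdr
    obtain ⟨h1, h2, -⟩ := hS d r' hdr
    have hle := hz₁ _ ⟨d, r', hdr, rfl⟩
    have e1 : ((M / r' : ℕ) : ℤ) * (r' : ℤ) = M := by exact_mod_cast hc r' h1 h2
    have e2 : ((M / r₁ : ℕ) : ℤ) * (r₁ : ℤ) = M := by exact_mod_cast hc r₁ h1pos h1le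
    have hpos : (0 : ℤ) < (r' : ℤ) * (r₁ : ℤ) := by positivity
    refine ⟨?_, fun heq => ?_⟩
    · have := mul_le_mul_of_nonneg_right hle hpos.le
      calc d * (r₁ : ℤ) * M = d * ((M / r' : ℕ) : ℤ) * ((r' : ℤ) * (r₁ : ℤ)) := by rw [← e1]; ring
        _ ≤ z₁ * ((r' : ℤ) * (r₁ : ℤ)) := this
        _ = d₁ * (r' : ℤ) * M := by rw [← hz, ← e2]; ring
    · apply mul_right_cancel₀ hpos.ne'
      calc d * ((M / r' : ℕ) : ℤ) * ((r' : ℤ) * (r₁ : ℤ)) = d * (r₁ : ℤ) * M := by rw [← e1]; ring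
        _ = d₁ * (r' : ℤ) * M := by rw [heq]
        _ = z₁ * ((r' : ℤ) * (r₁ : ℤ)) := by rw [← hz, ← e2]; ring
  have hMz : (0 : ℤ) < (M : ℤ) := by exact_mod_cast hMpos
  refine ⟨d₁, r₁, hS₁, fun d r' hdr => ?_, fun d r' hdr heq => ?_⟩
  · exact le_of_mul_le_mul_right (key d r' hdr).1 hMz
  · exact Nat.le_findGreatest (hS d r' hdr).2.1 ⟨d, hdr, (key d r' hdr).2 heq⟩

end arith

section general

variable {X : Scheme.{u}}

theorem shortExact_of_mono {F E : X.Modules} (i : F ⟶ E) [Mono i] :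
    (ShortComplex.mk i (cokernel.π i) (cokernel.condition i)).ShortExact where
  exact := ShortComplex.exact_cokernel i
  mono_f := inferInstanceAs (Mono i)
  epi_g := inferInstanceAs (Epi (cokernel.π i))

theorem injective_H0_of_mono (k : Type u) [CommRing k] [X.Over (Spec (CommRingCat.of k))]
    {F E : X.Modules} (i : F ⟶ E) [Mono i] :
    Function.Injective (Groth.Agent.Lib.Helper18.HH.mapOver k i 0) :=
  Groth.Agent.Lib.Helper18.HH.injective_mapOver_f_zero (shortExact_of_mono i) k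

end general

variable (k : Type u) [Field k] (X : Scheme.{u}) [X.Over (Spec (CommRingCat.of k))]
  [IsProper (X ↘ Spec (CommRingCat.of k))]

/-- `χ(F) ≤ h⁰(E)` for a quasi-coherent submodule `F` of a coherent module `E` -/
theorem euler_le_finrank_H0_of_mono (hdim : topologicalKrullDim X ≤ 1) {F E : X.Modules}
    (hF : Coh.IsQCoh F) (hE : Coh.IsCoh E) (i : F ⟶ E) [Mono i] :
    Curv2.euler k X F ≤ (finrank k (Coh.HH X E 0) : ℤ) := by
  rw [Groth.Agent.Lib.Lead.CurveEuler.euler_eq k X hdim F hF]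
  haveI := Groth.Agent.Lib.Lead.ProperEuler.finite_HH k X _ hE 0
  have h := LinearMap.finrank_le_finrank_of_injective (injective_H0_of_mono k i)
  have h' : (finrank k (Coh.HH X F 0) : ℤ) ≤ (finrank k (Coh.HH X E 0) : ℤ) := by exact_mod_cast h
  have h'' : (0 : ℤ) ≤ (finrank k (Coh.HH X F 1) : ℤ) := Int.natCast_nonneg _
  linarith

/-- `deg F ≤ h⁰(E) − r' χ(O_X)` -/
theorem deg_le_of_mono (hdim : topologicalKrullDim X ≤ 1) {F E : X.Modules}
    (hF : Coh.IsQCoh F) (hE : Coh.IsCoh E) (i : F ⟶ E) [Mono i] (r' : ℕ) :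
    Curv2.deg k X F r' ≤
      (finrank k (Coh.HH X E 0) : ℤ) - (r' : ℤ) * Curv2.euler k X (Coh.structureModule X) := by
  unfold Curv2.deg
  have := euler_le_finrank_H0_of_mono k X hdim hF hE i
  linarith

/-- uniform bound: for submodules of rank `r' ≤ r`, `deg F ≤ h⁰(E) + r |χ(O_X)|` -/
theorem deg_le_of_mono_of_rank_le (hdim : topologicalKrullDim X ≤ 1) {F E : X.Modules}
    (hF : Coh.IsQCoh F) (hE : Coh.IsCoh E) (i : F ⟶ E) [Mono i] (r' r : ℕ) (hr : r' ≤ r) :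
    Curv2.deg k X F r' ≤
      (finrank k (Coh.HH X E 0) : ℤ) + (r : ℤ) * |Curv2.euler k X (Coh.structureModule X)| := by
  have h1 := deg_le_of_mono k X hdim hF hE i r'
  have h2 : -((r' : ℤ) * Curv2.euler k X (Coh.structureModule X)) ≤
      (r : ℤ) * |Curv2.euler k X (Coh.structureModule X)| := by
    have h3 : -((r' : ℤ) * Curv2.euler k X (Coh.structureModule X)) ≤
        (r' : ℤ) * |Curv2.euler k X (Coh.structureModule X)| := by
      rw [← mul_neg]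
      exact mul_le_mul_of_nonneg_left (neg_le_abs _) (Int.natCast_nonneg _)
    have h4 : (r' : ℤ) * |Curv2.euler k X (Coh.structureModule X)| ≤
        (r : ℤ) * |Curv2.euler k X (Coh.structureModule X)| :=
      mul_le_mul_of_nonneg_right (by exact_mod_cast hr) (abs_nonneg _)
    linarith
  linarith

/-- existence of a finite locally free submodule of maximal slope and, among those, of maximal rank -/
theorem exists_maxSlope [IsIntegral X] (hdim : topologicalKrullDim X ≤ 1) {E : X.Modules} {r : ℕ} (hr : 0 < r)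
    (hE : FlatMod.IsFinLocFreeOfRank r E) :
    ∃ (E₁ : X.Modules) (r₁ : ℕ) (i₁ : E₁ ⟶ E), Mono i₁ ∧ 0 < r₁ ∧ FlatMod.IsFinLocFreeOfRank r₁ E₁ ∧
      (∀ (G : X.Modules) (r' : ℕ) (j : G ⟶ E), Mono j → 0 < r' → FlatMod.IsFinLocFreeOfRank r' G →
        Curv2.deg k X G r' * (r₁ : ℤ) ≤ Curv2.deg k X E₁ r₁ * (r' : ℤ)) ∧
      (∀ (G : X.Modules) (r' : ℕ) (j : G ⟶ E), Mono j → 0 < r' → FlatMod.IsFinLocFreeOfRank r' G →
        Curv2.deg k X G r' * (r₁ : ℤ) = Curv2.deg k X E₁ r₁ * (r' : ℤ) → r' ≤ r₁) := by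
  have hEc := Groth.Agent.Lib.Lead.RankAdd.isCoh_of_isFinLocFreeOfRank hE
  let S : ℤ → ℕ → Prop := fun d r' => ∃ (G : X.Modules) (j : G ⟶ E), Mono j ∧ 0 < r' ∧
    FlatMod.IsFinLocFreeOfRank r' G ∧ Curv2.deg k X G r' = d
  obtain ⟨d₁, r₁, ⟨E₁, i₁, hm₁, hr₁, hE₁, hd₁⟩, hmax, hrk⟩ := exists_max_pair S r
    ((finrank k (Coh.HH X E 0) : ℤ) + (r : ℤ) * |Curv2.euler k X (Coh.structureModule X)|)
    (by
      rintro d r' ⟨G, j, hj, hr', hG, rfl⟩
      haveI := hj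
      have hle := rank_le_of_mono X hG hE j
      exact ⟨hr', hle, deg_le_of_mono_of_rank_le k X hdim
        (Groth.Agent.Lib.Lead.RankAdd.isCoh_of_isFinLocFreeOfRank hG).1 hEc j r' r hle⟩)
    ⟨_, r, E, 𝟙 E, inferInstance, hr, hE, rfl⟩
  refine ⟨E₁, r₁, i₁, hm₁, hr₁, hE₁, fun G r' j hj hr' hG => ?_, fun G r' j hj hr' hG heq => ?_⟩
  · rw [hd₁]
    exact hmax _ r' ⟨G, j, hj, hr', hG, rfl⟩
  · rw [hd₁] at heq
    exact hrk _ r' ⟨G, j, hj, hr', hG, rfl⟩ heq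

end Groth.Agent.Lib.Lead.VBCurve
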