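import Mathlib
import Groth.Agent.Lib.Lead.VBCurve6

/-!
# Stable bundles: endomorphisms, indecomposability (lead)

`X` integral, proper over a field `k`, `dim X ≤ 1`, PID local rings.
* `isIso_of_ne_zero_endo_of_stable`: a nonzero endomorphism of a stable bundle (stability tested on submodules of rank
  `0 < r' < r`) is an isomorphism.
* `eq_zero_of_sq_zero_of_stable`: a square-zero endomorphism of a stable bundle is zero.
* `not_isZero_of_rank_pos`: a finite locally free module of positive rank on a nonempty scheme is not zero.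
* `isZero_or_isZero_of_biprod_of_stable`: stable bundles are indecomposable.
-/

set_option autoImplicit false
set_option linter.style.haveILetI false
universe u
open CategoryTheory CategoryTheory.Limits AlgebraicGeometry Opposite TopologicalSpace Module
open Groth.Agent.Lib.helper17.FlatOver7 Groth.Agent.Lib.helper16.FLF

namespace Groth.Agent.Lib.Lead.VBCurve

section general

variable {X : Scheme.{u}}

theorem not_isZero_of_rank_pos [Nonempty X] {M : X.Modules} {r : ℕ} (hr : 0 < r)
    (hM : FlatMod.IsFinLocFreeOfRank r M) : ¬ IsZero M := by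
  intro hz
  obtain ⟨x⟩ := ‹Nonempty X›
  have h1 := finrank_stalk_of_isFinLocFreeOfRank M hM x
  have h0 : (𝟙 M : M ⟶ M) = 0 := (IsZero.iff_id_eq_zero M).mp hz
  have hsec : ∀ (U : X.Opens) (s : Γ(M, U)), s = 0 := by
    intro U s
    have h2 : (Scheme.Modules.Hom.app (𝟙 M) U) s = s := by simp
    rw [h0] at h2
    rw [← h2]
    rfl
  have hsub : Subsingleton (M.presheaf.stalk x) := by
    refine subsingleton_of_forall_eq 0 (fun a => ?_)
    obtain ⟨U, hxU, s, rfl⟩ := M.presheaf.exists_germ_eq a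
    rw [hsec U s, map_zero]
  rw [Module.finrank_zero_of_subsingleton] at h1
  omega

end general

variable (k : Type u) [Field k] (X : Scheme.{u}) [X.Over (Spec (CommRingCat.of k))]
  [IsProper (X ↘ Spec (CommRingCat.of k))] [IsIntegral X]

/-- a nonzero endomorphism of a stable bundle is an isomorphism -/
theorem isIso_of_ne_zero_endo_of_stable (hP : PIDStalks X) (hdim : topologicalKrullDim X ≤ 1)
    {E : X.Modules} {r : ℕ} (hE : FlatMod.IsFinLocFreeOfRank r E)
    (hst : ∀ (G : X.Modules) (s : ℕ) (ι : G ⟶ E), Mono ι → 0 < s → s < r → FlatMod.IsFinLocFreeOfRank s G →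
      Curv2.deg k X G s * (r : ℤ) < Curv2.deg k X E r * (s : ℤ))
    (φ : E ⟶ E) (hφ : φ ≠ 0) : IsIso φ := by
  classical
  obtain ⟨rK, rI, hK, hI, hrr, hdeg, hpos, hmono, -⟩ := kernel_image_data k X hP hE hE φ
  have hrI := hpos hφ
  rcases Nat.eq_zero_or_pos rK with h0 | h0
  · haveI : Mono φ := hmono h0
    exact isIso_of_deg_eq k X hdim hE hE φ rfl
  · exfalso
    have h1 := hst (kernel φ) rK (kernel.ι φ) inferInstance h0 (by omega) hK
    have h2 := hst (Abelian.image φ) rI (Abelian.image.ι φ) inferInstance hrI (by omega) hI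
    have hr' : (r : ℤ) = (rK : ℤ) + (rI : ℤ) := by exact_mod_cast hrr
    rw [hdeg, hr'] at h1 h2
    nlinarith

/-- a square-zero endomorphism of a stable bundle vanishes -/
theorem eq_zero_of_sq_zero_of_stable (hP : PIDStalks X) (hdim : topologicalKrullDim X ≤ 1)
    {E : X.Modules} {r : ℕ} (hE : FlatMod.IsFinLocFreeOfRank r E)
    (hst : ∀ (G : X.Modules) (s : ℕ) (ι : G ⟶ E), Mono ι → 0 < s → s < r → FlatMod.IsFinLocFreeOfRank s G →
      Curv2.deg k X G s * (r : ℤ) < Curv2.deg k X E r * (s : ℤ))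
    (ψ : E ⟶ E) (hψ : ψ ≫ ψ = 0) : ψ = 0 := by
  by_contra hne
  haveI := isIso_of_ne_zero_endo_of_stable k X hP hdim hE hst ψ hne
  apply hne
  rw [← cancel_epi ψ, hψ, comp_zero]

/-- an idempotent endomorphism of a stable bundle is `0` or `𝟙` -/
theorem idem_eq_zero_or_one_of_stable (hP : PIDStalks X) (hdim : topologicalKrullDim X ≤ 1)
    {E : X.Modules} {r : ℕ} (hE : FlatMod.IsFinLocFreeOfRank r E)
    (hst : ∀ (G : X.Modules) (s : ℕ) (ι : G ⟶ E), Mono ι → 0 < s → s < r → FlatMod.IsFinLocFreeOfRank s G →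
      Curv2.deg k X G s * (r : ℤ) < Curv2.deg k X E r * (s : ℤ))
    (e : E ⟶ E) (he : e ≫ e = e) : e = 0 ∨ e = 𝟙 E := by
  by_cases hne : e = 0
  · exact Or.inl hne
  · right
    haveI := isIso_of_ne_zero_endo_of_stable k X hP hdim hE hst e hne
    rw [← cancel_epi e, he, Category.comp_id]

/-- stable bundles are indecomposable -/
theorem isZero_or_isZero_of_biprod_of_stable (hP : PIDStalks X) (hdim : topologicalKrullDim X ≤ 1)
    {E : X.Modules} {r : ℕ} (hE : FlatMod.IsFinLocFreeOfRank r E)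
    (hst : ∀ (G : X.Modules) (s : ℕ) (ι : G ⟶ E), Mono ι → 0 < s → s < r → FlatMod.IsFinLocFreeOfRank s G →
      Curv2.deg k X G s * (r : ℤ) < Curv2.deg k X E r * (s : ℤ))
    (E₁ E₂ : X.Modules) (iso : E ≅ E₁ ⊞ E₂) : IsZero E₁ ∨ IsZero E₂ := by
  let e : E ⟶ E := iso.hom ≫ biprod.fst ≫ biprod.inl ≫ iso.inv
  have he : e ≫ e = e := by
    simp only [e, Category.assoc, Iso.inv_hom_id_assoc, biprod.inl_fst_assoc]
  rcases idem_eq_zero_or_one_of_stable k X hP hdim hE hst e he with h0 | h1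
  · left
    rw [IsZero.iff_id_eq_zero]
    have : biprod.inl ≫ (iso.inv ≫ e ≫ iso.hom) ≫ biprod.fst = (0 : E₁ ⟶ E₁) := by
      rw [h0]; simp
    simpa [e] using this
  · right
    rw [IsZero.iff_id_eq_zero]
    have : biprod.inr ≫ (iso.inv ≫ e ≫ iso.hom) ≫ biprod.snd = (𝟙 E₂ : E₂ ⟶ E₂) := by
      rw [h1]; simp
    have h2 : biprod.inr ≫ (iso.inv ≫ e ≫ iso.hom) ≫ biprod.snd = (0 : E₂ ⟶ E₂) := by
      simp [e]
    rw [← this, h2]

end Groth.Agent.Lib.Lead.VBCurve
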