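import Mathlib
import Groth.Agent.Lib.Lead.VBCurve7

/-!
# Eigenvalues of endomorphisms of bundles over algebraically closed fields (lead)

* `exists_not_surjective_sub_smul`: (algebra) `R` local, `K → R` from an algebraically closed field inducing a surjection onto
  the residue field, `M` finite free nonzero, `f : M → M` linear ⇒ some `f − a` is not surjective.
* `scalarGerm k X x : k →+* O_{X,x}`, `residue_scalarGerm_surjective` at closed points of schemes locally of finite type
  over an algebraically closed field.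
* `exists_not_isIso_sub_smulMod`: an endomorphism `φ` of a bundle of positive rank has an "eigenvalue" `a ∈ k`:
  `φ − a` is not an isomorphism.
* `exists_eq_smulMod_of_stable`: endomorphisms of stable bundles are scalars.
-/

set_option autoImplicit false
set_option linter.style.haveILetI false
universe u v
open CategoryTheory CategoryTheory.Limits AlgebraicGeometry Opposite TopologicalSpace Module TensorProduct
open Groth.Agent.Lib.helper17.FlatOver7 Groth.Agent.Lib.helper16.FLF

namespace Groth.Agent.Lib.Lead.VBCurve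

section algebra

theorem exists_not_surjective_sub_smul {K R : Type u} {M : Type v} [Field K] [IsAlgClosed K] [CommRing R]
    [IsLocalRing R] (ι : K →+* R)
    (hι : Function.Surjective ((IsLocalRing.residue R).comp ι))
    [AddCommGroup M] [Module R M] [Module.Free R M] [Module.Finite R M] [Nontrivial M]
    (f : M →ₗ[R] M) :
    ∃ a : K, ¬ Function.Surjective (f - ι a • (LinearMap.id : M →ₗ[R] M)) := by
  classical
  let κ := IsLocalRing.ResidueField R
  let e : K ≃+* κ := RingEquiv.ofBijective ((IsLocalRing.residue R).comp ι)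
    ⟨((IsLocalRing.residue R).comp ι).injective, hι⟩
  haveI : IsAlgClosed κ := IsAlgClosed.of_ringEquiv K κ e
  let V := κ ⊗[R] M
  haveI : Nontrivial V := by
    let b := Module.Free.chooseBasis R M
    let b' := Algebra.TensorProduct.basis κ b
    obtain ⟨i⟩ : Nonempty (Module.Free.ChooseBasisIndex R M) := b.index_nonempty
    exact ⟨⟨b' i, 0, b'.ne_zero i⟩⟩
  let fbar : V →ₗ[κ] V := f.baseChange κ
  obtain ⟨c, hc⟩ := Module.End.exists_eigenvalue fbar
  obtain ⟨a, ha⟩ := hι c
  refine ⟨a, fun hsurj => ?_⟩
  obtain ⟨v, hv⟩ := hc.exists_hasEigenvector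
  have hb : (f - ι a • (LinearMap.id : M →ₗ[R] M)).baseChange κ =
      (fbar - c • LinearMap.id : V →ₗ[κ] V) := by
    rw [LinearMap.baseChange_sub, LinearMap.baseChange_smul, LinearMap.baseChange_id]
    congr 1
    ext x
    simp only [AlgebraTensorModule.curry_apply, curry_apply]
    rw [← ha]
    simp only [RingHom.coe_comp, Function.comp_apply]
    rw [← IsLocalRing.ResidueField.algebraMap_eq, algebraMap_smul]
  have hs : Function.Surjective ((f - ι a • (LinearMap.id : M →ₗ[R] M)).baseChange κ) := by
    rw [LinearMap.baseChange_eq_ltensor]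
    exact LinearMap.lTensor_surjective κ hsurj
  rw [hb] at hs
  have hi := (LinearMap.injective_iff_surjective (f := (fbar - c • LinearMap.id : V →ₗ[κ] V))).mpr hs
  have h0 : (fbar - c • LinearMap.id : V →ₗ[κ] V) v = 0 := by
    simp only [LinearMap.sub_apply, LinearMap.smul_apply, LinearMap.id_apply]
    rw [hv.apply_eq_smul, sub_self]
  exact hv.2 (hi (h0.trans (map_zero _).symm))

end algebra

section geometry

variable (k : Type u) [Field k] (X : Scheme.{u}) [X.Over (Spec (CommRingCat.of k))]

/-- the germ at `x` of the global function attached to a scalar -/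
noncomputable def scalarGerm (x : X) : k →+* X.presheaf.stalk x :=
  (X.presheaf.germ ⊤ x trivial).hom.comp (Coh.toGlobal (X ↘ Spec (CommRingCat.of k)))

variable [IsAlgClosed k] [LocallyOfFiniteType (X ↘ Spec (CommRingCat.of k))]

theorem residue_scalarGerm_surjective (x : X) (hx : IsClosed ({x} : Set X)) :
    Function.Surjective ((IsLocalRing.residue (X.presheaf.stalk x)).comp (scalarGerm k X x)) := by
  let f := X ↘ Spec (CommRingCat.of k)
  let ψ : CommRingCat.of k ⟶ X.residueField x :=
    (Scheme.ΓSpecIso (CommRingCat.of k)).inv ≫ f.appTop ≫ X.presheaf.germ ⊤ x trivial ≫ X.residue x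
  have hψ : ψ = (residueFieldIsoBase f x hx).inv := by
    apply Spec.map_injective
    rw [SpecMap_residueFieldIsoBase_inv]
    simp only [ψ, Spec.map_comp]
    rw [← Scheme.fromSpecStalk_toSpecΓ]
    simp only [Category.assoc]
    rw [← Scheme.toSpecΓ_naturality_assoc, ← SpecMap_ΓSpecIso_hom, ← Spec.map_comp,
      Iso.inv_hom_id, Spec.map_id, Category.comp_id]
    rfl
  have hbij : Function.Bijective ψ.hom := by
    rw [hψ]
    exact (ConcreteCategory.isIso_iff_bijective _).mp inferInstance
  exact hbij.2

omit [IsAlgClosed k] [LocallyOfFiniteType (X ↘ Spec (CommRingCat.of k))] in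
theorem stalkLin_sub_smulMod {E : X.Modules} (φ : E ⟶ E) (a : k) (x : X) (m : E.presheaf.stalk x) :
    stalkLin (φ - Formal.smulMod k E a) x m = stalkLin φ x m - scalarGerm k X x a • m := by
  obtain ⟨U, hxU, s, rfl⟩ := E.presheaf.exists_germ_eq m
  change stalkAdd (φ - Formal.smulMod k E a) x _ = stalkAdd φ x _ - _
  rw [stalkAdd_germ, stalkAdd_germ]
  have h1 : ((φ - Formal.smulMod k E a).app U).hom s =
      (φ.app U).hom s - X.presheaf.map (homOfLE (le_top : U ≤ ⊤)).op
        (Coh.toGlobal (X ↘ Spec (CommRingCat.of k)) a) • s := rfl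
  rw [h1, map_sub, Groth.Agent.Lib.helper16.QCohAss.germ_smul']
  have e := TopCat.Presheaf.germ_res_apply X.presheaf (homOfLE (le_top : U ≤ ⊤)) x hxU
    (Coh.toGlobal (X ↘ Spec (CommRingCat.of k)) a)
  congr 1
  exact congrArg (· • (E.presheaf.germ U x hxU).hom s) e

/-- an endomorphism of a bundle of positive rank has an eigenvalue in `k` -/
theorem exists_not_isIso_sub_smulMod [Nonempty X] {E : X.Modules} {r : ℕ} (hr : 0 < r)
    (hE : FlatMod.IsFinLocFreeOfRank r E) (φ : E ⟶ E) :
    ∃ a : k, ¬ IsIso (φ - Formal.smulMod k E a) := by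
  haveI : JacobsonSpace X := LocallyOfFiniteType.jacobsonSpace (X ↘ Spec (CommRingCat.of k))
  obtain ⟨x₀⟩ := ‹Nonempty X›
  obtain ⟨x, -, hx⟩ := nonempty_inter_closedPoints (X := X) (Z := Set.univ) ⟨x₀, trivial⟩
    isOpen_univ.isLocallyClosed
  obtain ⟨f1, f2⟩ := free_stalk_of_isFinLocFree E (isFinLocFree_of_isFinLocFreeOfRank hE) x
  have hrk := finrank_stalk_of_isFinLocFreeOfRank E hE x
  haveI : Nontrivial (E.presheaf.stalk x) := Module.nontrivial_of_finrank_pos (R := X.presheaf.stalk x)
    (by rw [hrk]; exact hr)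
  obtain ⟨a, ha⟩ := exists_not_surjective_sub_smul (scalarGerm k X x)
    (residue_scalarGerm_surjective k X x hx) (stalkLin φ x)
  refine ⟨a, fun hiso => ha ?_⟩
  have hb := (stalkLinEquiv (asIso (φ - Formal.smulMod k E a)) x).surjective
  intro m
  obtain ⟨m', hm'⟩ := hb m
  refine ⟨m', ?_⟩
  rw [← hm']
  change _ = stalkLin (φ - Formal.smulMod k E a) x m'
  rw [stalkLin_sub_smulMod]
  rfl

end geometry

section stable

variable (k : Type u) [Field k] [IsAlgClosed k] (X : Scheme.{u}) [X.Over (Spec (CommRingCat.of k))]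
  [IsProper (X ↘ Spec (CommRingCat.of k))] [IsIntegral X]

/-- endomorphisms of stable bundles over an algebraically closed field are scalars -/
theorem exists_eq_smulMod_of_stable (hP : PIDStalks X) (hdim : topologicalKrullDim X ≤ 1)
    {E : X.Modules} {r : ℕ} (hr : 0 < r) (hE : FlatMod.IsFinLocFreeOfRank r E)
    (hst : ∀ (G : X.Modules) (s : ℕ) (ι : G ⟶ E), Mono ι → 0 < s → s < r → FlatMod.IsFinLocFreeOfRank s G →
      Curv2.deg k X G s * (r : ℤ) < Curv2.deg k X E r * (s : ℤ))
    (φ : E ⟶ E) : ∃ a : k, φ = Formal.smulMod k E a := by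
  obtain ⟨a, ha⟩ := exists_not_isIso_sub_smulMod k X hr hE φ
  refine ⟨a, ?_⟩
  by_contra hne
  exact ha (isIso_of_ne_zero_endo_of_stable k X hP hdim hE hst _ (sub_ne_zero.mpr hne))

end stable

end Groth.Agent.Lib.Lead.VBCurve
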