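import Mathlib
import Groth.Agent.Lib.Lead.VBCurve8
import Groth.Prelude.Def_KLin

/-!
# Extensions of line bundles on curves: endomorphisms and idempotents (lead)

* `isZero_or_isZero_of_idem`: if every idempotent endomorphism of `E` is `0` or `𝟙` then `E` is indecomposable.
* `smulMod_eq_zero_iff`, `smulMod` calculus.
* `exists_eq_smulMod_of_isInvertible`: endomorphisms of invertible modules on smooth proper integral curves over an
  algebraically closed field are scalars.
* `idem_eq_zero_or_one_of_nonsplit`: a non-split extension `0 → L → E → M → 0` of invertible modules with a nonzero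
  map `M → L` has only trivial idempotents.
-/

set_option autoImplicit false
set_option linter.style.haveILetI false
universe u
open CategoryTheory CategoryTheory.Limits AlgebraicGeometry Opposite TopologicalSpace Module

namespace Groth.Agent.Lib.Lead.VBCurve

section abelian

variable {C : Type*} [Category C] [Abelian C]

theorem isZero_or_isZero_of_idem {E : C} (h : ∀ e : E ⟶ E, e ≫ e = e → e = 0 ∨ e = 𝟙 E)
    (E₁ E₂ : C) (iso : E ≅ E₁ ⊞ E₂) : IsZero E₁ ∨ IsZero E₂ := by
  let e : E ⟶ E := iso.hom ≫ biprod.fst ≫ biprod.inl ≫ iso.inv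
  have he : e ≫ e = e := by
    simp only [e, Category.assoc, Iso.inv_hom_id_assoc, biprod.inl_fst_assoc]
  rcases h e he with h0 | h1
  · left
    rw [IsZero.iff_id_eq_zero]
    have : biprod.inl ≫ (iso.inv ≫ e ≫ iso.hom) ≫ biprod.fst = (0 : E₁ ⟶ E₁) := by
      rw [h0]; simp
    simpa [e] using this
  · right
    rw [IsZero.iff_id_eq_zero]
    have : biprod.inr ≫ (iso.inv ≫ e ≫ iso.hom) ≫ biprod.snd = (𝟙 E₂ : E₂ ⟶ E₂) := by
      rw [h1]; simp
    have h2 : biprod.inr ≫ (iso.inv ≫ e ≫ iso.hom) ≫ biprod.snd = (0 : E₂ ⟶ E₂) := by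
      simp [e]
    rw [← this, h2]

end abelian

section scalars

variable (k : Type u) [Field k] {X : Scheme.{u}} [X.Over (Spec (CommRingCat.of k))]

theorem smulMod_comm {M N : X.Modules} (f : M ⟶ N) (a : k) :
    f ≫ Formal.smulMod k N a = Formal.smulMod k M a ≫ f := by
  unfold Formal.smulMod
  exact KLin.comp_smulModΓ f _

theorem smulMod_mul (M : X.Modules) (a b : k) :
    Formal.smulMod k M (a * b) = Formal.smulMod k M a ≫ Formal.smulMod k M b := by
  unfold Formal.smulMod
  rw [map_mul, KLin.smulModΓ_mul]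

theorem smulMod_one (M : X.Modules) : Formal.smulMod k M 1 = 𝟙 M := by
  unfold Formal.smulMod
  rw [map_one, KLin.smulModΓ_one]

theorem smulMod_zero (M : X.Modules) : Formal.smulMod k M 0 = 0 := by
  unfold Formal.smulMod
  rw [map_zero, KLin.smulModΓ_zero]

theorem smulMod_sub (M : X.Modules) (a b : k) :
    Formal.smulMod k M (a - b) = Formal.smulMod k M a - Formal.smulMod k M b := by
  have h : Formal.smulMod k M (a - b) + Formal.smulMod k M b = Formal.smulMod k M a := by
    unfold Formal.smulMod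
    rw [← KLin.smulModΓ_add, ← map_add, sub_add_cancel]
  rw [← h, add_sub_cancel_right]

/-- a nonzero scalar acts invertibly; so if it acts as zero the module is zero -/
theorem eq_zero_of_smulMod_eq_zero {M : X.Modules} (hM : ¬ IsZero M) (a : k)
    (h : Formal.smulMod k M a = 0) : a = 0 := by
  by_contra ha
  apply hM
  rw [IsZero.iff_id_eq_zero, ← smulMod_one k M, ← inv_mul_cancel₀ ha, smulMod_mul, h, comp_zero]

end scalars

section curve

variable (k : Type u) [Field k] [IsAlgClosed k] (X : Scheme.{u}) [X.Over (Spec (CommRingCat.of k))]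
  [IsProper (X ↘ Spec (CommRingCat.of k))] [IsIntegral X]

theorem exists_eq_smulMod_of_isInvertible (hP : PIDStalks X) (hdim : topologicalKrullDim X ≤ 1)
    {L : X.Modules} (hL : PicF.IsInvertible L) (α : L ⟶ L) : ∃ a : k, α = Formal.smulMod k L a :=
  exists_eq_smulMod_of_stable k X hP hdim one_pos
    ((Groth.Agent.Lib.helper16.FLF.isInvertible_iff_isFinLocFreeOfRank_one _).mp hL)
    (fun G s ι hι hs hs1 hG => by omega) α

theorem not_isZero_of_isInvertible {L : X.Modules} (hL : PicF.IsInvertible L) : ¬ IsZero L :=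
  not_isZero_of_rank_pos one_pos
    ((Groth.Agent.Lib.helper16.FLF.isInvertible_iff_isFinLocFreeOfRank_one _).mp hL)

include k in
/-- an endomorphism of a non-split extension `0 → L → E → M → 0` (with `End M = k`) which kills `L` and
is idempotent vanishes -/
theorem idem_eq_zero_of_comp_eq_zero (hP : PIDStalks X) (hdim : topologicalKrullDim X ≤ 1)
    (S : ShortComplex X.Modules) (hS : S.ShortExact) (hM : PicF.IsInvertible S.X₃)
    (hns : ¬ IsSplitEpi S.g) (e : S.X₂ ⟶ S.X₂) (he : e ≫ e = e) (hfe : S.f ≫ e = 0) : e = 0 := by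
  haveI := hS.mono_f
  haveI := hS.epi_g
  obtain ⟨h, hh⟩ : ∃ h : S.X₃ ⟶ S.X₂, S.g ≫ h = e :=
    ⟨hS.gIsCokernel.desc (CokernelCofork.ofπ _ hfe),
      hS.gIsCokernel.fac (CokernelCofork.ofπ _ hfe) WalkingParallelPair.one⟩
  obtain ⟨b, hb⟩ := exists_eq_smulMod_of_isInvertible k X hP hdim hM (h ≫ S.g)
  have hb0 : b = 0 := by
    by_contra hbne
    apply hns
    refine ⟨⟨⟨Formal.smulMod k S.X₃ b⁻¹ ≫ h, ?_⟩⟩⟩
    rw [Category.assoc, hb, ← smulMod_mul, inv_mul_cancel₀ hbne, smulMod_one]
  have hg0 : h ≫ S.g = 0 := by rw [hb, hb0, smulMod_zero]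
  obtain ⟨h', hh'⟩ : ∃ h' : S.X₃ ⟶ S.X₁, h' ≫ S.f = h :=
    ⟨hS.fIsKernel.lift (KernelFork.ofι h hg0), Fork.IsLimit.lift_ι _⟩
  rw [← he, ← hh, ← hh']
  simp only [Category.assoc]
  rw [S.zero_assoc, zero_comp, comp_zero, comp_zero]

include k in
/-- a non-split extension `0 → L → E → M → 0` of invertible modules with a nonzero map `M → L` has only
trivial idempotents -/
theorem idem_eq_zero_or_one_of_nonsplit (hP : PIDStalks X) (hdim : topologicalKrullDim X ≤ 1)
    (S : ShortComplex X.Modules) (hS : S.ShortExact)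
    (hL : PicF.IsInvertible S.X₁) (hM : PicF.IsInvertible S.X₃)
    (g : S.X₃ ⟶ S.X₁) (hg : g ≠ 0) (hns : ¬ IsSplitEpi S.g)
    (e : S.X₂ ⟶ S.X₂) (he : e ≫ e = e) : e = 0 ∨ e = 𝟙 S.X₂ := by
  haveI := hS.mono_f
  haveI := hS.epi_g
  by_cases hc : S.f ≫ e ≫ S.g = 0
  · obtain ⟨α, hα⟩ : ∃ α : S.X₁ ⟶ S.X₁, α ≫ S.f = S.f ≫ e :=
      ⟨hS.fIsKernel.lift (KernelFork.ofι (S.f ≫ e) (by rw [Category.assoc]; exact hc)),
        Fork.IsLimit.lift_ι _⟩
    obtain ⟨a, ha⟩ := exists_eq_smulMod_of_isInvertible k X hP hdim hL α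
    have hαα : α ≫ α = α := by
      rw [← cancel_mono S.f, Category.assoc, hα, ← Category.assoc, hα, Category.assoc, he]
    have ha2 : a * a - a = 0 := by
      apply eq_zero_of_smulMod_eq_zero k (not_isZero_of_isInvertible X hL)
      rw [smulMod_sub, smulMod_mul, ← ha, hαα, sub_self]
    have ha01 : a = 0 ∨ a = 1 := by
      have : a * (a - 1) = 0 := by rw [mul_sub, mul_one]; exact ha2
      rcases mul_eq_zero.mp this with h | h
      · exact Or.inl h
      · exact Or.inr (sub_eq_zero.mp h)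
    rcases ha01 with h0 | h1
    · left
      apply idem_eq_zero_of_comp_eq_zero k X hP hdim S hS hM hns e he
      rw [← hα, ha, h0, smulMod_zero, zero_comp]
    · right
      have h1e : (𝟙 S.X₂ - e) = 0 := by
        apply idem_eq_zero_of_comp_eq_zero k X hP hdim S hS hM hns (𝟙 S.X₂ - e)
        · simp only [Preadditive.sub_comp, Preadditive.comp_sub, Category.id_comp, Category.comp_id, he]
          abel
        · rw [Preadditive.comp_sub, Category.comp_id, ← hα, ha, h1, smulMod_one, Category.id_comp,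
            sub_self]
      exact (sub_eq_zero.mp h1e).symm
  · exfalso
    have h1 := Groth.Agent.Lib.Lead.CurveInv.deg_le k X hdim hL hM _ hc
    have h2 := Groth.Agent.Lib.Lead.CurveInv.deg_le k X hdim hM hL g hg
    haveI := Groth.Agent.Lib.Lead.CurveInv.isIso_of_deg_eq k X hdim hL hM _ hc (le_antisymm h1 h2)
    apply hns
    refine ⟨⟨⟨inv (S.f ≫ e ≫ S.g) ≫ S.f ≫ e, ?_⟩⟩⟩
    simp only [Category.assoc]
    exact IsIso.inv_hom_id _

end curve

end Groth.Agent.Lib.Lead.VBCurve
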