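import Mathlib
import Groth.Agent.Lib.Lead.VBCurve9

/-!
# Fitting's lemma for vector bundles on curves (lead)

`X` an integral scheme proper over a field `k`, of dimension `≤ 1` with PID local rings, `E` finite locally free.
* `idem_eq_zero_or_one_of_indecomposable` (abelian categories): if every biproduct decomposition of `E` has a zero
  summand then the idempotents of `E` are `0` and `1`.
* `exists_idem_of_endo`: for `u : End E` there are `n ≥ 1` and an idempotent `p` (the projection onto `im uⁿ`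
  along `ker uⁿ`) with `p = 0 → uⁿ = 0` and `p = 1 → uⁿ` invertible.
* `isNilpotent_or_isUnit_of_indecomposable`: an endomorphism of an indecomposable bundle is nilpotent or invertible.
* `isUnit_or_isUnit_of_add_eq_one`, `isUnit_or_of_isUnit_add`: `End E` is local.
-/

set_option autoImplicit false
set_option linter.style.haveILetI false
universe u
open CategoryTheory CategoryTheory.Limits AlgebraicGeometry Opposite TopologicalSpace Module

namespace Groth.Agent.Lib.Lead.VBCurve

section abelian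

variable {C : Type*} [Category C] [Abelian C]

/-- if every biproduct decomposition of `E` has a zero summand, then the idempotents of `E` are trivial -/
theorem idem_eq_zero_or_one_of_indecomposable {E : C}
    (h : ∀ E₁ E₂ : C, Nonempty (E ≅ E₁ ⊞ E₂) → IsZero E₁ ∨ IsZero E₂)
    (p : E ⟶ E) (hp : p ≫ p = p) : p = 0 ∨ p = 𝟙 E := by
  have h1 : p ≫ (𝟙 E - p) = 0 := by rw [Preadditive.comp_sub, Category.comp_id, hp, sub_self]
  have h2 : (𝟙 E - p) ≫ p = 0 := by rw [Preadditive.sub_comp, Category.id_comp, hp, sub_self]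
  let a : E ⟶ kernel (𝟙 E - p) := kernel.lift _ p h1
  let b : E ⟶ kernel p := kernel.lift _ (𝟙 E - p) h2
  have ha : a ≫ kernel.ι (𝟙 E - p) = p := kernel.lift_ι _ _ _
  have hb : b ≫ kernel.ι p = 𝟙 E - p := kernel.lift_ι _ _ _
  have hι1 : kernel.ι (𝟙 E - p) ≫ p = kernel.ι (𝟙 E - p) := by
    have := kernel.condition (𝟙 E - p)
    rw [Preadditive.comp_sub, Category.comp_id, sub_eq_zero] at this
    exact this.symm
  let iso : E ≅ kernel (𝟙 E - p) ⊞ kernel p :=
    { hom := biprod.lift a b
      inv := biprod.desc (kernel.ι _) (kernel.ι _)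
      hom_inv_id := by
        rw [biprod.lift_desc, ha, hb]; abel
      inv_hom_id := by
        apply biprod.hom_ext'
        · apply biprod.hom_ext
          · rw [← cancel_mono (kernel.ι (𝟙 E - p))]
            simp only [Category.assoc, biprod.inl_desc_assoc, biprod.lift_fst, ha, hι1, Category.comp_id,
              biprod.inl_fst, Category.id_comp]
          · rw [← cancel_mono (kernel.ι p)]
            simp only [Category.assoc, biprod.inl_desc_assoc, biprod.lift_snd, hb, kernel.condition,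
              Category.comp_id, biprod.inl_snd, zero_comp]
        · apply biprod.hom_ext
          · rw [← cancel_mono (kernel.ι (𝟙 E - p))]
            simp only [Category.assoc, biprod.inr_desc_assoc, biprod.lift_fst, ha, kernel.condition,
              Category.comp_id, biprod.inr_fst, zero_comp]
          · rw [← cancel_mono (kernel.ι p)]
            simp only [Category.assoc, biprod.inr_desc_assoc, biprod.lift_snd, hb, Preadditive.comp_sub,
              kernel.condition, Category.comp_id, biprod.inr_snd, Category.id_comp, sub_zero] }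
  rcases h _ _ ⟨iso⟩ with hz | hz
  · left
    rw [← ha, hz.eq_of_tgt a 0, zero_comp]
  · right
    have : 𝟙 E - p = 0 := by rw [← hb, hz.eq_of_tgt b 0, zero_comp]
    exact (sub_eq_zero.mp this).symm

end abelian

variable (k : Type u) [Field k] (X : Scheme.{u}) [X.Over (Spec (CommRingCat.of k))]
  [IsProper (X ↘ Spec (CommRingCat.of k))] [IsIntegral X]

include k in
/-- **Fitting's lemma**: for an endomorphism `u` of a bundle there are `n ≥ 1` and an idempotent `p` with
`p = 0 → uⁿ = 0` and `p = 1 → uⁿ` invertible. -/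
theorem exists_idem_of_endo (hP : PIDStalks X) (hdim : topologicalKrullDim X ≤ 1)
    {E : X.Modules} {r : ℕ} (hE : FlatMod.IsFinLocFreeOfRank r E) (u : End E) :
    ∃ (n : ℕ) (p : E ⟶ E), 0 < n ∧ p ≫ p = p ∧ (p = 0 → u ^ n = 0) ∧ (p = 𝟙 E → IsUnit (u ^ n)) := by
  classical
  let S : ℕ → Prop := fun m => ∃ j : ℕ, 0 < j ∧
    FlatMod.IsFinLocFreeOfRank m (Abelian.image ((u ^ j : End E) : E ⟶ E))
  have hS : ∃ m, S m := by
    obtain ⟨rK, rI, hK, hI, -⟩ := kernel_image_data k X hP hE hE ((u ^ 1 : End E) : E ⟶ E)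
    exact ⟨rI, 1, one_pos, hI⟩
  obtain ⟨n, hn, hIn⟩ := Nat.find_spec hS
  have hmin : ∀ m, S m → Nat.find hS ≤ m := fun m hm => Nat.find_min' hS hm
  generalize Nat.find hS = m₀ at hIn hmin
  let v : E ⟶ E := (u ^ n : End E)
  let ι : Abelian.image v ⟶ E := Abelian.image.ι v
  let e : E ⟶ Abelian.image v := Abelian.factorThruImage v
  have hfac : e ≫ ι = v := Abelian.image.fac v
  let w : Abelian.image v ⟶ Abelian.image v := ι ≫ e
  have hw : ι ≫ e = w := rfl
  obtain ⟨rKw, rIw, hKw, hIw, hrw, -, -, hmonow, -⟩ := kernel_image_data k X hP hIn hIn w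
  obtain ⟨rK2, rI2, hK2, hI2, -⟩ := kernel_image_data k X hP hE hE (v ≫ v)
  have hvv : ((u ^ (n + n) : End E) : E ⟶ E) = v ≫ v := by
    rw [pow_add]; rfl
  have hm₀ : m₀ ≤ rI2 := hmin rI2 ⟨n + n, by omega, by rw [hvv]; exact hI2⟩
  have comm : (e ≫ Abelian.factorThruImage w) ≫ (Abelian.image.ι w ≫ ι) = v ≫ v := by
    have h1 : Abelian.factorThruImage w ≫ Abelian.image.ι w = w := Abelian.image.fac w
    calc (e ≫ Abelian.factorThruImage w) ≫ (Abelian.image.ι w ≫ ι)
        = e ≫ (Abelian.factorThruImage w ≫ Abelian.image.ι w) ≫ ι := by simp only [Category.assoc]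
      _ = e ≫ (ι ≫ e) ≫ ι := by rw [h1]
      _ = (e ≫ ι) ≫ (e ≫ ι) := by simp only [Category.assoc]
      _ = v ≫ v := by rw [hfac]
  haveI : StrongEpi (e ≫ Abelian.factorThruImage w) := strongEpi_of_epi _
  let iso : Abelian.image w ≅ Abelian.image (v ≫ v) :=
    (Limits.image.isoStrongEpiMono (e ≫ Abelian.factorThruImage w) (Abelian.image.ι w ≫ ι) comm) ≪≫
      (Abelian.imageIsoImage (v ≫ v)).symm
  have h12 : rI2 ≤ rIw := rank_le_of_mono X hI2 hIw iso.inv
  have hK0 : rKw = 0 := by omega
  haveI : Mono w := hmonow hK0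
  haveI : IsIso w := isIso_of_deg_eq k X hdim hIn hIn w rfl
  refine ⟨n, e ≫ inv w ≫ ι, hn, ?_, ?_, ?_⟩
  · simp only [Category.assoc]
    rw [← Category.assoc ι e, hw, IsIso.hom_inv_id_assoc]
  · intro h0
    have h1 : inv w ≫ ι = 0 := by
      rw [← cancel_epi e, h0, comp_zero]
    have h2 : inv w = 0 := by
      rw [← cancel_mono ι, h1, zero_comp]
    have h3 : 𝟙 (Abelian.image v) = 0 := by
      rw [← IsIso.hom_inv_id w, h2, comp_zero]
    show v = 0
    rw [← hfac, ← Category.comp_id e, h3, comp_zero, zero_comp]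
  · intro h1
    haveI : IsSplitMono e := ⟨⟨⟨inv w ≫ ι, h1⟩⟩⟩
    haveI : IsIso e := isIso_of_epi_of_isSplitMono e
    haveI : IsSplitEpi ι := ⟨⟨⟨e ≫ inv w, by rw [Category.assoc]; exact h1⟩⟩⟩
    haveI : IsIso ι := isIso_of_mono_of_isSplitEpi ι
    have : IsIso v := by rw [← hfac]; infer_instance
    exact (isUnit_iff_isIso (u ^ n)).mpr this

include k in
/-- an endomorphism of an indecomposable bundle is nilpotent or invertible -/
theorem isNilpotent_or_isUnit_of_indecomposable (hP : PIDStalks X) (hdim : topologicalKrullDim X ≤ 1)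
    {E : X.Modules} {r : ℕ} (hE : FlatMod.IsFinLocFreeOfRank r E)
    (hind : ∀ E₁ E₂ : X.Modules, Nonempty (E ≅ E₁ ⊞ E₂) → IsZero E₁ ∨ IsZero E₂) (u : End E) :
    IsNilpotent u ∨ IsUnit u := by
  obtain ⟨n, p, hn, hp, h0, h1⟩ := exists_idem_of_endo k X hP hdim hE u
  rcases idem_eq_zero_or_one_of_indecomposable hind p hp with h | h
  · exact Or.inl ⟨n, h0 h⟩
  · right
    have hu := h1 h
    obtain ⟨m, rfl⟩ : ∃ m, n = m + 1 := ⟨n - 1, by omega⟩
    obtain ⟨w, hw⟩ := hu
    rw [isUnit_iff_exists_and_exists]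
    refine ⟨⟨u ^ m * ↑w⁻¹, ?_⟩, ⟨↑w⁻¹ * u ^ m, ?_⟩⟩
    · rw [← mul_assoc, ← pow_succ', ← hw, Units.mul_inv]
    · rw [mul_assoc, ← pow_succ, ← hw, Units.inv_mul]

include k in
/-- the endomorphism ring of an indecomposable bundle is local -/
theorem isUnit_or_isUnit_of_add_eq_one (hP : PIDStalks X) (hdim : topologicalKrullDim X ≤ 1)
    {E : X.Modules} {r : ℕ} (hE : FlatMod.IsFinLocFreeOfRank r E)
    (hind : ∀ E₁ E₂ : X.Modules, Nonempty (E ≅ E₁ ⊞ E₂) → IsZero E₁ ∨ IsZero E₂) (a b : End E)
    (hab : a + b = 1) : IsUnit a ∨ IsUnit b := by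
  rcases isNilpotent_or_isUnit_of_indecomposable k X hP hdim hE hind a with h | h
  · right
    have : b = 1 - a := by rw [← hab]; abel
    rw [this]
    exact h.isUnit_one_sub
  · exact Or.inl h

end Groth.Agent.Lib.Lead.VBCurve
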