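import Mathlib
import Groth.Agent.Lib.Lead.VBCurve10

/-!
# Line subbundles of rank two bundles on curves (lead)

`X` an integral scheme proper over a field `k`, of dimension `≤ 1` with PID local rings.
* `mono_of_ne_zero_of_isInvertible`: a nonzero map of invertible modules is a monomorphism.
* `isIso_of_epi_of_isInvertible`: an epimorphism of invertible modules is an isomorphism.
* `isIso_of_isInvertible_of_deg_eq`: a nonzero map of invertible modules of the same degree is an isomorphism.
* `exists_iso_or_deg_le`: for `0 → L → E → M → 0` with `L`, `M` invertible and an invertible submodule `N ⊆ E`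
  with invertible quotient, either `N = L` as submodules or `deg N ≤ deg M`.
-/

set_option autoImplicit false
set_option linter.style.haveILetI false
universe u
open CategoryTheory CategoryTheory.Limits AlgebraicGeometry Opposite TopologicalSpace Module

namespace Groth.Agent.Lib.Lead.VBCurve

variable (k : Type u) [Field k] (X : Scheme.{u}) [X.Over (Spec (CommRingCat.of k))]
  [IsProper (X ↘ Spec (CommRingCat.of k))] [IsIntegral X]

include k in
/-- a nonzero map of invertible modules is a monomorphism -/
theorem mono_of_ne_zero_of_isInvertible (hP : PIDStalks X) {A B : X.Modules}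
    (hA : PicF.IsInvertible A) (hB : PicF.IsInvertible B) (f : A ⟶ B) (hf : f ≠ 0) : Mono f := by
  have hA1 := (Groth.Agent.Lib.helper16.FLF.isInvertible_iff_isFinLocFreeOfRank_one A).mp hA
  have hB1 := (Groth.Agent.Lib.helper16.FLF.isInvertible_iff_isFinLocFreeOfRank_one B).mp hB
  obtain ⟨rK, rI, -, -, hrr, -, hpos, hmono, -⟩ := kernel_image_data k X hP hA1 hB1 f
  have := hpos hf
  exact hmono (by omega)

include k in
/-- an epimorphism of invertible modules is an isomorphism -/
theorem isIso_of_epi_of_isInvertible (hP : PIDStalks X) {A B : X.Modules}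
    (hA : PicF.IsInvertible A) (hB : PicF.IsInvertible B) (f : A ⟶ B) [Epi f] : IsIso f := by
  have hf : f ≠ 0 := by
    intro h0
    apply not_isZero_of_isInvertible X hB
    rw [IsZero.iff_id_eq_zero, ← cancel_epi f, h0, zero_comp, zero_comp]
  haveI := mono_of_ne_zero_of_isInvertible k X hP hA hB f hf
  exact isIso_of_mono_of_epi f

/-- a nonzero map of invertible modules of the same degree is an isomorphism -/
theorem isIso_of_isInvertible_of_deg_eq (hP : PIDStalks X) (hdim : topologicalKrullDim X ≤ 1)
    {A B : X.Modules} (hA : PicF.IsInvertible A) (hB : PicF.IsInvertible B) (f : A ⟶ B) (hf : f ≠ 0)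
    (hdeg : Curv2.deg k X A 1 = Curv2.deg k X B 1) : IsIso f := by
  have hA1 := (Groth.Agent.Lib.helper16.FLF.isInvertible_iff_isFinLocFreeOfRank_one A).mp hA
  have hB1 := (Groth.Agent.Lib.helper16.FLF.isInvertible_iff_isFinLocFreeOfRank_one B).mp hB
  haveI := mono_of_ne_zero_of_isInvertible k X hP hA hB f hf
  exact isIso_of_deg_eq k X hdim hA1 hB1 f hdeg

/-- degree of a nonzero map of invertible modules -/
theorem deg_le_of_ne_zero_of_isInvertible (hP : PIDStalks X) (hdim : topologicalKrullDim X ≤ 1)
    {A B : X.Modules} (hA : PicF.IsInvertible A) (hB : PicF.IsInvertible B) (f : A ⟶ B) (hf : f ≠ 0) :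
    Curv2.deg k X A 1 ≤ Curv2.deg k X B 1 := by
  have hA1 := (Groth.Agent.Lib.helper16.FLF.isInvertible_iff_isFinLocFreeOfRank_one A).mp hA
  have hB1 := (Groth.Agent.Lib.helper16.FLF.isInvertible_iff_isFinLocFreeOfRank_one B).mp hB
  haveI := mono_of_ne_zero_of_isInvertible k X hP hA hB f hf
  exact deg_le k X hdim hA1 hB1 f

include k in
/-- for `0 → L → E → M → 0` with `L`, `M` invertible and an invertible `N ⊆ E` with invertible quotient, either
`N = L` as submodules of `E`, or the composite `N → E → M` is nonzero (hence `deg N ≤ deg M`). -/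
theorem exists_iso_or_comp_ne_zero (hP : PIDStalks X)
    (S : ShortComplex X.Modules) (hS : S.ShortExact) (hM : PicF.IsInvertible S.X₃)
    (N : X.Modules) (j : N ⟶ S.X₂) [Mono j] (hq : PicF.IsInvertible (cokernel j)) :
    (∃ φ : N ≅ S.X₁, φ.hom ≫ S.f = j) ∨ j ≫ S.g ≠ 0 := by
  haveI := hS.mono_f
  haveI := hS.epi_g
  by_cases h0 : j ≫ S.g = 0
  · left
    obtain ⟨φ₀, hφ₀⟩ : ∃ φ₀ : N ⟶ S.X₁, φ₀ ≫ S.f = j :=
      ⟨hS.fIsKernel.lift (KernelFork.ofι j h0), Fork.IsLimit.lift_ι _⟩
    -- induced epi on cokernels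
    let g' : cokernel j ⟶ S.X₃ := cokernel.desc j S.g h0
    have hg' : cokernel.π j ≫ g' = S.g := cokernel.π_desc _ _ _
    haveI : Epi g' := by
      have : Epi (cokernel.π j ≫ g') := by rw [hg']; infer_instance
      exact epi_of_epi (cokernel.π j) g'
    haveI : IsIso g' := isIso_of_epi_of_isInvertible k X hP hq hM g'
    have hfπ : S.f ≫ cokernel.π j = 0 := by
      rw [← cancel_mono g', Category.assoc, hg', S.zero, zero_comp]
    -- `j` is the kernel of its cokernel
    obtain ⟨ψ, hψ⟩ : ∃ ψ : S.X₁ ⟶ N, ψ ≫ j = S.f :=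
      ⟨(Abelian.monoIsKernelOfCokernel (CokernelCofork.ofπ (cokernel.π j) (cokernel.condition j))
          (cokernelIsCokernel j)).lift (KernelFork.ofι S.f hfπ),
        Fork.IsLimit.lift_ι _⟩
    refine ⟨⟨φ₀, ψ, ?_, ?_⟩, hφ₀⟩
    · rw [← cancel_mono j, Category.assoc, hψ, hφ₀, Category.id_comp]
    · rw [← cancel_mono S.f, Category.assoc, hφ₀, hψ, Category.id_comp]
  · exact Or.inr h0

/-- for `0 → L → E → M → 0` with `L`, `M` invertible and an invertible `N ⊆ E` with invertible quotient, either
`N = L` as submodules of `E`, or `deg N ≤ deg M`. -/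
theorem exists_iso_or_deg_le (hP : PIDStalks X) (hdim : topologicalKrullDim X ≤ 1)
    (S : ShortComplex X.Modules) (hS : S.ShortExact) (hM : PicF.IsInvertible S.X₃)
    (N : X.Modules) (hN : PicF.IsInvertible N) (j : N ⟶ S.X₂) [Mono j]
    (hq : PicF.IsInvertible (cokernel j)) :
    (∃ φ : N ≅ S.X₁, φ.hom ≫ S.f = j) ∨ Curv2.deg k X N 1 ≤ Curv2.deg k X S.X₃ 1 := by
  rcases exists_iso_or_comp_ne_zero k X hP S hS hM N j hq with h | h
  · exact Or.inl h
  · exact Or.inr (deg_le_of_ne_zero_of_isInvertible k X hP hdim hN hM _ h)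

end Groth.Agent.Lib.Lead.VBCurve
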