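import Mathlib
import Groth.Agent.Lib.Lead.VBCurve11
import Groth.Agent.Lib.Helper7.QCohProd

/-!
# Preimages of submodules of a quotient (lead)

* `shortExact_preimage` (abelian categories): for `0 → A → E → B → 0` and a subobject `i : G ↪ B`, the preimage
  `P = E ×_B G` sits in `0 → A → P → G → 0` and `P ↪ E`.
* `preimage_data`: on a curve with PID stalks, for `A`, `E`, `G` finite locally free the preimage `P` is finite locally
  free of rank `rk A + rk G` and degree `deg A + deg G`.
-/

set_option autoImplicit false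
set_option linter.style.haveILetI false
universe u
open CategoryTheory CategoryTheory.Limits AlgebraicGeometry Opposite TopologicalSpace Module

namespace Groth.Agent.Lib.Lead.VBCurve

section abelian

variable {C : Type*} [Category C] [Abelian C]

/-- the preimage of a subobject of the quotient -/
theorem shortExact_preimage (S : ShortComplex C) (hS : S.ShortExact) {G : C} (i : G ⟶ S.X₃) [Mono i] :
    ∃ (f' : S.X₁ ⟶ pullback S.g i) (w : f' ≫ pullback.snd S.g i = 0),
      f' ≫ pullback.fst S.g i = S.f ∧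
      (ShortComplex.mk f' (pullback.snd S.g i) w).ShortExact ∧ Mono (pullback.fst S.g i) := by
  haveI := hS.mono_f
  haveI := hS.epi_g
  have hc : S.f ≫ S.g = (0 : S.X₁ ⟶ G) ≫ i := by rw [S.zero, zero_comp]
  let f' : S.X₁ ⟶ pullback S.g i := pullback.lift S.f (0 : S.X₁ ⟶ G) hc
  have hf1 : f' ≫ pullback.fst S.g i = S.f := pullback.lift_fst _ _ _
  have w : f' ≫ pullback.snd S.g i = 0 := pullback.lift_snd _ _ _
  refine ⟨f', w, hf1, ?_, inferInstance⟩
  haveI : Mono f' := mono_of_mono_fac hf1
  have hk : IsLimit (KernelFork.ofι f' w) := by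
    refine KernelFork.IsLimit.ofι _ _
      (fun {W} t ht => hS.fIsKernel.lift (KernelFork.ofι (t ≫ pullback.fst S.g i) (by
        rw [Category.assoc, pullback.condition, ← Category.assoc, ht, zero_comp])))
      (fun {W} t ht => ?_) (fun {W} t ht m hm => ?_)
    · apply pullback.hom_ext
      · rw [Category.assoc, hf1]
        exact Fork.IsLimit.lift_ι _
      · rw [Category.assoc, w, comp_zero, ht]
    · rw [← cancel_mono S.f]
      have h1 : hS.fIsKernel.lift (KernelFork.ofι (t ≫ pullback.fst S.g i) (by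
        rw [Category.assoc, pullback.condition, ← Category.assoc, ht, zero_comp])) ≫ S.f =
          t ≫ pullback.fst S.g i := Fork.IsLimit.lift_ι _
      rw [h1, ← hm, Category.assoc, hf1]
  exact
    { exact := ShortComplex.exact_of_f_is_kernel _ hk
      mono_f := inferInstanceAs (Mono f')
      epi_g := inferInstanceAs (Epi (pullback.snd S.g i)) }

end abelian

variable (k : Type u) [Field k] (X : Scheme.{u}) [X.Over (Spec (CommRingCat.of k))]
  [IsProper (X ↘ Spec (CommRingCat.of k))] [IsIntegral X]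

/-- rank and degree of the preimage of a finite locally free submodule of the quotient -/
theorem preimage_data (hP : PIDStalks X) (S : ShortComplex X.Modules) (hS : S.ShortExact)
    (hq : S.X₃.IsQuasicoherent) {r₁ r s : ℕ}
    (h₁ : FlatMod.IsFinLocFreeOfRank r₁ S.X₁) (h₂ : FlatMod.IsFinLocFreeOfRank r S.X₂)
    {G : X.Modules} (hG : FlatMod.IsFinLocFreeOfRank s G) (i : G ⟶ S.X₃) [Mono i] :
    ∃ (P : X.Modules) (a : P ⟶ S.X₂) (f' : S.X₁ ⟶ P) (g' : P ⟶ G), Mono a ∧ f' ≫ a = S.f ∧
      a ≫ S.g = g' ≫ i ∧ Epi g' ∧ FlatMod.IsFinLocFreeOfRank (r₁ + s) P ∧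
      Curv2.deg k X P (r₁ + s) = Curv2.deg k X S.X₁ r₁ + Curv2.deg k X G s := by
  haveI := Groth.Agent.Lib.Lead.CurveEuler.isNoetherian k X
  obtain ⟨f', w, hf1, hT, hmono⟩ := shortExact_preimage S hS i
  have hc₁ := Groth.Agent.Lib.Lead.RankAdd.isCoh_of_isFinLocFreeOfRank h₁
  have hc₂ := Groth.Agent.Lib.Lead.RankAdd.isCoh_of_isFinLocFreeOfRank h₂
  have hcG := Groth.Agent.Lib.Lead.RankAdd.isCoh_of_isFinLocFreeOfRank hG
  have hPq : (pullback S.g i).IsQuasicoherent :=
    Groth.Agent.Lib.helper7.QCohProd.isQuasicoherent_pullback hc₂.1 hcG.1 hq S.g i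
  have hPc : Coh.IsCoh (pullback S.g i) :=
    Groth.Agent.S0046.result X S.X₂ (pullback S.g i) (pullback.fst S.g i) hc₂ hPq
  have hPf : FlatMod.IsFinLocFree (pullback S.g i) :=
    isFinLocFree_of_mono hP hPc (Groth.Agent.Lib.helper16.FLF.isFinLocFree_of_isFinLocFreeOfRank h₂)
      (pullback.fst S.g i)
  obtain ⟨n, hn⟩ := exists_rank_of_isFinLocFree hPf
  have hrk : n = r₁ + s := Groth.Agent.Lib.Lead.RankAdd.rank_add_of_shortExact _ hT r₁ n s h₁ hn hG
  subst hrk
  refine ⟨pullback S.g i, pullback.fst S.g i, f', pullback.snd S.g i, hmono, hf1,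
    pullback.condition, hT.epi_g, hn, ?_⟩
  exact Groth.Agent.Lib.Lead.ProperEuler.deg_additive k hT hc₁ hcG r₁ (r₁ + s) s rfl

end Groth.Agent.Lib.Lead.VBCurve
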