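import Mathlib
import Groth.Agent.Lib.Lead.VBCurve12
import Groth.Agent.Lib.Helper16.Satur7
import Groth.Agent.Lib.Helper16.QCohAss
import Groth.Agent.Lib.Helper16.QCohEpi
import Groth.Agent.Lib.Helper2.ModSec

/-!
# Saturation of subsheaves of vector bundles on a regular curve (lead)

* `exists_torsion_of_not_free`: a finite non-free module over a PID has a nonzero torsion element.
* `exists_torsion_section`: a coherent, not finite locally free module on a scheme with PID stalks has a nonzero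
  section over an affine open killed by a section of `O` with nonzero germ.
-/

set_option autoImplicit false
set_option linter.style.haveILetI false
universe u
open CategoryTheory CategoryTheory.Limits AlgebraicGeometry Opposite TopologicalSpace Module

namespace Groth.Agent.Lib.Lead.VBCurve

open Groth.Agent.Lib.helper16.FLF Groth.Agent.Lib.helper16.QCohAss

/-- a finite module over a PID which is not free has a nonzero torsion element -/
theorem exists_torsion_of_not_free {R M : Type*} [CommRing R] [IsDomain R] [IsPrincipalIdealRing R]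
    [AddCommGroup M] [Module R M] [Module.Finite R M] (h : ¬ Module.Free R M) :
    ∃ (r : R) (m : M), r ≠ 0 ∧ m ≠ 0 ∧ r • m = 0 := by
  by_contra hcon
  push Not at hcon
  apply h
  haveI : Module.IsTorsionFree R M := by
    refine ⟨fun r hr m₁ m₂ hm => ?_⟩
    have hr0 : r ≠ 0 := hr.ne_zero
    by_contra hne
    have hsub : m₁ - m₂ ≠ 0 := sub_ne_zero.2 hne
    apply hcon r (m₁ - m₂) hr0 hsub
    have hm' : r • m₁ = r • m₂ := hm
    rw [smul_sub, hm', sub_self]
  exact Module.free_of_finite_type_torsion_free'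

/-- abstract spreading out of torsion along a localization -/
theorem LocData.exists_torsion {A : Type*} [CommRing A] {p : Ideal A} [p.IsPrime] {R : Type*} [CommRing R]
    [IsLocalRing R] [Algebra A R] [IsLocalization.AtPrime R p] [IsDomain R]
    {M : Type*} [AddCommGroup M] [Module A M] {N : Type*}
    [AddCommGroup N] [Module R N] {g : M →+ N} (h : LocData A p R M N g)
    (r : R) (n : N) (hr : r ≠ 0) (hn : n ≠ 0) (hrn : r • n = 0) :
    ∃ (a : A) (m : M), algebraMap A R a ≠ 0 ∧ g m ≠ 0 ∧ a • m = 0 := by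
  obtain ⟨c, m₀, hc, hcm⟩ := h.surj n
  obtain ⟨⟨a₀, c'⟩, hac⟩ := IsLocalization.surj p.primeCompl r
  have hcu : IsUnit (algebraMap A R c) := isUnit_of_notMem (R := R) hc
  have hcu' : IsUnit (algebraMap A R (c' : A)) := isUnit_of_notMem (R := R) c'.2
  have h0 : g (a₀ • m₀) = 0 := by
    rw [h.smul, ← hcm, ← hac, smul_smul, mul_assoc, mul_comm, ← smul_smul, hrn, smul_zero]
  obtain ⟨d, hd, hdm⟩ := h.ker _ h0
  have hdu : IsUnit (algebraMap A R d) := isUnit_of_notMem (R := R) hd
  refine ⟨a₀, d • m₀, ?_, ?_, ?_⟩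
  · rw [← hac]
    exact mul_ne_zero hr hcu'.ne_zero
  · rw [h.smul, ← hcm]
    intro h1
    rw [hdu.smul_eq_zero, hcu.smul_eq_zero] at h1
    exact hn h1
  · rw [smul_comm]; exact hdm

variable {X : Scheme.{u}}

/-- a coherent module which is not finite locally free, on a scheme with PID stalks, has a nonzero torsion section over
an affine open -/
theorem exists_torsion_section [IsLocallyNoetherian X] (hX : PIDStalks X) (Q : X.Modules) (hQ : Coh.IsCoh Q)
    (hnf : ¬ FlatMod.IsFinLocFree Q) :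
    ∃ (V : X.Opens) (_ : IsAffineOpen V) (x : X) (hx : x ∈ V) (a : Γ(X, V)) (m : Γ(Q, V)),
      (X.presheaf.germ V x hx).hom a ≠ 0 ∧ (Q.presheaf.germ V x hx).hom m ≠ 0 ∧ a • m = 0 := by
  haveI : Q.IsQuasicoherent := hQ.1
  have h1 : ¬ ∀ x : X, Module.Free (X.presheaf.stalk x) (Q.presheaf.stalk x) := by
    intro hall
    apply hnf
    rw [← isFinLocFree_iff_fp_free_stalks]
    exact ⟨Groth.Agent.Lib.helper16.CohFinite.isFinitePresentation_of_isCoh Q hQ, hall⟩
  push Not at h1
  obtain ⟨x, hx⟩ := h1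
  obtain ⟨hdom, hpid⟩ := hX x
  haveI := hdom
  haveI := hpid
  haveI := finite_stalk_of_isFiniteType Q hQ.2 x
  obtain ⟨r, n, hr, hn, hrn⟩ := exists_torsion_of_not_free hx
  obtain ⟨V, hV, hxV, -⟩ := Opens.isBasis_iff_nbhd.mp X.isBasis_affineOpens
    (show x ∈ (⊤ : X.Opens) from trivial)
  letI := TopCat.Presheaf.algebra_section_stalk X.presheaf (⟨x, hxV⟩ : V)
  haveI : IsLocalization.AtPrime (X.presheaf.stalk x) (hV.primeIdealOf ⟨x, hxV⟩).asIdeal :=
    hV.isLocalization_stalk ⟨x, hxV⟩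
  obtain ⟨a, m, ha, hm, ham⟩ := LocData.exists_torsion (locData Q hV x hxV) r n hr hn hrn
  exact ⟨V, hV, x, hxV, a, m, ha, hm, ham⟩


open Groth.Agent.Lib.helper16.Satur Scheme.Modules

/-- **Enlarging a non-saturated submodule**: if a section `e` of `E` over `V` has nonzero image in `E/G` which is killed
by `a ∈ O(V)`, then the saturation `G'` of `G` in `E` along `D(a)` is a quasi-coherent submodule of `E` containing `G`
strictly, and agreeing with `G` on `D(a)`. -/
theorem exists_enlarge_of_torsion_section [IsLocallyNoetherian X] {G E : X.Modules} [G.IsQuasicoherent]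
    [E.IsQuasicoherent] (ι : G ⟶ E) [Mono ι] (V : X.Opens) (a : Γ(X, V)) (e : Γ(E, V))
    (hne : (cokernel.π ι).app V e ≠ 0) (hae : a • (cokernel.π ι).app V e = 0) :
    ∃ (G' : X.Modules) (l : G ⟶ G') (ι' : G' ⟶ E), Mono ι' ∧ l ≫ ι' = ι ∧ G'.IsQuasicoherent ∧ ¬ IsIso l ∧
      Nonempty (G'.restrict (X.basicOpen a).ι ≅ G.restrict (X.basicOpen a).ι) := by
  set U : X.Opens := X.basicOpen a with hU
  let j := U.ι
  let i : G.restrict j ⟶ E.restrict j := (restrictFunctor j).map ι
  haveI : Mono i := by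
    rw [Groth.Agent.Lib.helper2.ModSec.mono_iff_injective_app]
    intro W
    exact (Groth.Agent.Lib.helper2.ModSec.mono_iff_injective_app ι).mp inferInstance (j ''ᵁ W)
  have hnat : ι ≫ (restrictAdjunction j).unit.app E =
      (restrictAdjunction j).unit.app G ≫ (pushforward j).map i :=
    (restrictAdjunction j).unit.naturality ι
  let l : G ⟶ satur j i := pullback.lift ι ((restrictAdjunction j).unit.app G) hnat
  have hl : l ≫ saturι j i = ι := pullback.lift_fst _ _ _
  haveI : (G.restrict j).IsQuasicoherent := inferInstance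
  refine ⟨satur j i, l, saturι j i, inferInstance, hl, isQuasicoherent_satur j i, ?_,
    ⟨saturRestrictIso j i⟩⟩
  intro hiso
  -- `e` lies in the saturation
  have he : e ∈ Set.range ((saturι j i).app V) := by
    rw [mem_range_saturι_iff, restrictAdjunction_unit_app_app]
    set W' : X.Opens := j ''ᵁ (j ⁻¹ᵁ V) with hW'
    have hle : W' ≤ V := j.image_preimage_le V
    have hleU : W' ≤ U := by
      rintro _ ⟨y, -, rfl⟩
      exact y.2
    change E.presheaf.map (homOfLE hle).op e ∈ Set.range (ι.app W')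
    rw [mem_range_iff_cokernel]
    have hnat2 := (cokernel.π ι).mapPresheaf.naturality (homOfLE hle).op
    have h2 := congrArg (fun ψ => (ConcreteCategory.hom ψ) e) hnat2
    refine h2.trans ?_
    change (cokernel ι).presheaf.map (homOfLE hle).op ((cokernel.π ι).app V e) = 0
    set m := (cokernel.π ι).app V e with hm
    have h3 : (X.presheaf.map (homOfLE hle).op a) • (cokernel ι).presheaf.map (homOfLE hle).op m = 0 := by
      rw [← Scheme.Modules.map_smul, hae, map_zero]
    have hu : IsUnit (X.presheaf.map (homOfLE hle).op a) := by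
      have hu0 : IsUnit (X.presheaf.map (homOfLE (X.basicOpen_le a)).op a) :=
        RingedSpace.isUnit_res_basicOpen _ a
      have := hu0.map (X.presheaf.map (homOfLE hleU).op).hom
      rwa [← CommRingCat.comp_apply, ← Functor.map_comp] at this
    exact hu.smul_eq_zero.mp h3
  obtain ⟨p, hp⟩ := he
  -- if `l` were an isomorphism, `e` would come from `G`
  have hsurj : Function.Surjective (l.app V) := by
    intro q
    refine ⟨(inv l).app V q, ?_⟩
    have := congrArg (fun ψ => (Scheme.Modules.Hom.app ψ V).hom q) (IsIso.inv_hom_id l)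
    exact this
  obtain ⟨g, hg⟩ := hsurj p
  apply hne
  have h4 : ι.app V g = e := by
    rw [← hp, ← hg, ← hl]
    rfl
  rw [← h4]
  exact congrArg (fun ψ => (Scheme.Modules.Hom.app ψ V).hom g) (cokernel.condition ι)


/-- **Non-saturated submodules can be enlarged.** On an integral locally Noetherian scheme with PID stalks, if `G ⊂ E`
are finite locally free and `E/G` is not finite locally free, there is a strictly larger finite locally free submodule
`G ⊂ G' ⊂ E` of the same rank as `G`. -/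
theorem exists_enlarge [IsIntegral X] [IsLocallyNoetherian X] (hP : PIDStalks X) {G E : X.Modules} {s r : ℕ}
    (hG : FlatMod.IsFinLocFreeOfRank s G) (hE : FlatMod.IsFinLocFreeOfRank r E) (ι : G ⟶ E) [Mono ι]
    (hQ : ¬ FlatMod.IsFinLocFree (cokernel ι)) :
    ∃ (G' : X.Modules) (l : G ⟶ G') (ι' : G' ⟶ E), Mono ι' ∧ l ≫ ι' = ι ∧
      FlatMod.IsFinLocFreeOfRank s G' ∧ ¬ IsIso l := by
  have hGc := Groth.Agent.Lib.Lead.RankAdd.isCoh_of_isFinLocFreeOfRank hG
  have hEc := Groth.Agent.Lib.Lead.RankAdd.isCoh_of_isFinLocFreeOfRank hE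
  haveI : G.IsQuasicoherent := hGc.1
  haveI : E.IsQuasicoherent := hEc.1
  have hQc : Coh.IsCoh (cokernel ι) := Groth.Agent.Lib.helper7.CohKer.isCoh_cokernel hGc hEc ι
  haveI : (cokernel ι).IsQuasicoherent := hQc.1
  obtain ⟨V, hV, x, hxV, a, m, ha, hm, ham⟩ := exists_torsion_section hP (cokernel ι) hQc hQ
  obtain ⟨e, he⟩ := Groth.Agent.Lib.helper16.QCohEpi.surjective_app_of_epi (cokernel.π ι) hV m
  have hm0 : m ≠ 0 := by
    rintro rfl
    exact hm (map_zero _)
  have he' : (cokernel.π ι).app V e = m := he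
  obtain ⟨G', l, ι', hmono, hl, hqc, hniso, ⟨eU⟩⟩ :=
    exists_enlarge_of_torsion_section ι V a e (by rw [he']; exact hm0) (by rw [he']; exact ham)
  haveI := hmono
  have hG'c : Coh.IsCoh G' := Groth.Agent.S0046.result X E G' ι' hEc hqc
  have hG'f : FlatMod.IsFinLocFree G' :=
    isFinLocFree_of_mono hP hG'c (Groth.Agent.Lib.helper16.FLF.isFinLocFree_of_isFinLocFreeOfRank hE) ι'
  obtain ⟨s', hs'⟩ := exists_rank_of_isFinLocFree hG'f
  have ha0 : a ≠ 0 := by
    rintro rfl
    exact ha (map_zero _)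
  have hUne : X.basicOpen a ≠ ⊥ := fun h => ha0 ((basicOpen_eq_bot_iff a).mp h)
  haveI : Nonempty ((X.basicOpen a : X.Opens) : Scheme.{u}) := by
    by_contra hemp
    rw [not_nonempty_iff] at hemp
    apply hUne
    ext y
    simp only [Opens.coe_bot, Set.mem_empty_iff_false, iff_false]
    intro hy
    exact hemp.false ⟨y, hy⟩
  have h1 : FlatMod.IsFinLocFreeOfRank s' (G.restrict (X.basicOpen a).ι) :=
    isFinLocFreeOfRank_of_iso eU (isFinLocFreeOfRank_restrict (X.basicOpen a).ι hs')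
  have h2 : FlatMod.IsFinLocFreeOfRank s (G.restrict (X.basicOpen a).ι) :=
    isFinLocFreeOfRank_restrict (X.basicOpen a).ι hG
  have hss : s' = s := rank_unique_of_isFinLocFreeOfRank _ h1 h2
  subst hss
  exact ⟨G', l, ι', hmono, hl, hs', hniso⟩


section curve

variable (k : Type u) [Field k] (X : Scheme.{u}) [X.Over (Spec (CommRingCat.of k))]
  [IsProper (X ↘ Spec (CommRingCat.of k))] [IsIntegral X]

/-- a non-saturated submodule can be replaced by a submodule of the same rank and strictly bigger degree -/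
theorem exists_deg_lt (hP : PIDStalks X) (hdim : topologicalKrullDim X ≤ 1) {G E : X.Modules} {s r : ℕ}
    (hG : FlatMod.IsFinLocFreeOfRank s G) (hE : FlatMod.IsFinLocFreeOfRank r E) (ι : G ⟶ E) [Mono ι]
    (hQ : ¬ FlatMod.IsFinLocFree (cokernel ι)) :
    ∃ (G' : X.Modules) (ι' : G' ⟶ E), Mono ι' ∧ FlatMod.IsFinLocFreeOfRank s G' ∧
      Curv2.deg k X G s < Curv2.deg k X G' s := by
  haveI := Groth.Agent.Lib.Lead.CurveEuler.isNoetherian k X
  obtain ⟨G', l, ι', hm, hl, hG', hni⟩ := exists_enlarge hP hG hE ι hQ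
  haveI := hm
  haveI : Mono l := mono_of_mono_fac hl
  exact ⟨G', ι', hm, hG', lt_of_le_of_ne (deg_le k X hdim hG hG' l)
    (fun h => hni (isIso_of_deg_eq k X hdim hG hG' l h))⟩

/-- a submodule of maximal degree among those of its rank has a finite locally free cokernel, with additive rank and
degree -/
theorem cokernel_data_of_maxDeg (hP : PIDStalks X) (hdim : topologicalKrullDim X ≤ 1) {G E : X.Modules} {s r : ℕ}
    (hG : FlatMod.IsFinLocFreeOfRank s G) (hE : FlatMod.IsFinLocFreeOfRank r E) (ι : G ⟶ E) [Mono ι]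
    (hmax : ∀ (G' : X.Modules) (ι' : G' ⟶ E), Mono ι' → FlatMod.IsFinLocFreeOfRank s G' →
      Curv2.deg k X G' s ≤ Curv2.deg k X G s) :
    ∃ t : ℕ, r = s + t ∧ FlatMod.IsFinLocFreeOfRank t (cokernel ι) ∧
      Curv2.deg k X E r = Curv2.deg k X G s + Curv2.deg k X (cokernel ι) t := by
  have hQ : FlatMod.IsFinLocFree (cokernel ι) := by
    by_contra hQ
    obtain ⟨G', ι', hm, hG', hlt⟩ := exists_deg_lt k X hP hdim hG hE ι hQ
    exact absurd (hmax G' ι' hm hG') (not_le.mpr hlt)
  obtain ⟨t, ht⟩ := exists_rank_of_isFinLocFree hQ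
  have hS := shortExact_cokernel X ι
  have hrk : r = s + t := Groth.Agent.Lib.Lead.RankAdd.rank_add_of_shortExact _ hS s r t hG hE ht
  refine ⟨t, hrk, ht, ?_⟩
  exact Groth.Agent.Lib.Lead.ProperEuler.deg_additive k hS
    (Groth.Agent.Lib.Lead.RankAdd.isCoh_of_isFinLocFreeOfRank hG)
    (Groth.Agent.Lib.Lead.RankAdd.isCoh_of_isFinLocFreeOfRank ht) s r t hrk

omit [IsIntegral X] in
/-- among the rank `s` submodules of `E` there is one of maximal degree -/
theorem exists_maxDeg_sub (hdim : topologicalKrullDim X ≤ 1) {G E : X.Modules} {s r : ℕ}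
    (hG : FlatMod.IsFinLocFreeOfRank s G) (hE : FlatMod.IsFinLocFreeOfRank r E) (ι : G ⟶ E) [Mono ι] :
    ∃ (G₁ : X.Modules) (ι₁ : G₁ ⟶ E), Mono ι₁ ∧ FlatMod.IsFinLocFreeOfRank s G₁ ∧
      ∀ (G' : X.Modules) (ι' : G' ⟶ E), Mono ι' → FlatMod.IsFinLocFreeOfRank s G' →
        Curv2.deg k X G' s ≤ Curv2.deg k X G₁ s := by
  have hEc := Groth.Agent.Lib.Lead.RankAdd.isCoh_of_isFinLocFreeOfRank hE
  let P : ℤ → Prop := fun d => ∃ (G' : X.Modules) (ι' : G' ⟶ E), Mono ι' ∧
    FlatMod.IsFinLocFreeOfRank s G' ∧ Curv2.deg k X G' s = d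
  obtain ⟨d₁, ⟨G₁, ι₁, hm₁, hG₁, hd₁⟩, hmax⟩ := Int.exists_greatest_of_bdd (P := P)
    ⟨(finrank k (Coh.HH X E 0) : ℤ) - (s : ℤ) * Curv2.euler k X (Coh.structureModule X), by
      rintro d ⟨G', ι', hm', hG', rfl⟩
      haveI := hm'
      exact deg_le_of_mono k X hdim
        (Groth.Agent.Lib.Lead.RankAdd.isCoh_of_isFinLocFreeOfRank hG').1 hEc ι' s⟩
    ⟨_, G, ι, inferInstance, hG, rfl⟩
  refine ⟨G₁, ι₁, hm₁, hG₁, fun G' ι' hm' hG' => ?_⟩
  rw [hd₁]
  exact hmax _ ⟨G', ι', hm', hG', rfl⟩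

/-- **Saturation**: every finite locally free submodule `G ⊂ E` of rank `s` can be replaced by a rank `s` submodule
`G₁ ⊂ E` of degree `≥ deg G` whose cokernel is finite locally free of rank `r - s`, with additive degrees. -/
theorem exists_saturated_sub (hP : PIDStalks X) (hdim : topologicalKrullDim X ≤ 1) {G E : X.Modules} {s r : ℕ}
    (hG : FlatMod.IsFinLocFreeOfRank s G) (hE : FlatMod.IsFinLocFreeOfRank r E) (ι : G ⟶ E) [Mono ι] :
    ∃ (G₁ : X.Modules) (ι₁ : G₁ ⟶ E) (t : ℕ), Mono ι₁ ∧ FlatMod.IsFinLocFreeOfRank s G₁ ∧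
      Curv2.deg k X G s ≤ Curv2.deg k X G₁ s ∧ r = s + t ∧ FlatMod.IsFinLocFreeOfRank t (cokernel ι₁) ∧
      Curv2.deg k X E r = Curv2.deg k X G₁ s + Curv2.deg k X (cokernel ι₁) t := by
  obtain ⟨G₁, ι₁, hm₁, hG₁, hmax⟩ := exists_maxDeg_sub k X hdim hG hE ι
  haveI := hm₁
  obtain ⟨t, hrk, ht, hdeg⟩ := cokernel_data_of_maxDeg k X hP hdim hG₁ hE ι₁ hmax
  exact ⟨G₁, ι₁, t, hm₁, hG₁, hmax G ι inferInstance hG, hrk, ht, hdeg⟩

/-- version of `cokernel_data_of_maxDeg` for an arbitrary short exact sequence -/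
theorem quotient_data_of_maxDeg (hP : PIDStalks X) (hdim : topologicalKrullDim X ≤ 1)
    (S : ShortComplex X.Modules) (hS : S.ShortExact) {s r : ℕ}
    (h₁ : FlatMod.IsFinLocFreeOfRank s S.X₁) (h₂ : FlatMod.IsFinLocFreeOfRank r S.X₂)
    (hmax : ∀ (G' : X.Modules) (ι' : G' ⟶ S.X₂), Mono ι' → FlatMod.IsFinLocFreeOfRank s G' →
      Curv2.deg k X G' s ≤ Curv2.deg k X S.X₁ s) :
    ∃ t : ℕ, r = s + t ∧ FlatMod.IsFinLocFreeOfRank t S.X₃ ∧
      Curv2.deg k X S.X₂ r = Curv2.deg k X S.X₁ s + Curv2.deg k X S.X₃ t := by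
  haveI := hS.mono_f
  obtain ⟨t, hrk, ht, -⟩ := cokernel_data_of_maxDeg k X hP hdim h₁ h₂ S.f hmax
  let e : cokernel S.f ≅ S.X₃ :=
    IsColimit.coconePointUniqueUpToIso (colimit.isColimit _) hS.gIsCokernel
  have ht' : FlatMod.IsFinLocFreeOfRank t S.X₃ := isFinLocFreeOfRank_of_iso e ht
  refine ⟨t, hrk, ht', ?_⟩
  exact Groth.Agent.Lib.Lead.ProperEuler.deg_additive k hS
    (Groth.Agent.Lib.Lead.RankAdd.isCoh_of_isFinLocFreeOfRank h₁)
    (Groth.Agent.Lib.Lead.RankAdd.isCoh_of_isFinLocFreeOfRank ht') s r t hrk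

end curve

end Groth.Agent.Lib.Lead.VBCurve
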