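import Mathlib
import Groth.Agent.Lib.Lead.VBCurve13
import Groth.Agent.Lib.Lead.CurveSec

/-!
# Sections of semistable bundles of degree zero (lead)

`X` an integral proper curve over a field `k` with PID stalks.
* `finrank_H0_le_add`: `h⁰(X₂) ≤ h⁰(X₁) + h⁰(X₃)` for a short exact sequence of coherent modules.
* `exists_quotient_of_section`: a semistable bundle `G` of degree `0` and rank `r + 1` with a nonzero section sits in
  `0 → O → G → Q → 0` with `Q` finite locally free of rank `r`, of degree `0` and semistable.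
* `finrank_H0_le_rank_of_semistable_deg_zero`: `h⁰(G) ≤ h⁰(O) · rk G` for `G` semistable of degree `0`.
-/

set_option autoImplicit false
set_option linter.style.haveILetI false
universe u
open CategoryTheory CategoryTheory.Limits AlgebraicGeometry Opposite TopologicalSpace Module

namespace Groth.Agent.Lib.Lead.VBCurve

variable (k : Type u) [Field k] (X : Scheme.{u}) [X.Over (Spec (CommRingCat.of k))]
  [IsProper (X ↘ Spec (CommRingCat.of k))]

/-- `h⁰` is subadditive on short exact sequences of coherent modules -/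
theorem finrank_H0_le_add {S : ShortComplex X.Modules} (hS : S.ShortExact) (h₁ : Coh.IsCoh S.X₁)
    (h₂ : Coh.IsCoh S.X₂) (h₃ : Coh.IsCoh S.X₃) :
    finrank k (Coh.HH X S.X₂ 0) ≤ finrank k (Coh.HH X S.X₁ 0) + finrank k (Coh.HH X S.X₃ 0) := by
  haveI := Groth.Agent.Lib.Lead.ProperEuler.finite_HH k X _ h₁ 0
  haveI := Groth.Agent.Lib.Lead.ProperEuler.finite_HH k X _ h₂ 0
  haveI := Groth.Agent.Lib.Lead.ProperEuler.finite_HH k X _ h₃ 0
  have hex := Groth.Agent.Lib.Helper18.HH.exactOver₂ hS k 0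
  let f := Groth.Agent.Lib.Helper18.HH.mapOver k S.f 0
  let g := Groth.Agent.Lib.Helper18.HH.mapOver k S.g 0
  have h1 := LinearMap.finrank_range_add_finrank_ker g
  have h2 : LinearMap.ker g = LinearMap.range f := (LinearMap.exact_iff.mp hex)
  have h3 : finrank k (LinearMap.range f) ≤ finrank k (Coh.HH X S.X₁ 0) :=
    LinearMap.finrank_range_le f
  have h4 : finrank k (LinearMap.range g) ≤ finrank k (Coh.HH X S.X₃ 0) :=
    Submodule.finrank_le _
  rw [h2] at h1
  omega

variable [IsIntegral X]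

open Groth.Agent.Lib.helper11.InvMod in
/-- a semistable bundle of degree `0` with a nonzero section is an extension of a semistable bundle of degree `0` by
`O_X` -/
theorem exists_quotient_of_section (hP : PIDStalks X) (hdim : topologicalKrullDim X ≤ 1) {G : X.Modules} {r : ℕ}
    (hG : FlatMod.IsFinLocFreeOfRank (r + 1) G) (hdeg : Curv2.deg k X G (r + 1) = 0)
    (hss : ∀ (H : X.Modules) (r' : ℕ) (i : H ⟶ G), Mono i → 0 < r' → FlatMod.IsFinLocFreeOfRank r' H →
      Curv2.deg k X H r' * ((r + 1 : ℕ) : ℤ) ≤ Curv2.deg k X G (r + 1) * (r' : ℤ))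
    (σ : Coh.structureModule X ⟶ G) (hσ : σ ≠ 0) :
    Mono σ ∧ FlatMod.IsFinLocFreeOfRank r (cokernel σ) ∧ Curv2.deg k X (cokernel σ) r = 0 ∧
      ∀ (H : X.Modules) (r' : ℕ) (i : H ⟶ cokernel σ), Mono i → 0 < r' → FlatMod.IsFinLocFreeOfRank r' H →
        Curv2.deg k X H r' * (r : ℤ) ≤ Curv2.deg k X (cokernel σ) r * (r' : ℤ) := by
  have hO1 : FlatMod.IsFinLocFreeOfRank 1 (Coh.structureModule X) :=
    (Groth.Agent.Lib.helper16.FLF.isInvertible_iff_isFinLocFreeOfRank_one _).mp (isInvertible_structureModule X)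
  have hr1 : (0 : ℤ) < ((r + 1 : ℕ) : ℤ) := by exact_mod_cast Nat.succ_pos r
  obtain ⟨rK, rI, -, -, hrr, -, hIpos, hmono, -⟩ := kernel_image_data k X hP hO1 hG σ
  have hrK : rK = 0 := by have := hIpos hσ; omega
  haveI : Mono σ := hmono hrK
  have hdO := Groth.Agent.Lib.Lead.CurveEuler.deg_structureModule k X
  have hmax : ∀ (G' : X.Modules) (ι' : G' ⟶ G), Mono ι' → FlatMod.IsFinLocFreeOfRank 1 G' →
      Curv2.deg k X G' 1 ≤ Curv2.deg k X (Coh.structureModule X) 1 := by
    intro G' ι' hm hG'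
    have h := hss G' 1 ι' hm Nat.one_pos hG'
    rw [hdeg, zero_mul] at h
    rw [hdO]
    exact nonpos_of_mul_nonpos_left h hr1
  obtain ⟨t, hrk, ht, hdegC⟩ := cokernel_data_of_maxDeg k X hP hdim hO1 hG σ hmax
  have htr : t = r := by omega
  subst htr
  have hdC : Curv2.deg k X (cokernel σ) t = 0 := by
    rw [hdeg, hdO, zero_add] at hdegC
    exact hdegC.symm
  refine ⟨inferInstance, ht, hdC, fun H r' i hi hr' hH => ?_⟩
  haveI := hi
  have hS := shortExact_cokernel X σ
  obtain ⟨P, a, f', g', ha, -, -, -, hPr, hPd⟩ := preimage_data k X hP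
    (ShortComplex.mk σ (cokernel.π σ) (cokernel.condition σ)) hS
    (Groth.Agent.Lib.Lead.RankAdd.isCoh_of_isFinLocFreeOfRank ht).1 hO1 hG hH i
  have h := hss P (1 + r') a ha (by omega) hPr
  rw [hPd, hdeg, zero_mul] at h
  change (Curv2.deg k X (Coh.structureModule X) 1 + Curv2.deg k X H r') * _ ≤ 0 at h
  rw [hdO, zero_add] at h
  have hH0 : Curv2.deg k X H r' ≤ 0 := nonpos_of_mul_nonpos_left h hr1
  rw [hdC, zero_mul]
  exact mul_nonpos_of_nonpos_of_nonneg hH0 (Int.natCast_nonneg _)

/-- **sections of semistable bundles of degree zero**: `h⁰(G) ≤ h⁰(O_X) · rk G` -/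
theorem finrank_H0_le_rank_of_semistable_deg_zero (hP : PIDStalks X) (hdim : topologicalKrullDim X ≤ 1) :
    ∀ (r : ℕ) (G : X.Modules), FlatMod.IsFinLocFreeOfRank r G → Curv2.deg k X G r = 0 →
      (∀ (H : X.Modules) (r' : ℕ) (i : H ⟶ G), Mono i → 0 < r' → FlatMod.IsFinLocFreeOfRank r' H →
        Curv2.deg k X H r' * (r : ℤ) ≤ Curv2.deg k X G r * (r' : ℤ)) →
      finrank k (Coh.HH X G 0) ≤ finrank k (Coh.HH X (Coh.structureModule X) 0) * r := by
  intro r
  induction r with
  | zero =>
    intro G hG _ _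
    haveI := subsingleton_HH_of_isZero (isZero_of_isFinLocFreeOfRank_zero hG) 0
    rw [Module.finrank_zero_of_subsingleton]
    exact Nat.zero_le _
  | succ r ih =>
    intro G hG hdeg hss
    rcases Nat.eq_zero_or_pos (finrank k (Coh.HH X G 0)) with h0 | hpos
    · rw [h0]; exact Nat.zero_le _
    · obtain ⟨σ, hσ⟩ := Groth.Agent.Lib.Lead.CurveSec.exists_hom_ne_zero_of_finrank_pos k X G hpos
      obtain ⟨hm, hQ, hdQ, hQss⟩ := exists_quotient_of_section k X hP hdim hG hdeg hss σ hσ
      haveI := hm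
      have hS := shortExact_cokernel X σ
      have hOc : Coh.IsCoh (Coh.structureModule X) :=
        Groth.Agent.Lib.Lead.CurveInv.isCoh_of_isInvertible X
          (Groth.Agent.Lib.helper11.InvMod.isInvertible_structureModule X)
      have hle := finrank_H0_le_add k X hS hOc
        (Groth.Agent.Lib.Lead.RankAdd.isCoh_of_isFinLocFreeOfRank hG)
        (Groth.Agent.Lib.Lead.RankAdd.isCoh_of_isFinLocFreeOfRank hQ)
      have hi := ih (cokernel σ) hQ hdQ hQss
      change finrank k (Coh.HH X G 0) ≤ finrank k (Coh.HH X (Coh.structureModule X) 0) +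
        finrank k (Coh.HH X (cokernel σ) 0) at hle
      rw [Nat.mul_succ]
      omega

end Groth.Agent.Lib.Lead.VBCurve
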