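import Mathlib
import Groth.Agent.Lib.Lead.VBCurve14
import Groth.Agent.Lib.Helper20.TensorEquiv
import Groth.Agent.Lib.Helper12.InvDual2
import Groth.Agent.Lib.Helper9.CurveDegAdd
import Groth.Agent.Lib.Helper9.CurveVanish

/-!
# Homomorphisms between invertible modules as sections of `M⁻¹ ⊗ L` (lead)

* `exists_hom_ne_zero_of_section`: a nonzero section of `M' ⊗ L` (`M'` an inverse of `M`) gives a nonzero map `M ⟶ L`.
* `deg_add_deg_of_isInverseOf`: `deg M' + deg M = 0`.
* `deg_inverse_tensor`: `deg (M' ⊗ L) = deg L - deg M`.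
-/

set_option autoImplicit false
set_option linter.style.haveILetI false
universe u
open CategoryTheory CategoryTheory.Limits AlgebraicGeometry Opposite TopologicalSpace Module

namespace Groth.Agent.Lib.Lead.VBCurve

open Groth.Agent.Lib.Lead.ModTensor Groth.Agent.Lib.Helper20.TensorEquiv

section general

variable {X : Scheme.{u}}

/-- a nonzero section of `M' ⊗ L`, with `M'` an inverse of `M`, gives a nonzero map `M ⟶ L` -/
theorem exists_hom_ne_zero_of_section {M M' L : X.Modules}
    (e : CohB1.tensorMod M M' ≅ Coh.structureModule X) (ε : CohB1.tensorMod M' M ≅ Coh.structureModule X)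
    (σ : Coh.structureModule X ⟶ CohB1.tensorMod M' L) (hσ : σ ≠ 0) : ∃ u : M ⟶ L, u ≠ 0 := by
  haveI := isEquivalence_tensorRight e
  let T := tensorRight (X := X) M
  let τ : CohB1.tensorMod (Coh.structureModule X) M ⟶ CohB1.tensorMod (CohB1.tensorMod M' L) M :=
    tensorMap σ (𝟙 M)
  have hT : τ ≠ 0 := by
    intro h0
    apply hσ
    apply T.map_injective
    have h1 : T.map σ = τ := rfl
    rw [h1, h0]
    exact (tensorMap_zero e _ _).symm
  let θ : CohB1.tensorMod (CohB1.tensorMod M' L) M ≅ L :=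
    tensorIso (braid M' L) (Iso.refl M) ≪≫ assoc L M' M ≪≫ tensorIso (Iso.refl L) ε ≪≫ rightUnitor L
  refine ⟨(leftUnitor M).inv ≫ τ ≫ θ.hom, fun h0 => hT ?_⟩
  have h1 : τ ≫ θ.hom = 0 := (cancel_epi (leftUnitor M).inv).mp (h0.trans comp_zero.symm)
  exact (cancel_mono θ.hom).mp (h1.trans zero_comp.symm)

end general

section curve

variable (k : Type u) [Field k] (X : Scheme.{u}) [X.Over (Spec (CommRingCat.of k))]
  [IsProper (X ↘ Spec (CommRingCat.of k))] [IsIntegral X]

/-- `deg M' + deg M = 0` for mutually inverse invertible modules -/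
theorem deg_add_deg_of_isInverseOf (hdim : topologicalKrullDim X ≤ 1) {M M' : X.Modules}
    (hM : PicF.IsInvertible M) (hM' : PicF.IsInvertible M') (h : ClSub.IsInverseOf M' M) :
    Curv2.deg k X M' 1 + Curv2.deg k X M 1 = 0 := by
  obtain ⟨ε⟩ := h
  rw [← Groth.Agent.Lib.helper9.CurveDegAdd.deg_tensorMod k X hdim hM' hM,
    Groth.Agent.Lib.Lead.CurveEuler.deg_eq_of_iso k X ε 1,
    Groth.Agent.Lib.Lead.CurveEuler.deg_structureModule k X]

/-- `deg (M' ⊗ L) = deg L - deg M` -/
theorem deg_inverse_tensor (hdim : topologicalKrullDim X ≤ 1) {M M' L : X.Modules}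
    (hM : PicF.IsInvertible M) (hM' : PicF.IsInvertible M') (h : ClSub.IsInverseOf M' M)
    (hL : PicF.IsInvertible L) :
    Curv2.deg k X (CohB1.tensorMod M' L) 1 = Curv2.deg k X L 1 - Curv2.deg k X M 1 := by
  have h1 := deg_add_deg_of_isInverseOf k X hdim hM hM' h
  rw [Groth.Agent.Lib.helper9.CurveDegAdd.deg_tensorMod k X hdim hM' hL]
  linarith

end curve

end Groth.Agent.Lib.Lead.VBCurve
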