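import Mathlib
import Groth.Agent.S8266

set_option autoImplicit false
set_option backward.isDefEq.respectTransparency false
set_option backward.isDefEq.respectTransparency.types false

universe u

/-! Integrality of `Proj 𝒜` for gradings by general `SetLike` additive subgroups. -/

namespace Groth.Agent.Lib.Lead.ProjIntegralG

open AlgebraicGeometry CategoryTheory

open HomogeneousLocalization in
/-- `D₊(h)` is nonempty for a non-nilpotent homogeneous element of positive degree. -/
theorem exists_notMem_of_not_isNilpotent {A σ : Type u} [CommRing A] [SetLike σ A] [AddSubgroupClass σ A]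
    (𝒜 : ℕ → σ) [GradedRing 𝒜] {i : ℕ} (hi : 0 < i) (h : A) (hh : h ∈ 𝒜 i)
    (hn : ¬ IsNilpotent h) :
    ∃ x : ProjectiveSpectrum 𝒜, h ∉ x.asHomogeneousIdeal := by
  have hnt : Nontrivial (Away 𝒜 h) := by
    refine ⟨⟨0, 1, ?_⟩⟩
    intro h01
    have h1 := congrArg HomogeneousLocalization.val h01
    rw [val_zero, val_one] at h1
    have h2 : algebraMap A (Localization.Away h) 1 = 0 := by rw [map_one]; exact h1.symm
    obtain ⟨⟨c, k, rfl⟩, hc⟩ := (IsLocalization.map_eq_zero_iff (Submonoid.powers h) _ 1).mp h2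
    exact hn ⟨k, by simpa using hc⟩
  obtain ⟨p⟩ := (PrimeSpectrum.nonempty_iff_nontrivial).mpr hnt
  have hy : (Proj.awayι 𝒜 h hh hi).base p ∈ (Proj.awayι 𝒜 h hh hi).opensRange := ⟨p, rfl⟩
  rw [Proj.opensRange_awayι] at hy
  exact ⟨(Proj.awayι 𝒜 h hh hi).base p, hy⟩



/-- `Proj 𝒜` is integral iff `𝒜` is essentially integral (for `𝒜` essentially reduced). -/
theorem isIntegral_proj_iff {A σ : Type u} [CommRing A] [SetLike σ A] [AddSubgroupClass σ A]
    (𝒜 : ℕ → σ) [GradedRing 𝒜]
    (hred : ∀ f ∈ (HomogeneousIdeal.irrelevant 𝒜).toIdeal, IsNilpotent f → f = 0) :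
    AlgebraicGeometry.IsIntegral (Proj 𝒜) ↔
      ((∃ f ∈ (HomogeneousIdeal.irrelevant 𝒜).toIdeal, f ≠ 0) ∧
        ∀ f ∈ (HomogeneousIdeal.irrelevant 𝒜).toIdeal, ∀ g ∈ (HomogeneousIdeal.irrelevant 𝒜).toIdeal,
          f * g = 0 → f = 0 ∨ g = 0) := by
  open ProjectiveSpectrum in
  have hnn : ∀ (i : ℕ), 0 < i → ∀ h ∈ 𝒜 i, h ≠ 0 → ¬ IsNilpotent h := fun i hi h hh hne hn =>
    hne (hred h (HomogeneousIdeal.mem_irrelevant_of_mem 𝒜 hi hh) hn)
  constructor
  · intro hint
    have hirr : IrreducibleSpace (Proj 𝒜) := inferInstance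
    have hgen : IsGenericPoint (genericPoint (Proj 𝒜)) Set.univ := genericPoint_spec _
    obtain ⟨η, hη⟩ : ∃ η : ProjectiveSpectrum 𝒜, η = genericPoint (Proj 𝒜) := ⟨_, rfl⟩
    have hopen : ∀ U : Set (ProjectiveSpectrum 𝒜), IsOpen U → U.Nonempty → η ∈ U := by
      intro U hU hne
      rw [hη]
      exact (hgen.mem_open_set_iff hU).mpr (by simpa using hne)
    have hzero : ∀ (i : ℕ), 0 < i → ∀ h ∈ 𝒜 i, h ∈ η.asHomogeneousIdeal → h = 0 := by
      intro i hi h hh hmem
      by_contra hne
      obtain ⟨x, hx⟩ := exists_notMem_of_not_isNilpotent 𝒜 hi h hh (hnn i hi h hh hne)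
      have := hopen (ProjectiveSpectrum.basicOpen 𝒜 h : Set _) (isOpen_basicOpen 𝒜) ⟨x, hx⟩
      exact this hmem
    have hzero' : ∀ f ∈ (HomogeneousIdeal.irrelevant 𝒜).toIdeal,
        f ∈ η.asHomogeneousIdeal → f = 0 := by
      classical
      intro f hf hfη
      rw [← DirectSum.sum_support_decompose 𝒜 f]
      apply Finset.sum_eq_zero
      intro i _
      by_cases hi : i = 0
      · subst hi
        have := (HomogeneousIdeal.mem_irrelevant_iff 𝒜 f).mp hf
        rwa [GradedRing.proj_apply] at this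
      · exact hzero i (Nat.pos_of_ne_zero hi) _ (SetLike.coe_mem _)
          (η.asHomogeneousIdeal.isHomogeneous i hfη)
    refine ⟨?_, ?_⟩
    · obtain ⟨f, hf, hfη⟩ := SetLike.not_le_iff_exists.mp η.not_irrelevant_le
      exact ⟨f, hf, fun h0 => hfη (h0 ▸ zero_mem _)⟩
    · intro f hf g hg hfg
      have hmem : f * g ∈ η.asHomogeneousIdeal.toIdeal := hfg ▸ zero_mem _
      rcases η.isPrime.mem_or_mem hmem with h | h
      · exact Or.inl (hzero' f hf h)
      · exact Or.inr (hzero' g hg h)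
  · rintro ⟨⟨f, hf, hf0⟩, hdom⟩
    haveI : AlgebraicGeometry.IsReduced (Proj 𝒜) :=
      Groth.Agent.S8266.proj_isReduced 𝒜 (fun x hx hn => hred x hx hn)
    have hbasic : ∀ U : Set (ProjectiveSpectrum 𝒜), IsOpen U → ∀ x ∈ U,
        ∃ (i : ℕ) (_ : 0 < i) (h : A) (_ : h ∈ 𝒜 i), h ∉ x.asHomogeneousIdeal ∧
          ∀ y : ProjectiveSpectrum 𝒜, h ∉ y.asHomogeneousIdeal → y ∈ U := by
      classical
      intro U hU x hx
      obtain ⟨_, ⟨r, rfl⟩, hxr, hrU⟩ :=
        (isTopologicalBasis_basic_opens 𝒜).exists_subset_of_mem_open hx hU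
      have hxr' : r ∉ x.asHomogeneousIdeal := hxr
      obtain ⟨j, hj⟩ : ∃ j, (DirectSum.decompose 𝒜 r j : A) ∉ x.asHomogeneousIdeal := by
        by_contra hcon
        push_neg at hcon
        apply hxr'
        rw [← DirectSum.sum_support_decompose 𝒜 r]
        exact Ideal.sum_mem _ fun j _ => hcon j
      obtain ⟨k, hk, t, ht, htx⟩ : ∃ k, 0 < k ∧ ∃ t ∈ 𝒜 k, t ∉ x.asHomogeneousIdeal := by
        by_contra hcon
        push_neg at hcon
        apply x.not_irrelevant_le
        rw [HomogeneousIdeal.irrelevant_le]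
        intro k hk t ht
        exact hcon k hk t ht
      refine ⟨j + k, by omega, (DirectSum.decompose 𝒜 r j : A) * t,
        SetLike.mul_mem_graded (SetLike.coe_mem _) ht, ?_, ?_⟩
      · intro hmem
        rcases x.isPrime.mem_or_mem hmem with h | h
        · exact hj h
        · exact htx h
      · intro y hy
        apply hrU
        change r ∉ y.asHomogeneousIdeal
        intro hry
        apply hy
        exact Ideal.mul_mem_right _ _ (y.asHomogeneousIdeal.isHomogeneous j hry)
    have hne : Nonempty (ProjectiveSpectrum 𝒜) := by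
      classical
      obtain ⟨i, hi0⟩ : ∃ i, (DirectSum.decompose 𝒜 f i : A) ≠ 0 := by
        by_contra hcon
        push_neg at hcon
        apply hf0
        rw [← DirectSum.sum_support_decompose 𝒜 f]
        exact Finset.sum_eq_zero fun i _ => hcon i
      have hipos : 0 < i := by
        rcases Nat.eq_zero_or_pos i with h | h
        · exfalso
          subst h
          apply hi0
          have := (HomogeneousIdeal.mem_irrelevant_iff 𝒜 f).mp hf
          rwa [GradedRing.proj_apply] at this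
        · exact h
      obtain ⟨x, -⟩ := exists_notMem_of_not_isNilpotent 𝒜 hipos _ (SetLike.coe_mem _)
        (hnn i hipos _ (SetLike.coe_mem _) hi0)
      exact ⟨x⟩
    have hpre : PreirreducibleSpace (ProjectiveSpectrum 𝒜) := by
      constructor
      intro u v hu hv ⟨x, _, hxu⟩ ⟨y, _, hyv⟩
      obtain ⟨i, hi, h, hh, hhx, hhu⟩ := hbasic u hu x hxu
      obtain ⟨i', hi', h', hh', hhy, hhv⟩ := hbasic v hv y hyv
      have h0 : h ≠ 0 := fun h0 => hhx (h0 ▸ zero_mem _)
      have h0' : h' ≠ 0 := fun h0 => hhy (h0 ▸ zero_mem _)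
      have hm : h ∈ (HomogeneousIdeal.irrelevant 𝒜).toIdeal :=
        HomogeneousIdeal.mem_irrelevant_of_mem 𝒜 hi hh
      have hm' : h' ∈ (HomogeneousIdeal.irrelevant 𝒜).toIdeal :=
        HomogeneousIdeal.mem_irrelevant_of_mem 𝒜 hi' hh'
      have hprod : h * h' ≠ 0 := fun hp => by
        rcases hdom h hm h' hm' hp with h | h
        · exact h0 h
        · exact h0' h
      obtain ⟨z, hz⟩ := exists_notMem_of_not_isNilpotent 𝒜 (show 0 < i + i' by omega) (h * h')
        (SetLike.mul_mem_graded hh hh') (hnn _ (by omega) _ (SetLike.mul_mem_graded hh hh') hprod)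
      refine ⟨z, Set.mem_univ _, hhu z ?_, hhv z ?_⟩
      · exact fun hmem => hz (Ideal.mul_mem_right _ _ hmem)
      · exact fun hmem => hz (Ideal.mul_mem_left _ _ hmem)
    haveI : IrreducibleSpace (Proj 𝒜) := by
      haveI := hpre
      exact (⟨hne⟩ : IrreducibleSpace (ProjectiveSpectrum 𝒜))
    exact isIntegral_of_irreducibleSpace_of_isReduced _


end Groth.Agent.Lib.Lead.ProjIntegralG
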