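import Mathlib

set_option autoImplicit false
set_option backward.isDefEq.respectTransparency false
set_option backward.isDefEq.respectTransparency.types false

universe u

/-! Morphisms `Proj ℬ ⟶ Proj 𝒜` given chartwise by a graded ring homomorphism `ψ : 𝒜 → ℬ`,
without Mathlib's hypothesis on irrelevant ideals: one only asks that the charts `D₊(ψ f)` cover
`Proj ℬ`. -/

namespace Groth.Agent.Lib.Lead.ProjChart

open AlgebraicGeometry CategoryTheory CategoryTheory.Limits HomogeneousLocalization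
open scoped HomogeneousIdeal

variable {A B σ τ : Type u} [CommRing A] [SetLike σ A] [AddSubgroupClass σ A]
  [CommRing B] [SetLike τ B] [AddSubgroupClass τ B]
  {𝒜 : ℕ → σ} {ℬ : ℕ → τ} [GradedRing 𝒜] [GradedRing ℬ]

/-- `g` is chartwise induced by `ψ`. -/
def IsChartMap (ψ : 𝒜 →+*ᵍ ℬ) (g : Proj ℬ ⟶ Proj 𝒜) : Prop :=
  ∀ (d : ℕ) (hd : 0 < d) (f : A) (hf : f ∈ 𝒜 d),
    Proj.awayι ℬ (ψ f) (ψ.map_mem hf) hd ≫ g =
      Spec.map (CommRingCat.ofHom (Away.map ψ f)) ≫ Proj.awayι 𝒜 f hf hd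

/-- The charts `D₊(ψ f)`, `f` homogeneous of positive degree, cover `Proj ℬ`. -/
def Covers (ψ : 𝒜 →+*ᵍ ℬ) : Prop :=
  ∀ y : Proj ℬ, ∃ (d : ℕ) (_ : 0 < d) (f : A) (_ : f ∈ 𝒜 d), ψ f ∉ y.asHomogeneousIdeal

/-- A homomorphism surjective in all large degrees has covering charts. -/
theorem covers_of_tnSurj (ψ : 𝒜 →+*ᵍ ℬ)
    (h : ∃ n : ℕ, ∀ k, n ≤ k → ∀ b ∈ ℬ k, ∃ a ∈ 𝒜 k, ψ a = b) : Covers ψ := by
  obtain ⟨n, hn⟩ := h
  intro y
  have h1 := y.not_irrelevant_le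
  rw [HomogeneousIdeal.irrelevant_le] at h1
  push Not at h1
  obtain ⟨i, hi, h2⟩ := h1
  obtain ⟨b, hb, hby⟩ := SetLike.not_le_iff_exists.mp h2
  have hb' : b ∈ ℬ i := hb
  have hpow : b ^ (n + 1) ∈ ℬ ((n + 1) • i) := SetLike.pow_mem_graded (n + 1) hb'
  obtain ⟨a, ha, hab⟩ := hn ((n + 1) • i) (by simp only [smul_eq_mul]; nlinarith) _ hpow
  refine ⟨(n + 1) • i, by simp only [smul_eq_mul]; positivity, a, ha, ?_⟩
  rw [hab]
  intro hmem
  exact hby (y.isPrime.mem_of_pow_mem _ hmem)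

theorem map_isLocalizationElem (ψ : 𝒜 →+*ᵍ ℬ) {d e : ℕ} {f f' : A} (hf : f ∈ 𝒜 d) (hf' : f' ∈ 𝒜 e) :
    Away.map ψ f (Away.isLocalizationElem hf hf') =
      Away.isLocalizationElem (ψ.map_mem hf) (ψ.map_mem hf') := by
  apply HomogeneousLocalization.val_injective
  rw [Away.isLocalizationElem, Away.isLocalizationElem, Away.map_mk]
  simp only [Away.val_mk, map_pow]
  rfl

theorem preimage_basicOpen {ψ : 𝒜 →+*ᵍ ℬ} {g : Proj ℬ ⟶ Proj 𝒜} (hg : IsChartMap ψ g)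
    (hc : Covers ψ) {d : ℕ} (hd : 0 < d) (f : A) (hf : f ∈ 𝒜 d) :
    g ⁻¹ᵁ Proj.basicOpen 𝒜 f = Proj.basicOpen ℬ (ψ f) := by
  ext y
  constructor
  · intro hy
    obtain ⟨d', hd', f', hf', hy'⟩ := hc y
    have hyr : y ∈ (Proj.awayι ℬ (ψ f') (ψ.map_mem hf') hd').opensRange := by
      rw [Proj.opensRange_awayι]; exact hy'
    obtain ⟨y', rfl⟩ := hyr
    have e1 : g.base ((Proj.awayι ℬ (ψ f') (ψ.map_mem hf') hd').base y') =
        (Proj.awayι 𝒜 f' hf' hd').base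
          ((Spec.map (CommRingCat.ofHom (Away.map ψ f'))).base y') := by
      have := congrArg (fun m => m.base y') (hg d' hd' f' hf')
      simpa using this
    have hz : (Spec.map (CommRingCat.ofHom (Away.map ψ f'))).base y' ∈
        Proj.awayι 𝒜 f' hf' hd' ⁻¹ᵁ Proj.basicOpen 𝒜 f := by
      change (Proj.awayι 𝒜 f' hf' hd').base _ ∈ Proj.basicOpen 𝒜 f
      rw [← e1]; exact hy
    rw [Proj.awayι_preimage_basicOpen 𝒜 hf' hd' hf hd] at hz
    have hz2 : Away.map ψ f' (Away.isLocalizationElem hf' hf) ∉ y'.asIdeal := hz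
    rw [map_isLocalizationElem] at hz2
    have key : Proj.awayι ℬ (ψ f') (ψ.map_mem hf') hd' ⁻¹ᵁ Proj.basicOpen ℬ (ψ f) =
        PrimeSpectrum.basicOpen (Away.isLocalizationElem (ψ.map_mem hf') (ψ.map_mem hf)) :=
      Proj.awayι_preimage_basicOpen ℬ (ψ.map_mem hf') hd' (ψ.map_mem hf) hd
    have hz' : y' ∈ Proj.awayι ℬ (ψ f') (ψ.map_mem hf') hd' ⁻¹ᵁ Proj.basicOpen ℬ (ψ f) := by
      rw [key]
      exact hz2
    exact hz'
  · intro hy
    have hyr : y ∈ (Proj.awayι ℬ (ψ f) (ψ.map_mem hf) hd).opensRange := by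
      rw [Proj.opensRange_awayι]; exact hy
    obtain ⟨y', rfl⟩ := hyr
    have e1 : g.base ((Proj.awayι ℬ (ψ f) (ψ.map_mem hf) hd).base y') =
        (Proj.awayι 𝒜 f hf hd).base
          ((Spec.map (CommRingCat.ofHom (Away.map ψ f))).base y') := by
      have := congrArg (fun m => m.base y') (hg d hd f hf)
      simpa using this
    change g.base _ ∈ Proj.basicOpen 𝒜 f
    rw [e1, ← Proj.opensRange_awayι 𝒜 f hf hd]
    exact ⟨_, rfl⟩

/-- The chart square of a chartwise-induced morphism is a pullback square. -/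
theorem isPullback {ψ : 𝒜 →+*ᵍ ℬ} {g : Proj ℬ ⟶ Proj 𝒜} (hg : IsChartMap ψ g)
    (hc : Covers ψ) {d : ℕ} (hd : 0 < d) (f : A) (hf : f ∈ 𝒜 d) :
    IsPullback (Spec.map (CommRingCat.ofHom (Away.map ψ f)))
      (Proj.awayι ℬ (ψ f) (ψ.map_mem hf) hd) (Proj.awayι 𝒜 f hf hd) g :=
  IsOpenImmersion.isPullback _ _ _ _ (hg d hd f hf)
    (by rw [Proj.opensRange_awayι, Proj.opensRange_awayι, preimage_basicOpen hg hc hd f hf])

/-- A property local at the target holds for a chartwise-induced morphism as soon as it holds for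
all the chart maps. -/
theorem of_forall_away (P : MorphismProperty Scheme.{u}) [IsZariskiLocalAtTarget P]
    {ψ : 𝒜 →+*ᵍ ℬ} {g : Proj ℬ ⟶ Proj 𝒜} (hg : IsChartMap ψ g) (hc : Covers ψ)
    (H : ∀ (i : ℕ) (_ : 0 < i) (s : A) (_ : s ∈ 𝒜 i),
      P (Spec.map (CommRingCat.ofHom (Away.map ψ s)))) :
    P g := by
  refine (IsZariskiLocalAtTarget.iff_of_openCover (P := P)
    (Proj.affineOpenCover 𝒜).openCover).mpr ?_
  intro s
  have sq := isPullback hg hc s.1.2 s.2.1 s.2.2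
  change P (pullback.snd g (Proj.awayι 𝒜 (s.2 : A) s.2.2 s.1.2))
  have e := sq.flip.isoPullback_hom_snd
  rw [← P.cancel_left_of_respectsIso sq.flip.isoPullback.hom, e]
  exact H _ s.1.2 _ s.2.2

/-- The affine open cover of `Proj ℬ` by the charts `D₊(ψ f)`. -/
noncomputable def cover {ψ : 𝒜 →+*ᵍ ℬ} (hc : Covers ψ) : (Proj ℬ).AffineOpenCover where
  I₀ := Σ i : PNat, 𝒜 i
  X s := .of (Away ℬ (ψ s.2))
  f s := Proj.awayι ℬ (ψ s.2) (ψ.map_mem s.2.2) s.1.2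
  idx y := ⟨⟨(hc y).choose, (hc y).choose_spec.choose⟩,
    ⟨(hc y).choose_spec.choose_spec.choose, (hc y).choose_spec.choose_spec.choose_spec.choose⟩⟩
  covers y := by
    change y ∈ (Proj.awayι ℬ _ _ _).opensRange
    rw [Proj.opensRange_awayι]
    exact (hc y).choose_spec.choose_spec.choose_spec.choose_spec

/-- Compatibility of a chartwise-induced morphism with the structure morphisms to degree zero. -/
theorem comp_toSpecZero {ψ : 𝒜 →+*ᵍ ℬ} {g : Proj ℬ ⟶ Proj 𝒜} (hg : IsChartMap ψ g)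
    (hc : Covers ψ) :
    g ≫ Proj.toSpecZero 𝒜 =
      Proj.toSpecZero ℬ ≫ Spec.map (CommRingCat.ofHom ψ.gradedZeroRingHom) := by
  refine (cover hc).openCover.hom_ext _ _ fun s ↦ ?_
  change Proj.awayι ℬ (ψ s.2) (ψ.map_mem s.2.2) s.1.2 ≫ g ≫ Proj.toSpecZero 𝒜 =
    Proj.awayι ℬ (ψ s.2) (ψ.map_mem s.2.2) s.1.2 ≫ Proj.toSpecZero ℬ ≫ _
  rw [reassoc_of% (hg s.1 s.1.2 s.2 s.2.2), Proj.awayι_toSpecZero,
    Proj.awayι_toSpecZero_assoc, ← Spec.map_comp, ← Spec.map_comp]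
  congr 1
  ext x
  simp only [CommRingCat.hom_comp, CommRingCat.hom_ofHom, RingHom.coe_comp, Function.comp_apply]
  simp [fromZeroRingHom, Away.map, HomogeneousLocalization.map_mk]

/-- TN-surjective graded homs are surjective on degree-zero localizations. -/
theorem away_map_surjective_of_tnSurj (ψ : 𝒜 →+*ᵍ ℬ)
    (h : ∃ n : ℕ, ∀ k, n ≤ k → ∀ b ∈ ℬ k, ∃ a ∈ 𝒜 k, ψ a = b)
    {i : ℕ} (hi : 0 < i) (s : A) (hs : s ∈ 𝒜 i) :
    Function.Surjective (Away.map ψ s) := by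
  obtain ⟨n₀, hn₀⟩ := h
  intro x
  obtain ⟨n, b, hb, rfl⟩ := Away.mk_surjective ℬ (ψ.map_mem hs) x
  -- multiply numerator and denominator by `(ψ s)^n₀`
  have hb' : b * ψ s ^ n₀ ∈ ℬ ((n + n₀) • i) := by
    rw [add_smul]
    exact SetLike.mul_mem_graded hb (SetLike.pow_mem_graded n₀ (ψ.map_mem hs))
  obtain ⟨a, ha, hab⟩ := hn₀ ((n + n₀) • i)
    (by simp only [smul_eq_mul]; nlinarith) _ hb'
  refine ⟨Away.mk 𝒜 hs (n + n₀) a ha, ?_⟩
  rw [Away.map_mk]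
  apply HomogeneousLocalization.val_injective
  simp only [Away.val_mk, hab]
  rw [Localization.mk_eq_mk_iff, Localization.r_iff_exists]
  refine ⟨1, ?_⟩
  simp only [OneMemClass.coe_one, one_mul]
  show ψ s ^ n * (b * ψ s ^ n₀) = ψ s ^ (n + n₀) * b
  ring

/-- Graded homs injective in all large degrees are injective on degree-zero localizations away
from a homogeneous element of positive degree. -/
theorem away_map_injective_of_tnInj (ψ : 𝒜 →+*ᵍ ℬ)
    (h : ∃ n : ℕ, ∀ k, n ≤ k → ∀ a ∈ 𝒜 k, ψ a = 0 → a = 0)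
    {i : ℕ} (hi : 0 < i) (s : A) (hs : s ∈ 𝒜 i) :
    Function.Injective (Away.map ψ s) := by
  obtain ⟨n₀, hn₀⟩ := h
  rw [injective_iff_map_eq_zero]
  intro x hx
  obtain ⟨n, y, hy, rfl⟩ := Away.mk_surjective 𝒜 hs x
  rw [Away.map_mk ψ s hs n y hy] at hx
  rw [HomogeneousLocalization.ext_iff_val, Away.val_mk, val_zero, Localization.mk_eq_mk',
    IsLocalization.mk'_eq_zero_iff] at hx
  obtain ⟨⟨c, k, rfl⟩, hc⟩ := hx
  simp only at hc
  have h1 : ψ (s ^ (k + n₀) * y) = 0 := by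
    rw [map_mul, pow_add, map_mul, mul_right_comm, map_pow]
    have hc' : ψ s ^ k * ψ y = 0 := hc
    rw [hc', zero_mul]
  have hmem : s ^ (k + n₀) * y ∈ 𝒜 ((k + n₀) • i + n • i) :=
    SetLike.mul_mem_graded (SetLike.pow_mem_graded _ hs) hy
  have hge : n₀ ≤ (k + n₀) • i + n • i := by
    simp only [smul_eq_mul]; nlinarith
  have h0 : s ^ (k + n₀) * y = 0 := hn₀ _ hge _ hmem h1
  rw [HomogeneousLocalization.ext_iff_val, Away.val_mk, val_zero, Localization.mk_eq_mk',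
    IsLocalization.mk'_eq_zero_iff]
  exact ⟨⟨s ^ (k + n₀), k + n₀, rfl⟩, h0⟩

end Groth.Agent.Lib.Lead.ProjChart
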