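import Mathlib

set_option autoImplicit false
set_option backward.isDefEq.respectTransparency false
set_option backward.isDefEq.respectTransparency.types false

universe u

/-! Chart-wise study of `Proj.map`, for gradings by general `SetLike` additive subgroups. -/

namespace Groth.Agent.Lib.Lead.ProjMapG

open AlgebraicGeometry CategoryTheory CategoryTheory.Limits HomogeneousLocalization
open scoped HomogeneousIdeal

variable {A B σ τ : Type u} [CommRing A] [SetLike σ A] [AddSubgroupClass σ A]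
  [CommRing B] [SetLike τ B] [AddSubgroupClass τ B]
  {𝒜 : ℕ → σ} {ℬ : ℕ → τ} [GradedRing 𝒜] [GradedRing ℬ]

/-- The chart square of `Proj.map` is a pullback square. -/
theorem isPullback_awayι_map (φ : 𝒜 →+*ᵍ ℬ) (hφ : ℬ₊ ≤ (𝒜₊).map φ)
    {i : ℕ} (hi : 0 < i) (s : A) (hs : s ∈ 𝒜 i) :
    IsPullback (Spec.map (CommRingCat.ofHom (Away.map φ s)))
      (Proj.awayι ℬ (φ s) (φ.map_mem hs) hi) (Proj.awayι 𝒜 s hs hi) (Proj.map φ hφ) :=
  IsOpenImmersion.isPullback _ _ _ _ (Proj.awayι_comp_map φ hφ hi s hs)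
    (by rw [Proj.opensRange_awayι, Proj.opensRange_awayι, Proj.map_preimage_basicOpen])

/-- A property local at the target holds for `Proj.map φ` as soon as it holds for all the chart
maps `Spec (B_(φ s)) ⟶ Spec (A_(s))`. -/
theorem map_of_forall_away (P : MorphismProperty Scheme.{u}) [IsZariskiLocalAtTarget P]
    (φ : 𝒜 →+*ᵍ ℬ) (hφ : ℬ₊ ≤ (𝒜₊).map φ)
    (H : ∀ (i : ℕ) (_ : 0 < i) (s : A) (_ : s ∈ 𝒜 i),
      P (Spec.map (CommRingCat.ofHom (Away.map φ s)))) :
    P (Proj.map φ hφ) := by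
  refine (IsZariskiLocalAtTarget.iff_of_openCover (P := P)
    (Proj.affineOpenCover 𝒜).openCover).mpr ?_
  intro s
  have sq := isPullback_awayι_map φ hφ s.1.2 s.2.1 s.2.2
  change P (pullback.snd (Proj.map φ hφ) (Proj.awayι 𝒜 (s.2 : A) s.2.2 s.1.2))
  have e := sq.flip.isoPullback_hom_snd
  rw [← P.cancel_left_of_respectsIso sq.flip.isoPullback.hom, e]
  exact H _ s.1.2 _ s.2.2

/-- A surjective graded ring hom is surjective on each graded piece. -/
theorem surjOn_of_surjective (φ : 𝒜 →+*ᵍ ℬ) (hsurj : Function.Surjective φ) (k : ℕ) :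
    Set.SurjOn φ (𝒜 k) (ℬ k) := by
  classical
  intro b hb
  obtain ⟨a, rfl⟩ := hsurj b
  refine ⟨(DirectSum.decompose 𝒜 a k : A), SetLike.coe_mem _, ?_⟩
  rw [GradedRingHom.map_directSumDecompose, DirectSum.decompose_of_mem_same _ hb]

/-- A surjective graded ring hom induces surjections on degree zero localizations. -/
theorem away_map_surjective (φ : 𝒜 →+*ᵍ ℬ) (hsurj : Function.Surjective φ)
    {i : ℕ} (s : A) (hs : s ∈ 𝒜 i) :
    Function.Surjective (Away.map φ s) := by
  intro x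
  obtain ⟨n, b, hb, rfl⟩ := Away.mk_surjective ℬ (φ.map_mem hs) x
  obtain ⟨a, ha, rfl⟩ := surjOn_of_surjective φ hsurj _ hb
  exact ⟨Away.mk 𝒜 hs n a ha, Away.map_mk φ s hs n a ha⟩

/-- A graded ring hom which is bijective in positive degrees induces a bijection on degree-zero
localizations away from a homogeneous element of positive degree. -/
theorem away_map_bijective (φ : 𝒜 →+*ᵍ ℬ) (hbij : ∀ n : ℕ, 0 < n → Set.BijOn φ (𝒜 n) (ℬ n))
    {i : ℕ} (hi : 0 < i) (s : A) (hs : s ∈ 𝒜 i) :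
    Function.Bijective (Away.map φ s) := by
  constructor
  · rw [injective_iff_map_eq_zero]
    intro x hx
    obtain ⟨n, y, hy, rfl⟩ := Away.mk_surjective 𝒜 hs x
    rw [Away.map_mk φ s hs n y hy] at hx
    rw [HomogeneousLocalization.ext_iff_val, Away.val_mk, val_zero, Localization.mk_eq_mk',
      IsLocalization.mk'_eq_zero_iff] at hx
    obtain ⟨⟨c, k, rfl⟩, hc⟩ := hx
    simp only at hc
    have h1 : φ (s ^ (k + 1) * y) = 0 := by
      rw [map_mul, pow_succ', map_mul, mul_assoc, map_pow, hc, mul_zero]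
    have hmem : s ^ (k + 1) * y ∈ 𝒜 ((k + 1) • i + n • i) :=
      SetLike.mul_mem_graded (SetLike.pow_mem_graded _ hs) hy
    have hpos : 0 < (k + 1) • i + n • i := by
      have : 0 < (k + 1) • i := by
        rw [smul_eq_mul]; positivity
      omega
    have h0 : s ^ (k + 1) * y = 0 :=
      (hbij _ hpos).injOn hmem (zero_mem _) (by rw [h1, map_zero])
    rw [HomogeneousLocalization.ext_iff_val, Away.val_mk, val_zero, Localization.mk_eq_mk',
      IsLocalization.mk'_eq_zero_iff]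
    exact ⟨⟨s ^ (k + 1), k + 1, rfl⟩, h0⟩
  · intro x
    obtain ⟨n, a, ha, rfl⟩ := Away.mk_surjective ℬ (φ.map_mem hs) x
    have hmem : a * φ s ∈ ℬ ((n + 1) • i) := by
      have := SetLike.mul_mem_graded ha (φ.map_mem hs)
      rwa [show n • i + i = (n + 1) • i by rw [add_smul, one_smul]] at this
    have hpos : 0 < (n + 1) • i := by
      rw [smul_eq_mul]; positivity
    obtain ⟨b, hb, hbφ⟩ := (hbij _ hpos).surjOn hmem
    refine ⟨Away.mk 𝒜 hs (n + 1) b hb, ?_⟩
    rw [Away.map_mk φ s hs (n + 1) b hb]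
    rw [HomogeneousLocalization.ext_iff_val, Away.val_mk, Away.val_mk, Localization.mk_eq_mk_iff,
      Localization.r_iff_exists]
    refine ⟨1, ?_⟩
    simp only [OneMemClass.coe_one, one_mul]
    rw [hbφ, pow_succ]
    change φ s ^ n * (a * φ s) = φ s ^ n * φ s * a
    ring

/-- Naturality of the structure morphism `Proj 𝒜 ⟶ Spec 𝒜₀` with respect to `Proj.map`. -/
theorem map_toSpecZero (φ : 𝒜 →+*ᵍ ℬ) (hφ : ℬ₊ ≤ (𝒜₊).map φ) :
    Proj.map φ hφ ≫ Proj.toSpecZero 𝒜 =
      Proj.toSpecZero ℬ ≫ Spec.map (CommRingCat.ofHom φ.gradedZeroRingHom) := by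
  refine (Proj.mapAffineOpenCover φ hφ).openCover.hom_ext _ _ fun s ↦ ?_
  simp only [Scheme.AffineOpenCover.openCover_f, Proj.mapAffineOpenCover_f]
  rw [Proj.awayι_comp_map_assoc φ hφ s.1.2 s.2 s.2.2, Proj.awayι_toSpecZero,
    Proj.awayι_toSpecZero_assoc, ← Spec.map_comp, ← Spec.map_comp]
  congr 1
  ext x
  simp only [CommRingCat.hom_comp, CommRingCat.hom_ofHom, RingHom.coe_comp, Function.comp_apply]
  simp [fromZeroRingHom, Away.map, HomogeneousLocalization.map_mk]

end Groth.Agent.Lib.Lead.ProjMapG
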