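import Mathlib

set_option autoImplicit false
set_option backward.isDefEq.respectTransparency false
set_option backward.isDefEq.respectTransparency.types false

universe u

namespace Groth.Agent.Lib.Lead.ProjMapLocal

open AlgebraicGeometry CategoryTheory CategoryTheory.Limits HomogeneousLocalization

variable {R A B : Type u} [CommRing R] [CommRing A] [Algebra R A] [CommRing B] [Algebra R B]
  {𝒜 : ℕ → Submodule R A} [GradedAlgebra 𝒜] {ℬ : ℕ → Submodule R B} [GradedAlgebra ℬ]

/-- The chart square of `Proj.map` is a pullback square. -/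
theorem isPullback_awayι_map (φ : 𝒜 →+*ᵍ ℬ)
    (hφ : HomogeneousIdeal.irrelevant ℬ ≤ (HomogeneousIdeal.irrelevant 𝒜).map φ)
    {i : ℕ} (hi : 0 < i) (s : A) (hs : s ∈ 𝒜 i) :
    IsPullback (Spec.map (CommRingCat.ofHom (Away.map φ s)))
      (Proj.awayι ℬ (φ s) (φ.map_mem hs) hi) (Proj.awayι 𝒜 s hs hi) (Proj.map φ hφ) :=
  IsOpenImmersion.isPullback _ _ _ _ (Proj.awayι_comp_map φ hφ hi s hs)
    (by rw [Proj.opensRange_awayι, Proj.opensRange_awayι, Proj.map_preimage_basicOpen])

/-- A property local at the target holds for `Proj.map φ` as soon as it holds for all the chart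
maps `Spec (B_(φ s)) ⟶ Spec (A_(s))`. -/
theorem map_of_forall_away (P : MorphismProperty Scheme.{u}) [IsZariskiLocalAtTarget P]
    (φ : 𝒜 →+*ᵍ ℬ)
    (hφ : HomogeneousIdeal.irrelevant ℬ ≤ (HomogeneousIdeal.irrelevant 𝒜).map φ)
    (H : ∀ (i : ℕ) (_ : 0 < i) (s : A) (_ : s ∈ 𝒜 i),
      P (Spec.map (CommRingCat.ofHom (Away.map φ s)))) :
    P (Proj.map φ hφ) := by
  refine (IsZariskiLocalAtTarget.iff_of_openCover (P := P)
    (Proj.affineOpenCover 𝒜).openCover).mpr ?_
  intro s
  have sq := isPullback_awayι_map φ hφ s.1.2 s.2.1 s.2.2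
  change P (pullback.snd (Proj.map φ hφ) (Proj.awayι 𝒜 (s.2 : A) s.2.2 s.1.2))
  have e := sq.flip.isoPullback_hom_snd
  rw [← P.cancel_left_of_respectsIso sq.flip.isoPullback.hom, e]
  exact H _ s.1.2 _ s.2.2

/-- A graded ring hom commutes with taking homogeneous components. -/
theorem map_proj (φ : 𝒜 →+*ᵍ ℬ) (k : ℕ) (a : A) :
    φ (GradedRing.proj 𝒜 k a) = GradedRing.proj ℬ k (φ a) := by
  classical
  induction a using DirectSum.Decomposition.inductionOn 𝒜 with
  | zero => simp
  | homogeneous x =>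
    rename_i j
    have hx' : φ (x : A) ∈ ℬ j := φ.map_mem x.2
    by_cases h : j = k
    · subst h
      rw [GradedRing.proj_apply, GradedRing.proj_apply, DirectSum.decompose_of_mem_same _ x.2,
        DirectSum.decompose_of_mem_same _ hx']
    · rw [GradedRing.proj_apply, GradedRing.proj_apply, DirectSum.decompose_of_mem_ne _ x.2 h,
        DirectSum.decompose_of_mem_ne _ hx' h, map_zero]
  | add a b ha hb => simp only [map_add, ha, hb]

/-- A surjective graded ring hom is surjective on each graded piece. -/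
theorem surjOn_of_surjective (φ : 𝒜 →+*ᵍ ℬ) (hsurj : Function.Surjective φ) (k : ℕ) :
    Set.SurjOn φ (𝒜 k) (ℬ k) := by
  intro b hb
  obtain ⟨a, rfl⟩ := hsurj b
  refine ⟨GradedRing.proj 𝒜 k a, ?_, ?_⟩
  · rw [GradedRing.proj_apply]; exact SetLike.coe_mem _
  · rw [map_proj, GradedRing.proj_apply, DirectSum.decompose_of_mem_same _ hb]

/-- A surjective graded ring hom induces surjections on degree zero localizations. -/
theorem away_map_surjective (φ : 𝒜 →+*ᵍ ℬ) (hsurj : Function.Surjective φ)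
    {i : ℕ} (s : A) (hs : s ∈ 𝒜 i) :
    Function.Surjective (Away.map φ s) := by
  intro x
  obtain ⟨n, b, hb, rfl⟩ := Away.mk_surjective ℬ (φ.map_mem hs) x
  obtain ⟨a, ha, rfl⟩ := surjOn_of_surjective φ hsurj _ hb
  exact ⟨Away.mk 𝒜 hs n a ha, Away.map_mk φ s hs n a ha⟩

end Groth.Agent.Lib.Lead.ProjMapLocal
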