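import Mathlib
import Groth.Prelude.Def_KLin
import Groth.Agent.Lib.Helper8.FlatBC
import Groth.Agent.Lib.Helper8.PullbackUnit2
import Groth.Agent.Lib.Helper12.GGDescent
import Groth.Agent.Lib.Helper11.FibLift1
import Groth.Agent.Lib.Helper2.TensorQCoh
import Groth.Agent.Lib.Helper16.FLF2

/-!
# Flat base change for `Hom(E, G)` with `E` finite locally free (lead)

`A → B` a flat ring map, `X` a quasi-compact quasi-separated scheme over `Spec A`, `p : X' ⟶ X` exhibiting
`X' = X ×_A Spec B`.
* `isBC_sections`, `isBC_pullSec`: flat base change for global sections of a quasi-coherent module `N`, in the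
  form "`s ↦ p^* s : Hom(O_X, N) → Hom(O_X', p^*N)` is a base change along `A → B`" (helper8's `IsBC`; from
  helper8's `κ_bijective_of_isQuasiSeparated`).
* `secEquiv_add/smul`, `Xi_add`, `Xi_smulΓ`, `Xi_smul'`: linearity of helper11's `FibLift.secEquiv` and `FibLift.Xi`.
* `isBC_pullHom`: for `E` finite locally free and `G` quasi-coherent, `u ↦ p^* u : Hom(E, G) → Hom(p^*E, p^*G)` is a
  base change along `A → B` (for the `KLin` module structures).
* `homBC : B ⊗[A] (E ⟶ G) ≃ₗ[B] (p^*E ⟶ p^*G)` with `homBC_tmul : homBC (b ⊗ u) = b • p^* u`.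
-/

set_option autoImplicit false
set_option linter.style.haveILetI false
set_option linter.unusedSectionVars false

universe u
open CategoryTheory CategoryTheory.Limits AlgebraicGeometry Opposite TopologicalSpace TensorProduct
open Groth.Agent.Lib.helper8.PullbackUnit Groth.Agent.Lib.helper8.FlatBC
open Groth.Agent.Lib.helper11.GenLocus Groth.Agent.Lib.helper12.AmpleDescent
open Groth.Agent.Lib.helper12.GGDescent Groth.Agent.Lib.helper12.QAffDescent

namespace Groth.Agent.Lib.Lead.HomBC

section A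

variable {A B : Type u} [CommRing A] [CommRing B] [Algebra A B]
variable {X X' : Scheme.{u}} (f : X ⟶ Spec (CommRingCat.of A)) (q : X' ⟶ Spec (CommRingCat.of B))
  (p : X' ⟶ X)

theorem eTop : (⊤ : (Spec (CommRingCat.of B)).Opens) ≤
    (Spec.map (CommRingCat.ofHom (algebraMap A B))) ⁻¹ᵁ ⊤ := le_top

/-- the square of rings `A → B`, `Γ(Spec A) → Γ(Spec B)` is a pushout -/
theorem isPushout_ΓSpec :
    IsPushout (CommRingCat.ofHom (algebraMap A B))
      (CommRingCat.ofHom (Scheme.ΓSpecIso (CommRingCat.of A)).inv.hom)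
      (CommRingCat.ofHom (Scheme.ΓSpecIso (CommRingCat.of B)).inv.hom)
      (CommRingCat.ofHom ((Spec.map (CommRingCat.ofHom (algebraMap A B))).appLE ⊤ ⊤ eTop).hom) := by
  haveI : IsIso (CommRingCat.ofHom (Scheme.ΓSpecIso (CommRingCat.of A)).inv.hom) :=
    inferInstanceAs (IsIso (Scheme.ΓSpecIso (CommRingCat.of A)).inv)
  haveI : IsIso (CommRingCat.ofHom (Scheme.ΓSpecIso (CommRingCat.of B)).inv.hom) :=
    inferInstanceAs (IsIso (Scheme.ΓSpecIso (CommRingCat.of B)).inv)
  apply IsPushout.of_vert_isIso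
  constructor
  have h := Scheme.ΓSpecIso_inv_naturality (CommRingCat.ofHom (algebraMap A B))
  rw [appLE_top_top]
  exact h

variable (H : IsPullback p q f (Spec.map (CommRingCat.ofHom (algebraMap A B))))
  [Module.Flat A B] [CompactSpace X] [QuasiSeparatedSpace X]
  (N : X.Modules) [N.IsQuasicoherent]

/-- the open `p⁻¹ ⊤ ⊓ q⁻¹ ⊤` of `X'` -/
noncomputable abbrev SS : X'.Opens := sharp p q ⊤ ⊤

theorem top_le_SS : (⊤ : X'.Opens) ≤ SS q p := fun _ _ => ⟨trivial, trivial⟩

theorem SS_le : SS q p ≤ p ⁻¹ᵁ ⊤ := inf_le_left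

/-- the ring map `A → Γ(X, ⊤)` -/
noncomputable def tgA : A →+* Γ(X, ⊤) := Coh.toGlobal f

/-- the ring map `B → Γ(X', SS)` -/
noncomputable def tgB : B →+* Γ(X', SS q p) :=
  (X'.presheaf.map (homOfLE (le_top : SS q p ≤ ⊤)).op).hom.comp (Coh.toGlobal q)

theorem tgA_apply (r : A) :
    tgA f r = (f.appLE ⊤ ⊤ le_top).hom ((Scheme.ΓSpecIso (CommRingCat.of A)).inv.hom r) := by
  rw [appLE_top_top]
  rfl

theorem tgB_apply (r : B) :
    tgB q p r = (q.appLE ⊤ (SS q p) inf_le_right).hom
      ((Scheme.ΓSpecIso (CommRingCat.of B)).inv.hom r) := by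
  have h := Scheme.Hom.appLE_map q (U := ⊤) (V := ⊤) (show (⊤ : X'.Opens) ≤ q ⁻¹ᵁ ⊤ from le_top)
    (homOfLE (le_top : SS q p ≤ ⊤)).op
  rw [appLE_top_top] at h
  exact congr($(h).hom ((Scheme.ΓSpecIso (CommRingCat.of B)).inv.hom r))

include H in
/-- **flat base change of global sections**, sections form -/
theorem isBC_sections :
    letI : Module A Γ(N, ⊤) := Module.compHom _ (tgA f)
    letI : Module B Γ((Scheme.Modules.pullback p).obj N, SS q p) := Module.compHom _ (tgB q p)
    IsBC (algebraMap A B) (ρ p (SS_le q p) N) := by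
  let g := Spec.map (CommRingCat.ofHom (algebraMap A B))
  have e : (⊤ : (Spec (CommRingCat.of B)).Opens) ≤ g ⁻¹ᵁ ⊤ := le_top
  have hW : (⊤ : X.Opens) ≤ f ⁻¹ᵁ ⊤ := le_top
  letI : Algebra Γ(Spec (CommRingCat.of A), ⊤) Γ(Spec (CommRingCat.of B), ⊤) :=
    (g.appLE ⊤ ⊤ e).hom.toAlgebra
  have halg : algebraMap Γ(Spec (CommRingCat.of A), ⊤) Γ(Spec (CommRingCat.of B), ⊤) =
    (g.appLE ⊤ ⊤ e).hom := rfl
  haveI : Flat g := Flat.SpecMap_iff.mpr
    ((RingHom.flat_algebraMap_iff (R := A) (S := B)).mpr inferInstance)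
  haveI : Module.Flat Γ(Spec (CommRingCat.of A), ⊤) Γ(Spec (CommRingCat.of B), ⊤) := by
    have h0 := Scheme.Hom.flat_appTop g
    rw [← appLE_top_top g e] at h0
    exact h0
  have hbij := κ_bijective_of_isQuasiSeparated N ⊤ hW H e halg (isAffineOpen_top _)
    (isAffineOpen_top _) isCompact_univ isQuasiSeparated_univ
  rw [κ, ← isBC_iff_bijective_tlift] at hbij
  rw [halg] at hbij
  letI mA : Module A Γ(N, ⊤) := Module.compHom _ (tgA f)
  letI mB : Module B Γ((Scheme.Modules.pullback p).obj N, SS q p) := Module.compHom _ (tgB q p)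
  refine IsBC.cancel' (N := NW f N ⊤ ⊤ hW) (P := PW p q N ⊤ ⊤) (mN := mA) (mP := mB)
    (isPushout_ΓSpec (A := A) (B := B)) ?_ ?_ hbij
  · intro r n
    exact (congrArg (fun t : Γ(X, ⊤) => (t • (show Γ(N, ⊤) from n) : Γ(N, ⊤))) (tgA_apply f r))
  · intro r n
    exact (congrArg (fun t : Γ(X', SS q p) => (t • (show Γ((Scheme.Modules.pullback p).obj N, SS q p) from n) :
      Γ((Scheme.Modules.pullback p).obj N, SS q p))) (tgB_apply q p r))

end A

section SecEquiv

open Groth.Agent.Lib.helper12.AmpleBasis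

variable {X : Scheme.{u}}

theorem sec_add {M : X.Modules} (s t : Coh.structureModule X ⟶ M) (U : X.Opens) :
    sec (s + t) U = sec s U + sec t U := rfl

theorem sec_surjective (M : X.Modules) (S : X.Opens) (hS : (⊤ : X.Opens) ≤ S) (σ : Γ(M, S)) :
    ∃ t : Coh.structureModule X ⟶ M, sec t S = σ := by
  refine ⟨homOfSec M (M.presheaf.map (homOfLE hS).op σ), ?_⟩
  refine (val_homOfSec M _ S).trans ?_
  change M.presheaf.map (homOfLE (le_top : S ≤ ⊤)).op (M.presheaf.map (homOfLE hS).op σ) = σ
  rw [← ConcreteCategory.comp_apply, ← M.presheaf.map_comp]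
  have : (homOfLE hS).op ≫ (homOfLE (le_top : S ≤ ⊤)).op = 𝟙 _ := rfl
  rw [this, M.presheaf.map_id]
  rfl

theorem sec_smul {A : Type u} [CommRing A] [X.Over (Spec (CommRingCat.of A))]
    {M : X.Modules} (a : A) (t : Coh.structureModule X ⟶ M) (U : X.Opens) :
    sec (a • t) U = X.presheaf.map (homOfLE (le_top : U ≤ ⊤)).op
      (Coh.toGlobal (X ↘ Spec (CommRingCat.of A)) a) • sec t U := by
  have h := KLin.smul_app_apply a t U ((1 : Γ(X, U)) : Γ(Coh.structureModule X, U))
  exact h

end SecEquiv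

section HomLevel

open Groth.Agent.Lib.helper21.InvFibre

variable {A B : Type u} [CommRing A] [CommRing B] [Algebra A B] [Module.Flat A B]
variable {X X' : Scheme.{u}} [X.Over (Spec (CommRingCat.of A))] [X'.Over (Spec (CommRingCat.of B))]
  (p : X' ⟶ X)
  (H : IsPullback p (X' ↘ Spec (CommRingCat.of B)) (X ↘ Spec (CommRingCat.of A))
    (Spec.map (CommRingCat.ofHom (algebraMap A B))))
  [CompactSpace X] [QuasiSeparatedSpace X] (N : X.Modules) [N.IsQuasicoherent]

/-- pullback of sections `O_X ⟶ N`, as an additive map -/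
noncomputable def pullSecAdd :
    (Coh.structureModule X ⟶ N) →+
      (Coh.structureModule X' ⟶ (Scheme.Modules.pullback p).obj N) where
  toFun := pullSec p N
  map_zero' := by
    unfold pullSec
    rw [Functor.map_zero, comp_zero]
  map_add' s t := by
    unfold pullSec
    rw [Functor.map_add, Preadditive.comp_add]

include H in
/-- **flat base change for global sections**, `Hom(O, -)` form -/
theorem isBC_pullSec : IsBC (algebraMap A B) (pullSecAdd p N) := by
  have h0 := isBC_sections (X ↘ Spec (CommRingCat.of A)) (X' ↘ Spec (CommRingCat.of B)) p H N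
  letI mA : Module A Γ(N, ⊤) := Module.compHom _ (tgA (X ↘ Spec (CommRingCat.of A)))
  letI mB : Module B Γ((Scheme.Modules.pullback p).obj N, SS (X' ↘ Spec (CommRingCat.of B)) p) :=
    Module.compHom _ (tgB (X' ↘ Spec (CommRingCat.of B)) p)
  let lN : (Coh.structureModule X ⟶ N) →ₗ[A] Γ(N, ⊤) :=
    { toFun := fun t => sec t ⊤
      map_add' := fun s t => sec_add s t ⊤
      map_smul' := fun a t => by
        refine (sec_smul a t ⊤).trans ?_
        change _ = (tgA (X ↘ Spec (CommRingCat.of A)) a) • sec t ⊤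
        congr 1
        have : (homOfLE (le_top : (⊤ : X.Opens) ≤ ⊤)).op = 𝟙 _ := rfl
        rw [this, X.presheaf.map_id]
        rfl }
  let lP : (Coh.structureModule X' ⟶ (Scheme.Modules.pullback p).obj N) →ₗ[B]
      Γ((Scheme.Modules.pullback p).obj N, SS (X' ↘ Spec (CommRingCat.of B)) p) :=
    { toFun := fun t => sec t (SS (X' ↘ Spec (CommRingCat.of B)) p)
      map_add' := fun s t => sec_add s t _
      map_smul' := fun b t => by
        exact sec_smul b t _ }
  have hN : Function.Bijective lN :=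
    ⟨fun s t h => hom_ext_of_sec s t ⊤ le_rfl h, fun σ => sec_surjective N ⊤ le_rfl σ⟩
  have hP : Function.Bijective lP :=
    ⟨fun s t h => hom_ext_of_sec s t _ (top_le_SS _ p) h,
      fun σ => sec_surjective _ _ (top_le_SS _ p) σ⟩
  refine h0.of_equiv (LinearEquiv.ofBijective lN hN) (LinearEquiv.ofBijective lP hP)
    (pullSecAdd p N) ?_
  intro t
  exact sec_pullback_map p t (SS_le (X' ↘ Spec (CommRingCat.of B)) p)

end HomLevel

section PartB

open Groth.Agent.Lib.helper11.FibLift Groth.Agent.Lib.helper21.InvFibre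
open Groth.Agent.Lib.Lead.ModTensor Groth.Agent.Lib.helper21.FLFDual
open Groth.Agent.Lib.helper11.Bidual Groth.Agent.Lib.helper11.ProjFormula
open Groth.Agent.Lib.Helper21.TensorAdj
open Groth.Agent.Lib.helper12.PullTensor Groth.Agent.Lib.helper12.InvDual
open Groth.Agent.Lib.helper11.InvMod Groth.Agent.Lib.helper11.PullTensFLF

variable {A B : Type u} [CommRing A] [CommRing B] [Algebra A B]
variable {X X' : Scheme.{u}} [X.Over (Spec (CommRingCat.of A))] [X'.Over (Spec (CommRingCat.of B))]
  (p : X' ⟶ X) {E : X.Modules} (hE : FlatMod.IsFinLocFree E) (G : X.Modules)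

/-- pullback of morphisms, as an additive map -/
noncomputable def pullHomAdd (E G : X.Modules) :
    (E ⟶ G) →+ ((Scheme.Modules.pullback p).obj E ⟶ (Scheme.Modules.pullback p).obj G) where
  toFun u := (Scheme.Modules.pullback p).map u
  map_zero' := Functor.map_zero _ _ _
  map_add' _ _ := Functor.map_add _

set_option backward.isDefEq.respectTransparency false in
theorem secEquiv_add (u v : E ⟶ G) :
    secEquiv hE G (u + v) = secEquiv hE G u + secEquiv hE G v := by
  rw [secEquiv_apply, secEquiv_apply, secEquiv_apply, Preadditive.comp_add]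
  exact ((tensDualAdj hE).homAddEquiv (Coh.structureModule X) G).map_add _ _

theorem secEquiv_smulΓ (u : E ⟶ G) (r : Coh.Γtop X) :
    secEquiv hE G (u ≫ Formal.smulModΓ G r) = secEquiv hE G u ≫ Formal.smulModΓ _ r := by
  rw [secEquiv_comp, tensorMap_smulModΓ_left]

theorem secEquiv_smul (a : A) (u : E ⟶ G) :
    secEquiv hE G (a • u) = a • secEquiv hE G u := by
  have h1 : a • u = u ≫ Formal.smulModΓ G (Coh.toGlobal (X ↘ Spec (CommRingCat.of A)) a) := by
    rw [KLin.comp_smulModΓ]; rfl
  have h2 : a • secEquiv hE G u = secEquiv hE G u ≫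
      Formal.smulModΓ _ (Coh.toGlobal (X ↘ Spec (CommRingCat.of A)) a) := by
    rw [KLin.comp_smulModΓ]; rfl
  rw [h1, h2, secEquiv_smulΓ]

set_option backward.isDefEq.respectTransparency false in
theorem Xi_add (v w : (Scheme.Modules.pullback p).obj E ⟶ (Scheme.Modules.pullback p).obj G) :
    Xi p hE G (v + w) = Xi p hE G v + Xi p hE G w := by
  rw [Xi_apply, Xi_apply, Xi_apply]
  have h1 : (pbAdj p).homEquiv E _ (v + w) =
      (pbAdj p).homEquiv E _ v + (pbAdj p).homEquiv E _ w :=
    ((pbAdj p).homAddEquiv E _).map_add v w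
  rw [h1, secEquiv_add, Preadditive.add_comp]
  have h2 := ((pbAdj p).homAddEquiv (Coh.structureModule X)
    ((Scheme.Modules.pullback p).obj (CohB1.tensorMod G (dualMod E)))).symm.map_add
    (secEquiv hE _ ((pbAdj p).homEquiv E _ v) ≫ (kap p hE G).hom)
    (secEquiv hE _ ((pbAdj p).homEquiv E _ w) ≫ (kap p hE G).hom)
  rw [← Preadditive.comp_add]
  congr 1

set_option backward.isDefEq.respectTransparency false in
theorem kap_smulΓ (r' : Coh.Γtop X') :
    tensorMap ((Scheme.Modules.pushforward p).map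
        (Formal.smulModΓ ((Scheme.Modules.pullback p).obj G) r')) (𝟙 (dualMod E)) ≫
      (kap p hE G).hom =
    (kap p hE G).hom ≫ (Scheme.Modules.pushforward p).map (Formal.smulModΓ _ r') := by
  have h3 : (kap p hE G).hom = proj p ((Scheme.Modules.pullback p).obj G) (dualMod E) ≫
      (Scheme.Modules.pushforward p).map (pullTensorIsoFLF p G (isFinLocFree_dualMod hE)).inv :=
    rfl
  rw [h3, ← Category.assoc, proj_naturality_left, tensorMap_smulModΓ_left, Category.assoc,
    Category.assoc, ← Functor.map_comp, ← Functor.map_comp, KLin.comp_smulModΓ]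

set_option backward.isDefEq.respectTransparency false in
theorem Xi_smulΓ (v : (Scheme.Modules.pullback p).obj E ⟶ (Scheme.Modules.pullback p).obj G)
    (r' : Coh.Γtop X') :
    Xi p hE G (v ≫ Formal.smulModΓ _ r') = Xi p hE G v ≫ Formal.smulModΓ _ r' := by
  rw [Xi_apply, Xi_apply, Category.assoc]
  congr 1
  rw [(pbAdj p).homEquiv_naturality_right, secEquiv_comp, Category.assoc, kap_smulΓ,
    ← Category.assoc, (pbAdj p).homEquiv_naturality_right_symm]

theorem Xi_smul' (b : B) (v : (Scheme.Modules.pullback p).obj E ⟶ (Scheme.Modules.pullback p).obj G) :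
    Xi p hE G (b • v) = b • Xi p hE G v := by
  have h1 : b • v = v ≫ Formal.smulModΓ _ (Coh.toGlobal (X' ↘ Spec (CommRingCat.of B)) b) := by
    rw [KLin.comp_smulModΓ]; rfl
  have h2 : b • Xi p hE G v = Xi p hE G v ≫
      Formal.smulModΓ _ (Coh.toGlobal (X' ↘ Spec (CommRingCat.of B)) b) := by
    rw [KLin.comp_smulModΓ]; rfl
  rw [h1, h2, Xi_smulΓ]

variable (H : IsPullback p (X' ↘ Spec (CommRingCat.of B)) (X ↘ Spec (CommRingCat.of A))
    (Spec.map (CommRingCat.ofHom (algebraMap A B))))
  [Module.Flat A B] [CompactSpace X] [QuasiSeparatedSpace X] [G.IsQuasicoherent]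

include H hE in
/-- **flat base change for `Hom(E, G)`**, `E` finite locally free, `G` quasi-coherent, `X` qcqs:
`u ↦ p^* u` exhibits `Hom(p^*E, p^*G)` as the base change of `Hom(E, G)` along `A → B`. -/
theorem isBC_pullHom : IsBC (algebraMap A B) (pullHomAdd p E G) := by
  haveI : (dualMod E).IsQuasicoherent :=
    Groth.Agent.Lib.helper16.FLF.isQuasicoherent_of_isFinLocFree _ (isFinLocFree_dualMod hE)
  haveI : (CohB1.tensorMod G (dualMod E)).IsQuasicoherent :=
    Groth.Agent.Lib.helper2.TensorQCoh.isQuasicoherent_tensorMod _ _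
  have h0 := isBC_pullSec p H (CohB1.tensorMod G (dualMod E))
  let eN : (E ⟶ G) ≃ₗ[A] (Coh.structureModule X ⟶ CohB1.tensorMod G (dualMod E)) :=
    { secEquiv hE G with
      map_add' := secEquiv_add hE G
      map_smul' := secEquiv_smul hE G }
  let eP : ((Scheme.Modules.pullback p).obj E ⟶ (Scheme.Modules.pullback p).obj G) ≃ₗ[B]
      (Coh.structureModule X' ⟶
        (Scheme.Modules.pullback p).obj (CohB1.tensorMod G (dualMod E))) :=
    { Xi p hE G with
      map_add' := Xi_add p hE G
      map_smul' := Xi_smul' p hE G }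
  exact h0.of_equiv eN eP (pullHomAdd p E G) (fun u => Xi_pullback_map p hE G u)

/-- the base change isomorphism `B ⊗_A Hom(E, G) ≃ Hom(p^*E, p^*G)` -/
noncomputable def homBC :
    B ⊗[A] (E ⟶ G) ≃ₗ[B] ((Scheme.Modules.pullback p).obj E ⟶ (Scheme.Modules.pullback p).obj G) :=
  LinearEquiv.ofBijective (tlift (pullHomAdd p E G) (isBC_pullHom p hE G H).map_smul)
    ((isBC_iff_bijective_tlift (pullHomAdd p E G) (isBC_pullHom p hE G H).map_smul).mp
      (isBC_pullHom p hE G H))

theorem homBC_tmul (b : B) (u : E ⟶ G) :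
    homBC p hE G H (b ⊗ₜ u) = b • (Scheme.Modules.pullback p).map u :=
  tlift_tmul _ _ b u

end PartB

end Groth.Agent.Lib.Lead.HomBC
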