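import Mathlib
import Groth.Agent.Lib.Lead.HomBC1
import Groth.Agent.Lib.Helper22.ND3
import Groth.Agent.Lib.Helper16.FLF5

/-!
# Noether–Deuring for finite locally free modules (lead)

* `nonempty_iso_of_equivariant`: Yoneda in `add(E ⊞ E')`: an additive bijection `Hom(E ⊞ E', E) ≃ Hom(E ⊞ E', E')`
  commuting with precomposition by endomorphisms of `E ⊞ E'` comes from an isomorphism `E ≅ E'`.
* `preOp`, `homBC_preOp`: the base change isomorphism `HomBC.homBC` intertwines precomposition operators.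
* `nonempty_iso_of_pullback_iso`: **Noether–Deuring**: `k ⊆ K` fields, `X` qcqs over `k` with finite-dimensional
  `Hom(E ⊞ E', E)`, `Hom(E ⊞ E', E')` (e.g. `X` proper), `E`, `E'` finite locally free, `p : X_K ⟶ X`:
  `p^*E ≅ p^*E'` implies `E ≅ E'` (from `HomBC.homBC` and helper22's operator-family Noether–Deuring
  `ND.exists_equiv_of_baseChange_equiv`).
-/

set_option autoImplicit false
set_option linter.style.haveILetI false
set_option linter.unusedSectionVars false

universe u
open CategoryTheory CategoryTheory.Limits AlgebraicGeometry Opposite TopologicalSpace TensorProduct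

namespace Groth.Agent.Lib.Lead.HomBC

section Abstract

variable {C : Type*} [Category C] [Preadditive C] [HasBinaryBiproducts C]

/-- Yoneda in `add(E ⊞ E')`: an additive bijection `Hom(E ⊞ E', E) ≃ Hom(E ⊞ E', E')` commuting with
precomposition by endomorphisms of `E ⊞ E'` comes from an isomorphism `E ≅ E'`. -/
theorem nonempty_iso_of_equivariant {E E' : C} (h : (E ⊞ E' ⟶ E) ≃+ (E ⊞ E' ⟶ E'))
    (hh : ∀ (a : E ⊞ E' ⟶ E ⊞ E') (φ : E ⊞ E' ⟶ E), h (a ≫ φ) = a ≫ h φ) :
    Nonempty (E ≅ E') := by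
  have hh' : ∀ (a : E ⊞ E' ⟶ E ⊞ E') (ψ : E ⊞ E' ⟶ E'), h.symm (a ≫ ψ) = a ≫ h.symm ψ := by
    intro a ψ
    apply h.injective
    rw [hh, AddEquiv.apply_symm_apply, AddEquiv.apply_symm_apply]
  let f : E ⟶ E' := (biprod.inl : E ⟶ E ⊞ E') ≫ h biprod.fst
  let g : E' ⟶ E := (biprod.inr : E' ⟶ E ⊞ E') ≫ h.symm biprod.snd
  have h1 : ∀ φ : E ⊞ E' ⟶ E, h φ = φ ≫ f := by
    intro φ
    have : φ = (φ ≫ (biprod.inl : E ⟶ E ⊞ E')) ≫ biprod.fst := by
      rw [Category.assoc, biprod.inl_fst, Category.comp_id]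
    conv_lhs => rw [this]
    rw [hh, Category.assoc]
  have h2 : ∀ ψ : E ⊞ E' ⟶ E', h.symm ψ = ψ ≫ g := by
    intro ψ
    have : ψ = (ψ ≫ (biprod.inr : E' ⟶ E ⊞ E')) ≫ biprod.snd := by
      rw [Category.assoc, biprod.inr_snd, Category.comp_id]
    conv_lhs => rw [this]
    rw [hh', Category.assoc]
  refine ⟨⟨f, g, ?_, ?_⟩⟩
  · have h3 : (biprod.fst : E ⊞ E' ⟶ E) ≫ f ≫ g = biprod.fst := by
      rw [← Category.assoc, ← h1, ← h2, AddEquiv.symm_apply_apply]
    have := congrArg (fun t => (biprod.inl : E ⟶ E ⊞ E') ≫ t) h3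
    simpa using this
  · have h3 : (biprod.snd : E ⊞ E' ⟶ E') ≫ g ≫ f = biprod.snd := by
      rw [← Category.assoc, ← h2, ← h1, AddEquiv.apply_symm_apply]
    have := congrArg (fun t => (biprod.inr : E' ⟶ E ⊞ E') ≫ t) h3
    simpa using this

end Abstract

section ND

open Groth.Agent.Lib.helper22.ND Groth.Agent.Lib.helper8.FlatBC

variable {k K : Type u} [Field k] [Field K] [Algebra k K]
variable {X X' : Scheme.{u}} [X.Over (Spec (CommRingCat.of k))] [X'.Over (Spec (CommRingCat.of K))]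
  (p : X' ⟶ X)
  (H : IsPullback p (X' ↘ Spec (CommRingCat.of K)) (X ↘ Spec (CommRingCat.of k))
    (Spec.map (CommRingCat.ofHom (algebraMap k K))))
  [CompactSpace X] [QuasiSeparatedSpace X]

/-- precomposition operators on `Hom(T, E)` -/
noncomputable def preOp (k : Type u) [Field k] {X : Scheme.{u}} [X.Over (Spec (CommRingCat.of k))]
    (T E : X.Modules) : (T ⟶ T) → (T ⟶ E) →ₗ[k] (T ⟶ E) :=
  fun a => Linear.leftComp k E a

theorem homBC_preOp {T : X.Modules} (hT : FlatMod.IsFinLocFree T) (E : X.Modules)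
    [E.IsQuasicoherent] (a : T ⟶ T) (z : K ⊗[k] (T ⟶ E)) :
    homBC p hT E H (bcρ K (preOp k T E) a z) =
      (Scheme.Modules.pullback p).map a ≫ homBC p hT E H z := by
  induction z using TensorProduct.induction_on with
  | zero => simp
  | tmul c φ =>
    have h1 : bcρ K (preOp k T E) a (c ⊗ₜ φ) = c ⊗ₜ (a ≫ φ) := rfl
    rw [h1, homBC_tmul (A := k) (B := K) p hT E H c (a ≫ φ),
      homBC_tmul (A := k) (B := K) p hT E H c φ, Functor.map_comp]
    exact (Linear.comp_smul (R := K) _ _ _ _ _ _).symm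
  | add x y hx hy => simp only [map_add, hx, hy, Preadditive.comp_add]

include H in
/-- **Noether–Deuring** for finite locally free modules: if `E`, `E'` become isomorphic after the field
extension `K / k` then they are isomorphic (`X` qcqs over `k` with finite-dimensional `Hom` spaces). -/
theorem nonempty_iso_of_pullback_iso {E E' : X.Modules} (hE : FlatMod.IsFinLocFree E)
    (hE' : FlatMod.IsFinLocFree E') [Module.Finite k (E ⊞ E' ⟶ E)] [Module.Finite k (E ⊞ E' ⟶ E')]
    (e : (Scheme.Modules.pullback p).obj E ≅ (Scheme.Modules.pullback p).obj E') :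
    Nonempty (E ≅ E') := by
  have hT : FlatMod.IsFinLocFree (E ⊞ E') :=
    Groth.Agent.Lib.helper16.FLF.isFinLocFree_biprod hE hE'
  haveI : E.IsQuasicoherent := Groth.Agent.Lib.helper16.FLF.isQuasicoherent_of_isFinLocFree _ hE
  haveI : E'.IsQuasicoherent := Groth.Agent.Lib.helper16.FLF.isQuasicoherent_of_isFinLocFree _ hE'
  let T := E ⊞ E'
  let θ : K ⊗[k] (T ⟶ E) ≃ₗ[K] K ⊗[k] (T ⟶ E') :=
    (homBC p hT E H).trans ((Linear.homCongr K (Iso.refl _) e).trans (homBC p hT E' H).symm)
  have hθ : θ.toLinearMap ∈ homS (bcρ K (preOp k T E)) (bcρ K (preOp k T E')) := by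
    intro a
    refine LinearMap.ext fun z => ?_
    have key : ∀ w, homBC p hT E' H (θ w) =
        Linear.homCongr K (Iso.refl _) e (homBC p hT E H w) := fun w =>
      (homBC p hT E' H).apply_symm_apply _
    apply (homBC p hT E' H).injective
    change homBC p hT E' H (θ (bcρ K (preOp k T E) a z)) =
      homBC p hT E' H (bcρ K (preOp k T E') a (θ z))
    rw [key, homBC_preOp, homBC_preOp, key]
    simp [Linear.homCongr_apply]
  obtain ⟨h, hh⟩ := exists_equiv_of_baseChange_equiv (preOp k T E) (preOp k T E') θ hθ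
  exact nonempty_iso_of_equivariant h.toAddEquiv (fun a φ => homS_apply hh a φ)

end ND

end Groth.Agent.Lib.Lead.HomBC
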