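import Mathlib

/-!
# Polynomial lemmas for Hilbert polynomials (lead)

Elementary facts on rational polynomials evaluated at natural numbers:
* `EvNonneg P`: `P(m) ≥ 0` for all large naturals `m`.
* `eventually_pos_of_leadingCoeff_pos`, `leadingCoeff_pos_of_evNonneg`, `coeff_nonneg_of_evNonneg`.
* `eq_of_eval_nat_eq`: a polynomial is determined by its values at the naturals.
* `natDegree_lt_of_diff_ge`: if `R(m) ≤ Q(m+n) - Q(m)` eventually and `R` has positive leading
  coefficient, then `deg R + 1 ≤ deg Q`.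
* `exists_poly_of_mv`: a polynomial in `Fin 1` variables is a univariate polynomial.
-/

set_option autoImplicit false

open Polynomial Filter

namespace Groth.Agent.Lib.Lead.HilbPos

/-- eventually nonnegative on naturals -/
def EvNonneg (P : ℚ[X]) : Prop := ∃ N : ℕ, ∀ m : ℕ, N ≤ m → 0 ≤ P.eval (m : ℚ)

theorem eventually_pos_of_leadingCoeff_pos (P : ℚ[X]) (h : 0 < P.leadingCoeff) :
    ∃ N : ℕ, ∀ m : ℕ, N ≤ m → 0 < P.eval (m : ℚ) := by
  by_cases hdeg : 0 < P.degree
  · have h1 := Polynomial.tendsto_atTop_of_leadingCoeff_nonneg P hdeg h.le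
    have h2 : Tendsto (fun m : ℕ => P.eval (m : ℚ)) atTop atTop :=
      h1.comp tendsto_natCast_atTop_atTop
    have h3 := h2.eventually (eventually_gt_atTop (0 : ℚ))
    obtain ⟨N, hN⟩ := eventually_atTop.mp h3
    exact ⟨N, hN⟩
  · have h0 : P.degree ≤ 0 := not_lt.mp hdeg
    rw [Polynomial.eq_C_of_degree_le_zero h0] at h ⊢
    simp only [leadingCoeff_C] at h
    exact ⟨0, fun m _ => by simpa using h⟩

theorem leadingCoeff_pos_of_evNonneg (P : ℚ[X]) (h : EvNonneg P) (h0 : P ≠ 0) :
    0 < P.leadingCoeff := by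
  by_contra hn
  have hlc : P.leadingCoeff ≠ 0 := leadingCoeff_ne_zero.mpr h0
  have hneg : 0 < (-P).leadingCoeff := by
    rw [leadingCoeff_neg]
    have : P.leadingCoeff < 0 := lt_of_le_of_ne (not_lt.mp hn) hlc
    linarith
  obtain ⟨N, hN⟩ := h
  obtain ⟨N', hN'⟩ := eventually_pos_of_leadingCoeff_pos (-P) hneg
  have h1 := hN (max N N') (le_max_left _ _)
  have h2 := hN' (max N N') (le_max_right _ _)
  rw [eval_neg] at h2
  linarith

theorem coeff_nonneg_of_evNonneg (P : ℚ[X]) (d : ℕ) (hd : P.natDegree ≤ d) (h : EvNonneg P) :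
    0 ≤ P.coeff d := by
  by_cases h0 : P = 0
  · simp [h0]
  rcases lt_or_eq_of_le hd with h1 | h1
  · rw [coeff_eq_zero_of_natDegree_lt h1]
  · have := leadingCoeff_pos_of_evNonneg P h h0
    rw [leadingCoeff, h1] at this
    exact this.le

theorem eq_of_eval_nat_eq (P Q : ℚ[X]) (h : ∀ m : ℕ, P.eval (m : ℚ) = Q.eval (m : ℚ)) : P = Q := by
  apply Polynomial.eq_of_infinite_eval_eq
  refine Set.Infinite.mono ?_ (Set.infinite_range_of_injective (Nat.cast_injective (R := ℚ)))
  rintro _ ⟨m, rfl⟩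
  exact h m

/-- the degree-raising step -/
theorem natDegree_lt_of_diff_ge (Q R : ℚ[X]) (n : ℕ) (hR : 0 < R.leadingCoeff)
    (h : ∃ N : ℕ, ∀ m : ℕ, N ≤ m → R.eval (m : ℚ) ≤ Q.eval ((m : ℚ) + n) - Q.eval (m : ℚ)) :
    R.natDegree + 1 ≤ Q.natDegree := by
  have hR0 : R ≠ 0 := by
    intro h0
    rw [h0, leadingCoeff_zero] at hR
    exact lt_irrefl _ hR
  by_contra hcon
  have hle : Q.natDegree ≤ R.natDegree := by omega
  set D : ℚ[X] := Q.comp (X + C (n : ℚ)) - Q with hD
  have hDdeg : D.degree < R.degree := by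
    by_cases hQ0 : Q = 0
    · have : D = 0 := by simp [hD, hQ0]
      rw [this, degree_zero]
      exact bot_lt_iff_ne_bot.mpr (degree_ne_bot.mpr hR0)
    · have hnd : (Q.comp (X + C (n : ℚ))).natDegree = Q.natDegree := by
        rw [natDegree_comp, natDegree_X_add_C, mul_one]
      have hlc : (Q.comp (X + C (n : ℚ))).leadingCoeff = Q.leadingCoeff := by
        rw [leadingCoeff_comp (by rw [natDegree_X_add_C]; exact one_ne_zero),
          leadingCoeff_X_add_C, one_pow, mul_one]
      have hc0 : Q.comp (X + C (n : ℚ)) ≠ 0 := by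
        intro h0
        rw [h0, leadingCoeff_zero] at hlc
        exact hQ0 (leadingCoeff_eq_zero.mp hlc.symm)
      have hd : (Q.comp (X + C (n : ℚ))).degree = Q.degree := by
        rw [degree_eq_natDegree hc0, degree_eq_natDegree hQ0, hnd]
      have h1 : D.degree < (Q.comp (X + C (n : ℚ))).degree := degree_sub_lt_left hd hc0 hlc
      rw [hd] at h1
      refine lt_of_lt_of_le h1 ?_
      rw [degree_eq_natDegree hQ0, degree_eq_natDegree hR0]
      exact_mod_cast hle
  have hS : (D - R).leadingCoeff = - R.leadingCoeff := leadingCoeff_sub_of_degree_lt' hDdeg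
  have hS0 : D - R ≠ 0 := by
    intro h0
    rw [h0, leadingCoeff_zero] at hS
    linarith
  have hev : EvNonneg (D - R) := by
    obtain ⟨N, hN⟩ := h
    refine ⟨N, fun m hm => ?_⟩
    have := hN m hm
    simp only [hD, eval_sub, eval_comp, eval_add, eval_X, eval_C]
    linarith
  have := leadingCoeff_pos_of_evNonneg _ hev hS0
  rw [hS] at this
  linarith

/-- univariate polynomial from a polynomial in `Fin 1` variables -/
theorem exists_poly_of_mv (Pm : MvPolynomial (Fin 1) ℚ) (d : ℕ) (hd : Pm.totalDegree ≤ d) :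
    ∃ P : ℚ[X], P.natDegree ≤ d ∧
      ∀ y : ℚ, P.eval y = MvPolynomial.eval (fun _ : Fin 1 => y) Pm := by
  refine ⟨Polynomial.map (MvPolynomial.eval (Fin.elim0 : Fin 0 → ℚ))
    (MvPolynomial.finSuccEquiv ℚ 0 Pm), ?_, fun y => ?_⟩
  · refine (natDegree_map_le).trans ?_
    rw [MvPolynomial.natDegree_finSuccEquiv]
    exact (MvPolynomial.degreeOf_le_totalDegree _ _).trans hd
  · rw [← MvPolynomial.eval_eq_eval_mv_eval']
    congr 2
    funext i
    fin_cases i
    rfl

end Groth.Agent.Lib.Lead.HilbPos
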