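import Mathlib
import Groth.Prelude.Def_ShStab
import Groth.Agent.Lib.Lead.HilbPos1
import Groth.Agent.Lib.Helper7.SnapperMain
import Groth.Agent.Lib.Helper11.AmpleVan
import Groth.Agent.Lib.Helper18.HHEuler

/-!
# Hilbert polynomials with respect to an invertible / ample module: basic facts (lead)

`X` proper over a field `k`, `L` invertible, `F` coherent.
* `hilb k X L F m = χ(F ⊗ L^m)`.
* `exists_isHilbPoly` (Snapper, via helper7): a Hilbert polynomial of degree `≤ d` exists when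
  `dim Supp F ≤ d`; `exists_isHilbPoly_lt`: coefficient `d` vanishes when `dim Supp F < d`.
* `isHilbPoly_unique`, `isHilbPoly_of_iso`, `isHilbPoly_add` (short exact sequences).
* `exists_eval_eq_finrank` / `evNonneg_of_isHilbPoly` (Serre vanishing, `L` ample).
-/

set_option autoImplicit false
set_option linter.unusedSectionVars false
universe u

open CategoryTheory CategoryTheory.Limits AlgebraicGeometry Polynomial

namespace Groth.Agent.Lib.Lead.HilbPos

open Groth.Agent.Lib.helper7.SnapperMain Groth.Agent.Lib.helper7.SnapperDiff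

variable (k : Type u) [Field k] (X : Scheme.{u}) [X.Over (Spec (CommRingCat.of k))]

/-- the Hilbert function `m ↦ χ(F ⊗ L^m)` -/
noncomputable def hilb (L F : X.Modules) (m : ℕ) : ℤ :=
  Curv2.euler k X (ShStab.twist X L F m)

theorem hilb_eq_chi (L F : X.Modules) (m : ℕ) :
    hilb k X L F m = chi k X F 1 (fun _ => L) (fun _ => m) := rfl

theorem isHilbPoly_iff (L F : X.Modules) (P : ℚ[X]) :
    ShStab.IsHilbPoly k X L F P ↔ ∀ m : ℕ, (hilb k X L F m : ℚ) = P.eval (m : ℚ) := Iff.rfl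

theorem isHilbPoly_unique {L F : X.Modules} {P Q : ℚ[X]} (hP : ShStab.IsHilbPoly k X L F P)
    (hQ : ShStab.IsHilbPoly k X L F Q) : P = Q :=
  eq_of_eval_nat_eq P Q (fun m => (hP m).symm.trans (hQ m))

theorem hilb_eq_of_iso {L F G : X.Modules} (e : F ≅ G) (m : ℕ) :
    hilb k X L F m = hilb k X L G m := by
  rw [hilb_eq_chi, hilb_eq_chi]
  exact chi_iso k X e 1 _ _

theorem isHilbPoly_of_iso {L F G : X.Modules} (e : F ≅ G) {P : ℚ[X]}
    (hP : ShStab.IsHilbPoly k X L F P) : ShStab.IsHilbPoly k X L G P := by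
  intro m
  rw [← hP m]
  exact congrArg (fun z : ℤ => (z : ℚ)) (hilb_eq_of_iso k X e m).symm

variable [IsProper (X ↘ Spec (CommRingCat.of k))]

theorem hilb_add {L : X.Modules} (hL : PicF.IsInvertible L) (S : ShortComplex X.Modules)
    (hS : S.ShortExact) (h₁ : Coh.IsCoh S.X₁) (h₃ : Coh.IsCoh S.X₃) (m : ℕ) :
    hilb k X L S.X₂ m = hilb k X L S.X₁ m + hilb k X L S.X₃ m := by
  rw [hilb_eq_chi, hilb_eq_chi, hilb_eq_chi]
  exact chi_additive k X S hS h₁ h₃ 1 _ (fun _ => hL) _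

theorem isHilbPoly_add {L : X.Modules} (hL : PicF.IsInvertible L) (S : ShortComplex X.Modules)
    (hS : S.ShortExact) (h₁ : Coh.IsCoh S.X₁) (h₃ : Coh.IsCoh S.X₃) {P₁ P₃ : ℚ[X]}
    (hP₁ : ShStab.IsHilbPoly k X L S.X₁ P₁) (hP₃ : ShStab.IsHilbPoly k X L S.X₃ P₃) :
    ShStab.IsHilbPoly k X L S.X₂ (P₁ + P₃) := by
  intro m
  rw [eval_add, ← hP₁ m, ← hP₃ m]
  have := hilb_add k X hL S hS h₁ h₃ m
  have h2 : (hilb k X L S.X₂ m : ℚ) = (hilb k X L S.X₁ m : ℚ) + (hilb k X L S.X₃ m : ℚ) := by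
    rw [this]; push_cast; rfl
  exact h2

/-- Snapper: existence of the Hilbert polynomial, of degree at most the dimension of the support -/
theorem exists_isHilbPoly {L : X.Modules} (hL : PicF.IsInvertible L) {F : X.Modules}
    (hF : Coh.IsCoh F) (d : ℕ)
    (hd : topologicalKrullDim (CohB1.support F) ≤ ((d : ℕ) : WithBot ℕ∞)) :
    ∃ P : ℚ[X], ShStab.IsHilbPoly k X L F P ∧ P.natDegree ≤ d := by
  obtain ⟨Pm, hPm, hev⟩ := snapper_poly k X F hF d hd 1 (fun _ => L) (fun _ => hL)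
  obtain ⟨P, hP, hPe⟩ := exists_poly_of_mv Pm d hPm
  refine ⟨P, fun m => ?_, hP⟩
  rw [hPe]
  exact hev (fun _ => m)

/-- Snapper, strict form: the coefficient of degree `d` vanishes when `dim Supp F < d` -/
theorem exists_isHilbPoly_lt {L : X.Modules} (hL : PicF.IsInvertible L) {F : X.Modules}
    (hF : Coh.IsCoh F) (d : ℕ)
    (hd : topologicalKrullDim (CohB1.support F) < ((d : ℕ) : WithBot ℕ∞)) :
    ∃ P : ℚ[X], ShStab.IsHilbPoly k X L F P ∧ P.coeff d = 0 := by
  have h := snapper k d X F hF hd 1 (fun _ => L) (fun _ => hL)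
  cases d with
  | zero =>
    refine ⟨0, fun m => ?_, by simp⟩
    have := h (fun _ => m)
    rw [eval_zero]
    show ((chi k X F 1 (fun _ => L) (fun _ => m) : ℤ) : ℚ) = 0
    rw [this]; simp
  | succ d =>
    obtain ⟨Pm, hPm, hev⟩ := h.exists_poly
    obtain ⟨P, hP, hPe⟩ := exists_poly_of_mv Pm d hPm
    refine ⟨P, fun m => ?_, coeff_eq_zero_of_natDegree_lt (by omega)⟩
    rw [hPe]
    exact hev (fun _ => m)

/-- Serre vanishing: for `L` ample and `m ≫ 0`, `χ(F ⊗ L^m) = h⁰(F ⊗ L^m)` -/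
theorem exists_hilb_eq_finrank {L : X.Modules} (hL : CohB1.IsAmple L) {F : X.Modules}
    (hF : Coh.IsCoh F) :
    ∃ N : ℕ, ∀ m : ℕ, N ≤ m →
      hilb k X L F m = (Module.finrank k (Coh.HH X (ShStab.twist X L F m) 0) : ℤ) := by
  obtain ⟨N, hN⟩ := Groth.Agent.Lib.helper11.AmpleVan.serre_vanishing_of_isAmple
    (X ↘ Spec (CommRingCat.of k)) hL F hF
  refine ⟨N, fun m hm => ?_⟩
  unfold hilb
  rw [Groth.Agent.Lib.Helper18.HH.euler_eq_sum k (ShStab.twist X L F m) 0
    (fun i hi => hN m hm i hi)]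
  simp

theorem evNonneg_of_isHilbPoly {L : X.Modules} (hL : CohB1.IsAmple L) {F : X.Modules}
    (hF : Coh.IsCoh F) {P : ℚ[X]} (hP : ShStab.IsHilbPoly k X L F P) : EvNonneg P := by
  obtain ⟨N, hN⟩ := exists_hilb_eq_finrank k X hL hF
  refine ⟨N, fun m hm => ?_⟩
  rw [← hP m]
  have : (hilb k X L F m : ℚ) = (Module.finrank k (Coh.HH X (ShStab.twist X L F m) 0) : ℚ) := by
    rw [hN m hm]; simp
  show (0 : ℚ) ≤ (hilb k X L F m : ℚ)
  rw [this]
  exact Nat.cast_nonneg _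

/-- for `dim Supp F ≤ d`, the coefficient of degree `d` of the Hilbert polynomial is `≥ 0` -/
theorem coeff_nonneg {L : X.Modules} (hL : CohB1.IsAmple L) {F : X.Modules}
    (hF : Coh.IsCoh F) (d : ℕ)
    (hd : topologicalKrullDim (CohB1.support F) ≤ ((d : ℕ) : WithBot ℕ∞))
    {P : ℚ[X]} (hP : ShStab.IsHilbPoly k X L F P) : 0 ≤ P.coeff d := by
  obtain ⟨Q, hQ, hQd⟩ := exists_isHilbPoly k X hL.1 hF d hd
  have : P = Q := isHilbPoly_unique k X hP hQ
  subst this
  exact coeff_nonneg_of_evNonneg P d hQd (evNonneg_of_isHilbPoly k X hL hF hP)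

theorem natDegree_le {L : X.Modules} (hL : PicF.IsInvertible L) {F : X.Modules}
    (hF : Coh.IsCoh F) (d : ℕ)
    (hd : topologicalKrullDim (CohB1.support F) ≤ ((d : ℕ) : WithBot ℕ∞))
    {P : ℚ[X]} (hP : ShStab.IsHilbPoly k X L F P) : P.natDegree ≤ d := by
  obtain ⟨Q, hQ, hQd⟩ := exists_isHilbPoly k X hL hF d hd
  have : P = Q := isHilbPoly_unique k X hP hQ
  subst this
  exact hQd

end Groth.Agent.Lib.Lead.HilbPos
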