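import Mathlib
import Groth.Agent.Lib.Lead.HilbPos2
import Groth.Agent.Lib.Lead.CurveInv
import Groth.Agent.Lib.Helper11.SerreGG
import Groth.Agent.Lib.Helper12.InvDual2
import Groth.Agent.Lib.Helper20.TensorEquiv
import Groth.Prelude.Def_StMod3

/-!
# Hilbert polynomials: topological chains, twists, sections vanishing on a quotient (lead)

* `isIrreducible_preimage_of_isEmbedding`, `le_dim_of_chain`, `exists_chain_of_le_dim`,
  `exists_chain_subset_of_le_dim`, `le_dim_or_of_subset_union`.
* `hilb_twist`: `χ((F ⊗ L^n) ⊗ L^m) = χ(F ⊗ L^{n+m})`.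
* `exists_mono_section_comp_eq_zero`: on an integral Noetherian scheme with `L` ample, for an
  epimorphism `u : O ⟶ A` with nonzero kernel there are `n` and a monomorphism `s : O ⟶ O ⊗ L^n`
  with `s ≫ (u ⊗ L^n) = 0`.
-/

set_option autoImplicit false
set_option linter.unusedSectionVars false
set_option linter.style.haveILetI false
set_option backward.isDefEq.respectTransparency false
universe u

open CategoryTheory CategoryTheory.Limits AlgebraicGeometry Polynomial TopologicalSpace Topology

namespace Groth.Agent.Lib.Lead.HilbPos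

section Top

variable {A B : Type*} [TopologicalSpace A] [TopologicalSpace B]

theorem isIrreducible_preimage_of_isEmbedding {f : A → B} (hf : IsEmbedding f) {Z : Set B}
    (hZ : IsIrreducible Z) (hsub : Z ⊆ Set.range f) : IsIrreducible (f ⁻¹' Z) := by
  refine ⟨?_, ?_⟩
  · obtain ⟨z, hz⟩ := hZ.nonempty
    obtain ⟨a, rfl⟩ := hsub hz
    exact ⟨a, hz⟩
  · intro u v hu hv ⟨a, ha, hau⟩ ⟨b, hb, hbv⟩
    obtain ⟨u', hu', rfl⟩ := hf.isInducing.isOpen_iff.mp hu
    obtain ⟨v', hv', rfl⟩ := hf.isInducing.isOpen_iff.mp hv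
    obtain ⟨z, hz, hzu, hzv⟩ := hZ.isPreirreducible u' v' hu' hv' ⟨f a, ha, hau⟩ ⟨f b, hb, hbv⟩
    obtain ⟨c, rfl⟩ := hsub hz
    exact ⟨c, hz, hzu, hzv⟩

/-- a chain of irreducible closed subsets inside the range of an embedding bounds the dimension
of the source from below -/
theorem le_dim_of_chain {f : A → B} (hf : IsEmbedding f) (l : LTSeries (IrreducibleCloseds B))
    (hl : (l.last : Set B) ⊆ Set.range f) :
    ((l.length : ℕ) : WithBot ℕ∞) ≤ topologicalKrullDim A := by
  have hsub : ∀ i, (l i : Set B) ⊆ Set.range f := fun i =>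
    (show (l i : Set B) ⊆ (l.last : Set B) from
      (l.monotone (Fin.le_last i))).trans hl
  let g : Fin (l.length + 1) → IrreducibleCloseds A := fun i =>
    ⟨f ⁻¹' (l i : Set B), isIrreducible_preimage_of_isEmbedding hf (l i).2 (hsub i),
      (l i).3.preimage hf.continuous⟩
  have hg : StrictMono g := by
    intro i j hij
    have h1 : l i < l j := l.strictMono hij
    refine lt_of_le_of_ne (fun a ha => h1.le ha) ?_
    intro heq
    apply h1.ne
    apply IrreducibleCloseds.ext
    have h2 : f ⁻¹' (l i : Set B) = f ⁻¹' (l j : Set B) :=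
      congrArg (fun z : IrreducibleCloseds A => (z : Set A)) heq
    calc (l i : Set B) = f '' (f ⁻¹' (l i : Set B)) :=
          (Set.image_preimage_eq_of_subset (hsub i)).symm
      _ = f '' (f ⁻¹' (l j : Set B)) := by rw [h2]
      _ = (l j : Set B) := Set.image_preimage_eq_of_subset (hsub j)
  exact Order.LTSeries.length_le_krullDim (LTSeries.mk l.length g hg)

theorem exists_chain_of_le_dim {n : ℕ} (h : ((n : ℕ) : WithBot ℕ∞) ≤ topologicalKrullDim A) :
    ∃ l : LTSeries (IrreducibleCloseds A), l.length = n :=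
  Order.le_krullDim_iff.mp h

/-- a chain in a closed subspace, seen in the ambient space -/
theorem exists_chain_subset_of_le_dim {n : ℕ} {T : Set B} (hT : IsClosed T)
    (h : ((n : ℕ) : WithBot ℕ∞) ≤ topologicalKrullDim ↥T) :
    ∃ l : LTSeries (IrreducibleCloseds B), l.length = n ∧ (l.last : Set B) ⊆ T := by
  obtain ⟨l, hl⟩ := exists_chain_of_le_dim h
  have hind : IsInducing (Subtype.val : ↥T → B) := IsInducing.subtypeVal
  refine ⟨l.map (IrreducibleCloseds.map Subtype.val hind.continuous)
    (IrreducibleCloseds.map_strictMono_of_isInducing hind), by simpa using hl, ?_⟩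
  rw [LTSeries.last_map, IrreducibleCloseds.coe_map]
  refine closure_minimal ?_ hT
  rintro _ ⟨z, -, rfl⟩
  exact z.2

/-- the dimension of a closed subset of a union of two closed sets -/
theorem le_dim_or_of_subset_union {n : ℕ} {S T₁ T₂ : Set B} (hS : IsClosed S) (hT₁ : IsClosed T₁)
    (hT₂ : IsClosed T₂) (hsub : S ⊆ T₁ ∪ T₂)
    (h : ((n : ℕ) : WithBot ℕ∞) ≤ topologicalKrullDim ↥S) :
    ((n : ℕ) : WithBot ℕ∞) ≤ topologicalKrullDim ↥T₁ ∨
      ((n : ℕ) : WithBot ℕ∞) ≤ topologicalKrullDim ↥T₂ := by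
  obtain ⟨l, hl, hlS⟩ := exists_chain_subset_of_le_dim hS h
  have hirr : IsIrreducible (l.last : Set B) := l.last.2
  rcases (isPreirreducible_iff_isClosed_union_isClosed.mp hirr.isPreirreducible) T₁ T₂ hT₁ hT₂
    (hlS.trans hsub) with h1 | h1
  · left
    have := le_dim_of_chain (f := (Subtype.val : ↥T₁ → B)) IsEmbedding.subtypeVal l
      (by rw [Subtype.range_coe]; exact h1)
    rwa [hl] at this
  · right
    have := le_dim_of_chain (f := (Subtype.val : ↥T₂ → B)) IsEmbedding.subtypeVal l
      (by rw [Subtype.range_coe]; exact h1)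
    rwa [hl] at this

end Top

section Twist

open Groth.Agent.Lib.Lead.ModTensor

variable (k : Type u) [Field k] (X : Scheme.{u}) [X.Over (Spec (CommRingCat.of k))]

/-- `(F ⊗ L^n) ⊗ L^m ≅ F ⊗ L^{n+m}` -/
noncomputable def twistTwistIso (L F : X.Modules) (n m : ℕ) :
    ShStab.twist X L (ShStab.twist X L F n) m ≅ ShStab.twist X L F (n + m) :=
  assoc F (CohB1.tensorPow L n) (CohB1.tensorPow L m) ≪≫
    tensorIso (Iso.refl F) (tensorPowAdd L n m)

theorem hilb_twist (L F : X.Modules) (n m : ℕ) :
    hilb k X L (ShStab.twist X L F n) m = hilb k X L F (n + m) :=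
  Groth.Agent.Lib.Lead.CurveEuler.euler_eq_of_iso k X (twistTwistIso X L F n m)

end Twist

section Section

open Groth.Agent.Lib.Lead.ModTensor

variable {X : Scheme.{u}}

/-- a nonzero globally generated module has a nonzero section -/
theorem exists_section_ne_zero_of_isGloballyGenerated {M : X.Modules}
    (hgg : Curv2.IsGloballyGenerated M) (hM : ¬ IsZero M) :
    ∃ t : Coh.structureModule X ⟶ M, t ≠ 0 := by
  obtain ⟨ι, p, hp⟩ := hgg
  by_contra hcon
  push Not at hcon
  apply hM
  have hp0 : p = 0 := by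
    refine StMod.freeMod_hom_ext (fun i => ?_)
    rw [Limits.comp_zero]
    exact hcon _
  rw [IsZero.iff_id_eq_zero, ← cancel_epi p, hp0]
  simp

theorem isZero_of_isZero_tensorMod {I N : X.Modules} (hN : PicF.IsInvertible N)
    (h : IsZero (CohB1.tensorMod I N)) : IsZero I := by
  obtain ⟨N', -, ⟨e⟩, -⟩ := Groth.Agent.Lib.helper12.InvDual.exists_inverse hN
  haveI := Groth.Agent.Lib.Helper20.TensorEquiv.isEquivalence_tensorRight e
  rw [IsZero.iff_id_eq_zero]
  apply (Groth.Agent.Lib.Helper20.TensorEquiv.tensorRight N).map_injective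
  exact h.eq_of_src _ _

/-- on an integral Noetherian scheme with an ample module `L`, an epimorphism `u : O ⟶ A` onto a
coherent module, with nonzero kernel, is killed by a section of some `O ⊗ L^n` which is a
monomorphism -/
theorem exists_mono_section_comp_eq_zero [IsIntegral X] [IsNoetherian X] {L : X.Modules}
    (hL : CohB1.IsAmple L) {A : X.Modules} (hA : Coh.IsCoh A) (u : Coh.structureModule X ⟶ A)
    (hK : ¬ IsZero (kernel u)) :
    ∃ (n : ℕ) (s : Coh.structureModule X ⟶ ShStab.twist X L (Coh.structureModule X) n),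
      Mono s ∧ s ≫ tensorMap u (𝟙 (CohB1.tensorPow L n)) = 0 := by
  have hO : Coh.IsCoh (Coh.structureModule X) := Groth.Agent.Lib.helper8.Dev.isCoh_structureModule X
  have hI : Coh.IsCoh (kernel u) := Groth.Agent.Lib.helper7.CohKer.isCoh_kernel hO hA u
  obtain ⟨n₀, hn₀⟩ := Groth.Agent.Lib.helper11.SerreGG.exists_isGloballyGenerated_twist hL
    (kernel u) hI
  have hgg := hn₀ n₀ le_rfl
  have hLn : PicF.IsInvertible (CohB1.tensorPow L n₀) :=
    Groth.Agent.Lib.helper12.TensorInv.isInvertible_tensorPow hL.1 n₀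
  have hne : ¬ IsZero (CohB1.tensorMod (kernel u) (CohB1.tensorPow L n₀)) :=
    fun h => hK (isZero_of_isZero_tensorMod hLn h)
  obtain ⟨t, ht⟩ := exists_section_ne_zero_of_isGloballyGenerated hgg hne
  obtain ⟨N', -, ⟨e⟩, -⟩ := Groth.Agent.Lib.helper12.InvDual.exists_inverse hLn
  haveI := Groth.Agent.Lib.Helper20.TensorEquiv.mono_tensorMap e (kernel.ι u)
  refine ⟨n₀, t ≫ tensorMap (kernel.ι u) (𝟙 (CohB1.tensorPow L n₀)), ?_, ?_⟩
  · have hinv : PicF.IsInvertible (ShStab.twist X L (Coh.structureModule X) n₀) :=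
      Groth.Agent.Lib.helper12.TensorInv.isInvertible_tensorMod
        (Groth.Agent.Lib.helper11.InvMod.isInvertible_structureModule X) hLn
    refine Groth.Agent.Lib.Lead.CurveInv.mono_of_ne_zero
      (Groth.Agent.Lib.helper11.InvMod.isInvertible_structureModule X) hinv _ ?_
    intro h0
    apply ht
    rw [← cancel_mono (tensorMap (kernel.ι u) (𝟙 (CohB1.tensorPow L n₀))), Limits.zero_comp]
    exact h0
  · rw [Category.assoc]
    have h1 := tensorMap_comp (kernel.ι u) u (𝟙 (CohB1.tensorPow L n₀)) (𝟙 (CohB1.tensorPow L n₀))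
    rw [Category.comp_id, kernel.condition,
      Groth.Agent.Lib.Helper20.TensorEquiv.tensorMap_zero e] at h1
    rw [← h1, Limits.comp_zero]

end Section

end Groth.Agent.Lib.Lead.HilbPos
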