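import Mathlib
import Groth.Agent.Lib.Lead.HilbPos3
import Groth.Agent.Lib.Lead.ProperEuler
import Groth.Agent.Lib.Helper9.CurveVanish
import Groth.Agent.Lib.Helper8.DevPrime
import Groth.Agent.Lib.Helper8.DevSerre
import Groth.Agent.Lib.Helper12.PullAmple

/-!
# Hilbert polynomials: nonvanishing, the difference inequality, integral closed subschemes (lead)

* `nontrivial_HH_zero_of_hom_ne_zero`, `isHilbPoly_ne_zero`: the Hilbert polynomial of a nonzero
  coherent module (w.r.t. an ample `L`, `X` proper over a field) is nonzero; `leadingCoeff_pos`.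
* `exists_diff_ge`: for an epimorphism `u : O ⟶ A` with nonzero kernel on an integral `X`:
  `χ(A(n+m)) ≤ χ(O(n+m)) - χ(O(m))` for some `n` and all large `m`.
* `exists_integral_closed_subscheme_range`: an irreducible closed subset of a Noetherian scheme is
  the range of a closed immersion from an integral scheme.
-/

set_option autoImplicit false
set_option linter.unusedSectionVars false
set_option linter.style.haveILetI false
set_option backward.isDefEq.respectTransparency false
universe u

open CategoryTheory CategoryTheory.Limits AlgebraicGeometry Polynomial TopologicalSpace Topology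
  Opposite

namespace Groth.Agent.Lib.Lead.HilbPos

open Groth.Agent.Lib.Lead.ModTensor

section NonVanishing

variable {X : Scheme.{u}}

theorem nontrivial_HH_zero_of_hom_ne_zero {M : X.Modules} (t : Coh.structureModule X ⟶ M)
    (ht : t ≠ 0) : Nontrivial (Coh.HH X M 0) := by
  set x : Coh.HH X M 0 := (Groth.Agent.Lib.Helper18.HH.equiv₀ M).symm
    ((t.val.app (op ⊤)).hom (1 : X.ringCatSheaf.obj.obj (op ⊤))) with hx
  have h1 : Groth.Agent.Lib.helper9.CurveVanish.secHom M x = t := by
    apply Groth.Agent.Lib.Helper20.SplitH1.hom_ext_top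
    rw [Groth.Agent.Lib.helper9.CurveVanish.secHom_top, hx, LinearEquiv.apply_symm_apply]
  refine ⟨⟨x, 0, fun h0 => ht ?_⟩⟩
  rw [← h1, (Groth.Agent.Lib.helper9.CurveVanish.secHom_eq_zero_iff M x).mpr h0]

end NonVanishing

variable (k : Type u) [Field k] (X : Scheme.{u}) [X.Over (Spec (CommRingCat.of k))]
  [IsProper (X ↘ Spec (CommRingCat.of k))]

theorem isCoh_twist {L : X.Modules} (hL : PicF.IsInvertible L) {F : X.Modules} (hF : Coh.IsCoh F)
    (n : ℕ) : Coh.IsCoh (ShStab.twist X L F n) :=
  Groth.Agent.Lib.helper11.SerreGG.isCoh_twist hL hF n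

/-- the Hilbert polynomial of a nonzero coherent module is nonzero -/
theorem isHilbPoly_ne_zero {L : X.Modules} (hL : CohB1.IsAmple L) {F : X.Modules}
    (hF : Coh.IsCoh F) (hF0 : ¬ IsZero F) {P : ℚ[X]} (hP : ShStab.IsHilbPoly k X L F P) :
    P ≠ 0 := by
  haveI := Groth.Agent.Lib.Lead.ProperEuler.quasiSeparatedSpace k X
  obtain ⟨N, hN⟩ := exists_hilb_eq_finrank k X hL hF
  obtain ⟨n₀, hn₀⟩ := Groth.Agent.Lib.helper11.SerreGG.exists_isGloballyGenerated_twist hL F hF
  set m := max N n₀ with hm
  have hgg := hn₀ m (le_max_right _ _)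
  have hLm : PicF.IsInvertible (CohB1.tensorPow L m) :=
    Groth.Agent.Lib.helper12.TensorInv.isInvertible_tensorPow hL.1 m
  have hne : ¬ IsZero (CohB1.tensorMod F (CohB1.tensorPow L m)) :=
    fun h => hF0 (isZero_of_isZero_tensorMod hLm h)
  obtain ⟨t, ht⟩ := exists_section_ne_zero_of_isGloballyGenerated hgg hne
  haveI : Nontrivial (Coh.HH X (ShStab.twist X L F m) 0) :=
    nontrivial_HH_zero_of_hom_ne_zero t ht
  haveI : Module.Finite k (Coh.HH X (ShStab.twist X L F m) 0) :=
    Groth.Agent.Lib.Lead.ProperEuler.finite_HH k X _ (isCoh_twist X hL.1 hF m) 0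
  have hpos : 0 < Module.finrank k (Coh.HH X (ShStab.twist X L F m) 0) := Module.finrank_pos
  intro h0
  have h1 := hP m
  rw [h0, eval_zero] at h1
  have h2 : hilb k X L F m = 0 := by exact_mod_cast h1
  rw [hN m (le_max_left _ _)] at h2
  have : Module.finrank k (Coh.HH X (ShStab.twist X L F m) 0) = 0 := by exact_mod_cast h2
  omega

/-- the leading coefficient of the Hilbert polynomial of a nonzero coherent module is positive -/
theorem leadingCoeff_pos {L : X.Modules} (hL : CohB1.IsAmple L) {F : X.Modules}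
    (hF : Coh.IsCoh F) (hF0 : ¬ IsZero F) {P : ℚ[X]} (hP : ShStab.IsHilbPoly k X L F P) :
    0 < P.leadingCoeff :=
  leadingCoeff_pos_of_evNonneg P (evNonneg_of_isHilbPoly k X hL hF hP)
    (isHilbPoly_ne_zero k X hL hF hF0 hP)

/-- the difference inequality -/
theorem exists_diff_ge [IsIntegral X] {L : X.Modules} (hL : CohB1.IsAmple L) {A : X.Modules}
    (hA : Coh.IsCoh A) (u : Coh.structureModule X ⟶ A) [Epi u] (hK : ¬ IsZero (kernel u)) :
    ∃ n N : ℕ, ∀ m : ℕ, N ≤ m →
      hilb k X L A (n + m) ≤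
        hilb k X L (Coh.structureModule X) (n + m) - hilb k X L (Coh.structureModule X) m := by
  haveI := Groth.Agent.Lib.Lead.CurveEuler.isNoetherian k X
  have hO : Coh.IsCoh (Coh.structureModule X) := Groth.Agent.Lib.helper8.Dev.isCoh_structureModule X
  obtain ⟨n, s, hs, hsu⟩ := exists_mono_section_comp_eq_zero hL hA u hK
  haveI := hs
  have hLn : PicF.IsInvertible (CohB1.tensorPow L n) :=
    Groth.Agent.Lib.helper12.TensorInv.isInvertible_tensorPow hL.1 n
  obtain ⟨N', -, ⟨e⟩, -⟩ := Groth.Agent.Lib.helper12.InvDual.exists_inverse hLn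
  have hOn : Coh.IsCoh (ShStab.twist X L (Coh.structureModule X) n) := isCoh_twist X hL.1 hO n
  have hAn : Coh.IsCoh (ShStab.twist X L A n) := isCoh_twist X hL.1 hA n
  have hC : Coh.IsCoh (cokernel s) := Groth.Agent.Lib.helper7.CohKer.isCoh_cokernel hO hOn s
  have hS1 := Groth.Agent.Lib.helper8.Dev.shortExact_cokernel s
  -- the induced epimorphism from the cokernel
  let q : ShStab.twist X L (Coh.structureModule X) n ⟶ ShStab.twist X L A n :=
    tensorMap u (𝟙 (CohB1.tensorPow L n))
  haveI hq : Epi q := Groth.Agent.Lib.Helper20.TensorEquiv.epi_tensorMap e u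
  let q' : cokernel s ⟶ ShStab.twist X L A n := cokernel.desc s q hsu
  have hq' : cokernel.π s ≫ q' = q := cokernel.π_desc s q hsu
  haveI : Epi q' := by
    haveI : Epi (cokernel.π s ≫ q') := by rw [hq']; exact hq
    exact epi_of_epi (cokernel.π s) q'
  have hS2 : (ShortComplex.mk (kernel.ι q') q' (kernel.condition q')).ShortExact :=
    { exact := ShortComplex.exact_of_f_is_kernel _ (kernelIsKernel q')
      mono_f := inferInstanceAs (Mono (kernel.ι q'))
      epi_g := inferInstanceAs (Epi q') }
  have hKc : Coh.IsCoh (kernel q') := Groth.Agent.Lib.helper7.CohKer.isCoh_kernel hC hAn q'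
  obtain ⟨N, hN⟩ := exists_hilb_eq_finrank k X hL hKc
  refine ⟨n, N, fun m hm => ?_⟩
  have a1 := hilb_add k X hL.1 _ hS1 hO hC m
  have a2 := hilb_add k X hL.1 _ hS2 hKc hAn m
  simp only at a1 a2
  rw [hilb_twist] at a1 a2
  have a3 : 0 ≤ hilb k X L (kernel q') m := by
    rw [hN m hm]
    exact Int.natCast_nonneg _
  linarith

section Integral

/-- an irreducible closed subset of a Noetherian scheme is the range of a closed immersion from an
integral scheme -/
theorem exists_integral_closed_subscheme_range {Z : Scheme.{u}} [IsNoetherian Z] (C : Set Z)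
    (hC : IsClosed C) (hirr : IsIrreducible C) :
    ∃ (Z' : Scheme.{u}) (j : Z' ⟶ Z), IsClosedImmersion j ∧ IsIntegral Z' ∧ Set.range j = C := by
  let Cc : Closeds Z := ⟨C, hC⟩
  let 𝔄 : Z.IdealSheafData := Scheme.IdealSheafData.vanishingIdeal Cc
  have hprime : ∀ 𝔅 ℭ : Z.IdealSheafData, 𝔅 * ℭ ≤ 𝔄 → 𝔅 ≤ 𝔄 ∨ ℭ ≤ 𝔄 := by
    intro 𝔅 ℭ h
    rw [← Scheme.IdealSheafData.le_support_iff_le_vanishingIdeal,
      Scheme.IdealSheafData.support_mul] at h
    have h' : C ⊆ (𝔅.support : Set Z) ∪ (ℭ.support : Set Z) := h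
    rcases (isPreirreducible_iff_isClosed_union_isClosed.mp hirr.isPreirreducible) _ _
      𝔅.support.isClosed ℭ.support.isClosed h' with h1 | h1
    · left
      rw [← Scheme.IdealSheafData.le_support_iff_le_vanishingIdeal]
      exact h1
    · right
      rw [← Scheme.IdealSheafData.le_support_iff_le_vanishingIdeal]
      exact h1
  have hsupp : (𝔄.support : Set Z) = C := Scheme.IdealSheafData.coe_support_vanishingIdeal Cc
  have htop : 𝔄 ≠ ⊤ := by
    intro h
    have h1 : (𝔄.support : Set Z) = ∅ := by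
      rw [h, Scheme.IdealSheafData.support_top]
      rfl
    rw [hsupp] at h1
    exact hirr.nonempty.ne_empty h1
  refine ⟨𝔄.subscheme, 𝔄.subschemeι, inferInstance,
    Groth.Agent.Lib.helper8.Dev.isIntegral_subscheme 𝔄 hprime htop, ?_⟩
  rw [Scheme.IdealSheafData.range_subschemeι, hsupp]

/-- every point lies in the support of the structure sheaf -/
theorem mem_support_structureModule (Z : Scheme.{u}) (y : Z) :
    y ∈ CohB1.support (Coh.structureModule Z) := by
  obtain ⟨_, ⟨U, hU : IsAffineOpen U, rfl⟩, hy, -⟩ :=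
    Z.isBasis_affineOpens.exists_subset_of_mem_open (Set.mem_univ y) isOpen_univ
  haveI : (Coh.structureModule Z).IsQuasicoherent :=
    (Groth.Agent.Lib.helper8.Dev.isCoh_structureModule Z).1
  refine Groth.Agent.Lib.helper8.Dev.mem_support_of_section (Coh.structureModule Z) ⟨U, hU⟩ y hy
    (1 : Γ(Z, U)) (fun a ha => ?_)
  have h1 : a = 0 := by
    have h2 : a * (1 : Γ(Z, U)) = 0 := ha
    rwa [mul_one] at h2
  rw [h1]
  exact Ideal.zero_mem _

end Integral

section Chain

open Groth.Agent.Lib.helper7.SnapperMain Scheme.Modules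

variable (k : Type u) [Field k]

/-- the inductive statement: on an integral proper `k`-scheme of dimension `≥ d`, the Hilbert
polynomial of the structure sheaf has degree `≥ d` -/
def ChainStatement (d : ℕ) : Prop :=
  ∀ (Z : Scheme.{u}) [Z.Over (Spec (CommRingCat.of k))] [IsProper (Z ↘ Spec (CommRingCat.of k))]
    [IsIntegral Z] (L : Z.Modules), CohB1.IsAmple L → ∀ D : ℕ,
    topologicalKrullDim Z ≤ ((D : ℕ) : WithBot ℕ∞) →
    ((d : ℕ) : WithBot ℕ∞) ≤ topologicalKrullDim Z →
    ∀ Q : ℚ[X], ShStab.IsHilbPoly k Z L (Coh.structureModule Z) Q → d ≤ Q.natDegree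

theorem chainStatement_succ (d : ℕ) (ih : ChainStatement.{u} k d) : ChainStatement.{u} k (d + 1) := by
  intro Z _ _ _ L hL D hD hdim Q hQ
  haveI := Groth.Agent.Lib.Lead.CurveEuler.isNoetherian k Z
  obtain ⟨l, hl⟩ := exists_chain_of_le_dim hdim
  have hl0 : l.length ≠ 0 := by omega
  have hlt : l.eraseLast.last < l.last := l.eraseLast_last_rel_last hl0
  set Cs : Set Z := (l.eraseLast.last : Set Z) with hCdef
  obtain ⟨Z', j, hj, hZ', hrange⟩ := exists_integral_closed_subscheme_range Cs
    l.eraseLast.last.3 l.eraseLast.last.2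
  haveI := hj
  haveI := hZ'
  letI : Z'.Over (Spec (CommRingCat.of k)) := ⟨j ≫ (Z ↘ Spec (CommRingCat.of k))⟩
  haveI : IsProper (Z' ↘ Spec (CommRingCat.of k)) := by
    show IsProper (j ≫ (Z ↘ Spec (CommRingCat.of k)))
    infer_instance
  haveI := Groth.Agent.Lib.Lead.CurveEuler.isNoetherian k Z'
  set L' : Z'.Modules := (Scheme.Modules.pullback j).obj L with hL'def
  have hL' : CohB1.IsAmple L' := Groth.Agent.Lib.helper12.PullAmple.isAmple_pullback_of_isAffineHom j hL
  -- dimension of `Z'`
  have hdimZ' : ((d : ℕ) : WithBot ℕ∞) ≤ topologicalKrullDim Z' := by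
    have h1 := le_dim_of_chain j.isEmbedding l.eraseLast (by rw [hrange])
    have h2 : l.eraseLast.length = d := by
      rw [RelSeries.eraseLast_length, hl]; rfl
    rwa [h2] at h1
  have hDZ' : topologicalKrullDim Z' ≤ ((D : ℕ) : WithBot ℕ∞) :=
    (j.isEmbedding.isInducing.topologicalKrullDim_le).trans hD
  have hO' : Coh.IsCoh (Coh.structureModule Z') :=
    Groth.Agent.Lib.helper8.Dev.isCoh_structureModule Z'
  have hO : Coh.IsCoh (Coh.structureModule Z) :=
    Groth.Agent.Lib.helper8.Dev.isCoh_structureModule Z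
  obtain ⟨R', hR', -⟩ := exists_isHilbPoly k Z' hL'.1 hO' D
    ((topologicalKrullDim_subspace_le Z' _).trans hDZ')
  have hdR' : d ≤ R'.natDegree := ih Z' L' hL' D hDZ' hdimZ' R' hR'
  have hlcR' : 0 < R'.leadingCoeff :=
    leadingCoeff_pos k Z' hL' hO' (Groth.Agent.Lib.helper8.Dev.not_isZero_structureModule Z') hR'
  -- the quotient `O_Z ⟶ j_* j^* O_Z`
  haveI : (Coh.structureModule Z).IsQuasicoherent := hO.1
  set G : Z'.Modules := (Scheme.Modules.pullback j).obj (Coh.structureModule Z) with hG
  let eG : G ≅ Coh.structureModule Z' := Groth.Agent.Lib.helper11.InvMod.pullbackUnitIso j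
  set A : Z.Modules := (pushforward j).obj G with hAdef
  let u : Coh.structureModule Z ⟶ A := Groth.Agent.Lib.helper8.Dev.unitOf j (Coh.structureModule Z)
  haveI : Epi u := Groth.Agent.Lib.helper8.Dev.epi_unitOf j (Coh.structureModule Z)
  have hA : Coh.IsCoh A :=
    Groth.Agent.Lib.helper7.CohKer.isCoh_of_iso ((pushforward j).mapIso eG.symm)
      (Groth.Agent.Lib.helper8.Dev.isCoh_push_structureModule j)
  have hK : ¬ IsZero (kernel u) := by
    intro hz
    haveI : Mono u := Preadditive.mono_of_isZero_kernel u hz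
    haveI : IsIso u := isIso_of_mono_of_epi u
    have hsub : CohB1.support (Coh.structureModule Z) ⊆ Set.range j :=
      Groth.Agent.Lib.helper8.SchemeSupport.support_subset_range_of_iso _ j G (asIso u).symm
    have huniv : Set.range j = Set.univ :=
      Set.eq_univ_of_forall (fun y => hsub (mem_support_structureModule Z y))
    rw [hrange] at huniv
    have h1 : (l.last : Set Z) ⊆ (l.eraseLast.last : Set Z) := by
      rw [← hCdef, huniv]; exact Set.subset_univ _
    exact absurd (lt_of_lt_of_le hlt (show l.last ≤ l.eraseLast.last from h1)) (lt_irrefl _)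
  obtain ⟨n, N, hN⟩ := exists_diff_ge k Z hL hA u hK
  -- the Hilbert function of `A`
  haveI : G.IsQuasicoherent :=
    (Groth.Agent.Lib.helper7.CohKer.isCoh_of_iso eG.symm hO').1
  have hpush : ∀ t : ℕ, hilb k Z L A t = hilb k Z' L' (Coh.structureModule Z') t := by
    intro t
    rw [hilb_eq_chi, hilb_eq_chi]
    have h1 := chi_push k Z j G 1 (fun _ => L) (fun _ => hL.1) (fun _ => t)
    rw [h1]
    exact chi_iso k Z' eG 1 _ _
  -- the polynomial inequality
  have hR : 0 < (R'.comp (X + C (n : ℚ))).leadingCoeff := by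
    rw [leadingCoeff_comp (by rw [natDegree_X_add_C]; exact one_ne_zero),
      leadingCoeff_X_add_C, one_pow, mul_one]
    exact hlcR'
  have hnd : (R'.comp (X + C (n : ℚ))).natDegree = R'.natDegree := by
    rw [natDegree_comp, natDegree_X_add_C, mul_one]
  have key := natDegree_lt_of_diff_ge Q (R'.comp (X + C (n : ℚ))) n hR ⟨N, fun m hm => ?_⟩
  · rw [hnd] at key
    omega
  · have h1 := hN m hm
    rw [hpush] at h1
    have e1 := hR' (n + m)
    have e2 := hQ (n + m)
    have e3 := hQ m
    simp only [eval_comp, eval_add, eval_X, eval_C]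
    have c1 : ((m : ℚ) + (n : ℚ)) = (((n + m : ℕ)) : ℚ) := by push_cast; ring
    rw [c1, ← e1, ← e2, ← e3]
    have h2 : ((hilb k Z' L' (Coh.structureModule Z') (n + m) : ℤ) : ℚ) ≤
        ((hilb k Z L (Coh.structureModule Z) (n + m) - hilb k Z L (Coh.structureModule Z) m : ℤ) : ℚ) := by
      exact_mod_cast h1
    push_cast at h2
    exact h2

theorem chainStatement (d : ℕ) : ChainStatement.{u} k d := by
  induction d with
  | zero => intro Z _ _ _ L _ D _ _ Q _; exact Nat.zero_le _
  | succ d ih => exact chainStatement_succ k d ih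

end Chain

end Groth.Agent.Lib.Lead.HilbPos
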