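import Mathlib
import Groth.Agent.Lib.Lead.HilbPos4
import Groth.Agent.Lib.Helper7.RestrictSupport
import Groth.Agent.Lib.Helper8.DevMasterD

/-!
# Positivity of the leading coefficient of Hilbert polynomials (lead)

`X` proper over a field `k`, `L` ample, `F` coherent with `dim Supp F = d`, `P` the Hilbert polynomial
of `F` with respect to `L`.

* `coeff_pos`: `0 < P.coeff d`; `natDegree_eq`: `P.natDegree = d`; `alpha_pos`:
  `0 < StabCat.alpha d P`.
-/

set_option autoImplicit false
set_option linter.unusedSectionVars false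
set_option linter.style.haveILetI false
set_option backward.isDefEq.respectTransparency false
universe u

open CategoryTheory CategoryTheory.Limits AlgebraicGeometry Polynomial TopologicalSpace Topology
  Opposite

namespace Groth.Agent.Lib.Lead.HilbPos

open Groth.Agent.Lib.Lead.ModTensor Groth.Agent.Lib.helper7.SnapperMain Scheme.Modules

section Prelim

theorem coeff_comp_X_add_C (P : ℚ[X]) (d : ℕ) (hd : P.natDegree ≤ d) (a : ℚ) :
    (P.comp (X + C a)).coeff d = P.coeff d := by
  have hnd : (P.comp (X + C a)).natDegree = P.natDegree := by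
    rw [natDegree_comp, natDegree_X_add_C, mul_one]
  rcases lt_or_eq_of_le hd with h | h
  · rw [coeff_eq_zero_of_natDegree_lt (hnd ▸ h), coeff_eq_zero_of_natDegree_lt h]
  · have h1 : (P.comp (X + C a)).leadingCoeff = P.leadingCoeff := by
      rw [leadingCoeff_comp (by rw [natDegree_X_add_C]; exact one_ne_zero),
        leadingCoeff_X_add_C, one_pow, mul_one]
    rw [leadingCoeff, leadingCoeff, hnd, h] at h1
    exact h1

variable {X : Scheme.{u}}

/-- a quasi-coherent submodule of a coherent module on a locally Noetherian scheme is coherent -/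
theorem isCoh_of_mono [IsLocallyNoetherian X] {I F : X.Modules} (ι : I ⟶ F) [Mono ι]
    (hI : I.IsQuasicoherent) (hF : Coh.IsCoh F) : Coh.IsCoh I := by
  haveI : F.IsQuasicoherent := hF.1
  have hC : Coh.IsCoh (cokernel ι) :=
    ⟨Groth.Agent.Lib.helper7.CohKer.isQuasicoherent_cokernel ι,
      Groth.Agent.Lib.helper7.CohKer.isFiniteType_of_epi (cokernel.π ι) hF.2⟩
  have hK : Coh.IsCoh (kernel (cokernel.π ι)) :=
    Groth.Agent.Lib.helper7.CohKer.isCoh_kernel hF hC _
  exact Groth.Agent.Lib.helper7.CohKer.isCoh_of_iso (asIso (Abelian.factorThruImage ι)).symm hK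

theorem support_eq_empty_of_isZero {N : X.Modules} (hN : IsZero N) : CohB1.support N = ∅ := by
  have h := (Groth.Agent.Lib.helper7.RestrictSupport.subsingleton_sections_iff_support N ⊤).mp
    (fun V _ => Groth.Agent.Lib.helper8.PinchMod.subsingleton_sections_of_isZero hN V)
  simpa using h

end Prelim

variable (k : Type u) [Field k]

/-- the case of a nonzero ideal sheaf on an integral scheme -/
theorem coeff_pos_of_ideal (Z : Scheme.{u}) [Z.Over (Spec (CommRingCat.of k))]
    [IsProper (Z ↘ Spec (CommRingCat.of k))] [IsIntegral Z] {L : Z.Modules}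
    (hL : CohB1.IsAmple L) (d : ℕ) (hd1 : topologicalKrullDim Z ≤ ((d : ℕ) : WithBot ℕ∞))
    (hd2 : ((d : ℕ) : WithBot ℕ∞) ≤ topologicalKrullDim Z) {I : Z.Modules}
    (ι : I ⟶ Coh.structureModule Z) [Mono ι] (hI : Coh.IsCoh I) (hI0 : ¬ IsZero I) {Q : ℚ[X]}
    (hQ : ShStab.IsHilbPoly k Z L I Q) : 0 < Q.coeff d := by
  haveI := Groth.Agent.Lib.Lead.CurveEuler.isNoetherian k Z
  haveI := Groth.Agent.Lib.Lead.ProperEuler.quasiSeparatedSpace k Z
  have hO : Coh.IsCoh (Coh.structureModule Z) := Groth.Agent.Lib.helper8.Dev.isCoh_structureModule Z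
  have hdim : ∀ M : Z.Modules, topologicalKrullDim (CohB1.support M) ≤ ((d : ℕ) : WithBot ℕ∞) :=
    fun M => (topologicalKrullDim_subspace_le Z _).trans hd1
  -- the structure sheaf
  obtain ⟨QO, hQO, hQOd⟩ := exists_isHilbPoly k Z hL.1 hO d (hdim _)
  have h1 : d ≤ QO.natDegree := chainStatement k d Z L hL d hd1 hd2 QO hQO
  have hQOpos : 0 < QO.coeff d := by
    have := leadingCoeff_pos k Z hL hO
      (Groth.Agent.Lib.helper8.Dev.not_isZero_structureModule Z) hQO
    rwa [leadingCoeff, le_antisymm hQOd h1] at this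
  -- a section of a twist of `I`
  obtain ⟨n₀, hn₀⟩ := Groth.Agent.Lib.helper11.SerreGG.exists_isGloballyGenerated_twist hL I hI
  have hgg := hn₀ n₀ le_rfl
  have hLn : PicF.IsInvertible (CohB1.tensorPow L n₀) :=
    Groth.Agent.Lib.helper12.TensorInv.isInvertible_tensorPow hL.1 n₀
  have hne : ¬ IsZero (CohB1.tensorMod I (CohB1.tensorPow L n₀)) :=
    fun h => hI0 (isZero_of_isZero_tensorMod hLn h)
  obtain ⟨t, ht⟩ := exists_section_ne_zero_of_isGloballyGenerated hgg hne
  obtain ⟨N', -, ⟨e⟩, -⟩ := Groth.Agent.Lib.helper12.InvDual.exists_inverse hLn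
  haveI := Groth.Agent.Lib.Helper20.TensorEquiv.mono_tensorMap e ι
  have hinv : PicF.IsInvertible (ShStab.twist Z L (Coh.structureModule Z) n₀) :=
    Groth.Agent.Lib.helper12.TensorInv.isInvertible_tensorMod
      (Groth.Agent.Lib.helper11.InvMod.isInvertible_structureModule Z) hLn
  haveI : Mono (t ≫ tensorMap ι (𝟙 (CohB1.tensorPow L n₀))) := by
    refine Groth.Agent.Lib.Lead.CurveInv.mono_of_ne_zero
      (Groth.Agent.Lib.helper11.InvMod.isInvertible_structureModule Z) hinv _ ?_
    intro h0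
    apply ht
    rw [← cancel_mono (tensorMap ι (𝟙 (CohB1.tensorPow L n₀))), Limits.zero_comp]
    exact h0
  haveI : Mono t := mono_of_mono t (tensorMap ι (𝟙 (CohB1.tensorPow L n₀)))
  have hIn : Coh.IsCoh (ShStab.twist Z L I n₀) := isCoh_twist Z hL.1 hI n₀
  have hC : Coh.IsCoh (cokernel t) := Groth.Agent.Lib.helper7.CohKer.isCoh_cokernel hO hIn t
  have hS := Groth.Agent.Lib.helper8.Dev.shortExact_cokernel t
  obtain ⟨QC, hQC, -⟩ := exists_isHilbPoly k Z hL.1 hC d (hdim _)
  have hQCnn : 0 ≤ QC.coeff d := coeff_nonneg k Z hL hC d (hdim _) hQC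
  have hQd : Q.natDegree ≤ d := natDegree_le k Z hL.1 hI d (hdim _) hQ
  have hpoly : Q.comp (X + C (n₀ : ℚ)) = QO + QC := by
    apply eq_of_eval_nat_eq
    intro m
    have a0 := hilb_add k Z hL.1 _ hS hO hC m
    have a1 : hilb k Z L I (n₀ + m) =
        hilb k Z L (Coh.structureModule Z) m + hilb k Z L (cokernel t) m := by
      rw [← hilb_twist k Z L I n₀ m]
      exact a0
    rw [eval_comp, eval_add, eval_add, eval_X, eval_C, ← hQO m, ← hQC m]
    have c1 : ((m : ℚ) + (n₀ : ℚ)) = (((n₀ + m : ℕ)) : ℚ) := by push_cast; ring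
    rw [c1, ← hQ (n₀ + m)]
    show ((hilb k Z L I (n₀ + m) : ℤ) : ℚ) = ((hilb k Z L (Coh.structureModule Z) m : ℤ) : ℚ) +
      ((hilb k Z L (cokernel t) m : ℤ) : ℚ)
    rw [a1]
    push_cast
    rfl
  have h2 := coeff_comp_X_add_C Q d hQd (n₀ : ℚ)
  rw [hpoly, coeff_add] at h2
  linarith

variable (X : Scheme.{u}) [X.Over (Spec (CommRingCat.of k))]
  [IsProper (X ↘ Spec (CommRingCat.of k))]

/-- **Positivity**: for `F` coherent with `dim Supp F = d` and `L` ample, the coefficient of degree
`d` of the Hilbert polynomial of `F` is positive -/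
theorem coeff_pos {L : X.Modules} (hL : CohB1.IsAmple L) {F : X.Modules} (hF : Coh.IsCoh F) (d : ℕ)
    (hd : topologicalKrullDim (CohB1.support F) = ((d : ℕ) : WithBot ℕ∞)) {P : ℚ[X]}
    (hP : ShStab.IsHilbPoly k X L F P) : 0 < P.coeff d := by
  haveI := Groth.Agent.Lib.Lead.CurveEuler.isNoetherian k X
  let Pr : X.Modules → Prop := fun M => Coh.IsCoh M →
    topologicalKrullDim (CohB1.support M) = ((d : ℕ) : WithBot ℕ∞) →
    ∀ Q : ℚ[X], ShStab.IsHilbPoly k X L M Q → 0 < Q.coeff d
  have hclosed : ∀ M : X.Modules, Coh.IsCoh M → IsClosed (CohB1.support M) :=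
    fun M hM => Groth.Agent.Lib.helper8.Dev.isClosed_support_of_isCoh M hM
  have main : Pr F := by
    refine Groth.Agent.Lib.helper8.Dev.devissage_master_aux Pr ?_ (CohB1.support F) ?_ ?_ ?_ F hF
      subset_rfl
    · -- isomorphism invariance
      rintro M N ⟨e⟩ hM hN hdN Q hQ
      have hMc : Coh.IsCoh M := Groth.Agent.Lib.helper7.CohKer.isCoh_of_iso e.symm hN
      have hsupp : CohB1.support M = CohB1.support N :=
        subset_antisymm (Groth.Agent.Lib.helper8.Dev.support_subset_of_mono e.hom hMc hN)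
          (Groth.Agent.Lib.helper8.Dev.support_subset_of_mono e.inv hN hMc)
      exact hM hMc (by rw [hsupp]; exact hdN) Q (isHilbPoly_of_iso k X e.symm hQ)
    · -- zero
      intro N hN _ hdN Q _
      exfalso
      rw [support_eq_empty_of_isZero hN] at hdN
      have h1 : topologicalKrullDim (∅ : Set X) = ⊥ := by
        unfold topologicalKrullDim
        rw [Order.krullDim_eq_bot_iff]
        refine ⟨fun z => ?_⟩
        obtain ⟨x, hx⟩ := z.2.nonempty
        exact x.2.elim
      rw [h1] at hdN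
      exact absurd hdN (by simp)
    · -- extensions
      intro S hS h1 h2 h3 hT hP1 hP3 _ hd2 Q hQ
      haveI := hS.mono_f
      haveI := hS.epi_g
      have hs1 : CohB1.support S.X₁ ⊆ CohB1.support S.X₂ :=
        Groth.Agent.Lib.helper8.Dev.support_subset_of_mono S.f h1 h2
      have hs3 : CohB1.support S.X₃ ⊆ CohB1.support S.X₂ :=
        Groth.Agent.Lib.helper8.Dev.support_subset_of_epi S.g h2 h3
      have hd1' : topologicalKrullDim (CohB1.support S.X₁) ≤ ((d : ℕ) : WithBot ℕ∞) :=
        (Groth.Agent.Lib.helper8.DimLt.topologicalKrullDim_le_of_subset hs1).trans hd2.le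
      have hd3' : topologicalKrullDim (CohB1.support S.X₃) ≤ ((d : ℕ) : WithBot ℕ∞) :=
        (Groth.Agent.Lib.helper8.DimLt.topologicalKrullDim_le_of_subset hs3).trans hd2.le
      obtain ⟨Q1, hQ1, -⟩ := exists_isHilbPoly k X hL.1 h1 d hd1'
      obtain ⟨Q3, hQ3, -⟩ := exists_isHilbPoly k X hL.1 h3 d hd3'
      have hQeq : Q = Q1 + Q3 :=
        isHilbPoly_unique k X hQ (isHilbPoly_add k X hL.1 S hS h1 h3 hQ1 hQ3)
      have hn1 : 0 ≤ Q1.coeff d := coeff_nonneg k X hL h1 d hd1' hQ1
      have hn3 : 0 ≤ Q3.coeff d := coeff_nonneg k X hL h3 d hd3' hQ3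
      rw [hQeq, coeff_add]
      rcases le_dim_or_of_subset_union (hclosed _ h2) (hclosed _ h1) (hclosed _ h3)
        (Groth.Agent.Lib.helper8.Dev.support_subset_union S hS h1 h2 h3) hd2.ge with h | h
      · have := hP1 h1 (le_antisymm hd1' h) Q1 hQ1
        linarith
      · have := hP3 h3 (le_antisymm hd3' h) Q3 hQ3
        linarith
    · -- the core: ideals on integral closed subschemes
      intro Z i _ _ hT _ I ι hι hIq hI0 hIc hdI Q hQ
      haveI := hι
      haveI : I.IsQuasicoherent := hIq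
      letI : Z.Over (Spec (CommRingCat.of k)) := ⟨i ≫ (X ↘ Spec (CommRingCat.of k))⟩
      haveI : IsProper (Z ↘ Spec (CommRingCat.of k)) := by
        show IsProper (i ≫ (X ↘ Spec (CommRingCat.of k)))
        infer_instance
      haveI := Groth.Agent.Lib.Lead.CurveEuler.isNoetherian k Z
      have hLZ : CohB1.IsAmple ((Scheme.Modules.pullback i).obj L) :=
        Groth.Agent.Lib.helper12.PullAmple.isAmple_pullback_of_isAffineHom i hL
      have hIcoh : Coh.IsCoh I :=
        isCoh_of_mono ι hIq (Groth.Agent.Lib.helper8.Dev.isCoh_structureModule Z)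
      -- the dimension of `Z`
      have hhomeo : topologicalKrullDim (Set.range i) = topologicalKrullDim Z :=
        (i.isEmbedding.toHomeomorph.isHomeomorph.topologicalKrullDim_eq).symm
      have hdZ1 : topologicalKrullDim Z ≤ ((d : ℕ) : WithBot ℕ∞) := by
        rw [← hhomeo, ← hd]
        exact Groth.Agent.Lib.helper8.DimLt.topologicalKrullDim_le_of_subset hT
      have hdZ2 : ((d : ℕ) : WithBot ℕ∞) ≤ topologicalKrullDim Z := by
        rw [← hhomeo, ← hdI]
        exact Groth.Agent.Lib.helper8.DimLt.topologicalKrullDim_le_of_subset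
          (Groth.Agent.Lib.helper8.SchemeSupport.support_subset_range_of_iso _ i I (Iso.refl _))
      have hQZ : ShStab.IsHilbPoly k Z ((Scheme.Modules.pullback i).obj L) I Q := by
        intro m
        rw [← hQ m]
        have h1 := chi_push k X i I 1 (fun _ => L) (fun _ => hL.1) (fun _ => m)
        show ((hilb k Z ((Scheme.Modules.pullback i).obj L) I m : ℤ) : ℚ) =
          ((hilb k X L ((pushforward i).obj I) m : ℤ) : ℚ)
        rw [hilb_eq_chi, hilb_eq_chi, h1]
      exact coeff_pos_of_ideal k Z hLZ d hdZ1 hdZ2 ι hIcoh hI0 hQZ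
  exact main hF hd P hP

theorem natDegree_eq {L : X.Modules} (hL : CohB1.IsAmple L) {F : X.Modules} (hF : Coh.IsCoh F)
    (d : ℕ) (hd : topologicalKrullDim (CohB1.support F) = ((d : ℕ) : WithBot ℕ∞)) {P : ℚ[X]}
    (hP : ShStab.IsHilbPoly k X L F P) : P.natDegree = d := by
  refine le_antisymm (natDegree_le k X hL.1 hF d hd.le hP) ?_
  have h := coeff_pos k X hL hF d hd hP
  exact le_natDegree_of_ne_zero h.ne'

theorem alpha_pos {L : X.Modules} (hL : CohB1.IsAmple L) {F : X.Modules} (hF : Coh.IsCoh F)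
    (d : ℕ) (hd : topologicalKrullDim (CohB1.support F) = ((d : ℕ) : WithBot ℕ∞)) {P : ℚ[X]}
    (hP : ShStab.IsHilbPoly k X L F P) : 0 < StabCat.alpha d P := by
  unfold StabCat.alpha
  exact mul_pos (by exact_mod_cast Nat.factorial_pos d) (coeff_pos k X hL hF d hd hP)

end Groth.Agent.Lib.Lead.HilbPos
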