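import Mathlib
import Groth.Prelude.Def_StabCat

/-!
# Reduced comparison of polynomials: order lemmas (lead)

Lemmas on `StabCat.RedLE`, `StabCat.RedLT`, `StabCat.RedEq` (cross-multiplied comparison of reduced
Hilbert polynomials): reflexivity, transitivity under positivity of multiplicities, incompatibility
of `RedLT` with `RedLE`/`RedEq` in the other direction, and the passage from a subobject to the
quotient in an additive situation (`redLE_quot`, `redLT_quot`, `redLE_sub_of_quot`, …).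
-/

set_option autoImplicit false

open Polynomial

namespace Groth.Agent.Lib.Lead.HilbPos

open StabCat

theorem alpha_add (d : ℕ) (P Q : ℚ[X]) : alpha d (P + Q) = alpha d P + alpha d Q := by
  unfold alpha
  rw [coeff_add]
  ring

theorem redLE_refl (d : ℕ) (P : ℚ[X]) : RedLE d P P := ⟨0, fun _ _ => le_rfl⟩

theorem redLE_of_redLT {d : ℕ} {P Q : ℚ[X]} (h : RedLT d P Q) : RedLE d P Q := by
  obtain ⟨N, hN⟩ := h
  exact ⟨N, fun m hm => (hN m hm).le⟩

theorem redLE_of_redEq {d : ℕ} {P Q : ℚ[X]} (h : RedEq d P Q) : RedLE d P Q := by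
  refine ⟨0, fun m _ => ?_⟩
  have : alpha d Q • P = alpha d P • Q := h
  rw [this]

theorem redEq_symm {d : ℕ} {P Q : ℚ[X]} (h : RedEq d P Q) : RedEq d Q P := by
  have : alpha d Q • P = alpha d P • Q := h
  exact this.symm

theorem not_redLT_of_redLE {d : ℕ} {P Q : ℚ[X]} (h1 : RedLT d P Q) (h2 : RedLE d Q P) : False := by
  obtain ⟨N, hN⟩ := h1
  obtain ⟨N', hN'⟩ := h2
  have a := hN (max N N') (le_max_left _ _)
  have b := hN' (max N N') (le_max_right _ _)
  exact absurd (lt_of_lt_of_le a b) (lt_irrefl _)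

theorem not_redLT_of_redEq {d : ℕ} {P Q : ℚ[X]} (h1 : RedLT d P Q) (h2 : RedEq d P Q) : False :=
  not_redLT_of_redLE h1 (redLE_of_redEq (redEq_symm h2))

theorem not_redLT_of_redEq' {d : ℕ} {P Q : ℚ[X]} (h1 : RedLT d P Q) (h2 : RedEq d Q P) : False :=
  not_redLT_of_redLE h1 (redLE_of_redEq h2)

theorem redLE_trans {d : ℕ} {P Q R : ℚ[X]} (hP : 0 ≤ alpha d P) (hQ : 0 < alpha d Q)
    (hR : 0 ≤ alpha d R) (h1 : RedLE d P Q) (h2 : RedLE d Q R) : RedLE d P R := by
  obtain ⟨N, hN⟩ := h1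
  obtain ⟨N', hN'⟩ := h2
  refine ⟨max N N', fun m hm => ?_⟩
  have a := hN m ((le_max_left _ _).trans hm)
  have b := hN' m ((le_max_right _ _).trans hm)
  simp only [eval_smul, smul_eq_mul] at a b ⊢
  have a' := mul_le_mul_of_nonneg_left a hR
  have b' := mul_le_mul_of_nonneg_left b hP
  have c : alpha d Q * (alpha d R * eval (m : ℚ) P) ≤ alpha d Q * (alpha d P * eval (m : ℚ) R) := by
    nlinarith
  exact le_of_mul_le_mul_left c hQ

theorem redLT_of_redLT_of_redLE {d : ℕ} {P Q R : ℚ[X]} (hP : 0 ≤ alpha d P) (hQ : 0 < alpha d Q)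
    (hR : 0 < alpha d R) (h1 : RedLT d P Q) (h2 : RedLE d Q R) : RedLT d P R := by
  obtain ⟨N, hN⟩ := h1
  obtain ⟨N', hN'⟩ := h2
  refine ⟨max N N', fun m hm => ?_⟩
  have a := hN m ((le_max_left _ _).trans hm)
  have b := hN' m ((le_max_right _ _).trans hm)
  simp only [eval_smul, smul_eq_mul] at a b ⊢
  have a' := mul_lt_mul_of_pos_left a hR
  have b' := mul_le_mul_of_nonneg_left b hP
  have c : alpha d Q * (alpha d R * eval (m : ℚ) P) < alpha d Q * (alpha d P * eval (m : ℚ) R) := by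
    nlinarith
  exact lt_of_mul_lt_mul_left c hQ.le

theorem redLT_of_redLE_of_redLT {d : ℕ} {P Q R : ℚ[X]} (hP : 0 < alpha d P) (hQ : 0 < alpha d Q)
    (hR : 0 ≤ alpha d R) (h1 : RedLE d P Q) (h2 : RedLT d Q R) : RedLT d P R := by
  obtain ⟨N, hN⟩ := h1
  obtain ⟨N', hN'⟩ := h2
  refine ⟨max N N', fun m hm => ?_⟩
  have a := hN m ((le_max_left _ _).trans hm)
  have b := hN' m ((le_max_right _ _).trans hm)
  simp only [eval_smul, smul_eq_mul] at a b ⊢
  have a' := mul_le_mul_of_nonneg_left a hR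
  have b' := mul_lt_mul_of_pos_left b hP
  have c : alpha d Q * (alpha d R * eval (m : ℚ) P) < alpha d Q * (alpha d P * eval (m : ℚ) R) := by
    nlinarith
  exact lt_of_mul_lt_mul_left c hQ.le

/-- from a subobject `K` of `F = K + I` to the quotient `I` -/
theorem redLE_quot {d : ℕ} {PK PI : ℚ[X]} (h : RedLE d PK (PK + PI)) : RedLE d (PK + PI) PI := by
  obtain ⟨N, hN⟩ := h
  refine ⟨N, fun m hm => ?_⟩
  have a := hN m hm
  simp only [eval_smul, smul_eq_mul, alpha_add, eval_add] at a ⊢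
  nlinarith

theorem redLT_quot {d : ℕ} {PK PI : ℚ[X]} (h : RedLT d PK (PK + PI)) : RedLT d (PK + PI) PI := by
  obtain ⟨N, hN⟩ := h
  refine ⟨N, fun m hm => ?_⟩
  have a := hN m hm
  simp only [eval_smul, smul_eq_mul, alpha_add, eval_add] at a ⊢
  nlinarith

/-- from the quotient `I` of `F = K + I` to the subobject `K` -/
theorem redLE_sub_of_quot {d : ℕ} {PK PI : ℚ[X]} (h : RedLE d (PK + PI) PI) :
    RedLE d PK (PK + PI) := by
  obtain ⟨N, hN⟩ := h
  refine ⟨N, fun m hm => ?_⟩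
  have a := hN m hm
  simp only [eval_smul, smul_eq_mul, alpha_add, eval_add] at a ⊢
  nlinarith

theorem redLT_sub_of_quot {d : ℕ} {PK PI : ℚ[X]} (h : RedLT d (PK + PI) PI) :
    RedLT d PK (PK + PI) := by
  obtain ⟨N, hN⟩ := h
  refine ⟨N, fun m hm => ?_⟩
  have a := hN m hm
  simp only [eval_smul, smul_eq_mul, alpha_add, eval_add] at a ⊢
  nlinarith

theorem eq_of_eval_nat_eq_eventually (P Q : ℚ[X]) (N : ℕ)
    (h : ∀ m : ℕ, N ≤ m → P.eval (m : ℚ) = Q.eval (m : ℚ)) : P = Q := by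
  apply Polynomial.eq_of_infinite_eval_eq
  have hinf : (Set.range (fun m : ℕ => ((N + m : ℕ) : ℚ))).Infinite :=
    Set.infinite_range_of_injective (fun a b hab => by
      have : (N + a : ℕ) = N + b := Nat.cast_injective (R := ℚ) hab
      omega)
  refine Set.Infinite.mono ?_ hinf
  rintro _ ⟨m, rfl⟩
  exact h (N + m) (Nat.le_add_right _ _)

theorem redEq_of_redLE_of_redLE {d : ℕ} {P Q : ℚ[X]} (h1 : RedLE d P Q) (h2 : RedLE d Q P) :
    RedEq d P Q := by
  obtain ⟨N, hN⟩ := h1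
  obtain ⟨N', hN'⟩ := h2
  refine eq_of_eval_nat_eq_eventually _ _ (max N N') (fun m hm => ?_)
  exact le_antisymm (hN m ((le_max_left _ _).trans hm)) (hN' m ((le_max_right _ _).trans hm))

end Groth.Agent.Lib.Lead.HilbPos
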