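import Mathlib
import Groth.Agent.Lib.Lead.HilbPos5
import Groth.Agent.Lib.Lead.HilbPos6

/-!
# (Semi)stable sheaves: basic comparison lemmas (lead)

`X` proper over a field `k`, `L` ample, everything with respect to `ShStab.IsSemistable` /
`ShStab.IsStable` (Gieseker stability via reduced Hilbert polynomials).

* `shortExact_kernel_image`, `isCoh_image`, `not_isZero_image`.
* `dim_support_of_isPure`, `dim_support_le_of_mono_pure`, `exists_isHilbPoly_of_mono_pure`,
  `alpha_pos_of_mono_pure`, `alpha_pos_of_isSemistable`.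
* `isSemistable_of_isStable`.
* `redLE_of_mono_of_isSemistable`, `redLT_of_mono_of_isStable` (subobjects);
  `redLE_image_of_isSemistable`, `redLT_image_of_isStable` (quotients).
* `isZero_of_isHilbPoly_zero`.
-/

set_option autoImplicit false
set_option linter.unusedSectionVars false
set_option linter.style.haveILetI false
set_option backward.isDefEq.respectTransparency false
universe u

open CategoryTheory CategoryTheory.Limits AlgebraicGeometry Polynomial TopologicalSpace Topology
  Opposite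

namespace Groth.Agent.Lib.Lead.HilbPos

open StabCat

section Abelian

variable {C : Type*} [Category C] [Abelian C] {E F : C} (f : E ⟶ F)

lemma kernel_ι_factorThruImage : kernel.ι f ≫ Abelian.factorThruImage f = 0 := by
  rw [← cancel_mono (Abelian.image.ι f), Category.assoc, Abelian.image.fac, kernel.condition,
    Limits.zero_comp]

/-- `0 → ker f → E → im f → 0` -/
theorem shortExact_kernel_image :
    (ShortComplex.mk (kernel.ι f) (Abelian.factorThruImage f)
      (kernel_ι_factorThruImage f)).ShortExact := by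
  have hk : IsLimit (KernelFork.ofι (kernel.ι f) (kernel_ι_factorThruImage f)) :=
    isKernelOfComp (Abelian.image.ι f) f (kernelIsKernel f) (kernel_ι_factorThruImage f)
      (Abelian.image.fac f)
  exact
    { exact := ShortComplex.exact_of_f_is_kernel _ hk
      mono_f := inferInstanceAs (Mono (kernel.ι f))
      epi_g := inferInstanceAs (Epi (Abelian.factorThruImage f)) }

theorem not_isZero_image (hf : f ≠ 0) : ¬ IsZero (Abelian.image f) := by
  intro h
  apply hf
  rw [← Abelian.image.fac f, h.eq_of_tgt (Abelian.factorThruImage f) 0, Limits.zero_comp]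

theorem not_isIso_kernel_ι (hf : f ≠ 0) : ¬ IsIso (kernel.ι f) := by
  intro h
  apply hf
  rw [← cancel_epi (kernel.ι f), kernel.condition, Limits.comp_zero]

theorem mono_of_isZero_kernel (h : IsZero (kernel f)) : Mono f :=
  Preadditive.mono_of_isZero_kernel f h

end Abelian

variable (k : Type u) [Field k] (X : Scheme.{u}) [X.Over (Spec (CommRingCat.of k))]
  [IsProper (X ↘ Spec (CommRingCat.of k))]

include k in
theorem isCoh_image {F G : X.Modules} (hF : Coh.IsCoh F) (hG : Coh.IsCoh G) (φ : F ⟶ G) :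
    Coh.IsCoh (Abelian.image φ) := by
  haveI := Groth.Agent.Lib.Lead.CurveEuler.isNoetherian k X
  exact Groth.Agent.Lib.helper7.CohKer.isCoh_kernel hG
    (Groth.Agent.Lib.helper7.CohKer.isCoh_cokernel hF hG φ) _

include k in
theorem isCoh_kernel {F G : X.Modules} (hF : Coh.IsCoh F) (hG : Coh.IsCoh G) (φ : F ⟶ G) :
    Coh.IsCoh (kernel φ) := by
  haveI := Groth.Agent.Lib.Lead.CurveEuler.isNoetherian k X
  exact Groth.Agent.Lib.helper7.CohKer.isCoh_kernel hF hG φ

variable {X}

theorem dim_support_of_isPure {E : X.Modules} {d : ℕ} (hE : ShStab.IsPure X E d) {G : X.Modules}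
    (ι : G ⟶ E) [Mono ι] (hG : Coh.IsCoh G) (hG0 : ¬ IsZero G) :
    topologicalKrullDim (CohB1.support G) = ((d : ℕ) : WithBot ℕ∞) :=
  hE G ι inferInstance hG hG0

theorem dim_support_le_of_mono_pure {E : X.Modules} {d : ℕ} (hE : ShStab.IsPure X E d)
    {G : X.Modules} (ι : G ⟶ E) [Mono ι] (hG : Coh.IsCoh G) :
    topologicalKrullDim (CohB1.support G) ≤ ((d : ℕ) : WithBot ℕ∞) := by
  by_cases h0 : IsZero G
  · rw [support_eq_empty_of_isZero h0]
    have h1 : topologicalKrullDim (∅ : Set X) = ⊥ := by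
      unfold topologicalKrullDim
      rw [Order.krullDim_eq_bot_iff]
      refine ⟨fun z => ?_⟩
      obtain ⟨x, hx⟩ := z.2.nonempty
      exact x.2.elim
    rw [h1]
    exact bot_le
  · exact (dim_support_of_isPure hE ι hG h0).le

theorem isPure_of_mono {E : X.Modules} {d : ℕ} (hE : ShStab.IsPure X E d) {G : X.Modules}
    (ι : G ⟶ E) [Mono ι] : ShStab.IsPure X G d := by
  intro H κ hκ hH hH0
  haveI := hκ
  exact hE H (κ ≫ ι) (mono_comp κ ι) hH hH0

variable (X)

theorem exists_isHilbPoly_of_mono_pure {L : X.Modules} (hL : PicF.IsInvertible L) {E : X.Modules}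
    {d : ℕ} (hE : ShStab.IsPure X E d) {G : X.Modules} (ι : G ⟶ E) [Mono ι] (hG : Coh.IsCoh G) :
    ∃ P : ℚ[X], ShStab.IsHilbPoly k X L G P :=
  let ⟨P, hP, _⟩ := exists_isHilbPoly k X hL hG d (dim_support_le_of_mono_pure hE ι hG)
  ⟨P, hP⟩

theorem alpha_pos_of_mono_pure {L : X.Modules} (hL : CohB1.IsAmple L) {E : X.Modules}
    {d : ℕ} (hE : ShStab.IsPure X E d) {G : X.Modules} (ι : G ⟶ E) [Mono ι] (hG : Coh.IsCoh G)
    (hG0 : ¬ IsZero G) {P : ℚ[X]} (hP : ShStab.IsHilbPoly k X L G P) : 0 < alpha d P :=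
  alpha_pos k X hL hG d (dim_support_of_isPure hE ι hG hG0) hP

theorem alpha_pos_of_isSemistable {L : X.Modules} (hL : CohB1.IsAmple L) {E : X.Modules}
    {d : ℕ} (hE : ShStab.IsSemistable k X L E d) {P : ℚ[X]} (hP : ShStab.IsHilbPoly k X L E P) :
    0 < alpha d P :=
  alpha_pos_of_mono_pure k X hL hE.2.2.1 (𝟙 E) hE.1 hE.2.1 hP

theorem exists_isHilbPoly_of_isSemistable {L : X.Modules} (hL : PicF.IsInvertible L)
    {E : X.Modules} {d : ℕ} (hE : ShStab.IsSemistable k X L E d) :
    ∃ P : ℚ[X], ShStab.IsHilbPoly k X L E P :=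
  exists_isHilbPoly_of_mono_pure k X hL hE.2.2.1 (𝟙 E) hE.1

theorem isSemistable_of_isStable {L E : X.Modules} {d : ℕ} (hE : ShStab.IsStable k X L E d) :
    ShStab.IsSemistable k X L E d :=
  ⟨hE.1, hE.2.1, hE.2.2.1, fun F ι hι hF hF0 hni pF pE hpF hpE =>
    redLE_of_redLT (hE.2.2.2 F ι hι hF hF0 hni pF pE hpF hpE)⟩

/-- a coherent module with zero Hilbert polynomial is zero -/
theorem isZero_of_isHilbPoly_zero {L : X.Modules} (hL : CohB1.IsAmple L) {F : X.Modules}
    (hF : Coh.IsCoh F) (hP : ShStab.IsHilbPoly k X L F 0) : IsZero F := by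
  by_contra h
  exact isHilbPoly_ne_zero k X hL hF h hP rfl

/-- subobjects of a semistable module -/
theorem redLE_of_mono_of_isSemistable {L : X.Modules} {G : X.Modules} {d : ℕ}
    (hG : ShStab.IsSemistable k X L G d) {I : X.Modules} (ι : I ⟶ G) [Mono ι] (hI : Coh.IsCoh I)
    (hI0 : ¬ IsZero I) {pI pG : ℚ[X]} (hpI : ShStab.IsHilbPoly k X L I pI)
    (hpG : ShStab.IsHilbPoly k X L G pG) : RedLE d pI pG := by
  by_cases hiso : IsIso ι
  · have : pI = pG := isHilbPoly_unique k X (isHilbPoly_of_iso k X (asIso ι).symm hpG) hpI |>.symm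
    rw [this]
    exact redLE_refl d pG
  · exact hG.2.2.2 I ι inferInstance hI hI0 hiso pI pG hpI hpG

/-- proper subobjects of a stable module -/
theorem redLT_of_mono_of_isStable {L : X.Modules} {G : X.Modules} {d : ℕ}
    (hG : ShStab.IsStable k X L G d) {I : X.Modules} (ι : I ⟶ G) [Mono ι] (hI : Coh.IsCoh I)
    (hI0 : ¬ IsZero I) (hiso : ¬ IsIso ι) {pI pG : ℚ[X]} (hpI : ShStab.IsHilbPoly k X L I pI)
    (hpG : ShStab.IsHilbPoly k X L G pG) : RedLT d pI pG :=
  hG.2.2.2 I ι inferInstance hI hI0 hiso pI pG hpI hpG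

/-- images (quotients) of a semistable module -/
theorem redLE_image_of_isSemistable {L : X.Modules} (hL : PicF.IsInvertible L) {F : X.Modules}
    {d : ℕ} (hF : ShStab.IsSemistable k X L F d) {G : X.Modules} (hG : Coh.IsCoh G) (φ : F ⟶ G)
    (hφ : φ ≠ 0) {pF pI : ℚ[X]} (hpF : ShStab.IsHilbPoly k X L F pF)
    (hpI : ShStab.IsHilbPoly k X L (Abelian.image φ) pI) : RedLE d pF pI := by
  have hKc : Coh.IsCoh (kernel φ) := isCoh_kernel k X hF.1 hG φ
  have hIc : Coh.IsCoh (Abelian.image φ) := isCoh_image k X hF.1 hG φ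
  obtain ⟨pK, hpK⟩ := exists_isHilbPoly_of_mono_pure k X hL hF.2.2.1 (kernel.ι φ) hKc
  have hadd := isHilbPoly_add k X hL _ (shortExact_kernel_image φ) hKc hIc hpK hpI
  have hpFeq : pF = pK + pI := isHilbPoly_unique k X hpF hadd
  rw [hpFeq]
  by_cases hK0 : IsZero (kernel φ)
  · have hpK0 : pK = 0 := by
      apply eq_of_eval_nat_eq
      intro m
      rw [← hpK m, eval_zero]
      have : hilb k X L (kernel φ) m = 0 := by
        rw [hilb_eq_chi]
        exact Groth.Agent.Lib.helper7.SnapperMain.chi_zero k X hK0 1 _ _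
      show ((hilb k X L (kernel φ) m : ℤ) : ℚ) = 0
      rw [this]; simp
    rw [hpK0, zero_add]
    exact redLE_refl d pI
  · apply redLE_quot
    rw [← hpFeq]
    exact hF.2.2.2 (kernel φ) (kernel.ι φ) inferInstance hKc hK0 (not_isIso_kernel_ι φ hφ) pK pF
      hpK hpF

/-- non-injective nonzero maps out of a stable module -/
theorem redLT_image_of_isStable {L : X.Modules} (hL : PicF.IsInvertible L) {F : X.Modules}
    {d : ℕ} (hF : ShStab.IsStable k X L F d) {G : X.Modules} (hG : Coh.IsCoh G) (φ : F ⟶ G)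
    (hφ : φ ≠ 0) (hmono : ¬ Mono φ) {pF pI : ℚ[X]} (hpF : ShStab.IsHilbPoly k X L F pF)
    (hpI : ShStab.IsHilbPoly k X L (Abelian.image φ) pI) : RedLT d pF pI := by
  have hKc : Coh.IsCoh (kernel φ) := isCoh_kernel k X hF.1 hG φ
  have hIc : Coh.IsCoh (Abelian.image φ) := isCoh_image k X hF.1 hG φ
  obtain ⟨pK, hpK⟩ := exists_isHilbPoly_of_mono_pure k X hL hF.2.2.1 (kernel.ι φ) hKc
  have hadd := isHilbPoly_add k X hL _ (shortExact_kernel_image φ) hKc hIc hpK hpI
  have hpFeq : pF = pK + pI := isHilbPoly_unique k X hpF hadd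
  have hK0 : ¬ IsZero (kernel φ) := fun h => hmono (mono_of_isZero_kernel φ h)
  rw [hpFeq]
  apply redLT_quot
  rw [← hpFeq]
  exact hF.2.2.2 (kernel φ) (kernel.ι φ) inferInstance hKc hK0 (not_isIso_kernel_ι φ hφ) pK pF
    hpK hpF

end Groth.Agent.Lib.Lead.HilbPos
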