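import Mathlib
import Groth.Agent.Lib.Lead.HilbPos7

/-!
# Morphisms between modules with the same Hilbert polynomial (lead)

* `isIso_of_mono_of_isHilbPoly_eq`, `isIso_of_epi_of_isHilbPoly_eq`: a monomorphism (epimorphism)
  between coherent modules with the same Hilbert polynomial (w.r.t. an ample `L` on a proper
  `k`-scheme) is an isomorphism.
-/

set_option autoImplicit false
set_option linter.unusedSectionVars false
set_option linter.style.haveILetI false
set_option backward.isDefEq.respectTransparency false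
universe u

open CategoryTheory CategoryTheory.Limits AlgebraicGeometry Polynomial TopologicalSpace Topology
  Opposite

namespace Groth.Agent.Lib.Lead.HilbPos

variable (k : Type u) [Field k] (X : Scheme.{u}) [X.Over (Spec (CommRingCat.of k))]
  [IsProper (X ↘ Spec (CommRingCat.of k))]

theorem isIso_of_mono_of_isHilbPoly_eq {L : X.Modules} (hL : CohB1.IsAmple L) {F G : X.Modules}
    (hF : Coh.IsCoh F) (hG : Coh.IsCoh G) (d : ℕ)
    (hdG : topologicalKrullDim (CohB1.support G) ≤ ((d : ℕ) : WithBot ℕ∞)) {P : ℚ[X]}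
    (hpF : ShStab.IsHilbPoly k X L F P) (hpG : ShStab.IsHilbPoly k X L G P) (φ : F ⟶ G) [Mono φ] :
    IsIso φ := by
  haveI := Groth.Agent.Lib.Lead.CurveEuler.isNoetherian k X
  have hC : Coh.IsCoh (cokernel φ) := Groth.Agent.Lib.helper7.CohKer.isCoh_cokernel hF hG φ
  have hS := Groth.Agent.Lib.helper8.Dev.shortExact_cokernel φ
  have hdC : topologicalKrullDim (CohB1.support (cokernel φ)) ≤ ((d : ℕ) : WithBot ℕ∞) :=
    (Groth.Agent.Lib.helper8.DimLt.topologicalKrullDim_le_of_subset
      (Groth.Agent.Lib.helper8.Dev.support_subset_of_epi (cokernel.π φ) hG hC)).trans hdG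
  obtain ⟨pC, hpC, -⟩ := exists_isHilbPoly k X hL.1 hC d hdC
  have hadd := isHilbPoly_add k X hL.1 _ hS hF hC hpF hpC
  have h1 : P = P + pC := isHilbPoly_unique k X hpG hadd
  have h2 : pC = 0 := by
    have := congrArg (fun q => q - P) h1
    simpa using this.symm
  rw [h2] at hpC
  have hz : IsZero (cokernel φ) := isZero_of_isHilbPoly_zero k X hL hC hpC
  haveI : Epi φ := Preadditive.epi_of_isZero_cokernel φ hz
  exact isIso_of_mono_of_epi φ

theorem isIso_of_epi_of_isHilbPoly_eq {L : X.Modules} (hL : CohB1.IsAmple L) {F G : X.Modules}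
    (hF : Coh.IsCoh F) (hG : Coh.IsCoh G) (d : ℕ)
    (hdF : topologicalKrullDim (CohB1.support F) ≤ ((d : ℕ) : WithBot ℕ∞)) {P : ℚ[X]}
    (hpF : ShStab.IsHilbPoly k X L F P) (hpG : ShStab.IsHilbPoly k X L G P) (φ : F ⟶ G) [Epi φ] :
    IsIso φ := by
  haveI := Groth.Agent.Lib.Lead.CurveEuler.isNoetherian k X
  have hK : Coh.IsCoh (kernel φ) := Groth.Agent.Lib.helper7.CohKer.isCoh_kernel hF hG φ
  have hS : (ShortComplex.mk (kernel.ι φ) φ (kernel.condition φ)).ShortExact :=
    { exact := ShortComplex.exact_of_f_is_kernel _ (kernelIsKernel φ)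
      mono_f := inferInstanceAs (Mono (kernel.ι φ))
      epi_g := inferInstanceAs (Epi φ) }
  have hdK : topologicalKrullDim (CohB1.support (kernel φ)) ≤ ((d : ℕ) : WithBot ℕ∞) :=
    (Groth.Agent.Lib.helper8.DimLt.topologicalKrullDim_le_of_subset
      (Groth.Agent.Lib.helper8.Dev.support_subset_of_mono (kernel.ι φ) hK hF)).trans hdF
  obtain ⟨pK, hpK, -⟩ := exists_isHilbPoly k X hL.1 hK d hdK
  have hadd := isHilbPoly_add k X hL.1 _ hS hK hG hpK hpG
  have h1 : P = pK + P := isHilbPoly_unique k X hpF hadd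
  have h2 : pK = 0 := by
    have := congrArg (fun q => q - P) h1
    simpa using this.symm
  rw [h2] at hpK
  have hz : IsZero (kernel φ) := isZero_of_isHilbPoly_zero k X hL hK hpK
  haveI : Mono φ := Preadditive.mono_of_isZero_kernel φ hz
  exact isIso_of_mono_of_epi φ

end Groth.Agent.Lib.Lead.HilbPos
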