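import Mathlib
import Groth.Agent.Lib.Lead.HilbPos8

/-!
# Purity from the cross-multiplied inequality; slope comparison (lead)

* `isPure_of_isSS`: a nonzero coherent `E` with `dim Supp E = d` satisfying `StabCat.IsSS` is pure.
* `isSS_of_isSt`.
* `hatSlope_le_of_redLE`: (polynomials) for `P`, `Q` of degree `≤ d`, `d ≥ 1`, with positive
  multiplicities, `RedLE d P Q → hatSlope d P ≤ hatSlope d Q`.
-/

set_option autoImplicit false
set_option linter.unusedSectionVars false
set_option linter.style.haveILetI false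
set_option backward.isDefEq.respectTransparency false
universe u

open CategoryTheory CategoryTheory.Limits AlgebraicGeometry Polynomial TopologicalSpace Topology
  Opposite

namespace Groth.Agent.Lib.Lead.HilbPos

open StabCat

section Poly

theorem hatSlope_le_of_redLE {d : ℕ} (hd : 1 ≤ d) {P Q : ℚ[X]} (hP : P.natDegree ≤ d)
    (hQ : Q.natDegree ≤ d) (aP : 0 < alpha d P) (aQ : 0 < alpha d Q) (h : RedLE d P Q) :
    hatSlope d P ≤ hatSlope d Q := by
  set D : ℚ[X] := alpha d P • Q - alpha d Q • P with hD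
  have hDdeg : D.natDegree ≤ d - 1 := by
    rw [natDegree_le_iff_coeff_eq_zero]
    intro N hN
    have hN' : d ≤ N := by omega
    rw [hD, coeff_sub, coeff_smul, coeff_smul, smul_eq_mul, smul_eq_mul]
    rcases eq_or_lt_of_le hN' with h1 | h1
    · subst h1
      unfold alpha
      ring
    · rw [coeff_eq_zero_of_natDegree_lt (lt_of_le_of_lt hQ h1),
        coeff_eq_zero_of_natDegree_lt (lt_of_le_of_lt hP h1)]
      ring
  have hev : EvNonneg D := by
    obtain ⟨N, hN⟩ := h
    refine ⟨N, fun m hm => ?_⟩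
    have := hN m hm
    rw [hD, eval_sub]
    linarith
  have hc := coeff_nonneg_of_evNonneg D (d - 1) hDdeg hev
  rw [hD, coeff_sub, coeff_smul, coeff_smul, smul_eq_mul, smul_eq_mul] at hc
  unfold hatSlope
  rw [div_le_div_iff₀ aP aQ]
  have hf : (0 : ℚ) < ((d - 1).factorial : ℚ) := by exact_mod_cast Nat.factorial_pos _
  have e1 : alpha (d - 1) P = ((d - 1).factorial : ℚ) * P.coeff (d - 1) := rfl
  have e2 : alpha (d - 1) Q = ((d - 1).factorial : ℚ) * Q.coeff (d - 1) := rfl
  rw [e1, e2]
  nlinarith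

end Poly

variable (k : Type u) [Field k] (X : Scheme.{u}) [X.Over (Spec (CommRingCat.of k))]
  [IsProper (X ↘ Spec (CommRingCat.of k))]

theorem isSS_of_isSt {L E : X.Modules} {d : ℕ}
    (h : IsSt Coh.IsCoh (ShStab.IsHilbPoly k X L) d E) :
    IsSS Coh.IsCoh (ShStab.IsHilbPoly k X L) d E :=
  fun F ι hι hF hF0 hni pF pE hpF hpE => redLE_of_redLT (h F ι hι hF hF0 hni pF pE hpF hpE)

/-- the cross-multiplied inequality forces purity -/
theorem isPure_of_isSS {L : X.Modules} (hL : CohB1.IsAmple L) {E : X.Modules} (hE : Coh.IsCoh E)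
    {d : ℕ} (hdim : topologicalKrullDim (CohB1.support E) = ((d : ℕ) : WithBot ℕ∞))
    (h : IsSS Coh.IsCoh (ShStab.IsHilbPoly k X L) d E) : ShStab.IsPure X E d := by
  haveI := Groth.Agent.Lib.Lead.CurveEuler.isNoetherian k X
  intro F ι hι hF hF0
  haveI := hι
  have hsub : CohB1.support F ⊆ CohB1.support E :=
    Groth.Agent.Lib.helper8.Dev.support_subset_of_mono ι hF hE
  have hle : topologicalKrullDim (CohB1.support F) ≤ ((d : ℕ) : WithBot ℕ∞) :=
    (Groth.Agent.Lib.helper8.DimLt.topologicalKrullDim_le_of_subset hsub).trans hdim.le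
  by_contra hne
  have hlt : topologicalKrullDim (CohB1.support F) < ((d : ℕ) : WithBot ℕ∞) := lt_of_le_of_ne hle hne
  have hni : ¬ IsIso ι := by
    intro hiso
    apply hne
    have hsub' : CohB1.support E ⊆ CohB1.support F :=
      Groth.Agent.Lib.helper8.Dev.support_subset_of_mono (inv ι) hE hF
    rw [← hdim, subset_antisymm hsub hsub']
  obtain ⟨pF, hpF, hpFd⟩ := exists_isHilbPoly_lt k X hL.1 hF d hlt
  obtain ⟨pE, hpE, -⟩ := exists_isHilbPoly k X hL.1 hE d hdim.le
  have aE : 0 < alpha d pE := alpha_pos k X hL hE d hdim hpE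
  have aF : alpha d pF = 0 := by unfold alpha; rw [hpFd, mul_zero]
  obtain ⟨N, hN⟩ := h F ι hι hF hF0 hni pF pE hpF hpE
  obtain ⟨N', hN'⟩ := eventually_pos_of_leadingCoeff_pos pF (leadingCoeff_pos k X hL hF hF0 hpF)
  have a := hN (max N N') (le_max_left _ _)
  have b := hN' (max N N') (le_max_right _ _)
  rw [aF, zero_smul, eval_zero, eval_smul, smul_eq_mul] at a
  nlinarith

end Groth.Agent.Lib.Lead.HilbPos
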