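import Mathlib
import Groth.Agent.Lib.Lead.HilbPos10

/-!
# Slope comparison lemmas for `StabCat.IsMuSS` (lead)

* `hatSlope_quot_ge`: (polynomials) weighted average argument.
* `lt_coe_iff_le_pred`: `x < n ↔ x ≤ n - 1` in `WithBot ℕ∞` for `1 ≤ n`.
* `hatSlope_le_image_of_isMuSS`: for pure `F` satisfying `IsMuSS` and `φ : F ⟶ G` nonzero with image
  of positive multiplicity, `hatSlope F ≤ hatSlope (im φ)`.
* `hatSlope_le_of_mono_of_isMuSS`: for pure `G` satisfying `IsMuSS` and a nonzero coherent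
  submodule `I ⊆ G`, `hatSlope I ≤ hatSlope G`.
-/

set_option autoImplicit false
set_option linter.unusedSectionVars false
set_option linter.style.haveILetI false
set_option backward.isDefEq.respectTransparency false
universe u

open CategoryTheory CategoryTheory.Limits AlgebraicGeometry Polynomial TopologicalSpace Topology
  Opposite

namespace Groth.Agent.Lib.Lead.HilbPos

open StabCat

section Poly

theorem hatSlope_quot_ge {d : ℕ} {PK PI : ℚ[X]} (aK : 0 < alpha d PK) (aI : 0 < alpha d PI)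
    (h : hatSlope d PK ≤ hatSlope d (PK + PI)) : hatSlope d (PK + PI) ≤ hatSlope d PI := by
  unfold hatSlope at h ⊢
  rw [alpha_add, alpha_add] at h ⊢
  have aF : 0 < alpha d PK + alpha d PI := add_pos aK aI
  rw [div_le_div_iff₀ aK aF] at h
  rw [div_le_div_iff₀ aF aI]
  nlinarith

theorem hatSlope_sub_le {d : ℕ} {PK PI : ℚ[X]} (aK : 0 < alpha d PK) (aI : 0 < alpha d PI)
    (h : hatSlope d (PK + PI) ≤ hatSlope d PI) : hatSlope d PK ≤ hatSlope d (PK + PI) := by
  unfold hatSlope at h ⊢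
  rw [alpha_add, alpha_add] at h ⊢
  have aF : 0 < alpha d PK + alpha d PI := add_pos aK aI
  rw [div_le_div_iff₀ aF aI] at h
  rw [div_le_div_iff₀ aK aF]
  nlinarith

theorem lt_coe_iff_le_pred {x : WithBot ℕ∞} {n : ℕ} (hn : 1 ≤ n)
    (h : x < ((n : ℕ) : WithBot ℕ∞)) : x ≤ (((n - 1 : ℕ)) : WithBot ℕ∞) := by
  induction x with
  | bot => exact bot_le
  | coe a =>
    induction a with
    | top =>
      exfalso
      have : ((⊤ : ℕ∞) : WithBot ℕ∞) < (((n : ℕ) : ℕ∞) : WithBot ℕ∞) := h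
      rw [WithBot.coe_lt_coe] at this
      exact absurd this (by simp)
    | coe m =>
      have h4 : (((m : ℕ) : ℕ∞) : WithBot ℕ∞) < (((n : ℕ) : ℕ∞) : WithBot ℕ∞) := h
      rw [WithBot.coe_lt_coe, Nat.cast_lt] at h4
      have : m ≤ n - 1 := by omega
      show (((m : ℕ) : ℕ∞) : WithBot ℕ∞) ≤ ((((n - 1 : ℕ)) : ℕ∞) : WithBot ℕ∞)
      rw [WithBot.coe_le_coe, Nat.cast_le]
      exact this

end Poly

variable (k : Type u) [Field k] (X : Scheme.{u}) [X.Over (Spec (CommRingCat.of k))]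
  [IsProper (X ↘ Spec (CommRingCat.of k))]

theorem isHilbPoly_zero_of_isZero {L F : X.Modules} (hF : IsZero F) :
    ShStab.IsHilbPoly k X L F 0 := by
  intro m
  rw [eval_zero]
  have : hilb k X L F m = 0 := by
    rw [hilb_eq_chi]
    exact Groth.Agent.Lib.helper7.SnapperMain.chi_zero k X hF 1 _ _
  show ((hilb k X L F m : ℤ) : ℚ) = 0
  rw [this]; simp

/-- quotients of a pure module satisfying `IsMuSS` -/
theorem hatSlope_le_image_of_isMuSS {L : X.Modules} (hL : CohB1.IsAmple L) {F : X.Modules} {d : ℕ}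
    (hFc : Coh.IsCoh F) (hFp : ShStab.IsPure X F d)
    (hF : IsMuSS Coh.IsCoh (ShStab.IsHilbPoly k X L) d F) {G : X.Modules} (hG : Coh.IsCoh G)
    (φ : F ⟶ G) {pF pI : ℚ[X]} (hpF : ShStab.IsHilbPoly k X L F pF)
    (hpI : ShStab.IsHilbPoly k X L (Abelian.image φ) pI) (aI : 0 < alpha d pI) :
    hatSlope d pF ≤ hatSlope d pI := by
  have hKc : Coh.IsCoh (kernel φ) := isCoh_kernel k X hFc hG φ
  have hIc : Coh.IsCoh (Abelian.image φ) := isCoh_image k X hFc hG φ
  obtain ⟨pK, hpK⟩ := exists_isHilbPoly_of_mono_pure k X hL.1 hFp (kernel.ι φ) hKc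
  have hadd := isHilbPoly_add k X hL.1 _ (shortExact_kernel_image φ) hKc hIc hpK hpI
  have hpFeq : pF = pK + pI := isHilbPoly_unique k X hpF hadd
  by_cases hK0 : IsZero (kernel φ)
  · have hpK0 : pK = 0 := isHilbPoly_unique k X hpK (isHilbPoly_zero_of_isZero k X hK0)
    rw [hpFeq, hpK0, zero_add]
  · have aK : 0 < alpha d pK := alpha_pos_of_mono_pure k X hL hFp (kernel.ι φ) hKc hK0 hpK
    rw [hpFeq]
    apply hatSlope_quot_ge aK aI
    rw [← hpFeq]
    refine hF (kernel φ) (kernel.ι φ) inferInstance hKc pK pF hpK hpF aK ?_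
    rw [hpFeq, alpha_add]
    linarith

/-- submodules of a pure module satisfying `IsMuSS` -/
theorem hatSlope_le_of_mono_of_isMuSS {L : X.Modules} (hL : CohB1.IsAmple L) {G : X.Modules}
    {d : ℕ} (hd : 1 ≤ d) (hGc : Coh.IsCoh G) (hGp : ShStab.IsPure X G d)
    (hG : IsMuSS Coh.IsCoh (ShStab.IsHilbPoly k X L) d G) {I : X.Modules} (ι : I ⟶ G) [Mono ι]
    (hIc : Coh.IsCoh I) (hI0 : ¬ IsZero I) {pI pG : ℚ[X]} (hpI : ShStab.IsHilbPoly k X L I pI)
    (hpG : ShStab.IsHilbPoly k X L G pG) : hatSlope d pI ≤ hatSlope d pG := by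
  haveI := Groth.Agent.Lib.Lead.CurveEuler.isNoetherian k X
  have aI : 0 < alpha d pI := alpha_pos_of_mono_pure k X hL hGp ι hIc hI0 hpI
  have hQc : Coh.IsCoh (cokernel ι) := Groth.Agent.Lib.helper7.CohKer.isCoh_cokernel hIc hGc ι
  have hS := Groth.Agent.Lib.helper8.Dev.shortExact_cokernel ι
  have hdG : topologicalKrullDim (CohB1.support G) ≤ ((d : ℕ) : WithBot ℕ∞) :=
    dim_support_le_of_mono_pure hGp (𝟙 G) hGc
  have hdQ : topologicalKrullDim (CohB1.support (cokernel ι)) ≤ ((d : ℕ) : WithBot ℕ∞) :=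
    (Groth.Agent.Lib.helper8.DimLt.topologicalKrullDim_le_of_subset
      (Groth.Agent.Lib.helper8.Dev.support_subset_of_epi (cokernel.π ι) hGc hQc)).trans hdG
  obtain ⟨pQ, hpQ, -⟩ := exists_isHilbPoly k X hL.1 hQc d hdQ
  have hadd := isHilbPoly_add k X hL.1 _ hS hIc hQc hpI hpQ
  have hpGeq : pG = pI + pQ := isHilbPoly_unique k X hpG hadd
  have aQ : 0 ≤ alpha d pQ := by
    unfold alpha
    exact mul_nonneg (by exact_mod_cast (Nat.factorial_pos d).le)
      (coeff_nonneg k X hL hQc d hdQ hpQ)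
  rcases lt_or_eq_of_le aQ with aQ' | aQ'
  · refine hG I ι inferInstance hIc pI pG hpI hpG aI ?_
    rw [hpGeq, alpha_add]
    linarith
  · -- the quotient has smaller dimension
    have hdQ' : topologicalKrullDim (CohB1.support (cokernel ι)) ≤
        (((d - 1 : ℕ)) : WithBot ℕ∞) := by
      apply lt_coe_iff_le_pred hd
      refine lt_of_le_of_ne hdQ (fun heq => ?_)
      have := alpha_pos k X hL hQc d heq hpQ
      rw [← aQ'] at this
      exact lt_irrefl _ this
    have bQ : 0 ≤ alpha (d - 1) pQ := by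
      unfold alpha
      exact mul_nonneg (by exact_mod_cast (Nat.factorial_pos (d - 1)).le)
        (coeff_nonneg k X hL hQc (d - 1) hdQ' hpQ)
    unfold hatSlope
    rw [hpGeq, alpha_add, alpha_add, ← aQ', add_zero]
    exact div_le_div_of_nonneg_right (by linarith) aI.le

end Groth.Agent.Lib.Lead.HilbPos
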