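import Mathlib
import Groth.Agent.Lib.Lead.HilbPos11
import Groth.Agent.Lib.Helper7.QCohExt
import Groth.Agent.Lib.Helper16.CohFinite
import Groth.Agent.Lib.Helper8.DevAnn

/-!
# Extensions: coherence, purity, slope-semistability (lead)

* `isCoh_of_extension`: an extension of coherent modules is coherent.
* `subData`: for a short exact sequence `0 → F → H → G → 0` and a subobject `S ↪ H`, the
  subobject `S' = S ∩ F ↪ F`, the image `S'' ↪ G` and the short exact sequence `0 → S' → S → S'' → 0`.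
* `hatSlope_add_le`, `hatSlope_add_eq` (polynomials).
* `isMuSS_of_extension`: an extension of pure modules of dimension `d` satisfying `IsMuSS`, with the
  same `hatSlope`, satisfies `IsMuSS`.
-/

set_option autoImplicit false
set_option linter.unusedSectionVars false
set_option linter.style.haveILetI false
set_option backward.isDefEq.respectTransparency false
universe u

open CategoryTheory CategoryTheory.Limits AlgebraicGeometry Polynomial TopologicalSpace Topology
  Opposite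

namespace Groth.Agent.Lib.Lead.HilbPos

open StabCat Scheme.Modules

section Coh

variable {X : Scheme.{u}}

/-- an extension of coherent modules is coherent -/
theorem isCoh_of_extension (S : ShortComplex X.Modules) (hS : S.ShortExact)
    (h₁ : Coh.IsCoh S.X₁) (h₃ : Coh.IsCoh S.X₃) : Coh.IsCoh S.X₂ := by
  haveI : S.X₁.IsQuasicoherent := h₁.1
  haveI : S.X₃.IsQuasicoherent := h₃.1
  haveI : S.X₂.IsQuasicoherent := Groth.Agent.Lib.helper7.QCohExt.isQuasicoherent_of_extension S hS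
  haveI := hS.mono_f
  refine Groth.Agent.Lib.helper16.CohFinite.isCoh_of_finite_sections S.X₂
    (fun U : X.affineOpens => U.1) (fun U => U.2) (iSup_affineOpens_eq_top X) (fun U => ?_)
  haveI : Module.Finite Γ(X, U.1) Γ(S.X₁, U.1) :=
    Groth.Agent.Lib.helper16.CohFinite.finite_sections_of_isCoh S.X₁ h₁ U.2
  haveI : Module.Finite Γ(X, U.1) Γ(S.X₃, U.1) :=
    Groth.Agent.Lib.helper16.CohFinite.finite_sections_of_isCoh S.X₃ h₃ U.2
  let f : Γ(S.X₁, U.1) →ₗ[Γ(X, U.1)] Γ(S.X₂, U.1) :=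
    { toFun := (S.f.app U.1).hom
      map_add' := map_add _
      map_smul' := fun c m => Hom.app_smul S.f c m }
  let g : Γ(S.X₂, U.1) →ₗ[Γ(X, U.1)] Γ(S.X₃, U.1) :=
    { toFun := (S.g.app U.1).hom
      map_add' := map_add _
      map_smul' := fun c m => Hom.app_smul S.g c m }
  have hg : Function.Surjective g :=
    Groth.Agent.Lib.helper7.QCohExt.surjective_app_of_shortExact S hS U.1 U.2
  have hker : LinearMap.ker g ≤ LinearMap.range f := by
    intro m hm
    obtain ⟨m', hm'⟩ := Groth.Agent.Lib.helper8.Dev.exists_app_eq_of_exact S.f S.g S.zero hS.exact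
      U.1 m hm
    exact ⟨m', hm'⟩
  constructor
  refine Submodule.fg_of_fg_map_of_fg_inf_ker g ?_ ?_
  · rw [Submodule.map_top, LinearMap.range_eq_top.mpr hg]
    exact Module.Finite.fg_top
  · rw [top_inf_eq]
    have h1 : (LinearMap.range f).FG := by
      rw [LinearMap.range_eq_map]
      exact Submodule.FG.map f Module.Finite.fg_top
    have h2 : LinearMap.ker g = LinearMap.range f := by
      refine le_antisymm hker ?_
      rintro _ ⟨m, rfl⟩
      show ((S.f ≫ S.g).app U.1).hom m = 0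
      rw [S.zero]
      rfl
    rw [h2]
    exact h1

end Coh

section Abelian

variable {C : Type*} [Category C] [Abelian C]

/-- for `0 → F → H → G → 0` and `σ : S ↪ H`: the map `S ∩ F ⟶ F` -/
noncomputable def subLift (T : ShortComplex C) (hT : T.ShortExact) {S : C} (σ : S ⟶ T.X₂) :
    kernel (σ ≫ T.g) ⟶ T.X₁ :=
  hT.fIsKernel.lift (KernelFork.ofι (kernel.ι (σ ≫ T.g) ≫ σ) (by
    rw [Category.assoc, kernel.condition]))

theorem subLift_f (T : ShortComplex C) (hT : T.ShortExact) {S : C} (σ : S ⟶ T.X₂) :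
    subLift T hT σ ≫ T.f = kernel.ι (σ ≫ T.g) ≫ σ :=
  hT.fIsKernel.fac _ WalkingParallelPair.zero

instance mono_subLift (T : ShortComplex C) (hT : T.ShortExact) {S : C} (σ : S ⟶ T.X₂) [Mono σ] :
    Mono (subLift T hT σ) := by
  haveI : Mono (subLift T hT σ ≫ T.f) := by
    rw [subLift_f]
    exact mono_comp _ _
  exact mono_of_mono (subLift T hT σ) T.f

theorem isZero_of_isZero_kernel_image {A B : C} (ψ : A ⟶ B) (h1 : IsZero (kernel ψ))
    (h2 : IsZero (Abelian.image ψ)) : IsZero A := by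
  have hψ : ψ = 0 := by
    rw [← Abelian.image.fac ψ, h2.eq_of_tgt (Abelian.factorThruImage ψ) 0, Limits.zero_comp]
  subst hψ
  exact h1.of_iso (asIso (kernel.ι (0 : A ⟶ B))).symm

end Abelian

section Poly

theorem hatSlope_add_le {d : ℕ} {P Q : ℚ[X]} {μ : ℚ} (aP : 0 < alpha d P) (aQ : 0 < alpha d Q)
    (hP : hatSlope d P ≤ μ) (hQ : hatSlope d Q ≤ μ) : hatSlope d (P + Q) ≤ μ := by
  unfold hatSlope at hP hQ ⊢
  rw [alpha_add, alpha_add]
  rw [div_le_iff₀ aP] at hP
  rw [div_le_iff₀ aQ] at hQ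
  rw [div_le_iff₀ (add_pos aP aQ)]
  nlinarith

theorem hatSlope_add_eq {d : ℕ} {P Q : ℚ[X]} {μ : ℚ} (aP : 0 < alpha d P) (aQ : 0 < alpha d Q)
    (hP : hatSlope d P = μ) (hQ : hatSlope d Q = μ) : hatSlope d (P + Q) = μ := by
  unfold hatSlope at hP hQ ⊢
  rw [alpha_add, alpha_add]
  rw [div_eq_iff aP.ne'] at hP
  rw [div_eq_iff aQ.ne'] at hQ
  rw [div_eq_iff (add_pos aP aQ).ne']
  nlinarith

end Poly

variable (k : Type u) [Field k] (X : Scheme.{u}) [X.Over (Spec (CommRingCat.of k))]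
  [IsProper (X ↘ Spec (CommRingCat.of k))]

/-- subobjects of an extension of pure modules satisfying `IsMuSS` with slopes `≤ μ` have slope
`≤ μ` -/
theorem hatSlope_le_of_mono_extension {L : X.Modules} (hL : CohB1.IsAmple L) {d : ℕ} (hd : 1 ≤ d)
    (T : ShortComplex X.Modules) (hT : T.ShortExact) (h₁ : Coh.IsCoh T.X₁) (h₃ : Coh.IsCoh T.X₃)
    (hp₁ : ShStab.IsPure X T.X₁ d) (hp₃ : ShStab.IsPure X T.X₃ d)
    (hs₁ : IsMuSS Coh.IsCoh (ShStab.IsHilbPoly k X L) d T.X₁)
    (hs₃ : IsMuSS Coh.IsCoh (ShStab.IsHilbPoly k X L) d T.X₃) {p₁ p₃ : ℚ[X]}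
    (hq₁ : ShStab.IsHilbPoly k X L T.X₁ p₁) (hq₃ : ShStab.IsHilbPoly k X L T.X₃ p₃) {μ : ℚ}
    (hμ₁ : hatSlope d p₁ ≤ μ) (hμ₃ : hatSlope d p₃ ≤ μ)
    {S : X.Modules} (σ : S ⟶ T.X₂) [Mono σ] (hS : Coh.IsCoh S) {pS : ℚ[X]}
    (hpS : ShStab.IsHilbPoly k X L S pS) (aS : 0 < alpha d pS) : hatSlope d pS ≤ μ := by
  set ψ : S ⟶ T.X₃ := σ ≫ T.g with hψ
  have hKc : Coh.IsCoh (kernel ψ) := isCoh_kernel k X hS h₃ ψ
  have hIc : Coh.IsCoh (Abelian.image ψ) := isCoh_image k X hS h₃ ψ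
  obtain ⟨pK, hpK⟩ := exists_isHilbPoly_of_mono_pure k X hL.1 hp₁ (subLift T hT σ) hKc
  obtain ⟨pI, hpI⟩ := exists_isHilbPoly_of_mono_pure k X hL.1 hp₃ (Abelian.image.ι ψ) hIc
  have hadd := isHilbPoly_add k X hL.1 _ (shortExact_kernel_image ψ) hKc hIc hpK hpI
  have hpSeq : pS = pK + pI := isHilbPoly_unique k X hpS hadd
  by_cases hK0 : IsZero (kernel ψ)
  · have hpK0 : pK = 0 := isHilbPoly_unique k X hpK (isHilbPoly_zero_of_isZero k X hK0)
    have hI0 : ¬ IsZero (Abelian.image ψ) := by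
      intro hI0
      have hpI0 : pI = 0 := isHilbPoly_unique k X hpI (isHilbPoly_zero_of_isZero k X hI0)
      rw [hpSeq, hpK0, hpI0] at aS
      simp [alpha] at aS
    rw [hpSeq, hpK0, zero_add]
    exact (hatSlope_le_of_mono_of_isMuSS k X hL hd h₃ hp₃ hs₃ (Abelian.image.ι ψ) hIc hI0 hpI
      hq₃).trans hμ₃
  · have aK : 0 < alpha d pK := alpha_pos_of_mono_pure k X hL hp₁ (subLift T hT σ) hKc hK0 hpK
    have sK : hatSlope d pK ≤ μ :=
      (hatSlope_le_of_mono_of_isMuSS k X hL hd h₁ hp₁ hs₁ (subLift T hT σ) hKc hK0 hpK hq₁).trans hμ₁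
    by_cases hI0 : IsZero (Abelian.image ψ)
    · have hpI0 : pI = 0 := isHilbPoly_unique k X hpI (isHilbPoly_zero_of_isZero k X hI0)
      rw [hpSeq, hpI0, add_zero]
      exact sK
    · have aI : 0 < alpha d pI :=
        alpha_pos_of_mono_pure k X hL hp₃ (Abelian.image.ι ψ) hIc hI0 hpI
      have sI : hatSlope d pI ≤ μ :=
        (hatSlope_le_of_mono_of_isMuSS k X hL hd h₃ hp₃ hs₃ (Abelian.image.ι ψ) hIc hI0 hpI
          hq₃).trans hμ₃
      rw [hpSeq]
      exact hatSlope_add_le aK aI sK sI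

include k in
/-- an extension of pure modules of dimension `d` is pure of dimension `d`, provided every closed
subset has dimension at most `d` -/
theorem isPure_of_extension {d : ℕ} (hX : topologicalKrullDim X ≤ ((d : ℕ) : WithBot ℕ∞))
    (T : ShortComplex X.Modules) (hT : T.ShortExact) (h₁ : Coh.IsCoh T.X₁) (h₃ : Coh.IsCoh T.X₃)
    (hp₁ : ShStab.IsPure X T.X₁ d) (hp₃ : ShStab.IsPure X T.X₃ d) : ShStab.IsPure X T.X₂ d := by
  haveI := Groth.Agent.Lib.Lead.CurveEuler.isNoetherian k X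
  intro S σ hσ hS hS0
  haveI := hσ
  set ψ : S ⟶ T.X₃ := σ ≫ T.g with hψ
  have hKc : Coh.IsCoh (kernel ψ) := isCoh_kernel k X hS h₃ ψ
  have hIc : Coh.IsCoh (Abelian.image ψ) := isCoh_image k X hS h₃ ψ
  refine le_antisymm ((topologicalKrullDim_subspace_le X _).trans hX) ?_
  by_cases hK0 : IsZero (kernel ψ)
  · have hI0 : ¬ IsZero (Abelian.image ψ) := fun h => hS0 (isZero_of_isZero_kernel_image ψ hK0 h)
    rw [← dim_support_of_isPure hp₃ (Abelian.image.ι ψ) hIc hI0]
    exact Groth.Agent.Lib.helper8.DimLt.topologicalKrullDim_le_of_subset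
      (Groth.Agent.Lib.helper8.Dev.support_subset_of_epi (Abelian.factorThruImage ψ) hS hIc)
  · rw [← dim_support_of_isPure hp₁ (subLift T hT σ) hKc hK0]
    exact Groth.Agent.Lib.helper8.DimLt.topologicalKrullDim_le_of_subset
      (Groth.Agent.Lib.helper8.Dev.support_subset_of_mono (kernel.ι ψ) hKc hS)

end Groth.Agent.Lib.Lead.HilbPos
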