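import Mathlib

/-!
# Krull–Schmidt in additive categories (lead)

* `isNilpotent_or_isUnit`, `isLocalRing_of_idem`: a finite-dimensional algebra over a field with only trivial
  idempotents is a local ring.
* `idem_eq_zero_or_one_of_isLocalRing`.
* `biproductSplit`: `⨁ Fs ≅ Fs i₀ ⊞ ⨁_{i ≠ i₀} Fs i`.
* `exists_equiv_of_iso`: uniqueness of decompositions into objects with local endomorphism rings
  (Krull–Schmidt–Azumaya).
-/

set_option autoImplicit false
set_option linter.style.haveILetI false
set_option linter.unusedSectionVars false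

universe v u
open CategoryTheory CategoryTheory.Limits

namespace Groth.Agent.Lib.Lead.KS

section algebra

open Polynomial

lemma isUnit_aeval_of_mul_eq_one {k : Type*} [Field k] {R : Type*} [Ring R] [Algebra k R]
    (f : R) (a b : k[X]) (h : aeval f (a * b) = 1) :
    IsUnit (aeval f a) :=
  ⟨⟨aeval f a, aeval f b, by rw [← map_mul]; exact h, by rw [← map_mul, mul_comm]; exact h⟩, rfl⟩

/-- in a finite-dimensional algebra with only trivial idempotents every element is nilpotent or a unit -/
theorem isNilpotent_or_isUnit (k : Type*) [Field k] {R : Type*} [Ring R] [Algebra k R]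
    [Module.Finite k R] (hid : ∀ e : R, e * e = e → e = 0 ∨ e = 1) (f : R) :
    IsNilpotent f ∨ IsUnit f := by
  have hint : IsIntegral k f := Algebra.IsIntegral.isIntegral f
  have hp0 : minpoly k f ≠ 0 := minpoly.ne_zero hint
  have hpf : aeval f (minpoly k f) = 0 := minpoly.aeval k f
  by_cases hX : (X : k[X]) ∣ minpoly k f
  · obtain ⟨q, hq, hXq⟩ :=
      Polynomial.exists_eq_pow_rootMultiplicity_mul_and_not_dvd (minpoly k f) hp0 (0 : k)
    simp only [map_zero, sub_zero] at hq hXq
    set m := (minpoly k f).rootMultiplicity 0 with hm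
    have hm1 : 1 ≤ m := by
      rcases Nat.eq_zero_or_pos m with h0 | h
      · exfalso
        rw [h0, pow_zero, one_mul] at hq
        exact hXq (hq ▸ hX)
      · exact h
    have hcop : IsCoprime ((X : k[X]) ^ m) q :=
      IsCoprime.pow_left ((Polynomial.irreducible_X.coprime_iff_not_dvd).2 hXq)
    obtain ⟨u, v, huv⟩ := hcop
    set e : R := aeval f (v * q) with he
    set w : R := aeval f (u * X ^ m) with hw
    have h1 : w + e = 1 := by rw [he, hw, ← map_add, huv, map_one]
    have hew : e * w = 0 := by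
      rw [he, hw, ← map_mul]
      have : v * q * (u * X ^ m) = (u * v) * minpoly k f := by rw [hq]; ring
      rw [this, map_mul, hpf, mul_zero]
    have he1 : e = 1 - w := by rw [← h1, add_sub_cancel_left]
    have hee : e * e = e := by
      have : e * e = e * 1 - e * w := by rw [← mul_sub, ← he1]
      rw [this, hew, mul_one, sub_zero]
    rcases hid e hee with h0 | h0
    · right
      have hw1 : w = 1 := by rw [← h1, h0, add_zero]
      have : aeval f (X * (X ^ (m - 1) * u)) = 1 := by
        rw [← hw1, hw]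
        congr 1
        have hmm : m = (m - 1) + 1 := by omega
        rw [show X * (X ^ (m - 1) * u) = u * X ^ ((m - 1) + 1) by ring, ← hmm]
      have := isUnit_aeval_of_mul_eq_one f X _ this
      rwa [aeval_X] at this
    · left
      refine ⟨m, ?_⟩
      have hq1 : aeval f (v * q) = 1 := by rw [← he, h0]
      have h2 : aeval f (q * v) = 1 := by rw [mul_comm]; exact hq1
      have h3 : f ^ m * aeval f q = 0 := by
        have : aeval f (X ^ m * q) = 0 := by rw [← hq]; exact hpf
        rwa [map_mul, map_pow, aeval_X] at this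
      calc f ^ m = f ^ m * aeval f (q * v) := by rw [h2, mul_one]
        _ = (f ^ m * aeval f q) * aeval f v := by rw [map_mul, mul_assoc]
        _ = 0 := by rw [h3, zero_mul]
  · right
    have hcop : IsCoprime (X : k[X]) (minpoly k f) :=
      (Polynomial.irreducible_X.coprime_iff_not_dvd).2 hX
    obtain ⟨a, b, hab⟩ := hcop
    have : aeval f (X * a) = 1 := by
      have h1 : aeval f (a * X + b * minpoly k f) = 1 := by rw [hab, map_one]
      rw [map_add, map_mul _ b, hpf, mul_zero, add_zero] at h1
      rw [mul_comm]; exact h1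
    have := isUnit_aeval_of_mul_eq_one f X _ this
    rwa [aeval_X] at this

/-- a nontrivial finite-dimensional algebra with only trivial idempotents is local -/
theorem isLocalRing_of_idem (k : Type*) [Field k] {R : Type*} [Ring R] [Algebra k R]
    [Module.Finite k R] [Nontrivial R] (hid : ∀ e : R, e * e = e → e = 0 ∨ e = 1) :
    IsLocalRing R :=
  IsLocalRing.of_isUnit_or_isUnit_one_sub_self fun a => by
    rcases isNilpotent_or_isUnit k hid a with h | h
    · exact Or.inr h.isUnit_one_sub
    · exact Or.inl h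

end algebra

/-- idempotents of a local ring are trivial -/
theorem idem_eq_zero_or_one_of_isLocalRing {R : Type*} [Ring R] [IsLocalRing R] (e : R)
    (he : e * e = e) : e = 0 ∨ e = 1 := by
  rcases IsLocalRing.isUnit_or_isUnit_of_add_one (add_sub_cancel e 1) with h | h
  · right
    obtain ⟨u, rfl⟩ := h
    have := congrArg (fun x => (↑u⁻¹ : R) * x) he
    simpa [← mul_assoc] using this
  · left
    obtain ⟨u, hu⟩ := h
    have h0 : (1 - e) * e = 0 := by rw [sub_mul, one_mul, he, sub_self]
    rw [← hu] at h0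
    have := congrArg (fun x => (↑u⁻¹ : R) * x) h0
    simpa [← mul_assoc] using this

section category

variable {C : Type u} [Category.{v} C] [Preadditive C] [HasFiniteBiproducts C] [HasBinaryBiproducts C]

/-- split one index off a finite biproduct -/
noncomputable def biproductSplit {I : Type} [Finite I] [DecidableEq I] (Fs : I → C) (i₀ : I) :
    ⨁ Fs ≅ Fs i₀ ⊞ ⨁ (Subtype.restrict (fun i => i ≠ i₀) Fs) where
  hom := biprod.lift (biproduct.π Fs i₀) (biproduct.toSubtype Fs (fun i => i ≠ i₀))
  inv := biprod.desc (biproduct.ι Fs i₀) (biproduct.fromSubtype Fs (fun i => i ≠ i₀))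
  hom_inv_id := by
    rw [biprod.lift_desc]
    refine biproduct.hom_ext' _ _ fun j => ?_
    rw [Preadditive.comp_add, Category.comp_id]
    by_cases hj : j = i₀
    · subst hj
      have h0 : biproduct.ι Fs j ≫ biproduct.toSubtype Fs (fun i => i ≠ j) = 0 := by
        rw [biproduct.ι_toSubtype]; simp
      rw [biproduct.ι_π_self_assoc, reassoc_of% h0, zero_comp, add_zero]
    · have h1 := biproduct.ι_toSubtype_subtype Fs (fun i => i ≠ i₀) ⟨j, hj⟩
      have h2 := biproduct.ι_fromSubtype Fs (fun i => i ≠ i₀) ⟨j, hj⟩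
      rw [biproduct.ι_π_ne_assoc _ hj, zero_comp, zero_add, reassoc_of% h1]
      exact h2
  inv_hom_id := by
    apply biprod.hom_ext' <;> apply biprod.hom_ext
    · simp
    · simp [biproduct.ι_toSubtype]
    · simp [biproduct.fromSubtype_π]
    · simp [biproduct.fromSubtype_toSubtype]

@[reassoc (attr := simp)] lemma biproductSplit_inl_inv {I : Type} [Finite I] [DecidableEq I] (Fs : I → C) (i₀ : I) :
    biprod.inl ≫ (biproductSplit Fs i₀).inv = biproduct.ι Fs i₀ := by
  simp [biproductSplit]

@[simp] lemma biproductSplit_hom_fst {I : Type} [Finite I] [DecidableEq I] (Fs : I → C) (i₀ : I) :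
    (biproductSplit Fs i₀).hom ≫ biprod.fst = biproduct.π Fs i₀ := by
  simp [biproductSplit]

/-- **Krull–Schmidt–Azumaya**: two decompositions of an object into objects with local endomorphism rings
agree up to a bijection of the index sets and isomorphisms of the summands. -/
theorem exists_equiv_of_iso (N : ℕ) : ∀ {I J : Type} [Fintype I] [Fintype J] [DecidableEq I]
    [DecidableEq J] (Fs : I → C) (Gs : J → C) (_ : ∀ i, IsLocalRing (End (Fs i)))
    (_ : ∀ j, IsLocalRing (End (Gs j))) (_ : Fintype.card I = N) (_ : ⨁ Fs ≅ ⨁ Gs),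
    ∃ e : I ≃ J, ∀ i, Nonempty (Fs i ≅ Gs (e i)) := by
  induction N with
  | zero =>
    intro I J _ _ _ _ Fs Gs hF hG hN φ
    haveI : IsEmpty I := Fintype.card_eq_zero_iff.mp hN
    have hz : 𝟙 (⨁ Fs) = 0 := biproduct.hom_ext _ _ (fun i => isEmptyElim i)
    haveI : IsEmpty J := by
      refine ⟨fun j => ?_⟩
      haveI := hG j
      have h1 : biproduct.ι Gs j = 0 := by
        calc biproduct.ι Gs j = biproduct.ι Gs j ≫ φ.inv ≫ 𝟙 _ ≫ φ.hom := by simp
          _ = 0 := by rw [hz]; simp
      have h2 : (1 : End (Gs j)) = 0 := by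
        change 𝟙 (Gs j) = 0
        rw [← biproduct.ι_π_self Gs j, h1, zero_comp]
      exact one_ne_zero h2
    exact ⟨Equiv.equivOfIsEmpty I J, fun i => isEmptyElim i⟩
  | succ N ih =>
    intro I J _ _ _ _ Fs Gs hF hG hN φ
    haveI : Nonempty I := by
      rw [← Fintype.card_pos_iff]; omega
    obtain ⟨i₀⟩ := ‹Nonempty I›
    haveI := hF i₀
    let α : ∀ j, Fs i₀ ⟶ Gs j := fun j => biproduct.ι Fs i₀ ≫ φ.hom ≫ biproduct.π Gs j
    let β : ∀ j, Gs j ⟶ Fs i₀ := fun j => biproduct.ι Gs j ≫ φ.inv ≫ biproduct.π Fs i₀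
    let x : J → End (Fs i₀) := fun j => α j ≫ β j
    have hsum0 : ∑ j : J, (α j ≫ β j) = 𝟙 (Fs i₀) := by
      have h1 : ∀ j, α j ≫ β j = (biproduct.ι Fs i₀ ≫ φ.hom) ≫
          (biproduct.π Gs j ≫ biproduct.ι Gs j) ≫ (φ.inv ≫ biproduct.π Fs i₀) := by
        intro j; simp [α, β]
      simp_rw [h1]
      rw [← Preadditive.comp_sum, ← Preadditive.sum_comp, biproduct.total]
      simp
    have hsum : ∑ j : J, x j = (1 : End (Fs i₀)) := hsum0
    obtain ⟨j₀, -, hj₀⟩ := IsLocalRing.exists_of_isUnit_sum (R := End (Fs i₀)) (s := Finset.univ)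
      (f := x) (by rw [hsum]; exact isUnit_one)
    haveI : IsIso (α j₀ ≫ β j₀) := (isUnit_iff_isIso (x j₀)).mp hj₀
    haveI := hG j₀
    set β' := β j₀ ≫ inv (α j₀ ≫ β j₀) with hβ'
    have hab : α j₀ ≫ β' = 𝟙 _ := by rw [hβ', ← Category.assoc, IsIso.hom_inv_id]
    let y : End (Gs j₀) := β' ≫ α j₀
    have hidem : y * y = y := by
      change (β' ≫ α j₀) ≫ (β' ≫ α j₀) = β' ≫ α j₀
      rw [Category.assoc, reassoc_of% hab]
    haveI : IsIso (α j₀) := by
      rcases idem_eq_zero_or_one_of_isLocalRing y hidem with h0 | h1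
      · exfalso
        have : (1 : End (Fs i₀)) = 0 := by
          change 𝟙 (Fs i₀) = 0
          calc 𝟙 (Fs i₀) = (α j₀ ≫ β') ≫ (α j₀ ≫ β') := by rw [hab, Category.comp_id]
            _ = α j₀ ≫ (β' ≫ α j₀) ≫ β' := by simp
            _ = 0 := by rw [show (β' ≫ α j₀) = 0 from h0]; simp
        exact one_ne_zero this
      · exact ⟨β', hab, h1⟩
    let f : Fs i₀ ⊞ ⨁ (Subtype.restrict (fun i => i ≠ i₀) Fs) ≅
        Gs j₀ ⊞ ⨁ (Subtype.restrict (fun j => j ≠ j₀) Gs) :=
      (biproductSplit Fs i₀).symm ≪≫ φ ≪≫ biproductSplit Gs j₀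
    have hf : biprod.inl ≫ f.hom ≫ biprod.fst = α j₀ := by
      simp [f, α]
    haveI : IsIso (biprod.inl ≫ f.hom ≫ biprod.fst) := by rw [hf]; infer_instance
    have ψ := Biprod.isoElim f
    have hcard : Fintype.card {i // i ≠ i₀} = N := by
      have := Fintype.card_congr (Equiv.optionSubtypeNe i₀)
      rw [Fintype.card_option] at this
      omega
    obtain ⟨e', he'⟩ := ih (I := {i // i ≠ i₀}) (J := {j // j ≠ j₀})
      (Subtype.restrict (fun i => i ≠ i₀) Fs) (Subtype.restrict (fun j => j ≠ j₀) Gs)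
      (fun i => hF i.1) (fun j => hG j.1) hcard ψ
    let e : I ≃ J := (Equiv.optionSubtypeNe i₀).symm.trans
      ((Equiv.optionCongr e').trans (Equiv.optionSubtypeNe j₀))
    refine ⟨e, fun i => ?_⟩
    by_cases hi : i = i₀
    · have : e i = j₀ := by simp [e, hi]
      rw [this, hi]
      exact ⟨asIso (α j₀)⟩
    · have : e i = (e' ⟨i, hi⟩ : J) := by simp [e, hi]
      rw [this]
      exact he' ⟨i, hi⟩

end category

end Groth.Agent.Lib.Lead.KS
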