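import Mathlib
import Groth.Agent.Lib.Lead.KrullSchmidt1
import Groth.Agent.Lib.Lead.VBCurve10

/-!
# Krull–Schmidt in Hom-finite linear abelian categories (lead)

* `Indec E`: `E` is nonzero and in any decomposition `E ≅ A ⊞ B` one summand is zero.
* `isLocalRing_end_of_indec`: `End E` is local for `E` indecomposable with `End E` finite-dimensional.
* `finrank_end_lt`: `dim End A < dim End F` for `F ≅ A ⊞ B`, `B ≠ 0`.
* `exists_decomp`: existence of decompositions into indecomposables.
* `unique_decomp`: uniqueness (for `Fin`-indexed coproducts).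
-/

set_option autoImplicit false
set_option linter.style.haveILetI false
set_option linter.unusedSectionVars false

universe v u
open CategoryTheory CategoryTheory.Limits

namespace Groth.Agent.Lib.Lead.KS

variable {C : Type u} [Category.{v} C] [Abelian C]

/-- indecomposable objects -/
def Indec (E : C) : Prop :=
  ¬ IsZero E ∧ ∀ A B : C, Nonempty (E ≅ A ⊞ B) → IsZero A ∨ IsZero B

section linear

variable (k : Type*) [Field k] [Linear k C]

/-- the endomorphism ring of an indecomposable object with finite-dimensional endomorphism algebra is local -/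
theorem isLocalRing_end_of_indec {E : C} [Module.Finite k (End E)] (h : Indec E) :
    IsLocalRing (End E) := by
  haveI : Nontrivial (End E) := by
    refine nontrivial_of_ne (1 : End E) 0 fun h0 => h.1 ?_
    rw [IsZero.iff_id_eq_zero]
    exact h0
  refine isLocalRing_of_idem k fun e he => ?_
  exact Groth.Agent.Lib.Lead.VBCurve.idem_eq_zero_or_one_of_indecomposable h.2 e he

/-- `dim End A < dim End F` if `F ≅ A ⊞ B` with `B ≠ 0` -/
theorem finrank_end_lt {F A B : C} (e : F ≅ A ⊞ B) (hB : ¬ IsZero B) [Module.Finite k (End F)] :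
    Module.finrank k (End A) < Module.finrank k (End F) := by
  let Ψ : (A ⟶ A) →ₗ[k] (F ⟶ F) :=
    (Linear.leftComp k F (e.hom ≫ biprod.fst)) ∘ₗ (Linear.rightComp k A (biprod.inl ≫ e.inv))
  have hΨ : ∀ a : A ⟶ A, Ψ a = (e.hom ≫ biprod.fst) ≫ a ≫ (biprod.inl ≫ e.inv) := fun a => rfl
  have hinj : Function.Injective Ψ := by
    rw [injective_iff_map_eq_zero]
    intro a ha
    have : a = (biprod.inl ≫ e.inv) ≫ Ψ a ≫ (e.hom ≫ biprod.fst) := by
      rw [hΨ]; simp
    rw [this, ha]; simp
  have hne : LinearMap.range Ψ ≠ ⊤ := by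
    intro htop
    have hmem : ((e.hom ≫ biprod.snd) ≫ (biprod.inr ≫ e.inv) : F ⟶ F) ∈ LinearMap.range Ψ := by
      rw [htop]; trivial
    obtain ⟨a, ha⟩ := hmem
    apply hB
    rw [IsZero.iff_id_eq_zero]
    have h1 : (biprod.inr ≫ e.inv) ≫ Ψ a ≫ (e.hom ≫ biprod.snd) = 0 := by
      rw [hΨ]; simp
    rw [ha] at h1
    simpa using h1
  have h1 : Module.finrank k (A ⟶ A) = Module.finrank k (LinearMap.range Ψ) :=
    (LinearMap.finrank_range_of_inj hinj).symm
  haveI : FiniteDimensional k (F ⟶ F) := inferInstanceAs (Module.Finite k (End F))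
  have h2 : Module.finrank k (LinearMap.range Ψ) < Module.finrank k (F ⟶ F) :=
    Submodule.finrank_lt hne
  exact h1 ▸ h2

end linear

section coprod

/-- an empty coproduct is zero -/
lemma isZero_sigma_of_isEmpty {I : Type} [IsEmpty I] (Fs : I → C) [HasCoproduct Fs] : IsZero (∐ Fs) := by
  rw [IsZero.iff_id_eq_zero]
  exact Sigma.hom_ext _ _ (fun i => isEmptyElim i)

/-- concatenation of two `Fin`-indexed coproducts -/
noncomputable def sigmaAppendIso {a b : ℕ} (As : Fin a → C) (Bs : Fin b → C) :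
    (∐ fun i : Fin (a + b) => Sum.elim As Bs (finSumFinEquiv.symm i)) ≅ (∐ As) ⊞ (∐ Bs) :=
  Sigma.reindex finSumFinEquiv.symm (Sum.elim As Bs) ≪≫
    (coproductIsCoproduct (Sum.elim As Bs)).coconePointUniqueUpToIso
      (Cofan.combPairIsColimit (coproductIsCoproduct As) (coproductIsCoproduct Bs)
        (coprodIsCoprod (∐ As) (∐ Bs))) ≪≫ (biprod.isoCoprod _ _).symm

end coprod

section main

attribute [local instance] Abelian.hasFiniteBiproducts

variable (k : Type*) [Field k] [Linear k C]

/-- existence of a decomposition into indecomposables, for objects satisfying a property `P` stable under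
isomorphisms and direct summands, all of whose members have finite-dimensional endomorphism algebras -/
theorem exists_decomp (P : C → Prop) (hPiso : ∀ {A B : C}, (A ≅ B) → P A → P B)
    (hPsum : ∀ {A B : C}, P (A ⊞ B) → P A ∧ P B)
    (hfin : ∀ A : C, P A → Module.Finite k (End A)) :
    ∀ (d : ℕ) (F : C), P F → Module.finrank k (End F) = d →
      ∃ (n : ℕ) (Fs : Fin n → C), (∀ i, Indec (Fs i) ∧ P (Fs i)) ∧ Nonempty (F ≅ ∐ Fs) := by
  intro d
  induction d using Nat.strong_induction_on with
  | _ d ih =>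
    intro F hF hd
    by_cases hz : IsZero F
    · exact ⟨0, fun i => Fin.elim0 i, fun i => Fin.elim0 i,
        ⟨hz.iso (isZero_sigma_of_isEmpty _)⟩⟩
    by_cases hind : ∀ A B : C, Nonempty (F ≅ A ⊞ B) → IsZero A ∨ IsZero B
    · exact ⟨1, fun _ => F, fun _ => ⟨⟨hz, hind⟩, hF⟩,
        ⟨(coproductUniqueIso (fun _ : Fin 1 => F)).symm⟩⟩
    · push Not at hind
      obtain ⟨A, B, ⟨e⟩, hA, hB⟩ := hind
      haveI := hfin F hF
      obtain ⟨hPA, hPB⟩ := hPsum (hPiso e hF)
      have hdA : Module.finrank k (End A) < d := hd ▸ finrank_end_lt k e hB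
      have hdB : Module.finrank k (End B) < d :=
        hd ▸ finrank_end_lt k (e ≪≫ biprod.braiding A B) hA
      obtain ⟨a, As, hAs, ⟨eA⟩⟩ := ih _ hdA A hPA rfl
      obtain ⟨b, Bs, hBs, ⟨eB⟩⟩ := ih _ hdB B hPB rfl
      refine ⟨a + b, fun i => Sum.elim As Bs (finSumFinEquiv.symm i), fun i => ?_,
        ⟨e ≪≫ biprod.mapIso eA eB ≪≫ (sigmaAppendIso As Bs).symm⟩⟩
      have : ∀ s : Fin a ⊕ Fin b, Indec (Sum.elim As Bs s) ∧ P (Sum.elim As Bs s) := by
        rintro (i | i)
        · exact hAs i
        · exact hBs i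
      exact this _

/-- uniqueness of decompositions into objects with local endomorphism rings -/
theorem unique_decomp {n m : ℕ} (Fs : Fin n → C) (Gs : Fin m → C)
    (hF : ∀ i, IsLocalRing (End (Fs i))) (hG : ∀ j, IsLocalRing (End (Gs j)))
    (e : ∐ Fs ≅ ∐ Gs) : ∃ σ : Fin n ≃ Fin m, ∀ i, Nonempty (Fs i ≅ Gs (σ i)) :=
  exists_equiv_of_iso n Fs Gs hF hG (Fintype.card_fin n)
    (biproduct.isoCoproduct Fs ≪≫ e ≪≫ (biproduct.isoCoproduct Gs).symm)

/-- a member of a finite coproduct is a direct summand -/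
theorem exists_iso_biprod_of_sigma {n : ℕ} (Fs : Fin n → C) (i : Fin n) :
    ∃ R : C, Nonempty (∐ Fs ≅ Fs i ⊞ R) :=
  ⟨_, ⟨(biproduct.isoCoproduct Fs).symm ≪≫ biproductSplit Fs i⟩⟩

end main

end Groth.Agent.Lib.Lead.KS
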