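import Mathlib
import Groth.Prelude.Def_KLin
import Groth.Agent.Lib.Lead.KrullSchmidt2
import Groth.Agent.Lib.Helper20.SheafHomLin
import Groth.Agent.Lib.Helper21.ShHomCoh2
import Groth.Agent.Lib.Helper11.FibLift9
import Groth.Agent.Lib.Helper9.CurveVanish
import Groth.Agent.Lib.Lead.ProperEuler
import Groth.Agent.Lib.Lead.CurveEuler
import Groth.Agent.Lib.Helper7.CohKer

/-!
# Hom-finiteness of coherent modules on proper schemes over a field, and Krull–Schmidt (lead)

* `finite_hom`: `Hom(F, G)` is finite-dimensional over `k` for `F`, `G` coherent on a proper `k`-scheme.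
* `isCoh_of_biprod`: direct summands of coherent modules are coherent.
-/

set_option autoImplicit false
set_option linter.style.haveILetI false
set_option linter.unusedSectionVars false
set_option backward.isDefEq.respectTransparency false

universe u
open CategoryTheory CategoryTheory.Limits AlgebraicGeometry Opposite TopologicalSpace

namespace Groth.Agent.Lib.Lead.KS

open Groth.Agent.Lib.helper9.CurveVanish Groth.Agent.Lib.Lead.ModTensor

variable (k : Type u) [Field k] (X : Scheme.{u}) [X.Over (Spec (CommRingCat.of k))]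
  [IsProper (X ↘ Spec (CommRingCat.of k))]

/-- every morphism `O ⟶ H` comes from a class in `H⁰` -/
lemma exists_secHom_eq {X : Scheme.{u}} (H : X.Modules) (s : Coh.structureModule X ⟶ H) :
    ∃ x : Coh.HH X H 0, secHom H x = s := by
  refine ⟨(Groth.Agent.Lib.Helper18.HH.equiv₀ H).symm
    ((s.val.app (op ⊤)).hom (1 : X.ringCatSheaf.obj.obj (op ⊤))), ?_⟩
  apply Groth.Agent.Lib.Helper20.SplitH1.hom_ext_top
  rw [secHom_top, LinearEquiv.apply_symm_apply]

/-- **Hom-finiteness** -/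
theorem finite_hom {F G : X.Modules} (hF : Coh.IsCoh F) (hG : Coh.IsCoh G) :
    Module.Finite k (F ⟶ G) := by
  haveI := Groth.Agent.Lib.Lead.CurveEuler.isNoetherian k X
  haveI : DCoh.HasSheafHom F := Groth.Agent.Lib.helper11.FibLift.hasSheafHom F
  have hH : Coh.IsCoh ((DCoh.sheafHom F).obj G) :=
    Groth.Agent.Lib.helper21.ShHomCoh.isCoh_dcohSheafHom hF hG
  haveI : Module.Finite k (Coh.HH X ((DCoh.sheafHom F).obj G) 0) :=
    Groth.Agent.Lib.Lead.ProperEuler.finite_HH k X _ hH 0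
  let Φ : (Coh.structureModule X ⟶ (DCoh.sheafHom F).obj G) → (F ⟶ G) := fun s =>
    (rightUnitor F).inv ≫ ((DCoh.sheafHomAdj F).homEquiv (Coh.structureModule X) G).symm s
  have hΦadd : ∀ s t, Φ (s + t) = Φ s + Φ t := by
    intro s t
    change (rightUnitor F).inv ≫ _ = (rightUnitor F).inv ≫ _ + (rightUnitor F).inv ≫ _
    rw [← Preadditive.comp_add]
    congr 1
    exact ((DCoh.sheafHomAdj F).homAddEquiv (Coh.structureModule X) G).symm.map_add s t
  have hΦsmul : ∀ (r : Coh.Γtop X) s, Φ (s ≫ Formal.smulModΓ _ r) = Φ s ≫ Formal.smulModΓ G r := by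
    intro r s
    change (rightUnitor F).inv ≫ _ = ((rightUnitor F).inv ≫ _) ≫ _
    rw [← Groth.Agent.Lib.Helper20.SheafHomLin.sheafHom_map_smulModΓ,
      Adjunction.homEquiv_naturality_right_symm, Category.assoc]
  let Ψ : Coh.HH X ((DCoh.sheafHom F).obj G) 0 →ₗ[k] (F ⟶ G) :=
    { toFun := fun x => Φ (secHom _ x)
      map_add' := fun x y => by rw [secHom_add, hΦadd]
      map_smul' := fun a x => by
        have h1 : (a • x : Coh.HH X ((DCoh.sheafHom F).obj G) 0) =
            (Coh.toGlobal (X ↘ Spec (CommRingCat.of k)) a) • x := rfl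
        rw [h1, secHom_smul, hΦsmul, RingHom.id_apply, KLin.smul_def, Formal.smulMod,
          KLin.comp_smulModΓ] }
  refine Module.Finite.of_surjective Ψ fun f => ?_
  obtain ⟨x, hx⟩ := exists_secHom_eq ((DCoh.sheafHom F).obj G)
    (((DCoh.sheafHomAdj F).homEquiv (Coh.structureModule X) G) ((rightUnitor F).hom ≫ f))
  refine ⟨x, ?_⟩
  change Φ (secHom _ x) = f
  rw [hx]
  change (rightUnitor F).inv ≫ _ = f
  rw [Equiv.symm_apply_apply, Iso.inv_hom_id_assoc]

/-- direct summands of coherent modules are coherent -/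
theorem isCoh_fst_of_biprod {X : Scheme.{u}} {A B : X.Modules} (h : Coh.IsCoh (A ⊞ B)) :
    Coh.IsCoh A := by
  have h1 : Coh.IsCoh (cokernel (biprod.snd ≫ biprod.inr : A ⊞ B ⟶ A ⊞ B)) :=
    Groth.Agent.Lib.helper7.CohKer.isCoh_cokernel h h _
  have e1 : cokernel (biprod.snd ≫ biprod.inr : A ⊞ B ⟶ A ⊞ B) ≅
      cokernel (biprod.inr : B ⟶ A ⊞ B) := cokernelEpiComp _ _
  have e2 : cokernel (biprod.inr : B ⟶ A ⊞ B) ≅ A :=
    (colimit.isColimit _).coconePointUniqueUpToIso (biprod.isCokernelInrCokernelFork A B)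
  exact Groth.Agent.Lib.helper21.ShHomCoh.isCoh_of_iso' (e1 ≪≫ e2) h1

theorem isCoh_of_biprod {X : Scheme.{u}} {A B : X.Modules} (h : Coh.IsCoh (A ⊞ B)) :
    Coh.IsCoh A ∧ Coh.IsCoh B :=
  ⟨isCoh_fst_of_biprod h, isCoh_fst_of_biprod
    (Groth.Agent.Lib.helper21.ShHomCoh.isCoh_of_iso' (biprod.braiding A B) h)⟩

include k in
/-- **Krull–Schmidt for coherent modules on a proper scheme over a field** -/
theorem krullSchmidt (F : X.Modules) (hF : Coh.IsCoh F) :
    (∃ (n : ℕ) (Fs : Fin n → X.Modules), (∀ i, Indec (Fs i)) ∧ Nonempty (F ≅ ∐ Fs)) ∧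
    (∀ (n m : ℕ) (Fs : Fin n → X.Modules) (Gs : Fin m → X.Modules),
      (∀ i, Indec (Fs i)) → (∀ j, Indec (Gs j)) → Nonempty (F ≅ ∐ Fs) → Nonempty (F ≅ ∐ Gs) →
      ∃ e : Fin n ≃ Fin m, ∀ i, Nonempty (Fs i ≅ Gs (e i))) := by
  have hfin : ∀ A : X.Modules, Coh.IsCoh A → Module.Finite k (End A) :=
    fun A hA => finite_hom k X hA hA
  have hsummand : ∀ {n : ℕ} (Fs : Fin n → X.Modules), Nonempty (F ≅ ∐ Fs) → ∀ i, Coh.IsCoh (Fs i) := by
    intro n Fs ⟨eF⟩ i
    obtain ⟨R, ⟨e⟩⟩ := exists_iso_biprod_of_sigma Fs i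
    exact (isCoh_of_biprod
      (Groth.Agent.Lib.helper21.ShHomCoh.isCoh_of_iso' (eF ≪≫ e) hF)).1
  constructor
  · obtain ⟨n, Fs, hFs, e⟩ := exists_decomp k (C := X.Modules) Coh.IsCoh
      (fun e h => Groth.Agent.Lib.helper21.ShHomCoh.isCoh_of_iso' e h)
      (fun h => isCoh_of_biprod h) hfin _ F hF rfl
    exact ⟨n, Fs, fun i => (hFs i).1, e⟩
  · intro n m Fs Gs hFs hGs hF' hG'
    have hlF : ∀ i, IsLocalRing (End (Fs i)) := fun i => by
      haveI := hfin _ (hsummand Fs hF' i)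
      exact isLocalRing_end_of_indec k (hFs i)
    have hlG : ∀ j, IsLocalRing (End (Gs j)) := fun j => by
      haveI := hfin _ (hsummand Gs hG' j)
      exact isLocalRing_end_of_indec k (hGs j)
    obtain ⟨eF⟩ := hF'
    obtain ⟨eG⟩ := hG'
    exact unique_decomp Fs Gs hlF hlG (eF.symm ≪≫ eG)

end Groth.Agent.Lib.Lead.KS
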