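import Mathlib
import Groth.Agent.Lib.Lead.KrullSchmidt2

/-!
# Multiplicities of indecomposable summands in a Krull–Schmidt class (lead)

`C` an abelian category, `P` a class of objects in which decompositions into indecomposables exist
and are unique (`KSClass P`, e.g. coherent modules on a proper scheme over a field).

* `mult h A c`: the number of summands of isomorphism class `c` in a decomposition of `A`.
* `mult_eq`: it can be computed from any decomposition; `mult_congr`, `mult_sigma`, `mult_biprod`,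
  `mult_indec`.
* `nonempty_iso_of_mult_eq`: objects with the same multiplicities are isomorphic.
* `mult_map_pos_iff`: the classes occurring in `T A`, `T` an additive functor.
-/

set_option autoImplicit false
set_option linter.style.haveILetI false
set_option linter.unusedSectionVars false

universe v u
open CategoryTheory CategoryTheory.Limits

namespace Groth.Agent.Lib.Lead.NoriFin

open Groth.Agent.Lib.Lead.KS

variable {C : Type u} [Category.{v} C] [Abelian C]

attribute [local instance] Abelian.hasFiniteBiproducts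

/-- isomorphism classes of objects -/
abbrev Cls (C : Type u) [Category.{v} C] := Quotient (isIsomorphicSetoid C)

/-- the isomorphism class of an object -/
def cls (A : C) : Cls C := Quotient.mk _ A

lemma cls_eq_iff {A B : C} : cls A = cls B ↔ Nonempty (A ≅ B) :=
  Quotient.eq (r := isIsomorphicSetoid C)

lemma nonempty_iso_out (A : C) : Nonempty ((cls A).out ≅ A) := by
  rw [← cls_eq_iff]; exact Quotient.out_eq _

/-- a class of objects with existence and uniqueness of decompositions into indecomposables -/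
structure KSClass (P : C → Prop) : Prop where
  of_iso : ∀ {A B : C}, (A ≅ B) → P A → P B
  sigma : ∀ {n : ℕ} (Fs : Fin n → C), (∀ i, P (Fs i)) → P (∐ Fs)
  biprod : ∀ {A B : C}, P A → P B → P (A ⊞ B)
  summand : ∀ {A B : C}, P (A ⊞ B) → P A ∧ P B
  ex : ∀ A, P A → ∃ (n : ℕ) (Fs : Fin n → C), (∀ i, Indec (Fs i)) ∧ Nonempty (A ≅ ∐ Fs)
  un : ∀ A, P A → ∀ (n m : ℕ) (Fs : Fin n → C) (Gs : Fin m → C), (∀ i, Indec (Fs i)) →
    (∀ j, Indec (Gs j)) → Nonempty (A ≅ ∐ Fs) → Nonempty (A ≅ ∐ Gs) →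
      ∃ e : Fin n ≃ Fin m, ∀ i, Nonempty (Fs i ≅ Gs (e i))

variable {P : C → Prop} (h : KSClass P)

open Classical in
/-- the multiplicity of the isomorphism class `c` in `A` -/
noncomputable def mult (A : C) (c : Cls C) : ℕ :=
  if hA : P A then
    Fintype.card {i : Fin (h.ex A hA).choose // cls ((h.ex A hA).choose_spec.choose i) = c}
  else 0

open Classical in
theorem mult_eq {A : C} (hA : P A) {I : Type} [Fintype I] (Fs : I → C) (hFs : ∀ i, Indec (Fs i))
    (e : A ≅ ∐ Fs) (c : Cls C) : mult h A c = Fintype.card {i : I // cls (Fs i) = c} := by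
  unfold mult
  rw [dif_pos hA]
  set n₀ := (h.ex A hA).choose
  set Gs := (h.ex A hA).choose_spec.choose
  have hGs : ∀ i, Indec (Gs i) := (h.ex A hA).choose_spec.choose_spec.1
  obtain ⟨eG⟩ := (h.ex A hA).choose_spec.choose_spec.2
  let eI : I ≃ Fin (Fintype.card I) := Fintype.equivFin I
  let Fs' : Fin (Fintype.card I) → C := Fs ∘ eI.symm
  have e' : A ≅ ∐ Fs' := e ≪≫ (Sigma.reindex eI.symm Fs).symm
  obtain ⟨σ, hσ⟩ := h.un A hA _ _ Gs Fs' hGs (fun j => hFs _) ⟨eG⟩ ⟨e'⟩
  refine Fintype.card_congr (Equiv.subtypeEquiv (σ.trans eI.symm) ?_)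
  intro i
  have : cls (Gs i) = cls (Fs (eI.symm (σ i))) := cls_eq_iff.2 (hσ i)
  simp only [Equiv.trans_apply]
  rw [this]

include h

theorem P_out {A : C} (hA : P A) : P (cls A).out :=
  h.of_iso (nonempty_iso_out A).some.symm hA

theorem mult_congr {A B : C} (hA : P A) (e : A ≅ B) (c : Cls C) : mult h A c = mult h B c := by
  obtain ⟨n, Fs, hFs, ⟨eB⟩⟩ := h.ex B (h.of_iso e hA)
  rw [mult_eq h hA Fs hFs (e ≪≫ eB), mult_eq h (h.of_iso e hA) Fs hFs eB]

open Classical in
theorem mult_indec {W : C} (hW : P W) (hi : Indec W) (c : Cls C) :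
    mult h W c = if cls W = c then 1 else 0 := by
  have e : W ≅ ∐ (fun _ : Fin 1 => W) :=
    { hom := Sigma.ι (fun _ : Fin 1 => W) 0
      inv := Sigma.desc (fun _ => 𝟙 W)
      hom_inv_id := by simp
      inv_hom_id := by
        apply Sigma.hom_ext
        intro i
        fin_cases i
        simp }
  rw [mult_eq h hW (fun _ : Fin 1 => W) (fun _ => hi) e]
  by_cases hc : cls W = c
  · rw [if_pos hc]
    rw [Fintype.card_eq_one_iff]
    exact ⟨⟨0, hc⟩, fun y => Subtype.ext (Subsingleton.elim _ _)⟩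
  · rw [if_neg hc, Fintype.card_eq_zero_iff]
    exact ⟨fun y => hc y.2⟩

theorem P_sigma {I : Type} [Fintype I] (As : I → C) (hAs : ∀ i, P (As i)) : P (∐ As) := by
  let eI : I ≃ Fin (Fintype.card I) := Fintype.equivFin I
  exact h.of_iso (Sigma.reindex eI.symm As) (h.sigma _ (fun j => hAs _))

open Classical in
theorem mult_sigma {I : Type} [Fintype I] (As : I → C) (hAs : ∀ i, P (As i)) (c : Cls C) :
    mult h (∐ As) c = ∑ i, mult h (As i) c := by
  choose n Fs hFs eFs using fun i => h.ex (As i) (hAs i)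
  have e : (∐ As) ≅ ∐ (fun x : (Σ i, Fin (n i)) => Fs x.fst x.snd) :=
    Sigma.mapIso (fun i => (eFs i).some) ≪≫ sigmaSigmaIso (fun i => Fin (n i)) (fun i j => Fs i j)
  rw [mult_eq h (P_sigma h As hAs) _ (fun x : (Σ i, Fin (n i)) => hFs x.fst x.snd) e]
  rw [Fintype.card_subtype, Finset.card_filter, Fintype.sum_sigma]
  refine Finset.sum_congr rfl (fun i _ => ?_)
  rw [mult_eq h (hAs i) (Fs i) (hFs i) (eFs i).some, Fintype.card_subtype, Finset.card_filter]

omit h in
/-- a coproduct over a sum type is the biproduct of the two coproducts -/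
noncomputable def sigmaSumIso {I J : Type} [Fintype I] [Fintype J] (As : I → C) (Bs : J → C) :
    (∐ (Sum.elim As Bs)) ≅ (∐ As) ⊞ (∐ Bs) :=
  (coproductIsCoproduct (Sum.elim As Bs)).coconePointUniqueUpToIso
      (Cofan.combPairIsColimit (coproductIsCoproduct As) (coproductIsCoproduct Bs)
        (coprodIsCoprod (∐ As) (∐ Bs))) ≪≫ (biprod.isoCoprod _ _).symm

open Classical in
theorem mult_biprod {A B : C} (hA : P A) (hB : P B) (c : Cls C) :
    mult h (A ⊞ B) c = mult h A c + mult h B c := by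
  obtain ⟨a, Fs, hFs, ⟨eA⟩⟩ := h.ex A hA
  obtain ⟨b, Gs, hGs, ⟨eB⟩⟩ := h.ex B hB
  have e : (A ⊞ B) ≅ ∐ (Sum.elim Fs Gs) := biprod.mapIso eA eB ≪≫ (sigmaSumIso Fs Gs).symm
  rw [mult_eq h (h.biprod hA hB) (Sum.elim Fs Gs) (fun x => by cases x <;> simp [hFs, hGs]) e,
    mult_eq h hA Fs hFs eA, mult_eq h hB Gs hGs eB]
  simp only [Fintype.card_subtype, Finset.card_filter, Fintype.sum_sum_type, Sum.elim_inl, Sum.elim_inr]
  congr!

open Classical in
/-- objects with the same multiplicities are isomorphic -/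
theorem nonempty_iso_of_mult_eq {A B : C} (hA : P A) (hB : P B)
    (hm : ∀ c, mult h A c = mult h B c) : Nonempty (A ≅ B) := by
  obtain ⟨a, Fs, hFs, ⟨eA⟩⟩ := h.ex A hA
  obtain ⟨b, Gs, hGs, ⟨eB⟩⟩ := h.ex B hB
  have hc : ∀ c, Fintype.card {i : Fin a // cls (Fs i) = c} = Fintype.card {j : Fin b // cls (Gs j) = c} := by
    intro c
    rw [← mult_eq h hA Fs hFs eA, ← mult_eq h hB Gs hGs eB, hm]
  let σ : Fin a ≃ Fin b :=
    (Equiv.sigmaFiberEquiv (fun i => cls (Fs i))).symm.trans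
      ((Equiv.sigmaCongrRight (fun c => Fintype.equivOfCardEq (hc c))).trans
        (Equiv.sigmaFiberEquiv (fun j => cls (Gs j))))
  have hσ : ∀ i, cls (Gs (σ i)) = cls (Fs i) := by
    intro i
    exact ((Fintype.equivOfCardEq (hc (cls (Fs i)))) ⟨i, rfl⟩).2
  exact ⟨eA ≪≫ Sigma.whiskerEquiv σ (fun i => (cls_eq_iff.1 (hσ i)).some) ≪≫ eB.symm⟩

open Classical in
theorem mult_pos_iff {A : C} (hA : P A) {I : Type} [Fintype I] (Fs : I → C) (hFs : ∀ i, Indec (Fs i))
    (e : A ≅ ∐ Fs) (c : Cls C) : 0 < mult h A c ↔ ∃ i, cls (Fs i) = c := by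
  rw [mult_eq h hA Fs hFs e, Fintype.card_pos_iff]
  exact ⟨fun ⟨x⟩ => ⟨x.1, x.2⟩, fun ⟨i, hi⟩ => ⟨⟨i, hi⟩⟩⟩

/-- a class occurring in `A` is the class of an indecomposable object of `P` -/
theorem indec_of_mult_pos {A : C} (hA : P A) {c : Cls C} (hc : 0 < mult h A c) :
    Indec c.out ∧ P c.out := by
  obtain ⟨n, Fs, hFs, ⟨e⟩⟩ := h.ex A hA
  obtain ⟨i, hi⟩ := (mult_pos_iff h hA Fs hFs e c).1 hc
  obtain ⟨R, ⟨eR⟩⟩ := exists_iso_biprod_of_sigma Fs i
  have hPi : P (Fs i) := (h.summand (h.of_iso (e ≪≫ eR) hA)).1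
  have eo : c.out ≅ Fs i := by
    rw [← hi]; exact (nonempty_iso_out (Fs i)).some
  refine ⟨?_, h.of_iso eo.symm hPi⟩
  refine ⟨fun hz => (hFs i).1 (hz.of_iso eo.symm), fun A' B' ⟨e'⟩ => (hFs i).2 A' B' ⟨eo.symm ≪≫ e'⟩⟩

/-- the classes occurring in `A` form a finite set -/
theorem finite_support {A : C} (hA : P A) : {c : Cls C | 0 < mult h A c}.Finite := by
  obtain ⟨n, Fs, hFs, ⟨e⟩⟩ := h.ex A hA
  refine (Set.finite_range (fun i => cls (Fs i))).subset ?_
  intro c hc
  obtain ⟨i, hi⟩ := (mult_pos_iff h hA Fs hFs e c).1 hc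
  exact ⟨i, hi⟩

/-- a direct summand contributes its classes -/
theorem mult_le_of_biprod {A B R : C} (hA : P A) (e : A ≅ B ⊞ R) (c : Cls C) :
    mult h B c ≤ mult h A c := by
  have hBR := h.summand (h.of_iso e hA)
  rw [mult_congr h hA e, mult_biprod h hBR.1 hBR.2]
  exact Nat.le_add_right _ _

section functor

variable (T : C ⥤ C) [T.Additive] (hT : ∀ A, P A → P (T.obj A))

include hT in
/-- the classes occurring in `T A` are those occurring in `T W`, `W` occurring in `A` -/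
theorem mult_map_pos_iff {A : C} (hA : P A) (c : Cls C) :
    0 < mult h (T.obj A) c ↔ ∃ c', 0 < mult h A c' ∧ 0 < mult h (T.obj c'.out) c := by
  obtain ⟨n, Fs, hFs, ⟨e⟩⟩ := h.ex A hA
  have hPi : ∀ i, P (Fs i) := by
    intro i
    obtain ⟨R, ⟨eR⟩⟩ := exists_iso_biprod_of_sigma Fs i
    exact (h.summand (h.of_iso (e ≪≫ eR) hA)).1
  have eT : T.obj A ≅ ∐ (fun i => T.obj (Fs i)) := T.mapIso e ≪≫ PreservesCoproduct.iso T Fs
  rw [mult_congr h (hT A hA) eT, mult_sigma h _ (fun i => hT _ (hPi i))]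
  constructor
  · intro hpos
    obtain ⟨i, -, hi⟩ := Finset.exists_ne_zero_of_sum_ne_zero hpos.ne'
    refine ⟨cls (Fs i), (mult_pos_iff h hA Fs hFs e _).2 ⟨i, rfl⟩, ?_⟩
    rw [mult_congr h (hT _ (P_out h (hPi i))) (T.mapIso (nonempty_iso_out (Fs i)).some)]
    exact Nat.pos_of_ne_zero hi
  · rintro ⟨c', hc', hpos⟩
    obtain ⟨i, hi⟩ := (mult_pos_iff h hA Fs hFs e c').1 hc'
    have : 0 < mult h (T.obj (Fs i)) c := by
      rw [← mult_congr h (hT _ (P_out h (hPi i))) (T.mapIso (nonempty_iso_out (Fs i)).some), hi]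
      exact hpos
    exact lt_of_lt_of_le this (Finset.single_le_sum (f := fun i => mult h (T.obj (Fs i)) c)
      (fun _ _ => Nat.zero_le _) (Finset.mem_univ i))

end functor

end Groth.Agent.Lib.Lead.NoriFin
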