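import Mathlib
import Groth.Agent.Lib.Lead.NoriFin1

/-!
# Nori's lemma on finite objects (lead)

`X : ℕ → C` a sequence of objects of a Krull–Schmidt class with `X (n+1) ≅ T (X n)` for an additive
functor `T` (e.g. `X n = E^{⊗ n}`, `T = - ⊗ E`), `poly X p = ⨁_i (X i)^{p_i}` for `p ∈ ℕ[t]`.

* `mult_poly`: multiplicities in `poly X p`.
* `exists_finset_of_poly_iso`: if `poly X p ≅ poly X q` with `p ≠ q` then only finitely many classes of
  indecomposables occur in the `X n`; the finite set can be taken stable under `T`.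
* `exists_poly_iso_of_finset`: conversely, if only finitely many classes occur then `poly X p ≅ poly X q`
  for some `p ≠ q`.
-/

set_option autoImplicit false
set_option linter.style.haveILetI false
set_option linter.unusedSectionVars false

universe v u
open CategoryTheory CategoryTheory.Limits

namespace Groth.Agent.Lib.Lead.NoriFin

open Groth.Agent.Lib.Lead.KS

variable {C : Type u} [Category.{v} C] [Abelian C]

attribute [local instance] Abelian.hasFiniteBiproducts

variable {P : C → Prop} (h : KSClass P)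

/-- `⨁_i (X i)^{p_i}` -/
noncomputable abbrev poly (X : ℕ → C) (p : Polynomial ℕ) : C :=
  ∐ fun i : Fin (p.natDegree + 1) => ∐ fun _ : Fin (p.coeff ↑i) => X ↑i

include h

theorem P_poly (X : ℕ → C) (hX : ∀ n, P (X n)) (p : Polynomial ℕ) : P (poly X p) :=
  P_sigma h _ (fun _ => P_sigma h _ (fun _ => hX _))

theorem mult_poly (X : ℕ → C) (hX : ∀ n, P (X n)) (p : Polynomial ℕ) (c : Cls C) :
    mult h (poly X p) c = ∑ i ∈ Finset.range (p.natDegree + 1), p.coeff i * mult h (X i) c := by
  rw [mult_sigma h _ (fun _ => P_sigma h _ (fun _ => hX _))]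
  rw [← Fin.sum_univ_eq_sum_range (fun i => p.coeff i * mult h (X i) c)]
  refine Finset.sum_congr rfl (fun i _ => ?_)
  rw [mult_sigma h _ (fun _ => hX _)]
  simp

theorem mult_poly' (X : ℕ → C) (hX : ∀ n, P (X n)) (p : Polynomial ℕ) (c : Cls C) (N : ℕ)
    (hN : p.natDegree + 1 ≤ N) :
    mult h (poly X p) c = ∑ i ∈ Finset.range N, p.coeff i * mult h (X i) c := by
  rw [mult_poly h X hX]
  refine Finset.sum_subset (Finset.range_subset_range.2 hN) ?_
  intro i _ hi
  rw [Finset.mem_range, not_lt] at hi
  rw [Polynomial.coeff_eq_zero_of_natDegree_lt (by omega), zero_mul]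

section functor

variable (T : C ⥤ C) [T.Additive] (hT : ∀ A, P A → P (T.obj A))

include hT in
/-- **Nori's lemma**, first half -/
theorem exists_finset_of_poly_iso (X : ℕ → C) (hX : ∀ n, P (X n))
    (eX : ∀ n, Nonempty (X (n + 1) ≅ T.obj (X n))) (p q : Polynomial ℕ) (hpq : p ≠ q)
    (e : Nonempty (poly X p ≅ poly X q)) :
    ∃ S : Finset (Cls C), (∀ n c, 0 < mult h (X n) c → c ∈ S) ∧ (∀ c ∈ S, Indec c.out ∧ P c.out) ∧
      (∀ c ∈ S, ∀ c', 0 < mult h (T.obj c.out) c' → c' ∈ S) := by
  classical
  obtain ⟨e⟩ := e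
  set N := max p.natDegree q.natDegree + 1 with hN
  have hsum : ∀ c, ∑ i ∈ Finset.range N, p.coeff i * mult h (X i) c =
      ∑ i ∈ Finset.range N, q.coeff i * mult h (X i) c := by
    intro c
    rw [← mult_poly' h X hX p c N (by omega), ← mult_poly' h X hX q c N (by omega)]
    exact mult_congr h (P_poly h X hX p) e c
  -- the top index where the coefficients differ
  let D := (Finset.range N).filter (fun i => p.coeff i ≠ q.coeff i)
  have hD : D.Nonempty := by
    by_contra hD
    rw [Finset.not_nonempty_iff_eq_empty] at hD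
    apply hpq
    ext i
    by_cases hi : i < N
    · by_contra hne
      have : i ∈ D := Finset.mem_filter.2 ⟨Finset.mem_range.2 hi, hne⟩
      rw [hD] at this
      exact absurd this (Finset.notMem_empty _)
    · rw [Polynomial.coeff_eq_zero_of_natDegree_lt (by omega),
        Polynomial.coeff_eq_zero_of_natDegree_lt (by omega)]
  set d := D.max' hD with hd
  have hdD : d ∈ D := Finset.max'_mem D hD
  have hdN : d < N := Finset.mem_range.1 (Finset.mem_filter.1 hdD).1
  have hdne : p.coeff d ≠ q.coeff d := (Finset.mem_filter.1 hdD).2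
  have hgt : ∀ i, i < N → d < i → p.coeff i = q.coeff i := by
    intro i hi hdi
    by_contra hne
    have : i ∈ D := Finset.mem_filter.2 ⟨Finset.mem_range.2 hi, hne⟩
    exact absurd (Finset.le_max' D i this) (by omega)
  have key : ∀ c, 0 < mult h (X d) c → ∃ i, i < d ∧ 0 < mult h (X i) c := by
    intro c hc
    by_contra hcon
    push Not at hcon
    have h0 : ∀ i, i < d → mult h (X i) c = 0 := fun i hi => Nat.le_zero.1 (hcon i hi)
    have h1 := hsum c
    rw [← Finset.add_sum_erase _ _ (Finset.mem_range.2 hdN),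
      ← Finset.add_sum_erase _ (fun i => q.coeff i * mult h (X i) c) (Finset.mem_range.2 hdN)] at h1
    have h2 : ∑ i ∈ (Finset.range N).erase d, p.coeff i * mult h (X i) c =
        ∑ i ∈ (Finset.range N).erase d, q.coeff i * mult h (X i) c := by
      refine Finset.sum_congr rfl (fun i hi => ?_)
      obtain ⟨hid, hiN⟩ := Finset.mem_erase.1 hi
      rw [Finset.mem_range] at hiN
      rcases lt_or_gt_of_ne hid with hlt | hgt'
      · rw [h0 i hlt, mul_zero, mul_zero]
      · rw [hgt i hiN hgt']
    rw [h2] at h1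
    have h3 : p.coeff d * mult h (X d) c = q.coeff d * mult h (X d) c := Nat.add_right_cancel h1
    exact hdne (Nat.eq_of_mul_eq_mul_right hc h3)
  -- the finite set
  have hfin : (⋃ i ∈ Finset.range d, {c : Cls C | 0 < mult h (X i) c}).Finite :=
    Set.Finite.biUnion (Finset.finite_toSet _) (fun i _ => finite_support h (hX i))
  have hmem : ∀ c, c ∈ hfin.toFinset ↔ ∃ i, i < d ∧ 0 < mult h (X i) c := by
    intro c
    rw [Set.Finite.mem_toFinset]
    simp only [Set.mem_iUnion, Finset.mem_range, Set.mem_ofPred_eq, exists_prop]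
  have hstep : ∀ n c', 0 < mult h (X (n + 1)) c' ↔
      ∃ c, 0 < mult h (X n) c ∧ 0 < mult h (T.obj c.out) c' := by
    intro n c'
    rw [mult_congr h (hX (n + 1)) (eX n).some]
    exact mult_map_pos_iff h T hT (hX n) c'
  have hdS : ∀ c, 0 < mult h (X d) c → c ∈ hfin.toFinset := fun c hc => (hmem c).2 (key c hc)
  have hτ : ∀ c ∈ hfin.toFinset, ∀ c', 0 < mult h (T.obj c.out) c' → c' ∈ hfin.toFinset := by
    intro c hc c' hc'
    obtain ⟨i, hid, hi⟩ := (hmem c).1 hc
    have h1 : 0 < mult h (X (i + 1)) c' := (hstep i c').2 ⟨c, hi, hc'⟩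
    by_cases hlt : i + 1 < d
    · exact (hmem c').2 ⟨i + 1, hlt, h1⟩
    · have : i + 1 = d := by omega
      rw [this] at h1
      exact hdS c' h1
  refine ⟨hfin.toFinset, ?_, ?_, hτ⟩
  · intro n
    induction n with
    | zero =>
      intro c hc
      by_cases h0 : 0 < d
      · exact (hmem c).2 ⟨0, h0, hc⟩
      · have hd0 : d = 0 := by omega
        have hc' : 0 < mult h (X d) c := by rw [hd0]; exact hc
        exact hdS c hc'
    | succ n ih =>
      intro c hc
      obtain ⟨c₀, hc₀, hc₁⟩ := (hstep n c).1 hc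
      exact hτ c₀ (ih c₀ hc₀) c hc₁
  · intro c hc
    obtain ⟨i, _, hi⟩ := (hmem c).1 hc
    exact indec_of_mult_pos h (hX i) hi

end functor

/-- **Nori's lemma**, second half -/
theorem exists_poly_iso_of_finset (X : ℕ → C) (hX : ∀ n, P (X n)) (S : Finset (Cls C))
    (hS : ∀ n c, 0 < mult h (X n) c → c ∈ S) :
    ∃ p q : Polynomial ℕ, p ≠ q ∧ Nonempty (poly X p ≅ poly X q) := by
  classical
  set s := S.card with hs
  let v : Fin (s + 1) → (S → ℤ) := fun n c => (mult h (X n) c.1 : ℤ)
  have hnli : ¬ LinearIndependent ℤ v := by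
    intro hli
    have := hli.fintype_card_le_finrank
    rw [Module.finrank_fintype_fun_eq_card, Fintype.card_fin, Fintype.card_coe] at this
    omega
  obtain ⟨g, hg, i₀, hi₀⟩ := Fintype.not_linearIndependent_iff.1 hnli
  let a : ℕ → ℕ := fun n => if hn : n < s + 1 then (g ⟨n, hn⟩).toNat else 0
  let b : ℕ → ℕ := fun n => if hn : n < s + 1 then (- g ⟨n, hn⟩).toNat else 0
  let p : Polynomial ℕ := ∑ n ∈ Finset.range (s + 1), Polynomial.monomial n (a n)
  let q : Polynomial ℕ := ∑ n ∈ Finset.range (s + 1), Polynomial.monomial n (b n)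
  have hpc : ∀ i, p.coeff i = a i := by
    intro i
    simp only [p, Polynomial.finsetSum_coeff, Polynomial.coeff_monomial]
    rw [Finset.sum_ite_eq' (Finset.range (s + 1)) i a]
    by_cases hi : i < s + 1
    · rw [if_pos (Finset.mem_range.2 hi)]
    · rw [if_neg (by simpa using hi)]
      show 0 = a i
      simp only [a]
      rw [dif_neg hi]
  have hqc : ∀ i, q.coeff i = b i := by
    intro i
    simp only [q, Polynomial.finsetSum_coeff, Polynomial.coeff_monomial]
    rw [Finset.sum_ite_eq' (Finset.range (s + 1)) i b]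
    by_cases hi : i < s + 1
    · rw [if_pos (Finset.mem_range.2 hi)]
    · rw [if_neg (by simpa using hi)]
      show 0 = b i
      simp only [b]
      rw [dif_neg hi]
  have hpd : p.natDegree + 1 ≤ s + 1 := by
    have : p.natDegree ≤ s := by
      rw [Polynomial.natDegree_le_iff_coeff_eq_zero]
      intro i hi
      rw [hpc]
      show a i = 0
      simp only [a]
      rw [dif_neg (by omega)]
    omega
  have hqd : q.natDegree + 1 ≤ s + 1 := by
    have : q.natDegree ≤ s := by
      rw [Polynomial.natDegree_le_iff_coeff_eq_zero]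
      intro i hi
      rw [hqc]
      show b i = 0
      simp only [b]
      rw [dif_neg (by omega)]
    omega
  have hab : ∀ (n : ℕ) (hn : n < s + 1), (a n : ℤ) - (b n : ℤ) = g ⟨n, hn⟩ := by
    intro n hn
    simp only [a, b, dif_pos hn]
    exact Int.toNat_sub_toNat_neg _
  refine ⟨p, q, ?_, ?_⟩
  · intro hpq
    have h1 : a i₀ = b i₀ := by rw [← hpc, ← hqc, hpq]
    have h2 := hab i₀ i₀.2
    rw [h1, sub_self] at h2
    exact hi₀ h2.symm
  · refine nonempty_iso_of_mult_eq h (P_poly h X hX p) (P_poly h X hX q) (fun c => ?_)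
    rw [mult_poly' h X hX p c (s + 1) hpd, mult_poly' h X hX q c (s + 1) hqd]
    simp only [hpc, hqc]
    by_cases hc : c ∈ S
    · have h1 := congrFun hg ⟨c, hc⟩
      simp only [Finset.sum_apply, Pi.smul_apply, v, smul_eq_mul, Pi.zero_apply] at h1
      rw [← Fin.sum_univ_eq_sum_range (fun n => a n * mult h (X n) c),
        ← Fin.sum_univ_eq_sum_range (fun n => b n * mult h (X n) c)]
      have h2 : (∑ n : Fin (s + 1), ((a n * mult h (X n) c : ℕ) : ℤ)) -
          ∑ n : Fin (s + 1), ((b n * mult h (X n) c : ℕ) : ℤ) = 0 := by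
        rw [← Finset.sum_sub_distrib, ← h1]
        refine Finset.sum_congr rfl (fun n _ => ?_)
        rw [← hab n n.2]
        push_cast
        ring
      have h3 := sub_eq_zero.1 h2
      exact_mod_cast h3
    · have h0 : ∀ n, mult h (X n) c = 0 := by
        intro n
        by_contra hne
        exact hc (hS n c (Nat.pos_of_ne_zero hne))
      simp [h0]

end Groth.Agent.Lib.Lead.NoriFin
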