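import Mathlib
import Groth.Agent.Lib.Lead.NoriFin2
import Groth.Agent.Lib.Lead.KrullSchmidt3
import Groth.Agent.Lib.Lead.HilbPos12
import Groth.Agent.Lib.Helper8.FiniteGeneric
import Groth.Agent.Lib.Helper12.TensorCocont
import Groth.Agent.Lib.Helper18.DegCalc

/-!
# Finite modules in the sense of Weil–Nori on proper schemes over a field (lead)

`X` proper over a field `k`.  Coherent modules form a Krull–Schmidt class (`ksClass_isCoh`); for a
coherent `E`, with `X n = E^{⊗ n}` and `T = - ⊗ E`:

* `WFin E`: `∃ P ≠ Q ∈ ℕ[t], P(E) ≅ Q(E)`.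
* `wFin_iff`: `E` is finite iff only finitely many isomorphism classes of indecomposables occur in the
  tensor powers of `E`.
* `tensorPowMap`: functoriality of tensor powers; `exists_iso_biprod_of_retract`.
-/

set_option autoImplicit false
set_option backward.isDefEq.respectTransparency false
set_option linter.style.haveILetI false
set_option linter.unusedSectionVars false

universe u
open CategoryTheory CategoryTheory.Limits AlgebraicGeometry

namespace Groth.Agent.Lib.Lead.NoriFin

open Groth.Agent.Lib.Lead.KS Groth.Agent.Lib.Helper20.TensorEquiv KoszTw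

variable (k : Type u) [Field k] (X : Scheme.{u}) [X.Over (Spec (CommRingCat.of k))]
  [IsProper (X ↘ Spec (CommRingCat.of k))]

attribute [local instance] Abelian.hasFiniteBiproducts

include k in
/-- coherent modules on a proper `k`-scheme form a Krull–Schmidt class -/
theorem ksClass_isCoh : KSClass (C := X.Modules) Coh.IsCoh := by
  haveI := Groth.Agent.Lib.Lead.CurveEuler.isNoetherian k X
  exact
  { of_iso := fun e hA => Groth.Agent.Lib.helper21.ShHomCoh.isCoh_of_iso' e hA
    sigma := fun Fs hFs => Groth.Agent.Lib.helper21.ShHomCoh.isCoh_of_iso'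
      (biproduct.isoCoproduct Fs) (Groth.Agent.Lib.helper8.Dev.isCoh_biproduct Fs hFs)
    biprod := fun {A B} hA hB => Groth.Agent.Lib.Lead.HilbPos.isCoh_of_extension _
      (ShortComplex.Splitting.ofHasBinaryBiproduct A B).shortExact hA hB
    summand := fun hAB => isCoh_of_biprod hAB
    ex := fun A hA => (krullSchmidt k X A hA).1
    un := fun A hA => (krullSchmidt k X A hA).2 }

/-- finiteness in the sense of Weil -/
def WFin {X : Scheme.{u}} (E : X.Modules) : Prop :=
  ∃ P Q : Polynomial ℕ, P ≠ Q ∧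
    Nonempty ((∐ fun i : Fin (P.natDegree + 1) => ∐ fun _ : Fin (P.coeff ↑i) => CohB1.tensorPow E ↑i) ≅
      (∐ fun i : Fin (Q.natDegree + 1) => ∐ fun _ : Fin (Q.coeff ↑i) => CohB1.tensorPow E ↑i))

variable {X}

theorem isCoh_tensorPow [IsLocallyNoetherian X] {E : X.Modules} (hE : Coh.IsCoh E) (n : ℕ) :
    Coh.IsCoh (CohB1.tensorPow E n) := by
  induction n with
  | zero => exact Groth.Agent.Lib.helper8.Dev.isCoh_structureModule X
  | succ n ih => exact Groth.Agent.Lib.Helper18.DegCalc.isCoh_tensorMod ih hE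

include k in
/-- **Nori's lemma** for coherent modules on proper schemes -/
theorem wFin_iff {E : X.Modules} (hE : Coh.IsCoh E) :
    WFin E ↔ ∃ S : Finset (Cls X.Modules),
      (∀ n c, 0 < mult (ksClass_isCoh k X) (CohB1.tensorPow E n) c → c ∈ S) ∧
      (∀ c ∈ S, Indec c.out ∧ Coh.IsCoh c.out) ∧
      (∀ c ∈ S, ∀ c', 0 < mult (ksClass_isCoh k X) (CohB1.tensorMod c.out E) c' → c' ∈ S) := by
  haveI := Groth.Agent.Lib.Lead.CurveEuler.isNoetherian k X
  constructor
  · rintro ⟨P, Q, hPQ, e⟩
    exact exists_finset_of_poly_iso (ksClass_isCoh k X) (tensorRight E)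
      (fun A hA => Groth.Agent.Lib.Helper18.DegCalc.isCoh_tensorMod hA hE)
      (CohB1.tensorPow E) (isCoh_tensorPow hE) (fun n => ⟨Iso.refl _⟩) P Q hPQ e
  · rintro ⟨S, hS, -, -⟩
    exact exists_poly_iso_of_finset (ksClass_isCoh k X) (CohB1.tensorPow E) (isCoh_tensorPow hE) S hS

include k in
theorem wFin_of_finset {E : X.Modules} (hE : Coh.IsCoh E) (S : Finset (Cls X.Modules))
    (hS : ∀ n c, 0 < mult (ksClass_isCoh k X) (CohB1.tensorPow E n) c → c ∈ S) : WFin E := by
  haveI := Groth.Agent.Lib.Lead.CurveEuler.isNoetherian k X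
  exact exists_poly_iso_of_finset (ksClass_isCoh k X) (CohB1.tensorPow E) (isCoh_tensorPow hE) S hS

/-- functoriality of tensor powers -/
noncomputable def tensorPowMap {E F : X.Modules} (f : E ⟶ F) :
    ∀ n, CohB1.tensorPow E n ⟶ CohB1.tensorPow F n
  | 0 => 𝟙 _
  | n + 1 => tensorMap (tensorPowMap f n) f

theorem tensorPowMap_id (E : X.Modules) (n : ℕ) : tensorPowMap (𝟙 E) n = 𝟙 _ := by
  induction n with
  | zero => rfl
  | succ n ih =>
    show tensorMap (tensorPowMap (𝟙 E) n) (𝟙 E) = 𝟙 _
    rw [ih]; exact tensorMap_id _ _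

theorem tensorPowMap_comp {E F G : X.Modules} (f : E ⟶ F) (g : F ⟶ G) (n : ℕ) :
    tensorPowMap (f ≫ g) n = tensorPowMap f n ≫ tensorPowMap g n := by
  induction n with
  | zero => exact (Category.comp_id _).symm
  | succ n ih =>
    show tensorMap (tensorPowMap (f ≫ g) n) (f ≫ g) = tensorMap _ f ≫ tensorMap _ g
    rw [ih]; exact tensorMap_comp _ _ _ _

/-- a retract in an abelian category is a direct summand -/
theorem exists_iso_biprod_of_retract {C : Type*} [Category C] [Abelian C] {A B : C} (i : A ⟶ B)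
    (p : B ⟶ A) (hip : i ≫ p = 𝟙 A) : ∃ R : C, Nonempty (B ≅ A ⊞ R) := by
  refine ⟨kernel p, ⟨?_⟩⟩
  refine
    { hom := biprod.lift p (kernel.lift p (𝟙 B - p ≫ i) (by simp [hip]))
      inv := biprod.desc i (kernel.ι p)
      hom_inv_id := ?_
      inv_hom_id := ?_ }
  · simp
  · apply biprod.hom_ext'
    · apply biprod.hom_ext
      · simp [hip]
      · apply (cancel_mono (kernel.ι p)).1
        simp only [Category.assoc, biprod.inl_desc_assoc, biprod.lift_snd, kernel.lift_ι, biprod.inl_snd,
          zero_comp, Preadditive.comp_sub, Category.comp_id]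
        rw [← Category.assoc, hip, Category.id_comp, sub_self]
    · apply biprod.hom_ext
      · simp
      · apply (cancel_mono (kernel.ι p)).1
        simp

include k in
/-- a direct summand (retract) of a finite module is finite -/
theorem wFin_of_retract {E F : X.Modules} (hE : Coh.IsCoh E) (hF : Coh.IsCoh F) (i : F ⟶ E) (p : E ⟶ F)
    (hip : i ≫ p = 𝟙 F) (h : WFin E) : WFin F := by
  haveI := Groth.Agent.Lib.Lead.CurveEuler.isNoetherian k X
  obtain ⟨S, hS, -, -⟩ := (wFin_iff k hE).1 h
  refine wFin_of_finset k hF S (fun n c hc => hS n c ?_)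
  obtain ⟨R, ⟨e⟩⟩ := exists_iso_biprod_of_retract (tensorPowMap i n) (tensorPowMap p n)
    (by rw [← tensorPowMap_comp, hip, tensorPowMap_id])
  exact lt_of_lt_of_le hc (mult_le_of_biprod (ksClass_isCoh k X) (isCoh_tensorPow hE n) e c)

end Groth.Agent.Lib.Lead.NoriFin
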