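import Mathlib
import Groth.Prelude.Def_W4c1astiltbs12AS
import Groth.Agent.Lib.Lead.HomBC2
import Groth.Agent.Lib.Lead.NoriFin3
import Groth.Agent.Lib.Lead.SerreFin2
import Groth.Agent.Lib.Lead.RankAdd
import Groth.Agent.Lib.Helper12.EpiDescent

/-!
# Absolutely isotypical bundles on proper schemes over a field: base layer (lead)

`p : X ⟶ Spec k` proper, `K / k` a field extension, `π = W4c1astiltbs12.proj p K : X_K ⟶ X`,
`bcMod p K M = π^* M`, `pow M n = M^{⊕ n}`.
* `nonempty_iso_of_pow_iso`: in a Krull–Schmidt class, `W^s ≅ W'^r` with `W`, `W'` indecomposable, `s > 0` ⇒ `W ≅ W'`.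
* instances `Flat`, `Surjective`, `IsAffineHom` for `proj p K`.
* `isZero_of_isZero_bcMod`, `bcModPow : (M^n)_K ≅ (M_K)^n`, `powSwap : (W^r)^s ≅ (W^s)^r`, `pow_zero_isZero`.
* `nonempty_iso_of_bcMod_iso`: **Noether–Deuring** for finite locally free modules: `E_K ≅ E'_K ⇒ E ≅ E'`.
* `ksClass`: coherent modules on `X` form a Krull–Schmidt class (`NoriFin.KSClass`).
* `nonempty_iso_of_isotypical`: indecomposable finite locally free `E`, `E'` with `E_K ≅ W^r`, `E'_K ≅ W^s` are
  isomorphic (= S13688).
-/

set_option autoImplicit false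
set_option linter.style.haveILetI false
set_option linter.unusedSectionVars false

universe u u₁ v₁
open CategoryTheory CategoryTheory.Limits AlgebraicGeometry Opposite TopologicalSpace TensorProduct

namespace Groth.Agent.Lib.Lead.HomBC

open W4c1astiltbs12 Groth.Agent.Lib.Lead.KS Groth.Agent.Lib.Lead.NoriFin

attribute [local instance] Abelian.hasFiniteBiproducts

section KSpow

variable {C : Type u₁} [Category.{v₁} C] [Abelian C] {P : C → Prop} (h : KSClass P)

include h in
/-- in a Krull–Schmidt class, `W^s ≅ W'^r` with `W`, `W'` indecomposable and `s > 0` forces `W ≅ W'` -/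
theorem nonempty_iso_of_pow_iso {W W' : C} (hW : P W) (hW' : P W') (hi : Indec W) (hi' : Indec W')
    {r s : ℕ} (hs : 0 < s) (e : (∐ fun _ : Fin s => W) ≅ ∐ fun _ : Fin r => W') :
    Nonempty (W ≅ W') := by
  classical
  have h1 : mult h (∐ fun _ : Fin s => W) (cls W) = s := by
    rw [mult_sigma h _ (fun _ => hW)]
    simp [mult_indec h hW hi]
  have h2 : mult h (∐ fun _ : Fin r => W') (cls W) = if cls W' = cls W then r else 0 := by
    rw [mult_sigma h _ (fun _ => hW')]
    simp only [mult_indec h hW' hi']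
    split_ifs <;> simp
  have h3 := mult_congr h (P_sigma h _ (fun _ : Fin s => hW)) e (cls W)
  rw [h1, h2] at h3
  by_cases hc : cls W' = cls W
  · exact (cls_eq_iff.mp hc.symm)
  · rw [if_neg hc] at h3
    omega

end KSpow

section ASB

variable (k : Type u) [Field k] {X : Scheme.{u}} (p : X ⟶ Spec (CommRingCat.of k))
  (K : Type u) [Field K] [Algebra k K]

theorem flat_surjective_specMap :
    Flat (Spec.map (CommRingCat.ofHom (algebraMap k K))) ∧
      Surjective (Spec.map (CommRingCat.ofHom (algebraMap k K))) := by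
  rw [flat_and_surjective_SpecMap_iff]
  exact (RingHom.faithfullyFlat_algebraMap_iff (R := k) (S := K)).mpr inferInstance

instance : Flat (proj p K) := by
  haveI := (flat_surjective_specMap k K).1
  unfold proj
  infer_instance

instance : Surjective (proj p K) := by
  haveI := (flat_surjective_specMap k K).2
  unfold proj
  infer_instance

instance : IsAffineHom (proj p K) := by
  unfold proj
  exact MorphismProperty.pullback_fst (P := @IsAffineHom) _ _ inferInstance

/-- base change to `X_K` detects zero quasi-coherent modules -/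
theorem isZero_of_isZero_bcMod (E : X.Modules) [E.IsQuasicoherent] (h : IsZero (bcMod p K E)) :
    IsZero E := by
  haveI : Epi ((Scheme.Modules.pullback (proj p K)).map (0 : E ⟶ E)) := by
    rw [Functor.map_zero]
    exact ⟨fun a b _ => h.eq_of_src a b⟩
  haveI : Epi (0 : E ⟶ E) :=
    Groth.Agent.Lib.helper12.EpiDescent.epi_of_epi_pullback (proj p K) (0 : E ⟶ E) inferInstance
  exact IsZero.of_epi_eq_zero (0 : E ⟶ E) rfl

/-- base change commutes with finite direct sums -/
noncomputable def bcModPow (E : X.Modules) (n : ℕ) : bcMod p K (pow E n) ≅ pow (bcMod p K E) n :=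
  haveI : PreservesColimitsOfSize.{0, 0} (Scheme.Modules.pullback (proj p K)) :=
    (Scheme.Modules.pullbackPushforwardAdjunction (proj p K)).leftAdjoint_preservesColimits
  PreservesCoproduct.iso (Scheme.Modules.pullback (proj p K)) (fun _ : Fin n => E)

/-- `(W^r)^s ≅ (W^s)^r` -/
noncomputable def powSwap {Y : Scheme.{u}} (W : Y.Modules) (r s : ℕ) :
    pow (pow W r) s ≅ pow (pow W s) r :=
  sigmaSigmaIso (fun _ : Fin s => Fin r) (fun _ _ => W) ≪≫
    (Sigma.reindex ((Equiv.sigmaEquivProd (Fin s) (Fin r)).trans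
      ((Equiv.prodComm _ _).trans (Equiv.sigmaEquivProd (Fin r) (Fin s)).symm))
      (fun _ : (Σ _ : Fin r, Fin s) => W) :
      (∐ fun _ : (Σ _ : Fin s, Fin r) => W) ≅ ∐ fun _ : (Σ _ : Fin r, Fin s) => W) ≪≫
    (sigmaSigmaIso (fun _ : Fin r => Fin s) (fun _ _ => W)).symm

theorem pow_zero_isZero {Y : Scheme.{u}} (W : Y.Modules) : IsZero (pow W 0) :=
  (Groth.Agent.Lib.Lead.SerreFin.isInitialSigmaOfIsEmpty (fun _ : Fin 0 => W)).isZero

variable [IsProper p]

/-- **Noether–Deuring** for finite locally free modules on a proper `k`-scheme -/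
theorem nonempty_iso_of_bcMod_iso {E E' : X.Modules} (hE : FlatMod.IsFinLocFree E)
    (hE' : FlatMod.IsFinLocFree E') (e : bcMod p K E ≅ bcMod p K E') : Nonempty (E ≅ E') := by
  letI : X.Over (Spec (CommRingCat.of k)) := ⟨p⟩
  letI : (W4bk4gw11416.baseChange p K).Over (Spec (CommRingCat.of K)) :=
    ⟨pullback.snd p (Spec.map (CommRingCat.ofHom (algebraMap k K)))⟩
  haveI : IsProper (X ↘ Spec (CommRingCat.of k)) := ‹IsProper p›
  have H : IsPullback (proj p K) ((W4bk4gw11416.baseChange p K) ↘ Spec (CommRingCat.of K))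
      (X ↘ Spec (CommRingCat.of k)) (Spec.map (CommRingCat.ofHom (algebraMap k K))) :=
    IsPullback.of_hasPullback p (Spec.map (CommRingCat.ofHom (algebraMap k K)))
  haveI : CompactSpace X := QuasiCompact.compactSpace_of_compactSpace p
  haveI : QuasiSeparatedSpace X := quasiSeparatedSpace_of_quasiSeparated p
  have hT : FlatMod.IsFinLocFree (E ⊞ E') :=
    Groth.Agent.Lib.helper16.FLF.isFinLocFree_biprod hE hE'
  haveI : Module.Finite k (E ⊞ E' ⟶ E) :=
    finite_hom k X (Groth.Agent.Lib.Lead.RankAdd.isCoh_of_isFinLocFree hT)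
      (Groth.Agent.Lib.Lead.RankAdd.isCoh_of_isFinLocFree hE)
  haveI : Module.Finite k (E ⊞ E' ⟶ E') :=
    finite_hom k X (Groth.Agent.Lib.Lead.RankAdd.isCoh_of_isFinLocFree hT)
      (Groth.Agent.Lib.Lead.RankAdd.isCoh_of_isFinLocFree hE')
  exact nonempty_iso_of_pullback_iso (proj p K) H hE hE' e

include p in
/-- coherent modules on the proper `k`-scheme `X` form a Krull–Schmidt class -/
theorem ksClass : KSClass (C := X.Modules) Coh.IsCoh := by
  letI : X.Over (Spec (CommRingCat.of k)) := ⟨p⟩
  haveI : IsProper (X ↘ Spec (CommRingCat.of k)) := ‹IsProper p›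
  exact ksClass_isCoh k X

/-- two indecomposable finite locally free modules which are isotypical of the same type `W` after
base change to `K` are isomorphic -/
theorem nonempty_iso_of_isotypical (W : (W4bk4gw11416.baseChange p K).Modules) {E E' : X.Modules}
    (hE : FlatMod.IsFinLocFree E) (hE' : FlatMod.IsFinLocFree E') (hEi : Indec E) (hE'i : Indec E')
    (r s : ℕ) (eE : bcMod p K E ≅ pow W r) (eE' : bcMod p K E' ≅ pow W s) : Nonempty (E ≅ E') := by
  have hs : 0 < s := by
    rcases Nat.eq_zero_or_pos s with h0 | h0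
    · exfalso
      subst h0
      haveI : E'.IsQuasicoherent :=
        Groth.Agent.Lib.helper16.FLF.isQuasicoherent_of_isFinLocFree _ hE'
      exact hE'i.1 (isZero_of_isZero_bcMod k p K E' ((pow_zero_isZero W).of_iso eE'))
    · exact h0
  have e1 : bcMod p K (pow E s) ≅ bcMod p K (pow E' r) :=
    bcModPow k p K E s ≪≫ Sigma.mapIso (fun _ => eE) ≪≫ powSwap W r s ≪≫
      (Sigma.mapIso (fun _ => eE')).symm ≪≫ (bcModPow k p K E' r).symm
  obtain ⟨e2⟩ := nonempty_iso_of_bcMod_iso k p K
    (Groth.Agent.Lib.Lead.SerreFin.isFinLocFree_sigma _ (fun _ => hE))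
    (Groth.Agent.Lib.Lead.SerreFin.isFinLocFree_sigma _ (fun _ => hE')) e1
  exact nonempty_iso_of_pow_iso (ksClass k p)
    (Groth.Agent.Lib.Lead.RankAdd.isCoh_of_isFinLocFree hE)
    (Groth.Agent.Lib.Lead.RankAdd.isCoh_of_isFinLocFree hE') hEi hE'i hs e2

end ASB

end Groth.Agent.Lib.Lead.HomBC
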