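import Mathlib
import Groth.Prelude.Def_RelProj
import Groth.Agent.Lib.Lead.ProjMapG

set_option autoImplicit false
set_option backward.isDefEq.respectTransparency false
set_option backward.isDefEq.respectTransparency.types false

universe u

/-! Local study (over the affine opens of the base) of morphisms of relative homogeneous spectra. -/

namespace Groth.Agent.Lib.Lead.RelProjLocal

open AlgebraicGeometry CategoryTheory CategoryTheory.Limits Opposite TopologicalSpace
open scoped HomogeneousIdeal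

variable {Y PA PB : Scheme.{u}} {𝒜 ℬ : RelProj.QCGrAlg Y}

/-- The structure maps into degree zero are compatible with a graded homomorphism. -/
theorem strZero_comp (φ : 𝒜.toQCAlg ⟶ ℬ.toQCAlg) (hφ : RelProj.IsGradedHom φ)
    (U : Y.Opens) (hU : IsAffineOpen U) :
    𝒜.strZero U hU ≫ CommRingCat.ofHom (RelProj.gradedHomAt φ hφ U hU).gradedZeroRingHom =
      ℬ.strZero U hU := by
  ext r
  exact congrArg (fun f => (f.app (op U)).hom r) φ.comm

/-- The preimages of the affine opens of the base cover the source. -/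
theorem isOpenCover_preimage {P : Scheme.{u}} (p : P ⟶ Y) :
    IsOpenCover (fun U : Y.affineOpens => p ⁻¹ᵁ (U : Y.Opens)) := by
  change ⨆ U : Y.affineOpens, p ⁻¹ᵁ (U : Y.Opens) = ⊤
  rw [← Scheme.Hom.preimage_iSup, iSup_affineOpens_eq_top]
  rfl

variable (φ : 𝒜.toQCAlg ⟶ ℬ.toQCAlg) (hφ : RelProj.IsGradedHom φ)
  (hirr : ∀ (U : Y.Opens) (hU : IsAffineOpen U),
    (ℬ.deg U hU)₊ ≤ ((𝒜.deg U hU)₊).map (RelProj.gradedHomAt φ hφ U hU))
  {pA : PA ⟶ Y} {pB : PB ⟶ Y}
  {chartA : ∀ (U : Y.Opens) (hU : IsAffineOpen U),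
    (((pA ⁻¹ᵁ U : PA.Opens) : Scheme.{u}) ≅ Proj (𝒜.deg U hU))}
  {chartB : ∀ (U : Y.Opens) (hU : IsAffineOpen U),
    (((pB ⁻¹ᵁ U : PB.Opens) : Scheme.{u}) ≅ Proj (ℬ.deg U hU))}

include hirr in
/-- A morphism of relative Proj's induced by a graded homomorphism is a morphism over the base. -/
theorem comp_eq (hA : RelProj.IsRelProj 𝒜 pA chartA) (hB : RelProj.IsRelProj ℬ pB chartB)
    (h : PB ⟶ PA) (hh : RelProj.IsRelProjMap φ hφ hirr chartA chartB h) : h ≫ pA = pB := by
  refine (PB.openCoverOfIsOpenCover _ (isOpenCover_preimage pB)).hom_ext _ _ fun U => ?_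
  obtain ⟨U, hU⟩ := U
  change (pB ⁻¹ᵁ U).ι ≫ h ≫ pA = (pB ⁻¹ᵁ U).ι ≫ pB
  rw [← Category.assoc, hh U hU]
  simp only [Category.assoc]
  rw [← hA.chart_over U hU, ← hB.chart_over U hU, Iso.inv_hom_id_assoc,
    ← strZero_comp φ hφ U hU, Spec.map_comp, Category.assoc,
    reassoc_of% (Groth.Agent.Lib.Lead.ProjMapG.map_toSpecZero
      (RelProj.gradedHomAt φ hφ U hU) (hirr U hU))]

include hirr in
/-- A property local at the target holds for a morphism of relative Proj's as soon as it holds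
for the morphisms of Proj's over all affine opens of the base. -/
theorem of_forall_affine (P : MorphismProperty Scheme.{u}) [IsZariskiLocalAtTarget P]
    (hA : RelProj.IsRelProj 𝒜 pA chartA) (hB : RelProj.IsRelProj ℬ pB chartB)
    (h : PB ⟶ PA) (hh : RelProj.IsRelProjMap φ hφ hirr chartA chartB h)
    (H : ∀ (U : Y.Opens) (hU : IsAffineOpen U),
      P (Proj.map (RelProj.gradedHomAt φ hφ U hU) (hirr U hU))) : P h := by
  have hcomm := comp_eq φ hφ hirr hA hB h hh
  refine IsZariskiLocalAtTarget.of_iSup_eq_top (P := P)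
    (fun U : Y.affineOpens => pA ⁻¹ᵁ (U : Y.Opens)) (isOpenCover_preimage pA) ?_
  rintro ⟨U, hU⟩
  change P (h ∣_ (pA ⁻¹ᵁ U))
  have hpre : h ⁻¹ᵁ (pA ⁻¹ᵁ U) = pB ⁻¹ᵁ U := by
    rw [← Scheme.Hom.comp_preimage, hcomm]
  have key : h ∣_ (pA ⁻¹ᵁ U) = (PB.isoOfEq hpre).hom ≫ (chartB U hU).hom ≫
      Proj.map (RelProj.gradedHomAt φ hφ U hU) (hirr U hU) ≫ (chartA U hU).inv := by
    rw [← cancel_mono (pA ⁻¹ᵁ U).ι, morphismRestrict_ι]
    simp only [Category.assoc]
    rw [← hh U hU, Scheme.isoOfEq_hom_ι_assoc]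
  rw [key, P.cancel_left_of_respectsIso, P.cancel_left_of_respectsIso,
    P.cancel_right_of_respectsIso]
  exact H U hU

end Groth.Agent.Lib.Lead.RelProjLocal
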