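import Mathlib
import Groth.Prelude.Def_RelProj
import Groth.Agent.Lib.Lead.RelProjLocal

set_option autoImplicit false
set_option backward.isDefEq.respectTransparency false
set_option backward.isDefEq.respectTransparency.types false

universe u

/-! Gluing the chart-wise morphisms `Proj ℬ(U) ⟶ Proj 𝒜(U)` to a morphism of relative Proj's. -/

namespace Groth.Agent.Lib.Lead.RelProjGlue

open AlgebraicGeometry CategoryTheory CategoryTheory.Limits Opposite TopologicalSpace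
open scoped HomogeneousIdeal

/-- Morphisms out of an open subscheme agree as soon as they agree locally. -/
theorem opens_hom_ext {X Z : Scheme.{u}} {W : X.Opens} (a b : (W : Scheme.{u}) ⟶ Z)
    (H : ∀ x : X, x ∈ W → ∃ (N : X.Opens) (hN : N ≤ W), x ∈ N ∧
      X.homOfLE hN ≫ a = X.homOfLE hN ≫ b) : a = b := by
  refine Scheme.hom_ext_of_forall a b ?_
  intro x
  obtain ⟨N, hN, hxN, e⟩ := H x.1 x.2
  refine ⟨W.ι ⁻¹ᵁ N, hxN, ?_⟩
  have hr : Set.range (W.ι ⁻¹ᵁ N).ι.base ⊆ Set.range (X.homOfLE hN).base := by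
    rintro _ ⟨y, rfl⟩
    have hy : (W.ι.base ((W.ι ⁻¹ᵁ N).ι.base y)) ∈ N := y.2
    refine ⟨⟨_, hy⟩, ?_⟩
    apply Subtype.ext
    rw [Scheme.homOfLE_apply]
    rfl
  have hl := IsOpenImmersion.lift_fac (X.homOfLE hN) (W.ι ⁻¹ᵁ N).ι hr
  rw [← hl, Category.assoc, Category.assoc, e]

variable {A B σ τ : Type u} [CommRing A] [SetLike σ A] [AddSubgroupClass σ A]
  [CommRing B] [SetLike τ B] [AddSubgroupClass τ B]
  {𝒜 : ℕ → σ} {ℬ : ℕ → τ} [GradedRing 𝒜] [GradedRing ℬ] in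
theorem proj_map_congr {f f' : 𝒜 →+*ᵍ ℬ} (e : f = f') (hf : ℬ₊ ≤ (𝒜₊).map f)
    (hf' : ℬ₊ ≤ (𝒜₊).map f') : Proj.map f hf = Proj.map f' hf' := by
  subst e
  rfl

variable {Y PA PB : Scheme.{u}} {𝒜 ℬ : RelProj.QCGrAlg Y}
  (φ : 𝒜.toQCAlg ⟶ ℬ.toQCAlg) (hφ : RelProj.IsGradedHom φ)
  (hirr : ∀ (U : Y.Opens) (hU : IsAffineOpen U),
    (ℬ.deg U hU)₊ ≤ ((𝒜.deg U hU)₊).map (RelProj.gradedHomAt φ hφ U hU))
  {pA : PA ⟶ Y} {pB : PB ⟶ Y}
  (chartA : ∀ (U : Y.Opens) (hU : IsAffineOpen U),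
    (((pA ⁻¹ᵁ U : PA.Opens) : Scheme.{u}) ≅ Proj (𝒜.deg U hU)))
  (chartB : ∀ (U : Y.Opens) (hU : IsAffineOpen U),
    (((pB ⁻¹ᵁ U : PB.Opens) : Scheme.{u}) ≅ Proj (ℬ.deg U hU)))

/-- The local candidate for the morphism of relative Proj's over an affine open `U`. -/
noncomputable def gU (U : Y.Opens) (hU : IsAffineOpen U) : ((pB ⁻¹ᵁ U : PB.Opens) : Scheme.{u}) ⟶ PA :=
  (chartB U hU).hom ≫ Proj.map (RelProj.gradedHomAt φ hφ U hU) (hirr U hU) ≫
    (chartA U hU).inv ≫ (pA ⁻¹ᵁ U).ι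

/-- Naturality of a graded homomorphism with respect to restriction, at the level of graded ring
homs. -/
theorem res_comp_gradedHomAt {U V : Y.Opens} (hU : IsAffineOpen U) (hV : IsAffineOpen V) (i : V ≤ U) :
    (ℬ.res hU hV i).comp (RelProj.gradedHomAt φ hφ U hU) =
      (RelProj.gradedHomAt φ hφ V hV).comp (𝒜.res hU hV i) := by
  apply GradedRingHom.ext
  intro x
  have := congrArg (fun f => f.hom x) (φ.hom.naturality (homOfLE i).op)
  exact this.symm

include hirr in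
/-- Compatibility of the local candidates with restriction to a basic open. -/
theorem gU_basic (hA : RelProj.IsRelProj 𝒜 pA chartA) (hB : RelProj.IsRelProj ℬ pB chartB)
    (U : Y.Opens) (hU : IsAffineOpen U) (r : Γ(Y, U)) (W : Y.Opens) (hW : IsAffineOpen W)
    (e : W = Y.basicOpen r) :
    PB.homOfLE (show pB ⁻¹ᵁ W ≤ pB ⁻¹ᵁ U from pB.preimage_mono (e ▸ Y.basicOpen_le r)) ≫
      gU φ hφ hirr chartA chartB U hU = gU φ hφ hirr chartA chartB W hW := by
  subst e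
  unfold gU
  rw [reassoc_of% hB.chart_res U hU r]
  have h1 : Proj.map (ℬ.res hU (hU.basicOpen r) (Y.basicOpen_le r)) (ℬ.irrelevant_le_map U hU r) ≫
      Proj.map (RelProj.gradedHomAt φ hφ U hU) (hirr U hU) =
      Proj.map (RelProj.gradedHomAt φ hφ (Y.basicOpen r) hW) (hirr _ hW) ≫
        Proj.map (𝒜.res hU (hU.basicOpen r) (Y.basicOpen_le r)) (𝒜.irrelevant_le_map U hU r) := by
    rw [← Proj.map_comp, ← Proj.map_comp]
    exact proj_map_congr (res_comp_gradedHomAt φ hφ hU hW (Y.basicOpen_le r)) _ _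
  rw [reassoc_of% h1]
  have h2 : Proj.map (𝒜.res hU (hU.basicOpen r) (Y.basicOpen_le r)) (𝒜.irrelevant_le_map U hU r) ≫
      (chartA U hU).inv = (chartA (Y.basicOpen r) hW).inv ≫
        PA.homOfLE (pA.preimage_mono (Y.basicOpen_le r)) := by
    rw [Iso.comp_inv_eq, Category.assoc, hA.chart_res U hU r, Iso.inv_hom_id_assoc]
  rw [reassoc_of% h2, Scheme.homOfLE_ι]

include hirr in
/-- Compatibility of the local candidates with restriction to a smaller affine open. -/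
theorem gU_le (hA : RelProj.IsRelProj 𝒜 pA chartA) (hB : RelProj.IsRelProj ℬ pB chartB)
    {U V : Y.Opens} (hU : IsAffineOpen U) (hV : IsAffineOpen V) (hUV : U ≤ V) :
    PB.homOfLE (pB.preimage_mono hUV) ≫ gU φ hφ hirr chartA chartB V hV =
      gU φ hφ hirr chartA chartB U hU := by
  apply opens_hom_ext
  intro x hx
  obtain ⟨f, g, efg, hxf⟩ := exists_basicOpen_le_affine_inter hU hV (pB.base x) ⟨hx, hUV hx⟩
  refine ⟨pB ⁻¹ᵁ Y.basicOpen f, pB.preimage_mono (Y.basicOpen_le f), hxf, ?_⟩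
  rw [Scheme.homOfLE_homOfLE_assoc,
    gU_basic φ hφ hirr chartA chartB hA hB V hV g (Y.basicOpen f) (hU.basicOpen f) efg,
    gU_basic φ hφ hirr chartA chartB hA hB U hU f (Y.basicOpen f) (hU.basicOpen f) rfl]

include hirr in
/-- Existence of the morphism of relative Proj's induced by a graded homomorphism. -/
theorem exists_isRelProjMap (hA : RelProj.IsRelProj 𝒜 pA chartA) (hB : RelProj.IsRelProj ℬ pB chartB) :
    ∃ h : PB ⟶ PA, RelProj.IsRelProjMap φ hφ hirr chartA chartB h := by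
  let 𝒰 : PB.OpenCover := Y.directedAffineCover.pullback₁ pB
  let G : ∀ U : Y.affineOpens, 𝒰.X U ⟶ PA := fun U =>
    (pullbackRestrictIsoRestrict pB U.1).hom ≫ gU φ hφ hirr chartA chartB U.1 U.2
  have compat : ∀ {U V : 𝒰.I₀} (hUV : U ⟶ V), 𝒰.trans hUV ≫ G V = G U := by
    intro U V hUV
    have hle : U.1 ≤ V.1 :=
      (CategoryTheory.leOfHom (X := Y.affineOpens) (x := U) (y := V) hUV :)
    have h1 : 𝒰.trans hUV ≫ (pullbackRestrictIsoRestrict pB V.1).hom =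
        (pullbackRestrictIsoRestrict pB U.1).hom ≫ PB.homOfLE (pB.preimage_mono hle) := by
      rw [← cancel_mono (pB ⁻¹ᵁ V.1).ι]
      simp only [Category.assoc, pullbackRestrictIsoRestrict_hom_ι, Scheme.homOfLE_ι]
      exact 𝒰.trans_map hUV
    change 𝒰.trans hUV ≫ (pullbackRestrictIsoRestrict pB V.1).hom ≫ _ = _
    rw [reassoc_of% h1, gU_le φ hφ hirr chartA chartB hA hB U.2 V.2 hle]
  refine ⟨𝒰.glueMorphismsOfLocallyDirected G compat, fun U hU => ?_⟩
  have h2 := 𝒰.map_glueMorphismsOfLocallyDirected G compat ⟨U, hU⟩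
  change pullback.fst pB U.ι ≫ _ = _ at h2
  rw [← pullbackRestrictIsoRestrict_inv_fst pB U, Category.assoc, h2]
  simp only [G, Iso.inv_hom_id_assoc]
  rfl

end Groth.Agent.Lib.Lead.RelProjGlue
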