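import Mathlib
import Groth.Agent.Lib.Lead.VBCurve15
import Groth.Agent.Lib.Helper7.IdealMod
import Groth.Agent.Lib.Helper8.DevCore
import Groth.Agent.Lib.Helper4.ClosureProper
import Groth.Agent.Lib.Helper18.HHPush
import Groth.Agent.Lib.Helper9.CurveTwist

/-!
# Invertible modules of every degree on a smooth proper curve over an algebraically closed field (lead)

* `idealMod_closedPoint`: the ideal sheaf of a closed point on an integral proper curve with PID stalks over an
  algebraically closed field is finite locally free of rank one and of degree `-1`.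
* `exists_invertible_deg`: invertible modules of every degree exist.
-/

set_option autoImplicit false
set_option linter.style.haveILetI false
universe u
open CategoryTheory CategoryTheory.Limits AlgebraicGeometry Opposite TopologicalSpace Module

namespace Groth.Agent.Lib.Lead.VBCurve

open Groth.Agent.Lib.helper7 Groth.Agent.Lib.helper7.IdealMod

section general

variable {X : Scheme.{u}}

/-- the ideal sheaf of a closed point `y` has a nonzero section over every nonempty affine open avoiding `y` -/
theorem not_isZero_idealMod_of_ne {y : X} (hy : IsClosed ({y} : Set X)) {x : X} (hxy : x ≠ y) :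
    ¬ IsZero (ClSub.idealMod (Scheme.IdealSheafData.vanishingIdeal ⟨{y}, hy⟩)) := by
  intro hz
  set I := Scheme.IdealSheafData.vanishingIdeal ⟨{y}, hy⟩ with hI
  -- an affine open around `x` avoiding `y`
  have hopen : IsOpen ({y}ᶜ : Set X) := hy.isOpen_compl
  obtain ⟨_, ⟨U, hU0, rfl⟩, hxU, hUy⟩ :=
    X.isBasis_affineOpens.exists_subset_of_mem_open (show x ∈ ({y}ᶜ : Set X) from hxy) hopen
  have hU : IsAffineOpen U := hU0
  have hyU : y ∉ U := fun h => hUy h rfl
  have htop : I.ideal ⟨U, hU⟩ = ⊤ := by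
    rw [hI, Scheme.IdealSheafData.vanishingIdeal_ideal, eq_top_iff]
    intro f _
    rw [PrimeSpectrum.mem_vanishingIdeal]
    intro p hp
    exfalso
    apply hyU
    have hp' : hU.fromSpec p = y := hp
    rw [← hp']
    have : hU.fromSpec p ∈ Set.range hU.fromSpec := ⟨p, rfl⟩
    rw [hU.range_fromSpec] at this
    exact this
  have h1 : (1 : Γ(X, U)) ∈ I.ideal ⟨U, hU⟩ := by rw [htop]; trivial
  let t : Γ(ClSub.idealMod I, U) := (sectionsEquiv I ⟨U, hU⟩).symm ⟨1, h1⟩
  have h0 : (𝟙 (ClSub.idealMod I) : ClSub.idealMod I ⟶ ClSub.idealMod I) = 0 :=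
    (IsZero.iff_id_eq_zero _).mp hz
  have ht0 : t = 0 := by
    have h2 : (Scheme.Modules.Hom.app (𝟙 (ClSub.idealMod I)) U) t = t := by simp
    rw [h0] at h2
    rw [← h2]
    rfl
  have h3 : (⟨1, h1⟩ : I.ideal ⟨U, hU⟩) = 0 := by
    have h4 : sectionsEquiv I ⟨U, hU⟩ t = ⟨1, h1⟩ := LinearEquiv.apply_symm_apply _ _
    rw [← h4, ht0, map_zero]
  have h5 : (1 : Γ(X, U)) = 0 := congrArg Subtype.val h3
  haveI : Nonempty U := ⟨⟨x, hxU⟩⟩
  haveI : Nontrivial Γ(X, U) := Scheme.component_nontrivial X U
  exact one_ne_zero h5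

/-- a space of Krull dimension one has at least two points -/
theorem exists_ne_of_topologicalKrullDim_eq_one (hdim : topologicalKrullDim X = 1) (y : X) :
    ∃ x : X, x ≠ y := by
  by_contra hcon
  push Not at hcon
  haveI : Subsingleton X := ⟨fun a b => (hcon a).trans (hcon b).symm⟩
  haveI : Nonempty X := ⟨y⟩
  have := topologicalKrullDim_zero_of_discreteTopology X
  rw [hdim] at this
  exact absurd this (by decide)

end general


section curve

variable (k : Type u) [Field k] [IsAlgClosed k] (X : Scheme.{u}) [X.Over (Spec (CommRingCat.of k))]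
  [IsProper (X ↘ Spec (CommRingCat.of k))] [IsIntegral X]

omit [IsIntegral X] in
/-- `h⁰(O_X / m_y) = 1` for a closed point `y` of a proper scheme over an algebraically closed field -/
theorem finrank_H0_quotMod_closedPoint {y : X} (hy : IsClosed ({y} : Set X)) :
    finrank k (Coh.HH X (ClSub.quotMod (Scheme.IdealSheafData.vanishingIdeal ⟨{y}, hy⟩)) 0) = 1 := by
  set I := Scheme.IdealSheafData.vanishingIdeal ⟨{y}, hy⟩ with hI
  letI : I.subscheme.Over (Spec (CommRingCat.of k)) := ⟨I.subschemeι ≫ (X ↘ Spec (CommRingCat.of k))⟩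
  haveI : I.subschemeι.IsOver (Spec (CommRingCat.of k)) := ⟨rfl⟩
  haveI : IsProper (I.subscheme ↘ Spec (CommRingCat.of k)) :=
    inferInstanceAs (IsProper (I.subschemeι ≫ (X ↘ Spec (CommRingCat.of k))))
  haveI : IsReduced I.subscheme :=
    Groth.Agent.Lib.helper4.ClosureProper.isReduced_subscheme_vanishingIdeal ⟨{y}, hy⟩
  -- the subscheme has exactly one point
  have hrange : Set.range I.subschemeι = {y} := by
    rw [Scheme.IdealSheafData.range_subschemeι, hI, Scheme.IdealSheafData.coe_support_vanishingIdeal]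
    rfl
  have hinj : Function.Injective I.subschemeι := I.subschemeι.isClosedEmbedding.injective
  haveI : Nonempty I.subscheme := by
    have : y ∈ Set.range I.subschemeι := by rw [hrange]; rfl
    obtain ⟨z, -⟩ := this
    exact ⟨z⟩
  haveI : Subsingleton I.subscheme := ⟨fun a b => hinj (by
    have ha : I.subschemeι a ∈ Set.range I.subschemeι := ⟨a, rfl⟩
    have hb : I.subschemeι b ∈ Set.range I.subschemeι := ⟨b, rfl⟩
    rw [hrange] at ha hb
    exact ha.trans hb.symm)⟩
  haveI : IrreducibleSpace I.subscheme :=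
    { toPreirreducibleSpace := ⟨(Set.subsingleton_of_subsingleton).isPreirreducible⟩
      toNonempty := inferInstance }
  haveI : IsIntegral I.subscheme := isIntegral_of_irreducibleSpace_of_isReduced _
  have h1 := Groth.Agent.Lib.helper9.CurveVanish.finrank_H0_structureModule_eq_one k I.subscheme
  haveI : (Coh.structureModule I.subscheme).IsQuasicoherent := inferInstance
  have h2 := Groth.Agent.Lib.Helper18.HH.finrank_push I.subschemeι (Coh.structureModule I.subscheme) k 0
  exact h2.trans h1

/-- the ideal sheaf of a closed point on an integral proper curve with PID stalks over an algebraically closed field is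
finite locally free of rank one and of degree `-1` -/
theorem idealMod_closedPoint (hP : PIDStalks X) (hdim : topologicalKrullDim X = 1) {y : X}
    (hy : IsClosed ({y} : Set X)) :
    FlatMod.IsFinLocFreeOfRank 1 (ClSub.idealMod (Scheme.IdealSheafData.vanishingIdeal ⟨{y}, hy⟩)) ∧
      Curv2.deg k X (ClSub.idealMod (Scheme.IdealSheafData.vanishingIdeal ⟨{y}, hy⟩)) 1 = -1 := by
  set I := Scheme.IdealSheafData.vanishingIdeal ⟨{y}, hy⟩ with hI
  haveI := Groth.Agent.Lib.Lead.CurveEuler.isNoetherian k X
  have hO1 : FlatMod.IsFinLocFreeOfRank 1 (Coh.structureModule X) :=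
    (Groth.Agent.Lib.helper16.FLF.isInvertible_iff_isFinLocFreeOfRank_one _).mp
      (Groth.Agent.Lib.helper11.InvMod.isInvertible_structureModule X)
  have hOc := Groth.Agent.Lib.Lead.RankAdd.isCoh_of_isFinLocFreeOfRank hO1
  have hQc : Coh.IsCoh (ClSub.quotMod I) :=
    Groth.Agent.Lib.helper8.Dev.isCoh_push_structureModule I.subschemeι
  have hIc : Coh.IsCoh (ClSub.idealMod I) :=
    Groth.Agent.Lib.helper7.CohKer.isCoh_kernel hOc hQc (ClSub.toSubscheme I)
  have hIf : FlatMod.IsFinLocFree (ClSub.idealMod I) :=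
    isFinLocFree_of_mono hP hIc (Groth.Agent.Lib.helper16.FLF.isFinLocFree_of_isFinLocFreeOfRank hO1)
      (ClSub.idealModι I)
  obtain ⟨n, hn⟩ := exists_rank_of_isFinLocFree hIf
  have hn1 : n ≤ 1 := rank_le_of_mono X hn hO1 (ClSub.idealModι I)
  obtain ⟨x, hxy⟩ := exists_ne_of_topologicalKrullDim_eq_one hdim y
  have hn0 : n ≠ 0 := by
    rintro rfl
    exact not_isZero_idealMod_of_ne hy hxy (isZero_of_isFinLocFreeOfRank_zero hn)
  have hn' : n = 1 := by omega
  subst hn'
  refine ⟨hn, ?_⟩
  have h1 := deg_sub_deg k X hdim.le hn hO1 (ClSub.idealModι I)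
  rw [Groth.Agent.Lib.Lead.CurveEuler.deg_structureModule k X,
    Groth.Agent.Lib.helper9.CurveTwist.finrank_HH_eq_of_iso k (cokernelIdealModιIso I) 0,
    finrank_H0_quotMod_closedPoint k X hy] at h1
  push_cast at h1
  linarith

/-- there is an invertible module of degree `-1` -/
theorem exists_invertible_deg_neg_one (hP : PIDStalks X) (hdim : topologicalKrullDim X = 1) :
    ∃ L : X.Modules, PicF.IsInvertible L ∧ Curv2.deg k X L 1 = -1 := by
  haveI := Groth.Agent.Lib.Lead.CurveEuler.isNoetherian k X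
  obtain ⟨y, hy⟩ : ∃ y : X, IsClosed ({y} : Set X) := by
    obtain ⟨y, -, hy⟩ := IsClosed.exists_closed_singleton (isClosed_univ (X := X)) Set.univ_nonempty
    exact ⟨y, hy⟩
  obtain ⟨h1, h2⟩ := idealMod_closedPoint k X hP hdim hy
  exact ⟨_, (Groth.Agent.Lib.helper16.FLF.isInvertible_iff_isFinLocFreeOfRank_one _).mpr h1, h2⟩

/-- **invertible modules of every degree exist** on an integral proper curve with PID stalks over an algebraically
closed field -/
theorem exists_invertible_deg (hP : PIDStalks X) (hdim : topologicalKrullDim X = 1) (n : ℤ) :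
    ∃ L : X.Modules, PicF.IsInvertible L ∧ Curv2.deg k X L 1 = n := by
  obtain ⟨L₀, hL₀, hd₀⟩ := exists_invertible_deg_neg_one k X hP hdim
  obtain ⟨L₁, hL₁, hinv, hinv'⟩ := Groth.Agent.Lib.helper12.InvDual.exists_inverse hL₀
  have hd₁ : Curv2.deg k X L₁ 1 = 1 := by
    have := deg_add_deg_of_isInverseOf k X hdim.le hL₀ hL₁ hinv'
    linarith
  rcases le_total 0 n with hn | hn
  · obtain ⟨m, rfl⟩ := Int.eq_ofNat_of_zero_le hn
    refine ⟨CohB1.tensorPow L₁ m, Groth.Agent.Lib.helper12.TensorInv.isInvertible_tensorPow hL₁ m, ?_⟩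
    rw [Groth.Agent.Lib.helper9.CurveDegAdd.deg_tensorPow k X hdim.le hL₁ m, hd₁, mul_one]
  · obtain ⟨m, hm⟩ := Int.eq_ofNat_of_zero_le (neg_nonneg.mpr hn)
    refine ⟨CohB1.tensorPow L₀ m, Groth.Agent.Lib.helper12.TensorInv.isInvertible_tensorPow hL₀ m, ?_⟩
    rw [Groth.Agent.Lib.helper9.CurveDegAdd.deg_tensorPow k X hdim.le hL₀ m, hd₀, ← hm]
    ring

end curve

end Groth.Agent.Lib.Lead.VBCurve
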