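import Mathlib
import Groth.Agent.Lib.Lead.VBCurve16
import Groth.Agent.Lib.Helper20.SplitH1
import Groth.Agent.Lib.Helper20.KosChase
import Groth.Agent.Lib.Helper18.DegTensor
import Groth.Agent.Lib.Helper18.EffCartierCurve

/-!
# Splitting of extensions and invertible submodules of bundles on curves (lead)

* `isSplitEpi_of_subsingleton_H1`: `0 → M → E → L → 0` with `L' ⊗ L ≅ O` and `H¹(L' ⊗ M) = 0` splits.
* `deg_sub_le_of_not_isSplitEpi`: a non-split extension of invertible `M` by invertible `L` on an integral proper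
  curve with `h⁰(O) = 1` has `deg L - deg M ≤ 2g - 2`.
* `exists_mono_of_euler_tensor_pos`: if `χ(E ⊗ N) > 0` for an invertible `N` with inverse `N'`, then `N'` embeds
  into `E`.
* `exists_invertible_sub_deg_ge`: a bundle `E` of rank `r ≥ 1` and degree `d` on a smooth proper curve of genus `g`
  over an algebraically closed field has an invertible submodule of degree `≥ (d - r g) / r` (in the form
  `d - r g ≤ r deg L`).
-/

set_option autoImplicit false
set_option linter.style.haveILetI false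
universe u
open CategoryTheory CategoryTheory.Limits AlgebraicGeometry Opposite TopologicalSpace Module

namespace Groth.Agent.Lib.Lead.VBCurve

open Groth.Agent.Lib.Lead.ModTensor Groth.Agent.Lib.Helper20.TensorEquiv

section general

variable {X : Scheme.{u}}

/-- an extension `0 → M → E → L → 0` with `L' ⊗ L ≅ O` and `H¹(L' ⊗ M) = 0` splits -/
theorem isSplitEpi_of_subsingleton_H1 (S : ShortComplex X.Modules) (hS : S.ShortExact) (L' : X.Modules)
    (hL' : ClSub.IsInverseOf L' S.X₃)
    (h1 : Subsingleton (Coh.HH X (CohB1.tensorMod L' S.X₁) 1)) : IsSplitEpi S.g := by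
  obtain ⟨e⟩ := hL'
  haveI := isEquivalence_tensorRight e
  have hS' := shortExact_mapSC e hS
  have h1' : Subsingleton (Coh.HH X (mapSC e S).X₁ 1) :=
    Groth.Agent.Lib.helper20.KosChase.subsingleton_HH_of_iso (braid L' S.X₁) 1 h1
  obtain ⟨s, hs⟩ := Groth.Agent.Lib.Helper20.SplitH1.exists_section hS' (braid S.X₃ L' ≪≫ e) h1'
  let T := tensorRight (X := X) L'
  let s' : T.obj S.X₃ ⟶ T.obj S.X₂ := s
  have hs' : s' ≫ T.map S.g = 𝟙 (T.obj S.X₃) := hs
  refine ⟨⟨T.preimage s', T.map_injective ?_⟩⟩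
  rw [T.map_comp, T.map_preimage, hs', T.map_id]

end general

section curve

variable (k : Type u) [Field k] (X : Scheme.{u}) [X.Over (Spec (CommRingCat.of k))]
  [IsProper (X ↘ Spec (CommRingCat.of k))] [IsIntegral X]

/-- a non-split extension of an invertible `M` by an invertible `L` has `deg L - deg M ≤ 2g - 2` -/
theorem deg_sub_le_of_not_isSplitEpi (hdim : topologicalKrullDim X ≤ 1)
    (h0 : finrank k (Coh.HH X (Coh.structureModule X) 0) = 1)
    (S : ShortComplex X.Modules) (hS : S.ShortExact) (hL : PicF.IsInvertible S.X₁)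
    (hM : PicF.IsInvertible S.X₃) (hns : ¬ IsSplitEpi S.g) :
    Curv2.deg k X S.X₁ 1 - Curv2.deg k X S.X₃ 1 ≤ 2 * (Curv2.genus k X : ℤ) - 2 := by
  obtain ⟨M', hM', hinv, hinv'⟩ := Groth.Agent.Lib.helper12.InvDual.exists_inverse hM
  have hA : PicF.IsInvertible (CohB1.tensorMod M' S.X₁) :=
    Groth.Agent.Lib.helper12.TensorInv.isInvertible_tensorMod hM' hL
  have hdegA := deg_inverse_tensor k X hdim hM hM' hinv' hL
  have hH1 : Nontrivial (Coh.HH X (CohB1.tensorMod M' S.X₁) 1) := by
    rw [← not_subsingleton_iff_nontrivial]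
    intro h1
    exact hns (isSplitEpi_of_subsingleton_H1 S hS M' hinv' h1)
  have := Groth.Agent.Lib.helper9.CurveVanish.deg_le_of_H1_nontrivial k X hdim h0 hA hH1
  linarith

/-- if `χ(E ⊗ N) > 0` for an invertible `N` with inverse `N'`, then `N'` embeds into the bundle `E` -/
theorem exists_mono_of_euler_tensor_pos (hP : PIDStalks X) (hdim : topologicalKrullDim X ≤ 1)
    {E N N' : X.Modules} {r : ℕ} (hE : FlatMod.IsFinLocFreeOfRank r E) (hN : PicF.IsInvertible N)
    (hN' : PicF.IsInvertible N') (hinv : ClSub.IsInverseOf N' N) (hinv' : ClSub.IsInverseOf N N')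
    (hpos : 0 < Curv2.euler k X (CohB1.tensorMod E N)) : ∃ ι : N' ⟶ E, Mono ι := by
  have hN1 := (Groth.Agent.Lib.helper16.FLF.isInvertible_iff_isFinLocFreeOfRank_one N).mp hN
  have hN'1 := (Groth.Agent.Lib.helper16.FLF.isInvertible_iff_isFinLocFreeOfRank_one N').mp hN'
  have hEN := Groth.Agent.Lib.Helper18.EffCartierCurve.isFinLocFreeOfRank_tensor hE hN1
  have hENc := Groth.Agent.Lib.Lead.RankAdd.isCoh_of_isFinLocFreeOfRank hEN
  have heul := Groth.Agent.Lib.Lead.CurveEuler.euler_eq k X hdim _ hENc.1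
  have hh0 : 0 < finrank k (Coh.HH X (CohB1.tensorMod E N) 0) := by
    by_contra hcon
    have h0 : finrank k (Coh.HH X (CohB1.tensorMod E N) 0) = 0 := by omega
    rw [heul, h0] at hpos
    have : (0 : ℤ) ≤ (finrank k (Coh.HH X (CohB1.tensorMod E N) 1) : ℤ) := Int.natCast_nonneg _
    push_cast at hpos
    linarith
  obtain ⟨σ, hσ⟩ := Groth.Agent.Lib.Lead.CurveSec.exists_hom_ne_zero_of_finrank_pos k X _ hh0
  have hσ' : σ ≫ (braid E N).hom ≠ 0 := by
    intro h
    apply hσ
    rw [← cancel_mono (braid E N).hom, h, zero_comp]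
  obtain ⟨u, hu⟩ := exists_hom_ne_zero_of_section hinv.some hinv'.some (σ ≫ (braid E N).hom) hσ'
  obtain ⟨rK, rI, -, -, hrr, -, hIpos, hmono, -⟩ := kernel_image_data k X hP hN'1 hE u
  have := hIpos hu
  exact ⟨u, hmono (by omega)⟩

end curve

section algClosed

variable (k : Type u) [Field k] [IsAlgClosed k] (X : Scheme.{u}) [X.Over (Spec (CommRingCat.of k))]
  [IsProper (X ↘ Spec (CommRingCat.of k))] [IsIntegral X]

/-- a bundle of rank `r ≥ 1` and degree `d` on an integral proper curve of genus `g` with PID stalks over an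
algebraically closed field has an invertible submodule `L` with `d - r g ≤ r deg L` -/
theorem exists_invertible_sub_deg_ge (hP : PIDStalks X) (hdim : topologicalKrullDim X = 1)
    {E : X.Modules} {r : ℕ} (hr : 0 < r) (hE : FlatMod.IsFinLocFreeOfRank r E) :
    ∃ (L : X.Modules) (ι : L ⟶ E), PicF.IsInvertible L ∧ Mono ι ∧
      Curv2.deg k X E r - (r : ℤ) * (Curv2.genus k X : ℤ) ≤ (r : ℤ) * Curv2.deg k X L 1 := by
  have hd := hdim.le
  have hr' : (0 : ℤ) < (r : ℤ) := by exact_mod_cast hr
  set d := Curv2.deg k X E r with hd_def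
  set g : ℤ := (Curv2.genus k X : ℤ) with hg_def
  -- choose `m` with `r m ≤ r g - d < r (m + 1)`, i.e. `m = ⌊(r g - d) / r⌋`
  set m : ℤ := (r * g - d) / r with hm_def
  have hm1 : (r : ℤ) * m ≤ r * g - d := Int.mul_ediv_self_le hr'.ne'
  have hm2 : r * g - d < (r : ℤ) * (m + 1) := by
    have := Int.lt_mul_ediv_self_add (x := r * g - d) hr'
    rw [hm_def]
    linarith
  obtain ⟨N, hN, hdN⟩ := exists_invertible_deg k X hP hdim m
  obtain ⟨N', hN', hinv', hinv⟩ := Groth.Agent.Lib.helper12.InvDual.exists_inverse hN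
  have hN1 := (Groth.Agent.Lib.helper16.FLF.isInvertible_iff_isFinLocFreeOfRank_one N).mp hN
  have hdegEN := Groth.Agent.Lib.Helper18.DegTensor.deg_tensor k X hd hE hN1
  have hdN' : Curv2.deg k X N' 1 = -m := by
    have := deg_add_deg_of_isInverseOf k X hd hN hN' hinv
    linarith
  have hpos : 0 < Curv2.euler k X (CohB1.tensorMod E N) := by
    have h1 : Curv2.deg k X (CohB1.tensorMod E N) (r * 1) =
        Curv2.euler k X (CohB1.tensorMod E N) - ((r * 1 : ℕ) : ℤ) * Curv2.euler k X (Coh.structureModule X) := rfl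
    have hO := Groth.Agent.Lib.Lead.CurveEuler.euler_eq k X hd (Coh.structureModule X) inferInstance
    rw [Groth.Agent.Lib.helper9.CurveVanish.finrank_H0_structureModule_eq_one k X] at hO
    have hgen : (finrank k (Coh.HH X (Coh.structureModule X) 1) : ℤ) = g := rfl
    rw [hgen] at hO
    rw [hdegEN, hdN] at h1
    push_cast at h1 hO
    nlinarith
  obtain ⟨ι, hι⟩ := exists_mono_of_euler_tensor_pos k X hP hd hE hN hN' hinv hinv' hpos
  refine ⟨N', ι, hN', hι, ?_⟩
  rw [hdN']
  linarith

end algClosed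

end Groth.Agent.Lib.Lead.VBCurve
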