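import Mathlib
import Groth.Agent.Lib.Lead.VBCurve17
import Groth.Agent.Lib.Helper18.DegCalc

/-!
# Twisting bundles on a curve by invertible modules (lead)

* `slope_tensor_invertible`: slope inequalities for submodules are preserved by `- ⊗ N`, `N` invertible: if every
  finite locally free submodule `H ⊂ G` of rank `r' ≥ 1` has `deg H · r ≤ (deg G + c) · r'` then the same holds for
  `G ⊗ N` (with the same defect `c`).
* `finrank_H0_le_tensor_add`: `h⁰(G) ≤ h⁰(G ⊗ L) + r · (-deg L)` for an invertible `L` with a nonzero map `L ⟶ O`.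
* `finrank_H0_le_of_semistable`: a semistable bundle `G` of rank `r` with `deg G < n r` has `h⁰(G) ≤ r n`
  (algebraically closed base field).
-/

set_option autoImplicit false
set_option linter.style.haveILetI false
universe u
open CategoryTheory CategoryTheory.Limits AlgebraicGeometry Opposite TopologicalSpace Module

namespace Groth.Agent.Lib.Lead.VBCurve

open Groth.Agent.Lib.Lead.ModTensor Groth.Agent.Lib.Helper20.TensorEquiv

section curve

variable (k : Type u) [Field k] (X : Scheme.{u}) [X.Over (Spec (CommRingCat.of k))]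
  [IsProper (X ↘ Spec (CommRingCat.of k))] [IsIntegral X]

/-- degree of a twist by an invertible module -/
theorem deg_tensor_invertible (hdim : topologicalKrullDim X ≤ 1) {G N : X.Modules} {r : ℕ}
    (hG : FlatMod.IsFinLocFreeOfRank r G) (hN : PicF.IsInvertible N) :
    FlatMod.IsFinLocFreeOfRank r (CohB1.tensorMod G N) ∧
      Curv2.deg k X (CohB1.tensorMod G N) r = Curv2.deg k X G r + (r : ℤ) * Curv2.deg k X N 1 := by
  have hN1 := (Groth.Agent.Lib.helper16.FLF.isInvertible_iff_isFinLocFreeOfRank_one N).mp hN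
  have h1 := Groth.Agent.Lib.Helper18.EffCartierCurve.isFinLocFreeOfRank_tensor hG hN1
  have h2 := Groth.Agent.Lib.Helper18.DegTensor.deg_tensor k X hdim hG hN1
  rw [Nat.mul_one] at h1 h2
  refine ⟨h1, ?_⟩
  rw [h2]
  push_cast
  ring

/-- slope inequalities for submodules are preserved by twisting with an invertible module -/
theorem slope_tensor_invertible (hdim : topologicalKrullDim X ≤ 1) {G N : X.Modules} {r : ℕ} (c : ℤ)
    (hG : FlatMod.IsFinLocFreeOfRank r G) (hN : PicF.IsInvertible N)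
    (hss : ∀ (H : X.Modules) (r' : ℕ) (i : H ⟶ G), Mono i → 0 < r' → FlatMod.IsFinLocFreeOfRank r' H →
      Curv2.deg k X H r' * (r : ℤ) ≤ (Curv2.deg k X G r + c) * (r' : ℤ)) :
    ∀ (H : X.Modules) (r' : ℕ) (i : H ⟶ CohB1.tensorMod G N), Mono i → 0 < r' →
      FlatMod.IsFinLocFreeOfRank r' H →
      Curv2.deg k X H r' * (r : ℤ) ≤ (Curv2.deg k X (CohB1.tensorMod G N) r + c) * (r' : ℤ) := by
  intro H r' i hi hr' hH
  haveI := hi
  obtain ⟨N', hN', hinv, hinv'⟩ := Groth.Agent.Lib.helper12.InvDual.exists_inverse hN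
  -- hinv : N ⊗ N' ≅ O ; hinv' : N' ⊗ N ≅ O
  obtain ⟨ε⟩ := hinv
  obtain ⟨e⟩ := hinv'
  haveI : Mono (tensorMap i (𝟙 N')) := mono_tensorMap e i
  let θ : CohB1.tensorMod (CohB1.tensorMod G N) N' ≅ G :=
    assoc G N N' ≪≫ tensorIso (Iso.refl G) ε ≪≫ rightUnitor G
  obtain ⟨hH', hdH'⟩ := deg_tensor_invertible k X hdim hH hN'
  obtain ⟨-, hdGN⟩ := deg_tensor_invertible k X hdim hG hN
  have h := hss (CohB1.tensorMod H N') r' (tensorMap i (𝟙 N') ≫ θ.hom) inferInstance hr' hH'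
  have hdN' : Curv2.deg k X N' 1 = - Curv2.deg k X N 1 := by
    have := deg_add_deg_of_isInverseOf k X hdim hN hN' ⟨e⟩
    linarith
  rw [hdH', hdN'] at h
  rw [hdGN]
  nlinarith

/-- `h⁰(G) ≤ h⁰(G ⊗ L) + r · (deg O − deg L)` for an invertible `L` with a monomorphism `L ⟶ O` -/
theorem finrank_H0_le_tensor_add (hdim : topologicalKrullDim X ≤ 1) {G L : X.Modules} {r : ℕ}
    (hG : FlatMod.IsFinLocFreeOfRank r G) (hL : PicF.IsInvertible L) (j : L ⟶ Coh.structureModule X) [Mono j] :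
    (finrank k (Coh.HH X G 0) : ℤ) ≤
      (finrank k (Coh.HH X (CohB1.tensorMod G L) 0) : ℤ) - (r : ℤ) * Curv2.deg k X L 1 := by
  obtain ⟨hGL, hdGL⟩ := deg_tensor_invertible k X hdim hG hL
  -- the map `G ⊗ L ⟶ G ⊗ O ≅ G`
  let φ : CohB1.tensorMod G L ⟶ G := (braid G L).hom ≫ tensorMap j (𝟙 G) ≫ (leftUnitor G).hom
  haveI : Mono (tensorMap j (𝟙 G)) :=
    Groth.Agent.Lib.Helper18.DegCalc.mono_tensorMap_of_isFinLocFreeOfRank j hG
  haveI : Mono φ := by
    haveI : Mono (tensorMap j (𝟙 G) ≫ (leftUnitor G).hom) := mono_comp _ _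
    exact mono_comp _ _
  have h1 := deg_sub_deg k X hdim hGL hG φ
  have hS := shortExact_cokernel X φ
  have hGc := Groth.Agent.Lib.Lead.RankAdd.isCoh_of_isFinLocFreeOfRank hG
  have hGLc := Groth.Agent.Lib.Lead.RankAdd.isCoh_of_isFinLocFreeOfRank hGL
  have hQc : Coh.IsCoh (cokernel φ) := Groth.Agent.Lib.helper7.CohKer.isCoh_cokernel hGLc hGc φ
  have h2 := finrank_H0_le_add k X hS hGLc hGc hQc
  change finrank k (Coh.HH X G 0) ≤ finrank k (Coh.HH X (CohB1.tensorMod G L) 0) +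
    finrank k (Coh.HH X (cokernel φ) 0) at h2
  have h2' : (finrank k (Coh.HH X G 0) : ℤ) ≤ (finrank k (Coh.HH X (CohB1.tensorMod G L) 0) : ℤ) +
      (finrank k (Coh.HH X (cokernel φ) 0) : ℤ) := by exact_mod_cast h2
  rw [hdGL] at h1
  linarith

/-- a semistable bundle of negative degree has no nonzero sections -/
theorem finrank_H0_eq_zero_of_semistable_of_deg_neg (hP : PIDStalks X) {G : X.Modules} {r : ℕ} (hr : 0 < r)
    (hG : FlatMod.IsFinLocFreeOfRank r G)
    (hss : ∀ (H : X.Modules) (r' : ℕ) (i : H ⟶ G), Mono i → 0 < r' → FlatMod.IsFinLocFreeOfRank r' H →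
      Curv2.deg k X H r' * (r : ℤ) ≤ Curv2.deg k X G r * (r' : ℤ))
    (hdeg : Curv2.deg k X G r < 0) : finrank k (Coh.HH X G 0) = 0 := by
  by_contra h
  obtain ⟨σ, hσ⟩ := Groth.Agent.Lib.Lead.CurveSec.exists_hom_ne_zero_of_finrank_pos k X G (Nat.pos_of_ne_zero h)
  have hO1 : FlatMod.IsFinLocFreeOfRank 1 (Coh.structureModule X) :=
    (Groth.Agent.Lib.helper16.FLF.isInvertible_iff_isFinLocFreeOfRank_one _).mp
      (Groth.Agent.Lib.helper11.InvMod.isInvertible_structureModule X)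
  obtain ⟨rK, rI, -, -, hrr, -, hIpos, hmono, -⟩ := kernel_image_data k X hP hO1 hG σ
  have hrK : rK = 0 := by have := hIpos hσ; omega
  have h1 := hss _ 1 σ (hmono hrK) Nat.one_pos hO1
  rw [Groth.Agent.Lib.Lead.CurveEuler.deg_structureModule k X, zero_mul] at h1
  push_cast at h1
  linarith

/-- **sections of semistable bundles**: a semistable bundle `G` of rank `r ≥ 1` with `deg G < n r` has
`h⁰(G) ≤ r n` (integral proper curve with PID stalks over an algebraically closed field) -/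
theorem finrank_H0_le_of_semistable [IsAlgClosed k] (hP : PIDStalks X) (hdim : topologicalKrullDim X = 1)
    {r : ℕ} (hr : 0 < r) :
    ∀ (n : ℕ) (G : X.Modules), FlatMod.IsFinLocFreeOfRank r G →
      (∀ (H : X.Modules) (r' : ℕ) (i : H ⟶ G), Mono i → 0 < r' → FlatMod.IsFinLocFreeOfRank r' H →
        Curv2.deg k X H r' * (r : ℤ) ≤ Curv2.deg k X G r * (r' : ℤ)) →
      Curv2.deg k X G r < (n : ℤ) * (r : ℤ) → finrank k (Coh.HH X G 0) ≤ r * n := by
  intro n
  induction n with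
  | zero =>
    intro G hG hss hdeg
    rw [Nat.cast_zero, zero_mul] at hdeg
    rw [finrank_H0_eq_zero_of_semistable_of_deg_neg k X hP hr hG hss hdeg]
    exact Nat.zero_le _
  | succ n ih =>
    intro G hG hss hdeg
    haveI := Groth.Agent.Lib.Lead.CurveEuler.isNoetherian k X
    obtain ⟨y, hy⟩ : ∃ y : X, IsClosed ({y} : Set X) := by
      obtain ⟨y, -, hy⟩ := IsClosed.exists_closed_singleton (isClosed_univ (X := X)) Set.univ_nonempty
      exact ⟨y, hy⟩
    obtain ⟨hI1, hId⟩ := idealMod_closedPoint k X hP hdim hy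
    set I := ClSub.idealMod (Scheme.IdealSheafData.vanishingIdeal ⟨{y}, hy⟩) with hIdef
    have hI := (Groth.Agent.Lib.helper16.FLF.isInvertible_iff_isFinLocFreeOfRank_one _).mpr hI1
    obtain ⟨hGI, hdGI⟩ := deg_tensor_invertible k X hdim.le hG hI
    have hss' := slope_tensor_invertible k X hdim.le 0 hG hI (by simpa using hss)
    have h1 := ih (CohB1.tensorMod G I) hGI (by simpa using hss') (by
      rw [hdGI, hId]; push_cast at hdeg ⊢; linarith)
    have h2 := finrank_H0_le_tensor_add k X hdim.le hG hI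
      (ClSub.idealModι (Scheme.IdealSheafData.vanishingIdeal ⟨{y}, hy⟩))
    rw [hId] at h2
    have h3 : (finrank k (Coh.HH X G 0) : ℤ) ≤ ((r * (n + 1) : ℕ) : ℤ) := by
      have h1' : (finrank k (Coh.HH X (CohB1.tensorMod G I) 0) : ℤ) ≤ ((r * n : ℕ) : ℤ) := by exact_mod_cast h1
      push_cast at h1' ⊢
      linarith
    exact_mod_cast h3

/-- the floor form: `h⁰(G) ≤ r · max(⌊deg G / r⌋ + 1, 0)` -/
theorem finrank_H0_le_floor_of_semistable [IsAlgClosed k] (hP : PIDStalks X) (hdim : topologicalKrullDim X = 1)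
    {r : ℕ} (hr : 0 < r) {G : X.Modules} (hG : FlatMod.IsFinLocFreeOfRank r G)
    (hss : ∀ (H : X.Modules) (r' : ℕ) (i : H ⟶ G), Mono i → 0 < r' → FlatMod.IsFinLocFreeOfRank r' H →
      Curv2.deg k X H r' * (r : ℤ) ≤ Curv2.deg k X G r * (r' : ℤ)) :
    (finrank k (Coh.HH X G 0) : ℤ) ≤ (r : ℤ) * max (⌊(Curv2.deg k X G r : ℚ) / (r : ℚ)⌋ + 1) 0 := by
  set m : ℤ := max (⌊(Curv2.deg k X G r : ℚ) / (r : ℚ)⌋ + 1) 0 with hm
  have hm0 : 0 ≤ m := le_max_right _ _
  obtain ⟨n, hn⟩ := Int.eq_ofNat_of_zero_le hm0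
  have hrQ : (0 : ℚ) < (r : ℚ) := by exact_mod_cast hr
  have hlt : Curv2.deg k X G r < (n : ℤ) * (r : ℤ) := by
    have h1 : (Curv2.deg k X G r : ℚ) / (r : ℚ) < ((⌊(Curv2.deg k X G r : ℚ) / (r : ℚ)⌋ + 1 : ℤ) : ℚ) := by
      push_cast
      exact Int.lt_floor_add_one _
    have h2' : ⌊(Curv2.deg k X G r : ℚ) / (r : ℚ)⌋ + 1 ≤ m := le_max_left _ _
    have h2 : ((⌊(Curv2.deg k X G r : ℚ) / (r : ℚ)⌋ + 1 : ℤ) : ℚ) ≤ (m : ℚ) := Int.cast_le.mpr h2'
    have h3 : (Curv2.deg k X G r : ℚ) < (m : ℚ) * (r : ℚ) := by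
      rw [div_lt_iff₀ hrQ] at h1
      calc (Curv2.deg k X G r : ℚ) < _ := h1
        _ ≤ (m : ℚ) * (r : ℚ) := mul_le_mul_of_nonneg_right h2 hrQ.le
    rw [← hn]
    exact_mod_cast h3
  have h := finrank_H0_le_of_semistable k X hP hdim hr n G hG hss hlt
  rw [hn]
  exact_mod_cast h

end curve

end Groth.Agent.Lib.Lead.VBCurve
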