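import Mathlib
import Groth.Prelude.Def_RefHull
import Groth.Agent.Lib.Helper16.CohStalk

/-!
# The sheaf Hom `RefHull.homSh`: sections from semilinear maps (lead)

`X` a scheme, `F` quasi-coherent, `G` any `O_X`-module, `U` an affine open and `W ≤ U` an open.

* `isUnit_algebraMap_end`: elements of `S` act invertibly on modules over the localization.
* `linAt`, `stalkOfLin`: a `Γ(X,U)`-semilinear map `ψ : Γ(F,U) → Γ(G,W)` induces `O_{X,y}`-linear maps
  `F_y → G_y` for `y ∈ W`, with `stalkOfLin_germ : stalkOfLin y (m_y) = (ψ m)_y`.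
* `ofLin`: the section of `homSh F G` over `W` they form.
-/

set_option autoImplicit false
set_option backward.isDefEq.respectTransparency false
set_option linter.style.haveILetI false
set_option linter.unusedSectionVars false
universe u

open CategoryTheory CategoryTheory.Limits AlgebraicGeometry TopologicalSpace Opposite

namespace Groth.Agent.Lib.Lead.RH

open RefHull Groth.Agent.Lib.helper16.CohStalk

/-- elements of `S` act invertibly on a module over the localization -/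
theorem isUnit_algebraMap_end {A R N : Type*} [CommRing A] [CommRing R] [Algebra A R]
    (S : Submonoid A) [IsLocalization S R] [AddCommGroup N] [Module A N] [Module R N]
    [IsScalarTower A R N] (s : S) : IsUnit (algebraMap A (Module.End A N) s) := by
  rw [Module.End.isUnit_iff]
  obtain ⟨v, hv⟩ := IsLocalization.map_units R s
  refine ⟨fun n₁ n₂ hn => ?_, fun n => ⟨(↑v⁻¹ : R) • n, ?_⟩⟩
  · have h1 : (s : A) • n₁ = (s : A) • n₂ := hn
    rw [← algebraMap_smul R (s : A) n₁, ← algebraMap_smul R (s : A) n₂, ← hv] at h1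
    have := congrArg (fun z => (↑v⁻¹ : R) • z) h1
    simpa [smul_smul] using this
  · change (s : A) • ((↑v⁻¹ : R) • n) = n
    rw [← algebraMap_smul R (s : A), ← hv, smul_smul]
    simp

variable {X : Scheme.{u}} (F G : X.Modules)

section StalkOfLin

variable {U W : X.Opens} (hWU : W ≤ U)
  (ψ : Γ(F, U) →+ Γ(G, W))
  (hψ : ∀ (a : Γ(X, U)) (m : Γ(F, U)), ψ (a • m) = X.presheaf.map (homOfLE hWU).op a • ψ m)

/-- the `Γ(X,U)`-linear map `m ↦ (ψ m)_y` -/
noncomputable def linAt (y : X) (hy : y ∈ W) :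
    @LinearMap Γ(X, U) Γ(X, U) _ _ (RingHom.id _) Γ(F, U) (G.presheaf.stalk y) _ _ _
      (modStalk G y (hWU hy)) :=
  letI := modStalk G y (hWU hy)
  { toFun := fun m => G.presheaf.germ W y hy (ψ m)
    map_add' := fun a b => by rw [map_add, map_add]
    map_smul' := fun a m => by
      rw [hψ, Mero.germ_smul, TopCat.Presheaf.germ_res_apply]
      rfl }

variable (hU : IsAffineOpen U) [F.IsQuasicoherent]

/-- the `O_{X,y}`-linear map `F_y → G_y` induced by `ψ` -/
noncomputable def stalkOfLin (y : X) (hy : y ∈ W) : StalkHom F G y :=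
  letI := TopCat.Presheaf.algebra_section_stalk X.presheaf (⟨y, hWU hy⟩ : U)
  letI := modStalk F y (hWU hy)
  letI := modStalk G y (hWU hy)
  haveI := isScalarTower_stalk F y (hWU hy)
  haveI := isScalarTower_stalk G y (hWU hy)
  haveI : IsLocalization.AtPrime (X.presheaf.stalk y) (hU.primeIdealOf ⟨y, hWU hy⟩).asIdeal :=
    hU.isLocalization_stalk ⟨y, hWU hy⟩
  haveI := isLocalizedModule_stalk F hU y (hWU hy)
  LinearMap.extendScalarsOfIsLocalization (hU.primeIdealOf ⟨y, hWU hy⟩).asIdeal.primeCompl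
    (X.presheaf.stalk y)
    (IsLocalizedModule.lift (hU.primeIdealOf ⟨y, hWU hy⟩).asIdeal.primeCompl
      (germLin F y (hWU hy)) (linAt F G hWU ψ hψ y hy)
      (fun s => isUnit_algebraMap_end (R := X.presheaf.stalk y)
        (hU.primeIdealOf ⟨y, hWU hy⟩).asIdeal.primeCompl s))

theorem stalkOfLin_germ (y : X) (hy : y ∈ W) (m : Γ(F, U)) :
    stalkOfLin F G hWU ψ hψ hU y hy (F.presheaf.germ U y (hWU hy) m) =
      G.presheaf.germ W y hy (ψ m) := by
  letI := TopCat.Presheaf.algebra_section_stalk X.presheaf (⟨y, hWU hy⟩ : U)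
  letI := modStalk F y (hWU hy)
  letI := modStalk G y (hWU hy)
  haveI := isScalarTower_stalk F y (hWU hy)
  haveI := isScalarTower_stalk G y (hWU hy)
  haveI : IsLocalization.AtPrime (X.presheaf.stalk y) (hU.primeIdealOf ⟨y, hWU hy⟩).asIdeal :=
    hU.isLocalization_stalk ⟨y, hWU hy⟩
  haveI := isLocalizedModule_stalk F hU y (hWU hy)
  exact IsLocalizedModule.lift_apply (hU.primeIdealOf ⟨y, hWU hy⟩).asIdeal.primeCompl
    (germLin F y (hWU hy)) (linAt F G hWU ψ hψ y hy)
    (fun s => isUnit_algebraMap_end (R := X.presheaf.stalk y)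
        (hU.primeIdealOf ⟨y, hWU hy⟩).asIdeal.primeCompl s) m

theorem isLocSect_stalkOfLin :
    IsLocSect F G (fun y : W => stalkOfLin F G hWU ψ hψ hU y.1 y.2) := by
  intro V i m y
  have hyW : y.1 ∈ W := i.le y.2
  have hyU : y.1 ∈ U := hWU hyW
  have hVU : V ≤ U := i.le.trans hWU
  letI := TopCat.Presheaf.algebra_section_stalk X.presheaf (⟨y.1, hyU⟩ : U)
  letI := modStalk F y.1 hyU
  haveI := isScalarTower_stalk F y.1 hyU
  haveI : IsLocalization.AtPrime (X.presheaf.stalk y.1) (hU.primeIdealOf ⟨y.1, hyU⟩).asIdeal :=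
    hU.isLocalization_stalk ⟨y.1, hyU⟩
  haveI := isLocalizedModule_stalk F hU y.1 hyU
  obtain ⟨⟨m₀, s⟩, hs⟩ := IsLocalizedModule.surj (hU.primeIdealOf ⟨y.1, hyU⟩).asIdeal.primeCompl
    (germLin F y.1 hyU) (F.presheaf.germ V y.1 y.2 m)
  -- `hs : s • germ m = germ m₀`
  have hsu : IsUnit (X.presheaf.germ U y.1 hyU s.1) :=
    IsLocalization.map_units (X.presheaf.stalk y.1) s
  have hyb : y.1 ∈ X.basicOpen s.1 := (X.mem_basicOpen s.1 y.1 hyU).2 hsu
  have h1 : F.presheaf.germ V y.1 y.2 (X.presheaf.map (homOfLE hVU).op s.1 • m) =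
      F.presheaf.germ V y.1 y.2 (F.presheaf.map (homOfLE hVU).op m₀) := by
    rw [Mero.germ_smul, TopCat.Presheaf.germ_res_apply, TopCat.Presheaf.germ_res_apply]
    exact hs
  obtain ⟨W₁, hyW₁, i₁, i₂, heq⟩ := TopCat.Presheaf.germ_eq F.presheaf y.1 y.2 y.2 _ _ h1
  -- the inverse of `s` on `W₁ ⊓ D(s)`
  have hle : W₁ ⊓ X.basicOpen s.1 ≤ X.basicOpen s.1 := inf_le_right
  have hu0 : IsUnit (X.presheaf.map (homOfLE (X.basicOpen_le s.1)).op s.1) :=
    RingedSpace.isUnit_res_basicOpen X.toRingedSpace s.1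
  have hu1 : IsUnit (X.presheaf.map (homOfLE (hle.trans (X.basicOpen_le s.1))).op s.1) := by
    have := hu0.map (X.presheaf.map (homOfLE hle).op).hom
    rwa [← ConcreteCategory.comp_apply, ← Functor.map_comp] at this
  obtain ⟨u, hu⟩ := hu1
  have hW'V : W₁ ⊓ X.basicOpen s.1 ≤ V := inf_le_left.trans i₁.le
  have hW'W : W₁ ⊓ X.basicOpen s.1 ≤ W := hW'V.trans i.le
  refine ⟨W₁ ⊓ X.basicOpen s.1, ⟨hyW₁, hyb⟩, homOfLE hW'V,
    (↑u⁻¹ : Γ(X, W₁ ⊓ X.basicOpen s.1)) • G.presheaf.map (homOfLE hW'W).op (ψ m₀), fun z => ?_⟩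
  have hzW₁ : z.1 ∈ W₁ := z.2.1
  have hzV : z.1 ∈ V := hW'V z.2
  have hzW : z.1 ∈ W := hW'W z.2
  have hzU : z.1 ∈ U := hWU hzW
  -- germ of the section identity at `z`
  have h2 : X.presheaf.germ U z.1 hzU s.1 • F.presheaf.germ V z.1 hzV m =
      F.presheaf.germ U z.1 hzU m₀ := by
    have := congrArg (F.presheaf.germ W₁ z.1 hzW₁) heq
    rw [TopCat.Presheaf.germ_res_apply, TopCat.Presheaf.germ_res_apply, Mero.germ_smul,
      TopCat.Presheaf.germ_res_apply, TopCat.Presheaf.germ_res_apply] at this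
    exact this
  have h3 : X.presheaf.germ (W₁ ⊓ X.basicOpen s.1) z.1 z.2 (↑u⁻¹ : Γ(X, W₁ ⊓ X.basicOpen s.1)) *
      X.presheaf.germ U z.1 hzU s.1 = 1 := by
    have h4 : (↑u⁻¹ : Γ(X, W₁ ⊓ X.basicOpen s.1)) *
        X.presheaf.map (homOfLE (hle.trans (X.basicOpen_le s.1))).op s.1 = 1 := by
      rw [← hu]; simp
    have := congrArg (X.presheaf.germ (W₁ ⊓ X.basicOpen s.1) z.1 z.2) h4
    rw [map_mul, map_one, TopCat.Presheaf.germ_res_apply] at this
    exact this
  have h5 : F.presheaf.germ V z.1 hzV m =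
      X.presheaf.germ (W₁ ⊓ X.basicOpen s.1) z.1 z.2 (↑u⁻¹ : Γ(X, W₁ ⊓ X.basicOpen s.1)) •
        F.presheaf.germ U z.1 hzU m₀ := by
    rw [← h2, smul_smul, h3, one_smul]
  change stalkOfLin F G hWU ψ hψ hU z.1 hzW (F.presheaf.germ V z.1 hzV m) = _
  rw [h5, map_smul, stalkOfLin_germ, Mero.germ_smul, TopCat.Presheaf.germ_res_apply]

/-- the section of `𝓗om(F, G)` over `W` defined by a semilinear map `Γ(F,U) → Γ(G,W)` -/
noncomputable def ofLin : Γ(homSh F G, W) :=
  ⟨fun y => stalkOfLin F G hWU ψ hψ hU y.1 y.2, isLocSect_stalkOfLin F G hWU ψ hψ hU⟩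

@[simp] theorem ofLin_apply (y : W) :
    (ofLin F G hWU ψ hψ hU).1 y = stalkOfLin F G hWU ψ hψ hU y.1 y.2 := rfl

end StalkOfLin

end Groth.Agent.Lib.Lead.RH
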