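import Mathlib
import Groth.Prelude.Def_RefHull
import Groth.Agent.Lib.Helper16.FLF7
import Groth.Agent.Lib.Helper16.CohFP
import Groth.Agent.Lib.Lead.RefHull1

/-!
# Stalks of the sheaf Hom `RefHull.homSh` (lead)

* `stalkHom_ext`: for `F` quasi-coherent and `U` affine, an `O_{X,y}`-linear map out of `F_y` is determined
  by its values on germs of sections over `U`.
* `evalStalk_injective`: `𝓗om(F,G)_x → Hom(F_x,G_x)` is injective for `F` quasi-coherent of finite type.
* `evalStalk_surjective`, `evalStalk_bijective`: it is bijective for `F` of finite presentation.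
-/

set_option autoImplicit false
set_option backward.isDefEq.respectTransparency false
set_option linter.style.haveILetI false
set_option linter.unusedSectionVars false
universe u

open CategoryTheory CategoryTheory.Limits AlgebraicGeometry TopologicalSpace Opposite

namespace Groth.Agent.Lib.Lead.RH

open RefHull Groth.Agent.Lib.helper16.CohStalk

variable {X : Scheme.{u}} (F G : X.Modules)

/-- an `O_{X,y}`-linear map out of the stalk of a quasi-coherent module is determined by the germs of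
sections over an affine open neighbourhood -/
theorem stalkHom_ext [F.IsQuasicoherent] {U : X.Opens} (hU : IsAffineOpen U) (y : X) (hy : y ∈ U)
    (f g : StalkHom F G y)
    (h : ∀ m : Γ(F, U), f (F.presheaf.germ U y hy m) = g (F.presheaf.germ U y hy m)) : f = g := by
  letI := TopCat.Presheaf.algebra_section_stalk X.presheaf (⟨y, hy⟩ : U)
  letI := modStalk F y hy
  haveI := isScalarTower_stalk F y hy
  haveI : IsLocalization.AtPrime (X.presheaf.stalk y) (hU.primeIdealOf ⟨y, hy⟩).asIdeal :=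
    hU.isLocalization_stalk ⟨y, hy⟩
  haveI := isLocalizedModule_stalk F hU y hy
  refine LinearMap.ext fun v => ?_
  obtain ⟨⟨m₀, s⟩, hs⟩ := IsLocalizedModule.surj (hU.primeIdealOf ⟨y, hy⟩).asIdeal.primeCompl
    (germLin F y hy) v
  have hsu : IsUnit (X.presheaf.germ U y hy s.1) :=
    IsLocalization.map_units (X.presheaf.stalk y) s
  have hs' : X.presheaf.germ U y hy s.1 • v = F.presheaf.germ U y hy m₀ := hs
  have h1 : X.presheaf.germ U y hy s.1 • f v = X.presheaf.germ U y hy s.1 • g v := by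
    rw [← map_smul, ← map_smul, hs', h]
  obtain ⟨u, hu⟩ := hsu
  have := congrArg (fun z => (↑u⁻¹ : X.presheaf.stalk y) • z) h1
  simpa [← hu, smul_smul] using this

/-- the zero section of the sheaf Hom has zero components -/
theorem homSh_zero_apply {U : X.Opens} (y : U) : (0 : Γ(homSh F G, U)).1 y = 0 := rfl

/-- **`𝓗om(F,G)_x → Hom(F_x,G_x)` is injective** for `F` quasi-coherent of finite type. -/
theorem evalStalk_injective [F.IsQuasicoherent] (hF : CohB1.IsFT F) (x : X) :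
    Function.Injective (evalStalk F G x) := by
  rw [injective_iff_map_eq_zero]
  intro θ hθ
  obtain ⟨V, hxV, g, rfl⟩ := TopCat.Presheaf.exists_germ_eq (homSh F G).presheaf θ
  rw [evalStalk_germ] at hθ
  obtain ⟨U, t, hU, hxU, hUV, ht⟩ :=
    Groth.Agent.Lib.helper16.FLF.exists_affine_generators F hF x V hxV
  have h1 : ∀ i, ∃ (W : X.Opens) (_ : x ∈ W) (hWU : W ≤ U), ∀ y : W,
      g.1 ⟨y.1, hUV (hWU y.2)⟩ (F.presheaf.germ U y.1 (hWU y.2) (t i)) = 0 := by
    intro i
    obtain ⟨W, hxW, j, n, hn⟩ := isLocSect_of_mem g U (homOfLE hUV) (t i) ⟨x, hxU⟩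
    have h0 : G.presheaf.germ W x hxW n = G.presheaf.germ W x hxW 0 := by
      rw [map_zero, ← hn ⟨x, hxW⟩]
      change g.1 ⟨x, hxV⟩ _ = 0
      rw [hθ]
      rfl
    obtain ⟨W', hxW', i₁, i₂, heq⟩ := TopCat.Presheaf.germ_eq G.presheaf x hxW hxW _ _ h0
    refine ⟨W', hxW', i₁.le.trans j.le, fun y => ?_⟩
    have h2 := hn ⟨y.1, i₁.le y.2⟩
    have h3 := congrArg (G.presheaf.germ W' y.1 y.2) heq
    rw [TopCat.Presheaf.germ_res_apply, TopCat.Presheaf.germ_res_apply, map_zero] at h3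
    exact h2.trans h3
  choose W hxW hWU hW using h1
  let W₀ : X.Opens := U ⊓ ⟨⋂ i, (W i : Set X), isOpen_iInter_of_finite fun i => (W i).2⟩
  have hxW₀ : x ∈ W₀ := ⟨hxU, Set.mem_iInter.2 hxW⟩
  have hW₀U : W₀ ≤ U := inf_le_left
  have hW₀ : ∀ i, W₀ ≤ W i := fun i y hy => Set.mem_iInter.1 hy.2 i
  rw [← TopCat.Presheaf.germ_res_apply (homSh F G).presheaf (homOfLE (hW₀U.trans hUV)) x hxW₀ g]
  have hz : (homSh F G).presheaf.map (homOfLE (hW₀U.trans hUV)).op g = 0 := by
    refine Subtype.ext (funext fun y => ?_)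
    change g.1 ⟨y.1, hUV (hW₀U y.2)⟩ = 0
    refine stalkHom_ext F G hU y.1 (hW₀U y.2) _ _ fun m => ?_
    rw [LinearMap.zero_apply]
    have hm : m ∈ Submodule.span Γ(X, U) (Set.range t) := by rw [ht]; trivial
    induction hm using Submodule.span_induction with
    | mem m hm =>
      obtain ⟨i, rfl⟩ := hm
      exact hW i ⟨y.1, hW₀ i y.2⟩
    | zero => rw [map_zero, map_zero]
    | add a b _ _ ha hb => rw [map_add, map_add, ha, hb, add_zero]
    | smul a m _ hm => rw [Mero.germ_smul, map_smul, hm, smul_zero]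
  rw [hz, map_zero]

open Groth.Agent.Lib.helper16.CohFinite in
/-- **`𝓗om(F,G)_x → Hom(F_x,G_x)` is surjective** for `F` of finite presentation. -/
theorem evalStalk_surjective (hF : CohB1.IsFP F) (x : X) :
    Function.Surjective (evalStalk F G x) := by
  haveI : SheafOfModules.IsFinitePresentation (R := X.ringCatSheaf) F := hF
  haveI : F.IsQuasicoherent := inferInstance
  intro h
  obtain ⟨U, hU, hxU, -⟩ := Opens.isBasis_iff_nbhd.mp X.isBasis_affineOpens (Opens.mem_top x)
  haveI : Module.FinitePresentation Γ(X, U) Γ(F, U) :=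
    Groth.Agent.Lib.helper16.CohFP.fp_sections_of_isFinitePresentation F hF hU
  obtain ⟨r, t, ht⟩ := Module.Finite.exists_fin (R := Γ(X, U)) (M := Γ(F, U))
  let π : (Fin r → Γ(X, U)) →ₗ[Γ(X, U)] Γ(F, U) := Fintype.linearCombination Γ(X, U) t
  have hπ : Function.Surjective π := by
    rw [← LinearMap.range_eq_top, Fintype.range_linearCombination, ht]
  have hK : (LinearMap.ker π).FG := Module.FinitePresentation.fg_ker π hπ
  obtain ⟨q, k, hk⟩ := Submodule.fg_iff_exists_fin_generating_family.1 hK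
  have h1 : ∀ i, ∃ (V : X.Opens) (hxV : x ∈ V) (n : Γ(G, V)),
      G.presheaf.germ V x hxV n = h (F.presheaf.germ U x hxU (t i)) :=
    fun i => TopCat.Presheaf.exists_germ_eq G.presheaf _
  choose V hxV n hn using h1
  let V₀ : X.Opens := U ⊓ ⟨⋂ i, (V i : Set X), isOpen_iInter_of_finite fun i => (V i).2⟩
  have hxV₀ : x ∈ V₀ := ⟨hxU, Set.mem_iInter.2 hxV⟩
  have hV₀U : V₀ ≤ U := inf_le_left
  have hV₀ : ∀ i, V₀ ≤ V i := fun i y hy => Set.mem_iInter.1 hy.2 i
  let n' : Fin r → Γ(G, V₀) := fun i => G.presheaf.map (homOfLE (hV₀ i)).op (n i)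
  letI m1 := modOfLE G hV₀U
  let φ₀ : (Fin r → Γ(X, U)) →ₗ[Γ(X, U)] Γ(G, V₀) := Fintype.linearCombination Γ(X, U) n'
  have hφ₀ : ∀ a, G.presheaf.germ V₀ x hxV₀ (φ₀ a) = h (F.presheaf.germ U x hxU (π a)) := by
    intro a
    simp only [φ₀, π, Fintype.linearCombination_apply, map_sum]
    refine Finset.sum_congr rfl fun i _ => ?_
    change G.presheaf.germ V₀ x hxV₀ (X.presheaf.map (homOfLE hV₀U).op (a i) • n' i) =
      h (F.presheaf.germ U x hxU (a i • t i))
    rw [Mero.germ_smul, TopCat.Presheaf.germ_res_apply, TopCat.Presheaf.germ_res_apply, hn,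
      Mero.germ_smul, map_smul]
  have h2 : ∀ j, ∃ (W : X.Opens) (_ : x ∈ W) (hWV : W ≤ V₀),
      G.presheaf.map (homOfLE hWV).op (φ₀ (k j)) = 0 := by
    intro j
    have hkj : π (k j) = 0 := by
      have : k j ∈ LinearMap.ker π := by rw [← hk]; exact Submodule.subset_span ⟨j, rfl⟩
      exact this
    have h0 : G.presheaf.germ V₀ x hxV₀ (φ₀ (k j)) = G.presheaf.germ V₀ x hxV₀ 0 := by
      rw [hφ₀, hkj, map_zero, map_zero, map_zero]
    obtain ⟨W', hxW', i₁, i₂, heq⟩ := TopCat.Presheaf.germ_eq G.presheaf x hxV₀ hxV₀ _ _ h0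
    refine ⟨W', hxW', i₁.le, ?_⟩
    rw [map_zero] at heq
    exact heq
  choose W hxW hWV hW using h2
  let W₀ : X.Opens := V₀ ⊓ ⟨⋂ j, (W j : Set X), isOpen_iInter_of_finite fun j => (W j).2⟩
  have hxW₀ : x ∈ W₀ := ⟨hxV₀, Set.mem_iInter.2 hxW⟩
  have hW₀V₀ : W₀ ≤ V₀ := inf_le_left
  have hW₀U : W₀ ≤ U := hW₀V₀.trans hV₀U
  have hW₀ : ∀ j, W₀ ≤ W j := fun j y hy => Set.mem_iInter.1 hy.2 j
  letI m2 := modOfLE G hW₀U
  let ρ : Γ(G, V₀) →ₗ[Γ(X, U)] Γ(G, W₀) :=
    { toFun := fun n => G.presheaf.map (homOfLE hW₀V₀).op n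
      map_add' := fun a b => map_add _ _ _
      map_smul' := fun a n => by
        change G.presheaf.map (homOfLE hW₀V₀).op (X.presheaf.map (homOfLE hV₀U).op a • n) =
          X.presheaf.map (homOfLE hW₀U).op a • G.presheaf.map (homOfLE hW₀V₀).op n
        rw [Scheme.Modules.map_smul, ← ConcreteCategory.comp_apply, ← Functor.map_comp]
        rfl }
  let φ : (Fin r → Γ(X, U)) →ₗ[Γ(X, U)] Γ(G, W₀) := ρ ∘ₗ φ₀
  have hKφ : LinearMap.ker π ≤ LinearMap.ker φ := by
    rw [← hk, Submodule.span_le]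
    rintro _ ⟨j, rfl⟩
    change G.presheaf.map (homOfLE hW₀V₀).op (φ₀ (k j)) = 0
    have h3 := congrArg (G.presheaf.map (homOfLE (hW₀ j)).op) (hW j)
    rw [map_zero, ← ConcreteCategory.comp_apply, ← Functor.map_comp] at h3
    exact h3
  let ψ : Γ(F, U) →ₗ[Γ(X, U)] Γ(G, W₀) :=
    (Submodule.liftQ (LinearMap.ker π) φ hKφ).comp
      (π.quotKerEquivOfSurjective hπ).symm.toLinearMap
  have hψπ : ∀ a, ψ (π a) = φ a := by
    intro a
    have h4 : (π.quotKerEquivOfSurjective hπ).symm (π a) = Submodule.Quotient.mk a :=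
      (LinearEquiv.symm_apply_eq _).2 (by simp)
    change Submodule.liftQ (LinearMap.ker π) φ hKφ ((π.quotKerEquivOfSurjective hπ).symm (π a)) = _
    rw [h4, Submodule.liftQ_apply]
  have hψ : ∀ (a : Γ(X, U)) (m : Γ(F, U)),
      ψ.toAddMonoidHom (a • m) = X.presheaf.map (homOfLE hW₀U).op a • ψ.toAddMonoidHom m :=
    fun a m => ψ.map_smul a m
  refine ⟨(homSh F G).presheaf.germ W₀ x hxW₀ (ofLin F G hW₀U ψ.toAddMonoidHom hψ hU), ?_⟩
  rw [evalStalk_germ]
  change stalkOfLin F G hW₀U ψ.toAddMonoidHom hψ hU x hxW₀ = h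
  refine stalkHom_ext F G hU x hxU _ _ fun m => ?_
  obtain ⟨a, rfl⟩ := hπ m
  rw [stalkOfLin_germ]
  change G.presheaf.germ W₀ x hxW₀ (ψ (π a)) = _
  rw [hψπ]
  change G.presheaf.germ W₀ x hxW₀ (G.presheaf.map (homOfLE hW₀V₀).op (φ₀ a)) = _
  rw [TopCat.Presheaf.germ_res_apply, hφ₀]

/-- **`𝓗om(F,G)_x ≃ Hom(F_x,G_x)`** for `F` of finite presentation. -/
theorem evalStalk_bijective (hF : CohB1.IsFP F) (x : X) :
    Function.Bijective (evalStalk F G x) := by
  haveI : SheafOfModules.IsFinitePresentation (R := X.ringCatSheaf) F := hF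
  haveI : F.IsQuasicoherent := inferInstance
  exact ⟨evalStalk_injective F G inferInstance x, evalStalk_surjective F G hF x⟩

end Groth.Agent.Lib.Lead.RH
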