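import Mathlib
import Groth.Prelude.Def_RefHull
import Groth.Agent.Lib.Lead.RefHull2

/-!
# Sections of the sheaf Hom as linear maps of sections (lead)

* `appSec g m`: for a section `g` of `𝓗om(F,G)` over `V` and a section `m` of `F` over `V`, the section of `G`
  over `V` whose germ at `y` is `g_y(m_y)` (`germ_appSec`, `appSec_ext`).
* `appLin g : Γ(F,V) →ₗ[Γ(X,V)] Γ(G,V)`, `appHom : Γ(𝓗om(F,G),V) →ₗ (Γ(F,V) →ₗ Γ(G,V))`, `appSec_res`.
* `secEquiv`: for `F` quasi-coherent and `U` affine, `Γ(𝓗om(F,G),U) ≃ₗ Hom_{Γ(X,U)}(Γ(F,U), Γ(G,U))`.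
-/

set_option autoImplicit false
set_option backward.isDefEq.respectTransparency false
set_option linter.style.haveILetI false
set_option linter.unusedSectionVars false
universe u

open CategoryTheory CategoryTheory.Limits AlgebraicGeometry TopologicalSpace Opposite

namespace Groth.Agent.Lib.Lead.RH

open RefHull Groth.Agent.Lib.helper16.CohStalk

variable {X : Scheme.{u}} (F G : X.Modules)

/-- sections of an `O_X`-module are determined by their germs -/
theorem section_ext' {V : X.Opens} (s t : Γ(G, V))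
    (h : ∀ (y : X) (hy : y ∈ V), G.presheaf.germ V y hy s = G.presheaf.germ V y hy t) : s = t :=
  TopCat.Presheaf.section_ext ⟨G.presheaf, G.isSheaf⟩ V s t h

theorem exists_appSec {V : X.Opens} (g : Γ(homSh F G, V)) (m : Γ(F, V)) :
    ∃ n : Γ(G, V), ∀ (y : X) (hy : y ∈ V),
      G.presheaf.germ V y hy n = g.1 ⟨y, hy⟩ (F.presheaf.germ V y hy m) := by
  have h1 := fun y : V => isLocSect_of_mem g V (𝟙 V) m y
  choose W hW j n hn using h1
  have hcov : V ≤ ⨆ y : V, W y := fun y hy => Opens.mem_iSup.2 ⟨⟨y, hy⟩, hW ⟨y, hy⟩⟩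
  have hcompat : TopCat.Presheaf.IsCompatible G.presheaf W n := by
    intro y y'
    refine section_ext' G _ _ fun z hz => ?_
    rw [TopCat.Presheaf.germ_res_apply, TopCat.Presheaf.germ_res_apply]
    exact (hn y ⟨z, hz.1⟩).symm.trans (hn y' ⟨z, hz.2⟩)
  obtain ⟨s, hs, -⟩ := TopCat.Sheaf.existsUnique_gluing' ⟨G.presheaf, G.isSheaf⟩ W V j hcov n hcompat
  refine ⟨s, fun y hy => ?_⟩
  have h2 := hn ⟨y, hy⟩ ⟨y, hW ⟨y, hy⟩⟩
  have h3 : G.presheaf.map (j ⟨y, hy⟩).op s = n ⟨y, hy⟩ := hs ⟨y, hy⟩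
  rw [← TopCat.Presheaf.germ_res_apply G.presheaf (j ⟨y, hy⟩) y (hW ⟨y, hy⟩) s, h3]
  exact h2.symm

/-- the value `g(m)` of a section of the sheaf Hom on a section of `F` -/
noncomputable def appSec {V : X.Opens} (g : Γ(homSh F G, V)) (m : Γ(F, V)) : Γ(G, V) :=
  (exists_appSec F G g m).choose

theorem germ_appSec {V : X.Opens} (g : Γ(homSh F G, V)) (m : Γ(F, V)) (y : X) (hy : y ∈ V) :
    G.presheaf.germ V y hy (appSec F G g m) = g.1 ⟨y, hy⟩ (F.presheaf.germ V y hy m) :=
  (exists_appSec F G g m).choose_spec y hy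

theorem appSec_ext {V : X.Opens} (g : Γ(homSh F G, V)) (m : Γ(F, V)) (n : Γ(G, V))
    (h : ∀ (y : X) (hy : y ∈ V),
      G.presheaf.germ V y hy n = g.1 ⟨y, hy⟩ (F.presheaf.germ V y hy m)) :
    n = appSec F G g m :=
  section_ext' G _ _ fun y hy => by rw [h, germ_appSec]

theorem homSh_add_apply {V : X.Opens} (g g' : Γ(homSh F G, V)) (y : V) :
    (g + g').1 y = g.1 y + g'.1 y := rfl

/-- `m ↦ g(m)` as a linear map -/
noncomputable def appLin {V : X.Opens} (g : Γ(homSh F G, V)) : Γ(F, V) →ₗ[Γ(X, V)] Γ(G, V) where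
  toFun := appSec F G g
  map_add' a b := by
    symm
    refine appSec_ext F G g _ _ fun y hy => ?_
    rw [map_add, map_add, map_add, germ_appSec, germ_appSec]
  map_smul' a m := by
    symm
    refine appSec_ext F G g _ _ fun y hy => ?_
    rw [RingHom.id_apply, Mero.germ_smul, Mero.germ_smul, map_smul, germ_appSec]

@[simp] theorem appLin_apply {V : X.Opens} (g : Γ(homSh F G, V)) (m : Γ(F, V)) :
    appLin F G g m = appSec F G g m := rfl

/-- `g ↦ (m ↦ g(m))` as a linear map -/
noncomputable def appHom (V : X.Opens) :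
    Γ(homSh F G, V) →ₗ[Γ(X, V)] (Γ(F, V) →ₗ[Γ(X, V)] Γ(G, V)) where
  toFun := appLin F G
  map_add' g g' := by
    refine LinearMap.ext fun m => ?_
    symm
    refine appSec_ext F G _ _ _ fun y hy => ?_
    rw [LinearMap.add_apply, map_add, appLin_apply, appLin_apply, germ_appSec, germ_appSec,
      homSh_add_apply, LinearMap.add_apply]
  map_smul' a g := by
    refine LinearMap.ext fun m => ?_
    symm
    refine appSec_ext F G _ _ _ fun y hy => ?_
    rw [RingHom.id_apply, LinearMap.smul_apply, Mero.germ_smul, appLin_apply, germ_appSec,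
      Mero.modOf_smul_apply, LinearMap.smul_apply]

@[simp] theorem appHom_apply {V : X.Opens} (g : Γ(homSh F G, V)) (m : Γ(F, V)) :
    appHom F G V g m = appSec F G g m := rfl

/-- compatibility of `appSec` with restriction -/
theorem appSec_res {V W : X.Opens} (i : W ⟶ V) (g : Γ(homSh F G, V)) (m : Γ(F, V)) :
    appSec F G ((homSh F G).presheaf.map i.op g) (F.presheaf.map i.op m) =
      G.presheaf.map i.op (appSec F G g m) := by
  symm
  refine appSec_ext F G _ _ _ fun y hy => ?_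
  rw [TopCat.Presheaf.germ_res_apply, TopCat.Presheaf.germ_res_apply, germ_appSec]
  rfl

/-- a section of the sheaf Hom is determined by its values on sections over smaller opens;
for `F` quasi-coherent and `U` affine, by its values on sections over `U` -/
theorem homSh_ext_of_appSec [F.IsQuasicoherent] {U : X.Opens} (hU : IsAffineOpen U)
    (g g' : Γ(homSh F G, U)) (h : ∀ m : Γ(F, U), appSec F G g m = appSec F G g' m) : g = g' := by
  refine Subtype.ext (funext fun y => ?_)
  refine stalkHom_ext F G hU y.1 y.2 _ _ fun m => ?_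
  rw [← germ_appSec, ← germ_appSec, h]

/-- the section of the sheaf Hom over an affine open `U` defined by a linear map
`Γ(F,U) → Γ(G,U)` -/
noncomputable def ofLinAff [F.IsQuasicoherent] {U : X.Opens} (hU : IsAffineOpen U)
    (ψ : Γ(F, U) →ₗ[Γ(X, U)] Γ(G, U)) : Γ(homSh F G, U) :=
  ofLin F G (le_refl U) ψ.toAddMonoidHom (fun a m => by
    have h1 : X.presheaf.map (homOfLE (le_refl U)).op a = a := by
      have : (homOfLE (le_refl U)).op = 𝟙 (op U) := rfl
      rw [this, X.presheaf.map_id]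
      rfl
    rw [h1]
    exact ψ.map_smul a m) hU

theorem appSec_ofLinAff [F.IsQuasicoherent] {U : X.Opens} (hU : IsAffineOpen U)
    (ψ : Γ(F, U) →ₗ[Γ(X, U)] Γ(G, U)) (m : Γ(F, U)) :
    appSec F G (ofLinAff F G hU ψ) m = ψ m := by
  symm
  refine appSec_ext F G _ _ _ fun y hy => ?_
  exact (stalkOfLin_germ F G (le_refl U) ψ.toAddMonoidHom _ hU y hy m).symm

/-- **`Γ(𝓗om(F,G),U) ≃ Hom_{Γ(X,U)}(Γ(F,U), Γ(G,U))`** for `F` quasi-coherent and `U` affine. -/
noncomputable def secEquiv [F.IsQuasicoherent] {U : X.Opens} (hU : IsAffineOpen U) :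
    Γ(homSh F G, U) ≃ₗ[Γ(X, U)] (Γ(F, U) →ₗ[Γ(X, U)] Γ(G, U)) :=
  LinearEquiv.ofBijective (appHom F G U)
    ⟨fun g g' h => homSh_ext_of_appSec F G hU g g' fun m => by
        have := congrArg (fun φ => φ m) h
        exact this,
      fun ψ => ⟨ofLinAff F G hU ψ, LinearMap.ext fun m => appSec_ofLinAff F G hU ψ m⟩⟩

@[simp] theorem secEquiv_apply [F.IsQuasicoherent] {U : X.Opens} (hU : IsAffineOpen U)
    (g : Γ(homSh F G, U)) (m : Γ(F, U)) : secEquiv F G hU g m = appSec F G g m := rfl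

end Groth.Agent.Lib.Lead.RH
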