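import Mathlib
import Groth.Prelude.Def_RefHull
import Groth.Agent.Lib.Helper7.QCohLoc
import Groth.Agent.Lib.Lead.RefHull3

/-!
# Quasi-coherence and coherence of the sheaf Hom (lead)

* `homSh_isQuasicoherent`: `𝓗om(F,G)` is quasi-coherent for `F` of finite presentation and `G` quasi-coherent.
* `homSh_isCoh`: on a locally Noetherian scheme `𝓗om(F,G)` is coherent for coherent `F`, `G`.
* `homSh_isFP`: ... hence finitely presented.
-/

set_option autoImplicit false
set_option backward.isDefEq.respectTransparency false
set_option linter.style.haveILetI false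
set_option linter.unusedSectionVars false
universe u

open CategoryTheory CategoryTheory.Limits AlgebraicGeometry TopologicalSpace Opposite

namespace Groth.Agent.Lib.Lead.RH

open RefHull Groth.Agent.Lib.helper16.CohStalk Groth.Agent.Lib.helper16.CohFinite

variable {X : Scheme.{u}} (F G : X.Modules)

/-- `m ↦ t(m)` as a `Γ(X,U)`-linear map, for a section `t` of the sheaf Hom over `V ≤ U` -/
noncomputable def appLinLE {U V : X.Opens} (hle : V ≤ U) (t : Γ(homSh F G, V)) :
    @LinearMap Γ(X, U) Γ(X, U) _ _ (RingHom.id _) Γ(F, V) Γ(G, V) _ _ (modOfLE F hle)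
      (modOfLE G hle) :=
  letI := modOfLE F hle
  letI := modOfLE G hle
  { toFun := appSec F G t
    map_add' := (appLin F G t).map_add
    map_smul' := fun a m => (appLin F G t).map_smul (resRing hle a) m }

theorem homSh_isQuasicoherent (hF : CohB1.IsFP F) [G.IsQuasicoherent] :
    (homSh F G).IsQuasicoherent := by
  haveI : SheafOfModules.IsFinitePresentation (R := X.ringCatSheaf) F := hF
  haveI : F.IsQuasicoherent := inferInstance
  refine Groth.Agent.Lib.helper7.QCohLoc.isQuasicoherent_of_loc (homSh F G) ?_ ?_
  · intro U hU f g hg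
    haveI : Module.FinitePresentation Γ(X, U) Γ(F, U) :=
      Groth.Agent.Lib.helper16.CohFP.fp_sections_of_isFinitePresentation F hF hU
    obtain ⟨r, t, ht⟩ := Module.Finite.exists_fin (R := Γ(X, U)) (M := Γ(F, U))
    have h1 : ∀ i, ∃ k : ℕ, f ^ k • appSec F G g (t i) = 0 := by
      intro i
      apply Groth.Agent.Lib.helper7.exists_pow_smul_eq_zero_of_isAffineOpen hU G f
      rw [← appSec_res, hg]
      exact LinearMap.congr_fun (map_zero (appHom F G (X.basicOpen f))) _
    choose k hk using h1
    refine ⟨Finset.univ.sup k, ?_⟩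
    apply (secEquiv F G hU).injective
    rw [map_zero, map_smul]
    refine LinearMap.ext_on ht ?_
    rintro _ ⟨i, rfl⟩
    rw [LinearMap.smul_apply, secEquiv_apply, LinearMap.zero_apply,
      ← pow_sub_mul_pow f (Finset.le_sup (f := k) (Finset.mem_univ i)), mul_smul, hk, smul_zero]
  · intro U hU f t
    have hle : X.basicOpen f ≤ U := X.basicOpen_le f
    have hV : IsAffineOpen (X.basicOpen f) := hU.basicOpen f
    letI := modOfLE F hle
    letI := modOfLE G hle
    haveI := isLocalizedModule_of_eq_basicOpen F hU f hle rfl
    haveI := isLocalizedModule_of_eq_basicOpen G hU f hle rfl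
    haveI : Module.FinitePresentation Γ(X, U) Γ(F, U) :=
      Groth.Agent.Lib.helper16.CohFP.fp_sections_of_isFinitePresentation F hF hU
    obtain ⟨⟨ψ, s⟩, hs⟩ := IsLocalizedModule.surj (Submonoid.powers f)
      (IsLocalizedModule.map (Submonoid.powers f) (resLin F hle) (resLin G hle))
      (appLinLE F G hle t)
    obtain ⟨n, hn⟩ := s.2
    refine ⟨n, ofLinAff F G hU ψ, ?_⟩
    apply homSh_ext_of_appSec F G hV
    have key : appLinLE F G hle ((homSh F G).presheaf.map (homOfLE hle).op (ofLinAff F G hU ψ)) =
        s • appLinLE F G hle t := by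
      refine IsLocalizedModule.ext (Submonoid.powers f) (resLin F hle)
        (IsLocalizedModule.map_units (resLin G hle)) ?_
      refine LinearMap.ext fun m => ?_
      rw [hs]
      change appSec F G _ (F.presheaf.map (homOfLE hle).op m) =
        IsLocalizedModule.map (Submonoid.powers f) (resLin F hle) (resLin G hle) ψ (resLin F hle m)
      rw [IsLocalizedModule.map_apply, appSec_res, appSec_ofLinAff]
      rfl
    intro m'
    have h2 := LinearMap.congr_fun key m'
    refine h2.trans ?_
    change (s : Γ(X, U)) • appSec F G t m' = _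
    rw [← hn]
    change resRing hle (f ^ n) • appSec F G t m' = _
    rw [map_pow]
    exact (LinearMap.congr_fun ((appHom F G (X.basicOpen f)).map_smul (resRing hle f ^ n) t) m').symm

/-- **`𝓗om(F,G)` is coherent** for coherent `F`, `G` on a locally Noetherian scheme. -/
theorem homSh_isCoh [IsLocallyNoetherian X] (hF : Coh.IsCoh F) (hG : Coh.IsCoh G) :
    Coh.IsCoh (homSh F G) := by
  haveI : F.IsQuasicoherent := hF.1
  haveI : G.IsQuasicoherent := hG.1
  have hFP := isFinitePresentation_of_isCoh F hF
  haveI := homSh_isQuasicoherent F G hFP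
  refine isCoh_of_finite_sections (homSh F G) (fun U : X.affineOpens => U.1) (fun U => U.2)
    (iSup_affineOpens_eq_top X) fun U => ?_
  haveI : IsNoetherianRing Γ(X, U.1) := IsLocallyNoetherian.component_noetherian U
  haveI := finite_sections_of_isCoh F hF U.2
  haveI := finite_sections_of_isCoh G hG U.2
  exact Module.Finite.equiv (secEquiv F G U.2).symm

/-- the structure sheaf is coherent on a locally Noetherian scheme (indeed on any scheme it is
quasi-coherent of finite type) -/
theorem homSh_isFP [IsLocallyNoetherian X] (hF : Coh.IsCoh F) (hG : Coh.IsCoh G) :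
    CohB1.IsFP (homSh F G) :=
  isFinitePresentation_of_isCoh _ (homSh_isCoh F G hF hG)

end Groth.Agent.Lib.Lead.RH
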