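import Mathlib
import Groth.Prelude.Def_RefHull
import Groth.Agent.Lib.Helper11.IsoLocus
import Groth.Agent.Lib.Lead.RefHull4

/-!
# Reflexive modules: `bidualMap` on stalks (lead)

* `bijective_applyₗ_iff`: for `L ≃ R`, `M → Hom(Hom(M,L),L)` is bijective iff `M` is reflexive.
* `exists_stalkUnitEquiv`: the stalk of the module `O_X` at `x` is isomorphic to `O_{X,x}`.
* `isReflexiveAt_iff_bijective_bidualAt`: for coherent `F` on a locally Noetherian scheme,
  `F_x` is reflexive iff `bidualAt F x` is bijective.
* `isReflexive_iff_forall_isReflexiveAt`: `F` reflexive iff all stalks are reflexive.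
-/

set_option autoImplicit false
set_option backward.isDefEq.respectTransparency false
set_option linter.style.haveILetI false
set_option linter.unusedSectionVars false
universe u

open CategoryTheory CategoryTheory.Limits AlgebraicGeometry TopologicalSpace Opposite

namespace Groth.Agent.Lib.Lead.RH

open RefHull Groth.Agent.Lib.helper16.CohStalk Groth.Agent.Lib.helper16.CohFinite

section Algebra

variable {R M L : Type*} [CommRing R] [AddCommGroup M] [Module R M] [AddCommGroup L] [Module R L]

/-- evaluation into the `L`-valued bidual is bijective iff `M` is reflexive, when `L ≃ R` -/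
theorem bijective_applyₗ_iff (e : L ≃ₗ[R] R) :
    Function.Bijective (LinearMap.applyₗ : M →ₗ[R] (M →ₗ[R] L) →ₗ[R] L) ↔
      Module.IsReflexive R M := by
  let C : ((M →ₗ[R] L) →ₗ[R] L) ≃ₗ[R] ((M →ₗ[R] R) →ₗ[R] R) :=
    LinearEquiv.arrowCongr (LinearEquiv.arrowCongr (LinearEquiv.refl R M) e) e
  have hC : ∀ v : M, C (LinearMap.applyₗ v) = Module.Dual.eval R M v := by
    intro v
    refine LinearMap.ext fun ξ => ?_
    simp [C, LinearEquiv.arrowCongr_apply, LinearEquiv.arrowCongr_symm_apply]
  have hcomp : (Module.Dual.eval R M : M → _) = C ∘ (LinearMap.applyₗ : M →ₗ[R] (M →ₗ[R] L) →ₗ[R] L) :=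
    funext fun v => (hC v).symm
  constructor
  · intro h
    refine ⟨?_⟩
    rw [hcomp]
    exact C.bijective.comp h
  · intro h
    have h1 := Module.bijective_dual_eval R M
    rw [hcomp] at h1
    exact (Function.Bijective.of_comp_iff' C.bijective _).1 h1

end Algebra

variable {X : Scheme.{u}} (F G : X.Modules)

theorem isQuasicoherent_structureModule' (X : Scheme.{u}) :
    (Coh.structureModule X).IsQuasicoherent :=
  Groth.Agent.Lib.helper16.FLF.isQuasicoherent_of_isFinLocFree _
    (Groth.Agent.Lib.helper16.FLF.isFinLocFree_structureModule X)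

theorem isCoh_structureModule' (X : Scheme.{u}) : Coh.IsCoh (Coh.structureModule X) :=
  haveI := isQuasicoherent_structureModule' X
  isCoh_of_finite_sections (Coh.structureModule X)
    (fun U : X.affineOpens => U.1) (fun U => U.2) (iSup_affineOpens_eq_top X)
    (fun U => inferInstanceAs (Module.Finite Γ(X, U.1) Γ(X, U.1)))

/-- the stalk of the module `O_X` at `x` is (non-canonically here) isomorphic to `O_{X,x}` -/
theorem exists_stalkUnitEquiv (x : X) :
    Nonempty ((Coh.structureModule X).presheaf.stalk x ≃ₗ[X.presheaf.stalk x] X.presheaf.stalk x) := by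
  obtain ⟨hfree, hfin⟩ := Groth.Agent.Lib.helper16.FLF.free_stalk_of_isFinLocFree _
    (Groth.Agent.Lib.helper16.FLF.isFinLocFree_structureModule X) x
  have hrk := Groth.Agent.Lib.helper16.FLF.finrank_stalk_of_isFinLocFreeOfRank _
    (Groth.Agent.Lib.helper16.FLF.isFinLocFreeOfRank_structureModule X) x
  let b := Module.finBasis (X.presheaf.stalk x) ((Coh.structureModule X).presheaf.stalk x)
  rw [hrk] at b
  exact ⟨b.equivFun.trans (LinearEquiv.funUnique (Fin 1) (X.presheaf.stalk x) (X.presheaf.stalk x))⟩

section Noeth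

variable [IsLocallyNoetherian X]

theorem dual_isCoh (hF : Coh.IsCoh F) : Coh.IsCoh (dual F) :=
  homSh_isCoh F _ hF (isCoh_structureModule' X)

theorem ddual_isCoh (hF : Coh.IsCoh F) : Coh.IsCoh (ddual F) :=
  dual_isCoh _ (dual_isCoh F hF)

/-- for coherent `F`, `F_x` is reflexive iff `bidualAt F x` is bijective -/
theorem isReflexiveAt_iff_bijective_bidualAt (hF : Coh.IsCoh F) (x : X) :
    IsReflexiveAt F x ↔ Function.Bijective (bidualAt F x) := by
  have hFP := isFinitePresentation_of_isCoh F hF
  have hE1 := evalStalk_bijective F (Coh.structureModule X) hFP x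
  obtain ⟨e⟩ := exists_stalkUnitEquiv (X := X) x
  rw [IsReflexiveAt, ← bijective_applyₗ_iff e]
  let E1 := LinearEquiv.ofBijective (evalStalk F (Coh.structureModule X) x) hE1
  let P : (StalkHom F (Coh.structureModule X) x →ₗ[X.presheaf.stalk x]
        (Coh.structureModule X).presheaf.stalk x) ≃ₗ[X.presheaf.stalk x]
      ((dual F).presheaf.stalk x →ₗ[X.presheaf.stalk x]
        (Coh.structureModule X).presheaf.stalk x) :=
    LinearEquiv.arrowCongr E1.symm
      (LinearEquiv.refl (X.presheaf.stalk x) ((Coh.structureModule X).presheaf.stalk x))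
  have h1 : (bidualAt F x : _ → _) = P ∘ LinearMap.applyₗ :=
    funext fun v => LinearMap.ext fun θ => by
      simp [P, E1, LinearEquiv.arrowCongr_apply]
  rw [h1]
  exact (Function.Bijective.of_comp_iff' P.bijective _).symm

theorem evalStalk_stalkMapₗ_bidualMap (x : X) (v : F.presheaf.stalk x) :
    evalStalk (dual F) (Coh.structureModule X) x (stalkMapₗ (bidualMap F) x v) = bidualAt F x v := by
  obtain ⟨U, hxU, s, rfl⟩ := TopCat.Presheaf.exists_germ_eq F.presheaf v
  rw [stalkMapₗ_germ, evalStalk_germ]
  rfl

/-- the stalk of `bidualMap F` at `x` is bijective iff `F_x` is reflexive -/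
theorem bijective_stalkMapₗ_bidualMap_iff (hF : Coh.IsCoh F) (x : X) :
    Function.Bijective (stalkMapₗ (bidualMap F) x) ↔ IsReflexiveAt F x := by
  have hE2 := evalStalk_bijective (dual F) (Coh.structureModule X)
    (isFinitePresentation_of_isCoh _ (dual_isCoh F hF)) x
  rw [isReflexiveAt_iff_bijective_bidualAt F hF x]
  have h1 : (bidualAt F x : _ → _) =
      evalStalk (dual F) (Coh.structureModule X) x ∘ stalkMapₗ (bidualMap F) x :=
    funext fun v => (evalStalk_stalkMapₗ_bidualMap F x v).symm
  rw [h1]
  exact (Function.Bijective.of_comp_iff' hE2 _).symm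

/-- **`F` is reflexive iff all its stalks are reflexive** (coherent `F`, locally Noetherian `X`). -/
theorem isReflexive_iff_forall_isReflexiveAt (hF : Coh.IsCoh F) :
    IsReflexive F ↔ ∀ x : X, IsReflexiveAt F x := by
  unfold IsReflexive
  rw [Groth.Agent.Lib.helper11.IsoLocus.isIso_iff_stalk]
  refine forall_congr' fun x => ?_
  rw [← bijective_stalkMapₗ_bidualMap_iff F hF x, ConcreteCategory.isIso_iff_bijective]
  rfl

end Noeth

end Groth.Agent.Lib.Lead.RH
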