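import Groth.Agent.S16082
import Groth.Agent.Lib.Helper8.StalkExact
import Groth.Agent.Lib.Helper8.DevMaster
import Groth.Agent.Lib.Helper16.CohFinite
import Groth.Prelude.Def_ShStab

/-!
# Torsion-free modules on an integral scheme are pure (lead)

* `isTorsionFree_structureModule`: on an integral scheme the module `O_X` is torsion free (stalkwise).
* `isTorsionFree_of_mono`: a submodule of a torsion-free module is torsion free.
* `isTorsionFree_of_isReflexive`: a reflexive module (`RefHull.IsReflexive`) on an integral scheme is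
  torsion free.
* `stalkSpecializes_injective`: for `F` quasi-coherent and torsion free on an integral scheme, the
  specialization map `F_x → F_η` to the generic stalk is injective.
* `isPure_of_isTorsionFree`: a quasi-coherent torsion-free module on an integral scheme of dimension `n`
  is pure of dimension `n` (`ShStab.IsPure`).
-/

set_option autoImplicit false
set_option backward.isDefEq.respectTransparency false
set_option linter.style.haveILetI false
set_option linter.unusedSectionVars false
universe u
open CategoryTheory CategoryTheory.Limits AlgebraicGeometry TopologicalSpace Opposite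

namespace Groth.Agent.Lib.Lead.TorsPure

open Groth.Agent.Lib.helper17.FlatOver7 Groth.Agent.Lib.helper16.QCohAss

variable {X : Scheme.{u}}

/-- torsion-freeness passes to submodules -/
theorem isTorsionFree_of_mono {F G : X.Modules} (φ : F ⟶ G) [Mono φ]
    (hG : TorSh.IsTorsionFree G) : TorSh.IsTorsionFree F := by
  intro x
  haveI := hG x
  exact Function.Injective.moduleIsTorsionFree (stalkAdd φ x)
    (Groth.Agent.Lib.helper8.StalkLen.stalkAdd_injective_of_mono φ x)
    (fun r m => stalkAdd_smul φ x r m)

/-- the module `O_X` on an integral scheme is torsion free -/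
theorem isTorsionFree_structureModule [IsIntegral X] :
    TorSh.IsTorsionFree (Coh.structureModule X) := by
  intro x
  refine Module.IsTorsionFree.of_smul_eq_zero (fun r m hrm => ?_)
  by_cases hr : r = 0
  · exact Or.inl hr
  right
  obtain ⟨U₁, hx₁, a₁, rfl⟩ := X.presheaf.exists_germ_eq r
  obtain ⟨U₂, hx₂, b₂, rfl⟩ := (Coh.structureModule X).presheaf.exists_germ_eq m
  let W : X.Opens := U₁ ⊓ U₂
  have hxW : x ∈ W := ⟨hx₁, hx₂⟩
  let a : Γ(X, W) := (X.presheaf.map (homOfLE (inf_le_left : W ≤ U₁)).op).hom a₁
  let b : Γ(Coh.structureModule X, W) :=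
    ((Coh.structureModule X).presheaf.map (homOfLE (inf_le_right : W ≤ U₂)).op).hom b₂
  have ha : (X.presheaf.germ W x hxW).hom a = (X.presheaf.germ U₁ x hx₁).hom a₁ :=
    TopCat.Presheaf.germ_res_apply _ _ _ _ _
  have hb : ((Coh.structureModule X).presheaf.germ W x hxW).hom b =
      ((Coh.structureModule X).presheaf.germ U₂ x hx₂).hom b₂ :=
    TopCat.Presheaf.germ_res_apply _ _ _ _ _
  rw [← ha, ← hb, ← germ_smul'] at hrm
  obtain ⟨W', hxW', i₁, i₂, hres⟩ := (Coh.structureModule X).presheaf.germ_eq x hxW hxW _ _
    (hrm.trans (map_zero _).symm)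
  have hle : W' ≤ W := i₁.le
  let a' : Γ(X, W') := (X.presheaf.map (homOfLE hle).op).hom a
  let b' : Γ(Coh.structureModule X, W') :=
    ((Coh.structureModule X).presheaf.map (homOfLE hle).op).hom b
  have hab : a' • b' = 0 := by
    have h1 : ((Coh.structureModule X).presheaf.map (homOfLE hle).op).hom (a • b) = a' • b' :=
      Scheme.Modules.map_smul (Coh.structureModule X) (homOfLE hle) a b
    rw [← h1]
    have h2 : ((Coh.structureModule X).presheaf.map i₁.op).hom (a • b) = 0 := by
      rw [show ((Coh.structureModule X).presheaf.map i₁.op).hom (a • b) =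
        ((Coh.structureModule X).presheaf.map i₂.op).hom 0 from hres, map_zero]
    exact h2
  have ha' : (X.presheaf.germ W' x hxW').hom a' = (X.presheaf.germ U₁ x hx₁).hom a₁ := by
    rw [← ha]
    exact TopCat.Presheaf.germ_res_apply _ _ _ _ _
  have hb' : ((Coh.structureModule X).presheaf.germ W' x hxW').hom b' =
      ((Coh.structureModule X).presheaf.germ U₂ x hx₂).hom b₂ := by
    rw [← hb]
    exact TopCat.Presheaf.germ_res_apply _ _ _ _ _
  have ha'ne : a' ≠ 0 := by
    intro h
    apply hr
    rw [← ha', h, map_zero]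
  -- sections of the module `O_X` over `W'` are functions, and `•` is multiplication
  haveI : IsDomain Γ(X, W') :=
    @AlgebraicGeometry.IsIntegral.component_integral X _ W' ⟨⟨x, hxW'⟩⟩
  have hb'0 : b' = 0 := by
    have h3 : (a' * (show Γ(X, W') from b') : Γ(X, W')) = 0 := hab
    rcases mul_eq_zero.mp h3 with h | h
    · exact absurd h ha'ne
    · exact h
  rw [← hb', hb'0, map_zero]

/-- a reflexive module on an integral scheme is torsion free -/
theorem isTorsionFree_of_isReflexive [IsIntegral X] (F : X.Modules) (hF : RefHull.IsReflexive F) :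
    TorSh.IsTorsionFree F := by
  haveI : IsIso (RefHull.bidualMap F) := hF
  exact isTorsionFree_of_mono (RefHull.bidualMap F)
    (Groth.Agent.S16082.result' X (RefHull.dual F) (Coh.structureModule X)
      isTorsionFree_structureModule)


open Groth.Agent.Lib.helper16.CohFinite in
/-- for `F` quasi-coherent and torsion free on an integral scheme: a section whose germ at the generic
point vanishes has vanishing germs everywhere (`F_x → F_η` is injective) -/
theorem germ_eq_zero_of_germ_genericPoint_eq_zero [IsIntegral X] (F : X.Modules) [F.IsQuasicoherent]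
    (hF : TorSh.IsTorsionFree F) {U : X.Opens} (x : X) (hx : x ∈ U) (t : Γ(F, U))
    (hη : genericPoint X ∈ U)
    (h0 : (F.presheaf.germ U (genericPoint X) hη).hom t = 0) :
    (F.presheaf.germ U x hx).hom t = 0 := by
  obtain ⟨_, ⟨W, hW, rfl⟩, hxW, hWU⟩ :=
    X.isBasis_affineOpens.exists_subset_of_mem_open (show x ∈ (U : Set X) from hx) U.isOpen
  have hWU' : W ≤ U := hWU
  have hηW : genericPoint X ∈ W :=
    ((genericPoint_spec X).mem_open_set_iff W.isOpen).mpr ⟨x, trivial, hxW⟩
  set t' : Γ(F, W) := (F.presheaf.map (homOfLE hWU').op).hom t with ht'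
  have e1 : (F.presheaf.germ W x hxW).hom t' = (F.presheaf.germ U x hx).hom t :=
    TopCat.Presheaf.germ_res_apply _ _ _ _ _
  have e2 : (F.presheaf.germ W (genericPoint X) hηW).hom t' = 0 := by
    rw [← h0]
    exact TopCat.Presheaf.germ_res_apply _ _ _ _ _
  rw [← e1]
  obtain ⟨V, hηV, i₁, i₂, hres⟩ := F.presheaf.germ_eq (genericPoint X) hηW hηW t' 0
    (e2.trans (map_zero _).symm)
  obtain ⟨a, haV, hηa⟩ := IsAffineOpen.exists_basicOpen_le hW ⟨genericPoint X, hηV⟩ hηW
  have hle : X.basicOpen a ≤ W := X.basicOpen_le a
  -- `t'` restricts to zero on `D(a)`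
  have hz : (F.presheaf.map (homOfLE hle).op).hom t' = 0 := by
    have h1 : (F.presheaf.map i₁.op).hom t' = 0 := by
      rw [show (F.presheaf.map i₁.op).hom t' = (F.presheaf.map i₂.op).hom 0 from hres, map_zero]
    have h2 : (F.presheaf.map (homOfLE haV).op).hom ((F.presheaf.map i₁.op).hom t') =
        (F.presheaf.map (homOfLE hle).op).hom t' := by
      rw [← ConcreteCategory.comp_apply, ← Functor.map_comp]
      rfl
    rw [← h2, h1, map_zero]
  letI := modOfLE F hle
  haveI := isLocalizedModule_of_eq_basicOpen (F := F) hW a hle rfl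
  have hz' : resLin F hle t' = 0 := hz
  obtain ⟨⟨_, N, rfl⟩, hN⟩ :=
    (IsLocalizedModule.eq_zero_iff (Submonoid.powers a) (resLin F hle)).mp hz'
  have hN' : (a ^ N) • t' = 0 := hN
  have hg : (X.presheaf.germ W x hxW).hom (a ^ N) • (F.presheaf.germ W x hxW).hom t' = 0 := by
    rw [← germ_smul', hN', map_zero]
  have ha0 : a ≠ 0 := by
    rintro rfl
    rw [Scheme.basicOpen_zero] at hηa
    exact hηa
  have hga : (X.presheaf.germ W x hxW).hom a ≠ 0 := by
    intro h
    apply ha0
    apply germ_injective_of_isIntegral X x hxW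
    rw [map_zero]
    exact h
  have hgN : (X.presheaf.germ W x hxW).hom (a ^ N) ≠ 0 := by
    rw [map_pow]
    exact pow_ne_zero _ hga
  haveI := hF x
  have hreg : IsRegular ((X.presheaf.germ W x hxW).hom (a ^ N)) := IsRegular.of_ne_zero hgN
  have hsm := (Module.IsTorsionFree.isSMulRegular hreg :
    IsSMulRegular (ToType (F.presheaf.stalk x)) _)
  apply hsm
  show _ • _ = _ • (0 : ToType (F.presheaf.stalk x))
  rw [smul_zero]
  exact hg

/-- a module all of whose stalks vanish is zero -/
theorem isZero_of_forall_subsingleton_stalk (M : X.Modules)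
    (h : ∀ x : X, Subsingleton (M.presheaf.stalk x)) : IsZero M := by
  rw [IsZero.iff_id_eq_zero]
  ext U s
  change s = 0
  refine TopCat.Presheaf.section_ext ⟨M.presheaf, M.isSheaf⟩ U s 0 (fun y hy => ?_)
  haveI := h y
  exact Subsingleton.elim _ _

/-- a quasi-coherent torsion-free module on an integral scheme of dimension `n` is pure of dimension `n` -/
theorem isPure_of_isTorsionFree [IsIntegral X] (n : ℕ)
    (hX : topologicalKrullDim X = (n : WithBot ℕ∞))
    (F : X.Modules) [F.IsQuasicoherent] (hF : TorSh.IsTorsionFree F) : ShStab.IsPure X F n := by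
  intro K ι hι hK hK0
  haveI := hι
  by_cases hη : genericPoint X ∈ CohB1.support K
  · have hcl : IsClosed (CohB1.support K) :=
      Groth.Agent.Lib.helper8.Dev.isClosed_support_of_isCoh K hK
    have huniv : CohB1.support K = Set.univ := by
      refine Set.eq_univ_of_univ_subset ?_
      have h1 : closure ({genericPoint X} : Set X) ⊆ CohB1.support K :=
        hcl.closure_subset_iff.mpr (Set.singleton_subset_iff.mpr hη)
      have h2 : closure ({genericPoint X} : Set X) = Set.univ := (genericPoint_spec X).def
      rwa [h2] at h1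
    rw [huniv]
    exact ((Homeomorph.Set.univ X).isHomeomorph.topologicalKrullDim_eq).trans hX
  · exfalso
    apply hK0
    have hsub : Subsingleton (K.presheaf.stalk (genericPoint X)) := by
      by_contra h
      exact hη h
    refine isZero_of_forall_subsingleton_stalk K (fun x => ?_)
    refine ⟨fun m m' => ?_⟩
    apply Groth.Agent.Lib.helper8.StalkLen.stalkAdd_injective_of_mono ι x
    obtain ⟨U, hxU, s, rfl⟩ := K.presheaf.exists_germ_eq m
    obtain ⟨U', hxU', s', rfl⟩ := K.presheaf.exists_germ_eq m'
    have hηU : genericPoint X ∈ U :=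
      ((genericPoint_spec X).mem_open_set_iff U.isOpen).mpr ⟨x, trivial, hxU⟩
    have hηU' : genericPoint X ∈ U' :=
      ((genericPoint_spec X).mem_open_set_iff U'.isOpen).mpr ⟨x, trivial, hxU'⟩
    rw [stalkAdd_germ, stalkAdd_germ]
    have key : ∀ (V : X.Opens) (hxV : x ∈ V) (hηV : genericPoint X ∈ V) (r : Γ(K, V)),
        (F.presheaf.germ V x hxV).hom ((ι.app V).hom r) = 0 := by
      intro V hxV hηV r
      apply germ_eq_zero_of_germ_genericPoint_eq_zero F hF x hxV _ hηV
      rw [← stalkAdd_germ ι (genericPoint X) V hηV r]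
      have : (K.presheaf.germ V (genericPoint X) hηV).hom r = 0 := Subsingleton.elim _ _
      rw [this, map_zero]
    rw [key U hxU hηU s, key U' hxU' hηU' s']

end Groth.Agent.Lib.Lead.TorsPure
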