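import Mathlib

/-! # Generic splitting via adjugates (request of helper18)

Pure Mathlib linear algebra over a commutative ring `A` with a residue field `κ`:
`exists_adj`, `bijective_baseChange_linearCombination`, `exists_extend`, `core`,
`exists_gsplit_of_span` (REQ-A) and `exists_smul_ker_le_range` (REQ-B). -/

set_option autoImplicit false
universe u
open TensorProduct

namespace Groth.Agent.Lib.Lead.AdjSplit

/-- ADJ -/
theorem exists_adj {A κ : Type u} [CommRing A] [Field κ] [Algebra A κ]
    {P : Type u} [AddCommGroup P] [Module A P] [Module.Finite A P] [Module.Free A P]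
    {ι : Type u} [Fintype ι] [DecidableEq ι]
    (G : (ι → A) →ₗ[A] P) (hG : Function.Bijective (G.baseChange κ)) :
    ∃ (G' : P →ₗ[A] (ι → A)) (c : A), algebraMap A κ c ≠ 0 ∧
      G' ∘ₗ G = c • LinearMap.id ∧ G ∘ₗ G' = c • LinearMap.id := by
  classical
  have : Nontrivial A := (algebraMap A κ).domain_nontrivial
  let b0 := Module.Free.chooseBasis A P
  have hcard : Fintype.card ι = Fintype.card (Module.Free.ChooseBasisIndex A P) := by
    have e := LinearEquiv.ofBijective (G.baseChange κ) hG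
    have h1 := e.finrank_eq
    rw [Module.finrank_baseChange, Module.finrank_baseChange] at h1
    rw [← Module.finrank_eq_card_chooseBasisIndex, ← h1]
    simp
  let b : Module.Basis ι A P := b0.reindex (Fintype.equivOfCardEq hcard).symm
  let M := LinearMap.toMatrix (Pi.basisFun A ι) b G
  refine ⟨Matrix.toLin b (Pi.basisFun A ι) M.adjugate, M.det, ?_, ?_, ?_⟩
  · have h1 : LinearMap.toMatrix (Algebra.TensorProduct.basis κ (Pi.basisFun A ι)) (Algebra.TensorProduct.basis κ b)
        (G.baseChange κ) = M.map (algebraMap A κ) := LinearMap.toMatrix_baseChange κ G _ _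
    have h2 := LinearEquiv.isUnit_det (LinearEquiv.ofBijective (G.baseChange κ) hG)
      (Algebra.TensorProduct.basis κ (Pi.basisFun A ι)) (Algebra.TensorProduct.basis κ b)
    have h3 : (LinearMap.toMatrix (Algebra.TensorProduct.basis κ (Pi.basisFun A ι)) (Algebra.TensorProduct.basis κ b)
        (G.baseChange κ)).det = algebraMap A κ M.det := by
      rw [h1, RingHom.map_det, RingHom.mapMatrix_apply]
    rw [← h3]
    exact h2.ne_zero
  · have hG : G = Matrix.toLin (Pi.basisFun A ι) b M := (Matrix.toLin_toMatrix _ _ G).symm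
    conv_lhs => rw [hG]
    rw [← Matrix.toLin_mul, Matrix.adjugate_mul, map_smul, Matrix.toLin_one]
  · have hG : G = Matrix.toLin (Pi.basisFun A ι) b M := (Matrix.toLin_toMatrix _ _ G).symm
    conv_lhs => rw [hG]
    rw [← Matrix.toLin_mul, Matrix.mul_adjugate, map_smul, Matrix.toLin_one]

/-- BIJ -/
theorem bijective_baseChange_linearCombination {A κ : Type u} [CommRing A] [Field κ] [Algebra A κ]
    {P : Type u} [AddCommGroup P] [Module A P]
    {ι : Type u} [Fintype ι] [DecidableEq ι]
    (g : ι → P)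
    (hli : LinearIndependent κ (fun j => (1 : κ) ⊗ₜ[A] g j))
    (hsp : ⊤ ≤ Submodule.span κ (Set.range (fun j => (1 : κ) ⊗ₜ[A] g j))) :
    Function.Bijective ((Fintype.linearCombination A g).baseChange κ) := by
  classical
  let B₁ := Algebra.TensorProduct.basis κ (Pi.basisFun A ι)
  let B₂ := Module.Basis.mk hli hsp
  have h : (Fintype.linearCombination A g).baseChange κ =
      (B₁.equiv B₂ (Equiv.refl ι)).toLinearMap := by
    apply B₁.ext
    intro i
    have e1 : B₁ i = (1 : κ) ⊗ₜ[A] (Pi.single i (1 : A) : ι → A) := by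
      simp [B₁, Algebra.TensorProduct.basis_apply]
    have e2 : (B₁.equiv B₂ (Equiv.refl ι)) (B₁ i) = B₂ i := by
      rw [Module.Basis.equiv_apply]; rfl
    rw [LinearEquiv.coe_coe, e2, e1]
    simp [B₂, Fintype.linearCombination_apply_single]
  rw [h]
  exact (B₁.equiv B₂ (Equiv.refl ι)).bijective

theorem span_range_one_tmul {A κ : Type u} [CommRing A] [Field κ] [Algebra A κ]
    (P : Type u) [AddCommGroup P] [Module A P] :
    Submodule.span κ (Set.range (fun y : P => (1 : κ) ⊗ₜ[A] y)) = ⊤ := by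
  rw [eq_top_iff]
  rintro x -
  induction x using TensorProduct.induction_on with
  | zero => exact Submodule.zero_mem _
  | tmul a y =>
    have : a ⊗ₜ[A] y = a • ((1 : κ) ⊗ₜ[A] y) := by
      rw [TensorProduct.smul_tmul', smul_eq_mul, mul_one]
    rw [this]
    exact Submodule.smul_mem _ _ (Submodule.subset_span ⟨y, rfl⟩)
  | add x y hx hy => exact Submodule.add_mem _ hx hy

/-- EXT' -/
theorem exists_extend {A κ : Type u} [CommRing A] [Field κ] [Algebra A κ]
    {P : Type u} [AddCommGroup P] [Module A P] [Module.Finite A P]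
    {ι₁ : Type u} (g₁ : ι₁ → P)
    (hli : LinearIndependent κ (fun i => (1 : κ) ⊗ₜ[A] g₁ i)) :
    ∃ (ι₂ : Type u) (_ : Fintype ι₂) (g₂ : ι₂ → P),
      LinearIndependent κ (fun j : ι₁ ⊕ ι₂ => (1 : κ) ⊗ₜ[A] (Sum.elim g₁ g₂ j)) ∧
      ⊤ ≤ Submodule.span κ (Set.range (fun j : ι₁ ⊕ ι₂ => (1 : κ) ⊗ₜ[A] (Sum.elim g₁ g₂ j))) := by
  classical
  set v₁ : ι₁ → κ ⊗[A] P := fun i => (1 : κ) ⊗ₜ[A] g₁ i with hv₁
  set S : Set (κ ⊗[A] P) := Set.range (fun y : P => (1 : κ) ⊗ₜ[A] y) with hS
  have hst : Set.range v₁ ⊆ S := by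
    rintro _ ⟨i, rfl⟩
    exact ⟨g₁ i, rfl⟩
  have hid : LinearIndepOn κ id (Set.range v₁) := hli.linearIndepOn_id
  set E := hid.extend hst with hE
  have hE1 : Set.range v₁ ⊆ E := hid.subset_extend hst
  have hE2 : E ⊆ S := hid.extend_subset hst
  have hE3 : S ⊆ Submodule.span κ E := hid.subset_span_extend hst
  have hE4 : LinearIndepOn κ id E := hid.linearIndepOn_extend hst
  have hE4' : LinearIndependent κ (fun x : E => (x : κ ⊗[A] P)) := hE4
  have hfin : E.Finite := hE4'.setFinite
  have hfin2 : (E \ Set.range v₁).Finite := hfin.subset Set.sdiff_subset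
  let ι₂ : Type u := ↥(E \ Set.range v₁)
  have : Fintype ι₂ := hfin2.fintype
  have hch : ∀ u : ι₂, ∃ y : P, (1 : κ) ⊗ₜ[A] y = (u : κ ⊗[A] P) := fun u => hE2 u.2.1
  choose g₂ hg₂ using hch
  refine ⟨ι₂, this, g₂, ?_, ?_⟩
  · let φ : ι₁ ⊕ ι₂ → E := Sum.elim (fun i => ⟨v₁ i, hE1 ⟨i, rfl⟩⟩) (fun u => ⟨u.1, u.2.1⟩)
    have hφ : Function.Injective φ := by
      rintro (i | u) (j | w) h
      · have : v₁ i = v₁ j := congrArg Subtype.val h
        rw [hli.injective this]
      · exfalso
        have : v₁ i = (w : κ ⊗[A] P) := congrArg Subtype.val h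
        exact w.2.2 ⟨i, this⟩
      · exfalso
        have : (u : κ ⊗[A] P) = v₁ j := congrArg Subtype.val h
        exact u.2.2 ⟨j, this.symm⟩
      · have : u.1 = w.1 :=
          congrArg (Subtype.val : E → κ ⊗[A] P) h
        rw [Subtype.ext this]
    have h1 := hE4'.comp φ hφ
    convert h1 using 1
    funext j
    rcases j with i | u
    · rfl
    · simp only [Sum.elim_inr, Function.comp_apply, φ]
      exact hg₂ u
  · rw [← span_range_one_tmul (A := A) (κ := κ) P, Submodule.span_le]
    refine hE3.trans ?_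
    apply Submodule.span_mono
    intro e he
    by_cases h : e ∈ Set.range v₁
    · obtain ⟨i, rfl⟩ := h
      exact ⟨Sum.inl i, rfl⟩
    · refine ⟨Sum.inr ⟨e, he, h⟩, ?_⟩
      simp only [Sum.elim_inr]
      exact hg₂ _

/-- Core -/
theorem core {A κ : Type u} [CommRing A] [Field κ] [Algebra A κ]
    {P Q : Type u} [AddCommGroup P] [Module A P] [Module.Finite A P] [Module.Free A P]
    [AddCommGroup Q] [Module A Q] [Module.Finite A Q] [Module.Free A Q]
    (d : P →ₗ[A] Q) {ι₁ : Type u} [Fintype ι₁] (z : ι₁ → P)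
    (hli : LinearIndependent κ (fun i => (1 : κ) ⊗ₜ[A] z i))
    (hker : LinearMap.ker (d.baseChange κ) ≤
      Submodule.span κ (Set.range (fun i => (1 : κ) ⊗ₜ[A] z i))) :
    ∃ (ι₂ : Type u) (_ : Fintype ι₂) (y : ι₂ → P) (G' : P →ₗ[A] (ι₁ ⊕ ι₂ → A)) (c b : A)
      (F : Q →ₗ[A] (ι₂ → A)),
      algebraMap A κ c ≠ 0 ∧ algebraMap A κ b ≠ 0 ∧
      (∀ x, Fintype.linearCombination A (Sum.elim z y) (G' x) = c • x) ∧
      (∀ w : ι₂ → A, F (d (Fintype.linearCombination A y w)) = b • w) := by
  classical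
  obtain ⟨ι₂, hfin₂, y, hli2, hsp2⟩ := exists_extend (A := A) (κ := κ) z hli
  have hbij := bijective_baseChange_linearCombination (A := A) (κ := κ) (Sum.elim z y) hli2 hsp2
  obtain ⟨G', c, hc, -, hGG'⟩ := exists_adj _ hbij
  -- the images of the `y k` are linearly independent mod the residue field
  have hliy : LinearIndependent κ (fun k => (1 : κ) ⊗ₜ[A] y k) := by
    have := hli2.comp Sum.inr Sum.inr_injective
    exact this
  have hdisj : Disjoint (Submodule.span κ (Set.range (fun k => (1 : κ) ⊗ₜ[A] y k)))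
      (LinearMap.ker (d.baseChange κ)) := by
    have h1 := hli2.disjoint_span_image (s := Set.range Sum.inr) (t := Set.range Sum.inl)
      (by
        rw [Set.disjoint_left]
        rintro _ ⟨a, rfl⟩ ⟨b, hb⟩
        exact Sum.inl_ne_inr hb)
    have e1 : (fun j : ι₁ ⊕ ι₂ => (1 : κ) ⊗ₜ[A] (Sum.elim z y j)) '' Set.range Sum.inr =
        Set.range (fun k => (1 : κ) ⊗ₜ[A] y k) := by
      rw [← Set.range_comp]; rfl
    have e2 : (fun j : ι₁ ⊕ ι₂ => (1 : κ) ⊗ₜ[A] (Sum.elim z y j)) '' Set.range Sum.inl =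
        Set.range (fun i => (1 : κ) ⊗ₜ[A] z i) := by
      rw [← Set.range_comp]; rfl
    rw [e1, e2] at h1
    exact h1.mono_right hker
  have hliq : LinearIndependent κ (fun k => (1 : κ) ⊗ₜ[A] d (y k)) := by
    have := hliy.map hdisj
    exact this
  obtain ⟨ι₃, hfin₃, r, hli3, hsp3⟩ := exists_extend (A := A) (κ := κ) (fun k => d (y k)) hliq
  have hbij3 := bijective_baseChange_linearCombination (A := A) (κ := κ)
    (Sum.elim (fun k => d (y k)) r) hli3 hsp3
  obtain ⟨E', b, hb, hE'E, -⟩ := exists_adj _ hbij3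
  refine ⟨ι₂, hfin₂, y, G', c, b, (LinearMap.funLeft A A Sum.inl) ∘ₗ E', hc, hb, ?_, ?_⟩
  · intro x
    have := LinearMap.congr_fun hGG' x
    simpa using this
  · intro w
    have h1 : d (Fintype.linearCombination A y w) =
        Fintype.linearCombination A (Sum.elim (fun k => d (y k)) r) (Sum.elim w 0) := by
      simp [Fintype.linearCombination_apply, Fintype.sum_sum_type, map_sum]
    rw [h1]
    have h2 := LinearMap.congr_fun hE'E (Sum.elim w 0)
    simp only [LinearMap.coe_comp, Function.comp_apply, LinearMap.smul_apply,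
      LinearMap.id_coe, id_eq] at h2
    rw [LinearMap.comp_apply, h2]
    ext k
    simp [LinearMap.funLeft_apply]

theorem linearCombination_sumElim {A : Type u} [CommRing A] {P : Type u} [AddCommGroup P]
    [Module A P] {ι₁ ι₂ : Type u} [Fintype ι₁] [Fintype ι₂] (z : ι₁ → P) (y : ι₂ → P)
    (u : ι₁ ⊕ ι₂ → A) :
    Fintype.linearCombination A (Sum.elim z y) u =
      Fintype.linearCombination A z (u ∘ Sum.inl) + Fintype.linearCombination A y (u ∘ Sum.inr) := by
  simp [Fintype.linearCombination_apply, Fintype.sum_sum_type]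

/-- REQ-A: a generic splitting of `d` from the hypothesis that the kernel of `d ⊗ κ` is spanned
by the image of `ker d`. -/
theorem exists_gsplit_of_span {A κ : Type u} [CommRing A] [Field κ] [Algebra A κ]
    {P Q : Type u} [AddCommGroup P] [Module A P] [Module.Finite A P] [Module.Free A P]
    [AddCommGroup Q] [Module A Q] [Module.Finite A Q] [Module.Free A Q]
    (d : P →ₗ[A] Q)
    (h : LinearMap.ker (d.baseChange κ) ≤
      Submodule.span κ ((TensorProduct.mk A κ P 1) '' (LinearMap.ker d : Set P))) :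
    ∃ (a : A) (t : Q →ₗ[A] P), algebraMap A κ a ≠ 0 ∧ d ∘ₗ t ∘ₗ d = a • d := by
  classical
  set T : Set (κ ⊗[A] P) := (TensorProduct.mk A κ P 1) '' (LinearMap.ker d : Set P) with hT
  obtain ⟨B, hBT, hBsp, hBli⟩ := exists_linearIndependent κ T
  have hBfin : B.Finite := hBli.setFinite
  have : Fintype B := hBfin.fintype
  have hch : ∀ i : B, ∃ z : P, d z = 0 ∧ (1 : κ) ⊗ₜ[A] z = (i : κ ⊗[A] P) := by
    intro i
    obtain ⟨z, hz, hzi⟩ := hBT i.2
    exact ⟨z, hz, hzi⟩
  choose z hz1 hz2 using hch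
  have hli : LinearIndependent κ (fun i : B => (1 : κ) ⊗ₜ[A] z i) := by
    have : (fun i : B => (1 : κ) ⊗ₜ[A] z i) = fun i : B => (i : κ ⊗[A] P) := funext hz2
    rw [this]; exact hBli
  have hker : LinearMap.ker (d.baseChange κ) ≤
      Submodule.span κ (Set.range (fun i : B => (1 : κ) ⊗ₜ[A] z i)) := by
    have : (fun i : B => (1 : κ) ⊗ₜ[A] z i) = fun i : B => (i : κ ⊗[A] P) := funext hz2
    rw [this, Subtype.range_coe, hBsp]
    exact h
  obtain ⟨ι₂, hfin₂, y, G', c, b, F, hc, hb, hG, hF⟩ := core d z hli hker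
  refine ⟨b * c, c • ((Fintype.linearCombination A y) ∘ₗ F), ?_, ?_⟩
  · rw [map_mul]; exact mul_ne_zero hb hc
  · ext x
    have h1 := hG x
    rw [linearCombination_sumElim] at h1
    have hz0 : d (Fintype.linearCombination A z (G' x ∘ Sum.inl)) = 0 := by
      simp [Fintype.linearCombination_apply, map_sum, hz1]
    have h2 : d (Fintype.linearCombination A y (G' x ∘ Sum.inr)) = c • d x := by
      have := congrArg d h1
      rw [map_add, hz0, zero_add, map_smul] at this
      exact this
    have h3 : c • F (d x) = b • (G' x ∘ Sum.inr) := by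
      rw [← hF, h2, map_smul]
    simp only [LinearMap.coe_comp, Function.comp_apply, LinearMap.smul_apply]
    rw [← map_smul (Fintype.linearCombination A y), h3, map_smul, map_smul, h2, smul_smul]

/-- REQ-B -/
theorem exists_smul_ker_le_range {A κ : Type u} [CommRing A] [Field κ] [Algebra A κ]
    {M P Q : Type u} [AddCommGroup M] [Module A M]
    [AddCommGroup P] [Module A P] [Module.Finite A P] [Module.Free A P]
    [AddCommGroup Q] [Module A Q] [Module.Finite A Q] [Module.Free A Q]
    (f : M →ₗ[A] P) (d : P →ₗ[A] Q) (hdf : d ∘ₗ f = 0)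
    (h : LinearMap.ker (d.baseChange κ) ≤ LinearMap.range (f.baseChange κ)) :
    ∃ a : A, algebraMap A κ a ≠ 0 ∧ ∀ z ∈ LinearMap.ker d, a • z ∈ LinearMap.range f := by
  classical
  set T : Set (κ ⊗[A] P) := Set.range (fun x : M => (1 : κ) ⊗ₜ[A] f x) with hT
  have hrange : LinearMap.range (f.baseChange κ) ≤ Submodule.span κ T := by
    rintro _ ⟨w, rfl⟩
    induction w using TensorProduct.induction_on with
    | zero => simp
    | tmul a x =>
      have : (f.baseChange κ) (a ⊗ₜ[A] x) = a • ((1 : κ) ⊗ₜ[A] f x) := by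
        rw [LinearMap.baseChange_tmul, TensorProduct.smul_tmul', smul_eq_mul, mul_one]
      rw [this]
      exact Submodule.smul_mem _ _ (Submodule.subset_span ⟨x, rfl⟩)
    | add v w hv hw =>
      rw [map_add]; exact Submodule.add_mem _ hv hw
  obtain ⟨B, hBT, hBsp, hBli⟩ := exists_linearIndependent κ T
  have hBfin : B.Finite := hBli.setFinite
  have : Fintype B := hBfin.fintype
  have hch : ∀ i : B, ∃ x : M, (1 : κ) ⊗ₜ[A] f x = (i : κ ⊗[A] P) := fun i => hBT i.2
  choose x hx using hch
  have hli : LinearIndependent κ (fun i : B => (1 : κ) ⊗ₜ[A] f (x i)) := by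
    have : (fun i : B => (1 : κ) ⊗ₜ[A] f (x i)) = fun i : B => (i : κ ⊗[A] P) := funext hx
    rw [this]; exact hBli
  have hker : LinearMap.ker (d.baseChange κ) ≤
      Submodule.span κ (Set.range (fun i : B => (1 : κ) ⊗ₜ[A] f (x i))) := by
    have : (fun i : B => (1 : κ) ⊗ₜ[A] f (x i)) = fun i : B => (i : κ ⊗[A] P) := funext hx
    rw [this, Subtype.range_coe, hBsp]
    exact h.trans hrange
  obtain ⟨ι₂, hfin₂, y, G', c, b, F, hc, hb, hG, hF⟩ := core d (fun i => f (x i)) hli hker
  refine ⟨b * c, ?_, ?_⟩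
  · rw [map_mul]; exact mul_ne_zero hb hc
  · intro p hp
    have hdf' : ∀ m, d (f m) = 0 := fun m => LinearMap.congr_fun hdf m
    have h1 := hG p
    rw [linearCombination_sumElim] at h1
    have hzf : Fintype.linearCombination A (fun i => f (x i)) (G' p ∘ Sum.inl) =
        f (Fintype.linearCombination A x (G' p ∘ Sum.inl)) := by
      simp [Fintype.linearCombination_apply, map_sum]
    have hz0 : d (Fintype.linearCombination A (fun i => f (x i)) (G' p ∘ Sum.inl)) = 0 := by
      rw [hzf, hdf']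
    have h2 : d (Fintype.linearCombination A y (G' p ∘ Sum.inr)) = 0 := by
      have := congrArg d h1
      rw [map_add, hz0, zero_add, map_smul, LinearMap.mem_ker.mp hp, smul_zero] at this
      exact this
    have h3 : b • (G' p ∘ Sum.inr) = 0 := by
      rw [← hF, h2, map_zero]
    have h4 : b • Fintype.linearCombination A y (G' p ∘ Sum.inr) = 0 := by
      rw [← map_smul, h3, map_zero]
    rw [mul_smul, ← h1, smul_add, h4, add_zero, hzf, ← map_smul]
    exact ⟨_, rfl⟩

end Groth.Agent.Lib.Lead.AdjSplit
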