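import Mathlib
import Groth.Agent.S2380

/-! # Local constancy of Euler characteristics, algebra part (lead)

For a cochain complex `L` of finite projective `A`-modules with `L^N = 0` whose fibres `L ⊗ κ(y)` are exact in
degree `-1`, the truncated Euler characteristic `y ↦ Σ_{0 ≤ p < N} (-1)^p dim H^p(L ⊗ κ(y))` is locally constant
on `Spec A` (`isLocallyConstant_euler`).  Uses helper2's lemmas from `S2380` (cochain version of the rank
formula: `rank_formula_up`, `rank_formula_c`, `euler_sum_eq`). -/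

set_option autoImplicit false
set_option linter.style.haveILetI false
universe u
open TensorProduct CategoryTheory CategoryTheory.Limits

namespace Groth.Agent.Lib.Lead.EulerLC

noncomputable section

variable {A : Type u} [CommRing A]

/-- fibre rank of a module at a point of `Spec A` -/
abbrev fr (y : PrimeSpectrum A) (M : Type u) [AddCommGroup M] [Module A M] : ℕ :=
  Module.finrank y.asIdeal.ResidueField (y.asIdeal.ResidueField ⊗[A] M)

lemma fr_zero (y : PrimeSpectrum A) (M : Type u) [AddCommGroup M] [Module A M] [Subsingleton M] :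
    fr y M = 0 := by
  haveI : Subsingleton (y.asIdeal.ResidueField ⊗[A] M) := by
    refine ⟨fun a b => ?_⟩
    have h : ∀ z : y.asIdeal.ResidueField ⊗[A] M, z = 0 := by
      intro z
      induction z using TensorProduct.induction_on with
      | zero => rfl
      | tmul a m => rw [Subsingleton.elim m 0, TensorProduct.tmul_zero]
      | add a b ha hb => rw [ha, hb, add_zero]
    rw [h a, h b]
  exact Module.finrank_zero_of_subsingleton

/-- cochain version of helper2's rank formula -/
lemma rank_formula_up (L : CochainComplex (ModuleCat.{u} A) ℤ) (hfin : ∀ i, Module.Finite A (L.X i))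
    (p : ℤ) (y : PrimeSpectrum A) :
    CohIII.dRank L p y + fr y (L.X (p + 1)) =
      fr y (L.X p ⧸ LinearMap.range (L.d (p - 1) p).hom) +
      fr y (L.X (p + 1) ⧸ LinearMap.range (L.d p (p + 1)).hom) := by
  set κ := y.asIdeal.ResidueField with hκ
  set F := ModuleCat.extendScalars.{u, u, u} (algebraMap A κ) with hF
  set K := CohIII.bcCx (algebraMap A κ) L with hK
  have h0 : CohIII.dRank L p y =
      Module.finrank κ ((K.sc' (p - 1) p (p + 1)).homology : ModuleCat.{u} κ) :=
    ((K.homologyIsoSc' (p - 1) p (p + 1) (by simp) (by simp)).toLinearEquiv).finrank_eq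
  haveI hX : ∀ i, Module.Finite κ (K.X i) := fun i =>
    Module.Finite.equiv (Groth.Agent.S2380.eM (κ := κ) (L.X i)).symm
  haveI : Module.Finite κ (K.sc' (p - 1) p (p + 1)).X₂ := hX p
  haveI : Module.Finite κ (K.sc' (p - 1) p (p + 1)).X₃ := hX (p + 1)
  have h1 := Groth.Agent.S2380.finrank_homology_add (K.sc' (p - 1) p (p + 1))
  have h2 := Groth.Agent.S2380.finrank_coker_map (κ := κ) (L.d (p - 1) p)
  have h3 := Groth.Agent.S2380.finrank_coker_map (κ := κ) (L.d p (p + 1))
  have h4 := (Groth.Agent.S2380.eM (κ := κ)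
    (ModuleCat.of A (L.X p ⧸ LinearMap.range (L.d (p - 1) p).hom))).finrank_eq
  have h5 := (Groth.Agent.S2380.eM (κ := κ) (ModuleCat.of A
    (L.X (p + 1) ⧸ LinearMap.range (L.d p (p + 1)).hom))).finrank_eq
  have h6 := (Groth.Agent.S2380.eM (κ := κ) (L.X (p + 1))).finrank_eq
  rw [h0]
  have h1' : Module.finrank κ ((K.sc' (p - 1) p (p + 1)).homology : ModuleCat.{u} κ) +
      Module.finrank κ (F.obj (L.X (p + 1))) =
      Module.finrank κ ((F.obj (L.X p)) ⧸ LinearMap.range (F.map (L.d (p - 1) p)).hom) +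
        Module.finrank κ ((F.obj (L.X (p + 1))) ⧸ LinearMap.range (F.map (L.d p (p + 1))).hom) := h1
  rw [h2.trans h4, h3.trans h5, h6] at h1'
  exact h1'

/-- fibre rank of the cokernel of `L^{i-1} ⟶ L^i` -/
def cK (L : CochainComplex (ModuleCat.{u} A) ℤ) (y : PrimeSpectrum A) (i : ℤ) : ℕ :=
  fr y (L.X i ⧸ LinearMap.range (L.d (i - 1) i).hom)

/-- fibre rank of `L^i` -/
def rK (L : CochainComplex (ModuleCat.{u} A) ℤ) (y : PrimeSpectrum A) (i : ℤ) : ℕ :=
  fr y (L.X i)

lemma cK_eq (L : CochainComplex (ModuleCat.{u} A) ℤ) (y : PrimeSpectrum A) (i j : ℤ)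
    (h : j = i - 1) : fr y (L.X i ⧸ LinearMap.range (L.d j i).hom) = cK L y i := by
  subst h; rfl

lemma rank_formula_c (L : CochainComplex (ModuleCat.{u} A) ℤ)
    (hfin : ∀ i, Module.Finite A (L.X i)) (p : ℤ) (y : PrimeSpectrum A) :
    CohIII.dRank L p y + rK L y (p + 1) = cK L y p + cK L y (p + 1) := by
  have h := rank_formula_up L hfin p y
  rw [cK_eq L y (p + 1) p (by ring)] at h
  exact h

/-- the telescoped Euler sum -/
lemma euler_sum_eq (L : CochainComplex (ModuleCat.{u} A) ℤ) (hfin : ∀ i, Module.Finite A (L.X i))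
    (y : PrimeSpectrum A) (N : ℕ) :
    (∑ p ∈ Finset.range N, (-1 : ℤ) ^ p * (CohIII.dRank L (p : ℤ) y : ℤ)) =
      (cK L y 0 : ℤ) - (-1 : ℤ) ^ N * (cK L y (N : ℤ) : ℤ) -
        ∑ p ∈ Finset.range N, (-1 : ℤ) ^ p * (rK L y ((p : ℤ) + 1) : ℤ) := by
  induction N with
  | zero => simp
  | succ N ih =>
    rw [Finset.sum_range_succ, Finset.sum_range_succ, ih]
    have h := rank_formula_c L hfin (N : ℤ) y
    have h' : (CohIII.dRank L (N : ℤ) y : ℤ) + (rK L y ((N : ℤ) + 1) : ℤ) =
        (cK L y (N : ℤ) : ℤ) + (cK L y ((N : ℤ) + 1) : ℤ) := by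
      exact_mod_cast h
    have e1 : ((N + 1 : ℕ) : ℤ) = (N : ℤ) + 1 := by push_cast; ring
    rw [e1, pow_succ]
    linear_combination ((-1 : ℤ) ^ N) * h'

/-- **Local constancy of the Euler characteristic of the fibres of a bounded above complex of finite
projective modules whose fibres are exact in degree `-1`.** -/
theorem isLocallyConstant_euler (L : CochainComplex (ModuleCat.{u} A) ℤ)
    (hL : ∀ i, Module.Finite A (L.X i) ∧ Module.Projective A (L.X i))
    (N : ℕ) (hN : IsZero (L.X (N : ℤ)))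
    (hneg : ∀ y : PrimeSpectrum A, CohIII.dRank L (-1) y = 0) :
    IsLocallyConstant (fun y : PrimeSpectrum A =>
      ∑ p ∈ Finset.range N, (-1 : ℤ) ^ p * (CohIII.dRank L (p : ℤ) y : ℤ)) := by
  have hfin : ∀ i, Module.Finite A (L.X i) := fun i => (hL i).1
  rw [IsLocallyConstant.iff_eventually_eq]
  intro x
  -- ranks are locally constant
  have hr : ∀ i : ℤ, ∀ᶠ y in nhds x, rK L y i = rK L x i := by
    intro i
    haveI := (hL i).1
    haveI := (hL i).2
    haveI : Module.FinitePresentation A (L.X i) := Module.finitePresentation_of_projective A _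
    have h := (Module.isLocallyConstant_rankAtStalk (R := A) (M := L.X i)).eventually_eq x
    filter_upwards [h] with y hy
    have e1 := Module.rankAtStalk_eq (M := L.X i) y
    have e2 := Module.rankAtStalk_eq (M := L.X i) x
    show Module.finrank _ _ = Module.finrank _ _
    rw [← e1, ← e2]; exact hy
  -- cokernel ranks are upper semicontinuous
  have hc : ∀ i : ℤ, ∀ᶠ y in nhds x, cK L y i ≤ cK L x i := by
    intro i
    haveI := hfin i
    have h := Groth.Agent.S2380.fibre_finrank_usc (A := A)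
      (L.X i ⧸ LinearMap.range (L.d (i - 1) i).hom) x _ (Nat.lt_succ_self _)
    filter_upwards [h] with y hy
    exact Nat.lt_succ_iff.mp hy
  have hrall : ∀ᶠ y in nhds x, ∀ p ∈ Finset.range N,
      rK L y ((p : ℤ) + 1) = rK L x ((p : ℤ) + 1) := by
    rw [Filter.eventually_all_finset]
    intro p _
    exact hr _
  filter_upwards [hr 0, hc 0, hc (-1), hrall] with y h0 hc0 hc1 hall
  -- the cokernel in degree `N` vanishes
  have hzN : ∀ z : PrimeSpectrum A, cK L z (N : ℤ) = 0 := by
    intro z
    haveI : Subsingleton (L.X (N : ℤ)) := ModuleCat.subsingleton_of_isZero hN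
    exact fr_zero z _
  -- formula in degree `-1`
  have fy := rank_formula_c L hfin (-1) y
  have fx := rank_formula_c L hfin (-1) x
  rw [hneg y] at fy
  rw [hneg x] at fx
  have e0 : (-1 : ℤ) + 1 = 0 := by norm_num
  rw [e0] at fy fx
  have hc0eq : cK L y 0 = cK L x 0 := by omega
  show (∑ p ∈ Finset.range N, (-1 : ℤ) ^ p * (CohIII.dRank L (p : ℤ) y : ℤ)) =
    ∑ p ∈ Finset.range N, (-1 : ℤ) ^ p * (CohIII.dRank L (p : ℤ) x : ℤ)
  rw [euler_sum_eq L hfin y N, euler_sum_eq L hfin x N, hzN y, hzN x, hc0eq]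
  congr 1
  apply Finset.sum_congr rfl
  intro p hp
  rw [hall p hp]

end

end Groth.Agent.Lib.Lead.EulerLC
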