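import Mathlib
import Groth.Agent.Lib.Lead.EulerLC1
import Groth.Agent.Lib.Helper18.NNComplex
import Groth.Agent.Lib.Helper21.GCBase
import Groth.Agent.Lib.Helper16.QCohPullback2
import Groth.Agent.Lib.Helper25.FLFLocus

/-! # Local constancy of the Euler characteristic of the fibres (lead)

`f : X ⟶ S` proper and locally of finite presentation (ANY base `S`), `F` of finite presentation and flat over `S`.
* `computes_of_computesNat`: helper18's `NNComplex.ComputesNat` implies helper21's `GCFibre.Computes`.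
* `exists_complex_chart_fp`: the Grothendieck complex over an affine open `V` of the base (helper18's
  `NNComplex.exists_complex`) with helper21's fibre dictionary `dRank L p x = fiberRank f F p (hV.fromSpec x)`.
* `isLocallyConstant_eulerChar`: `s ↦ χ(X_s, F_s)` is locally constant (= S1026). -/

set_option autoImplicit false
set_option linter.style.haveILetI false
universe u
open CategoryTheory CategoryTheory.Limits AlgebraicGeometry TopologicalSpace

namespace Groth.Agent.Lib.Lead.EulerLC

open Groth.Agent.Lib.helper21.GCFibre Groth.Agent.Lib.helper21.GCBase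
  Groth.Agent.Lib.Helper18.NNComplex

/-- helper18's natural base change property implies helper21's. -/
theorem computes_of_computesNat {A : Type u} [CommRing A] {X : Scheme.{u}}
    [X.Over (Spec (CommRingCat.of A))] (F : X.Modules) (L : CochainComplex (ModuleCat.{u} A) ℤ)
    (h : ComputesNat A (X ↘ Spec (CommRingCat.of A)) F L) : Computes A X F L := by
  intro B _ _ X' _ g' hpb p
  obtain ⟨e₀, -, H⟩ := h p
  obtain ⟨e, he, -⟩ := H B X' (X' ↘ Spec (CommRingCat.of B)) g' hpb
  exact ⟨{ e with map_smul' := fun b x => he b x }⟩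

/-- **The Grothendieck complex over an affine open of an arbitrary base**, with the fibre dictionary. -/
theorem exists_complex_chart_fp {X Y : Scheme.{u}} (f : X ⟶ Y) [IsProper f]
    [LocallyOfFinitePresentation f] {V : Y.Opens} (hV : IsAffineOpen V) (F : X.Modules)
    (hF : CohB1.IsFP F) (hfl : FlatMod.IsFlatOver f F) :
    ∃ L : CochainComplex (ModuleCat.{u} Γ(Y, V)) ℤ,
      (∀ i, Module.Finite Γ(Y, V) (L.X i) ∧ Module.Free Γ(Y, V) (L.X i)) ∧
      (∃ N : ℕ, ∀ i : ℤ, (N : ℤ) ≤ i → IsZero (L.X i)) ∧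
      (∀ (B : Type u) [CommRing B] [Algebra Γ(Y, V) B] (i : ℤ), i < 0 →
        IsZero ((CohIII.bcCx (algebraMap Γ(Y, V) B) L).homology i)) ∧
      (letI := overA f hV;
        Computes Γ(Y, V) (↑(f ⁻¹ᵁ V) : Scheme.{u}) (FA f (V := V) F) L) ∧
      (∀ (x : ↑(Spec (CommRingCat.of Γ(Y, V)))) (p : ℕ),
        CohIII.dRank L (p : ℤ) x = CohIII.fiberRank f F p (hV.fromSpec x)) := by
  letI := overA f hV
  haveI : SheafOfModules.IsFinitePresentation (R := X.ringCatSheaf) F := hF
  haveI : F.IsQuasicoherent := SheafOfModules.instIsQuasicoherentOfIsFinitePresentation F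
  haveI : IsProper (fA f hV) := inferInstance
  haveI : LocallyOfFinitePresentation (fA f hV) :=
    MorphismProperty.of_isPullback (isPullback_chart f hV) inferInstance
  have hFA : CohB1.IsFP (FA f (V := V) F) :=
    Groth.Agent.Lib.helper25.FLFLocus.isFP_of_iso (eF f (V := V) F).symm
      (Groth.Agent.Lib.helper16.QCohPullback2.isFinitePresentation_pullback _ F hF)
  haveI : SheafOfModules.IsFinitePresentation (R := (↑(f ⁻¹ᵁ V) : Scheme.{u}).ringCatSheaf)
    (FA f (V := V) F) := hFA
  haveI : (FA f (V := V) F).IsQuasicoherent :=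
    SheafOfModules.instIsQuasicoherentOfIsFinitePresentation (FA f (V := V) F)
  obtain ⟨L, h1, h2, h3, h4⟩ := exists_complex Γ(Y, V) (fA f hV) (FA f (V := V) F) hFA
    (isFlatOver_FA f hV F hfl)
  have h4' : Computes Γ(Y, V) (↑(f ⁻¹ᵁ V) : Scheme.{u}) (FA f (V := V) F) L :=
    computes_of_computesNat _ _ h4
  refine ⟨L, h1, h2, h3, h4', fun x p => ?_⟩
  exact Groth.Agent.Lib.helper21.GCChart.dRank_eq_fiberRank f Γ(Y, V) hV.fromSpec (f ⁻¹ᵁ V).ι
    (isPullback_chart f hV) x F (FA f (V := V) F) (eF f (V := V) F) L h4' p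

lemma dRank_eq_zero_of_isZero {A : Type u} [CommRing A] (L : CochainComplex (ModuleCat.{u} A) ℤ)
    (i : ℤ) (h : IsZero (L.X i)) (x : PrimeSpectrum A) : CohIII.dRank L i x = 0 := by
  unfold CohIII.dRank
  have h1 : IsZero ((CohIII.bcCx (algebraMap A x.asIdeal.ResidueField) L).X i) :=
    (ModuleCat.extendScalars.{u, u, u} (algebraMap A x.asIdeal.ResidueField)).map_isZero h
  have h2 := (HomologicalComplex.ExactAt.of_isZero h1).isZero_homology
  haveI := ModuleCat.subsingleton_of_isZero h2
  exact Module.finrank_zero_of_subsingleton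

lemma dRank_eq_zero_of_isZero_homology {A : Type u} [CommRing A]
    (L : CochainComplex (ModuleCat.{u} A) ℤ) (i : ℤ) (x : PrimeSpectrum A)
    (h : IsZero ((CohIII.bcCx (algebraMap A x.asIdeal.ResidueField) L).homology i)) :
    CohIII.dRank L i x = 0 := by
  unfold CohIII.dRank
  haveI := ModuleCat.subsingleton_of_isZero h
  exact Module.finrank_zero_of_subsingleton

/-- **Local constancy of the Euler characteristic of the fibres** (= S1026). -/
theorem isLocallyConstant_eulerChar {X S : Scheme.{u}} (f : X ⟶ S) [IsProper f]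
    [LocallyOfFinitePresentation f] (F : X.Modules) (hF : CohB1.IsFP F)
    (hflat : FlatMod.IsFlatOver f F) :
    IsLocallyConstant (fun s : S => PerfAux.eulerChar f F s) := by
  rw [IsLocallyConstant.iff_eventually_eq]
  intro s
  obtain ⟨V, hV, hsV⟩ : ∃ V : S.Opens, IsAffineOpen V ∧ s ∈ V := by
    obtain ⟨V, hV⟩ := TopologicalSpace.Opens.mem_iSup.1
      (show s ∈ (⨆ i : S.affineOpens, (i : S.Opens)) by
        rw [iSup_affineOpens_eq_top]; trivial)
    exact ⟨V.1, V.2, hV⟩
  obtain ⟨L, h1, ⟨N, h2⟩, h3, -, h5⟩ := exists_complex_chart_fp f hV F hF hflat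
  -- the Euler characteristic on the chart
  have hχ : ∀ x : ↑(Spec (CommRingCat.of Γ(S, V))),
      PerfAux.eulerChar f F (hV.fromSpec x) =
        ∑ p ∈ Finset.range N, (-1 : ℤ) ^ p * (CohIII.dRank L (p : ℤ) x : ℤ) := by
    intro x
    unfold PerfAux.eulerChar
    rw [finsum_eq_sum_of_support_subset (s := Finset.range N)]
    · apply Finset.sum_congr rfl
      intro p _
      rw [h5 x p]
      rfl
    · intro p hp
      rw [Function.mem_support] at hp
      by_contra hpN
      apply hp
      have hpN' : (N : ℤ) ≤ (p : ℤ) := by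
        have : ¬ p < N := fun h => hpN (Finset.mem_coe.mpr (Finset.mem_range.mpr h))
        exact_mod_cast Nat.le_of_not_lt this
      have e : PerfAux.betti f F (hV.fromSpec x) p = CohIII.dRank L (p : ℤ) x := by
        rw [h5 x p]; rfl
      rw [e, dRank_eq_zero_of_isZero L _ (h2 _ hpN') x]
      simp
  have hlc : IsLocallyConstant (fun x : PrimeSpectrum Γ(S, V) =>
      ∑ p ∈ Finset.range N, (-1 : ℤ) ^ p * (CohIII.dRank L (p : ℤ) x : ℤ)) := by
    refine isLocallyConstant_euler L (fun i => ⟨(h1 i).1, ?_⟩) N (h2 _ le_rfl) (fun y => ?_)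
    · haveI := (h1 i).2
      infer_instance
    · exact dRank_eq_zero_of_isZero_homology L (-1) y
        (h3 y.asIdeal.ResidueField (-1) (by norm_num))
  -- transfer to `S`
  have hsr : s ∈ Set.range hV.fromSpec.base := by
    rw [hV.range_fromSpec]; exact hsV
  obtain ⟨x, rfl⟩ := hsr
  have hev := hlc.eventually_eq x
  have hmap : Filter.map hV.fromSpec.base (nhds x) = nhds (hV.fromSpec.base x) :=
    hV.fromSpec.isOpenEmbedding.map_nhds_eq x
  rw [← hmap, Filter.eventually_map]
  filter_upwards [hev] with y hy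
  show PerfAux.eulerChar f F (hV.fromSpec y) = PerfAux.eulerChar f F (hV.fromSpec x)
  rw [hχ y, hχ x]
  exact hy

end Groth.Agent.Lib.Lead.EulerLC
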