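import Mathlib
import Groth.Agent.Lib.Lead.EulerLC2
import Groth.Agent.Lib.Helper21.GCBC

/-! # Euler characteristics at field-valued points of the base (lead)

`f : X ⟶ Y` proper and locally of finite presentation (ANY base), `F` of finite presentation and flat over `Y`.
* `finrank_eq_fiberRank_of_point`: for a field `K`, `b : Spec K ⟶ Y` and a cartesian square `T = X ×_Y Spec K`,
  `dim_K H^p(T, F_T) = fiberRank f F p (b pt)` (helper21's `GCBC.finrank_eq_fiberRank` with helper18's complex).
* `euler_eq_eulerChar_of_point`, `euler_eq_of_preconnected`: over a (pre)connected base the Euler characteristics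
  `Curv2.euler` of the base changes to any two field-valued points agree.
* `eulerCharLE_eq_euler`: `FGA.eulerCharLE K T G d = Curv2.euler K T G` when `H^i = 0` for `i > d`. -/

set_option autoImplicit false
set_option linter.style.haveILetI false
universe u
open CategoryTheory CategoryTheory.Limits AlgebraicGeometry TopologicalSpace

namespace Groth.Agent.Lib.Lead.EulerLC

open Groth.Agent.Lib.helper21.GCFibre Groth.Agent.Lib.helper21.GCBase

/-- **Cohomology of the base change to a field-valued point**: its dimension is the fibre rank at the image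
point. -/
theorem finrank_eq_fiberRank_of_point {X Y : Scheme.{u}} (f : X ⟶ Y) [IsProper f]
    [LocallyOfFinitePresentation f] (F : X.Modules) (hF : CohB1.IsFP F)
    (hfl : FlatMod.IsFlatOver f F) (K : Type u) [Field K] (b : Spec (CommRingCat.of K) ⟶ Y)
    {T : Scheme.{u}} [T.Over (Spec (CommRingCat.of K))] (t : T ⟶ X)
    (hT : IsPullback t (T ↘ Spec (CommRingCat.of K)) f b)
    (G : T.Modules) (eG : G ≅ (Scheme.Modules.pullback t).obj F) (p : ℕ) :
    Module.finrank K (Coh.HH T G p) =
      CohIII.fiberRank f F p (b.base (⊥ : PrimeSpectrum K)) := by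
  let pt : ↥(Spec (CommRingCat.of K)) := (⊥ : PrimeSpectrum K)
  obtain ⟨V, hV, hyV⟩ : ∃ V : Y.Opens, IsAffineOpen V ∧ b.base pt ∈ V := by
    obtain ⟨V, hV⟩ := TopologicalSpace.Opens.mem_iSup.1
      (show b.base pt ∈ (⨆ i : Y.affineOpens, (i : Y.Opens)) by
        rw [iSup_affineOpens_eq_top]; trivial)
    exact ⟨V.1, V.2, hV⟩
  letI := overA f hV
  obtain ⟨L, h1, -, -, hC, -⟩ := exists_complex_chart_fp f hV F hF hfl
  have hb : Set.range b.base ⊆ Set.range hV.fromSpec.base := by
    rintro _ ⟨z, rfl⟩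
    rw [hV.range_fromSpec]
    have hz : z = pt := Subsingleton.elim (α := PrimeSpectrum K) z pt
    rw [hz]
    exact hyV
  let β : Spec (CommRingCat.of K) ⟶ Spec (CommRingCat.of Γ(Y, V)) :=
    IsOpenImmersion.lift hV.fromSpec b hb
  have hβ : β ≫ hV.fromSpec = b := IsOpenImmersion.lift_fac _ _ _
  let φ : CommRingCat.of Γ(Y, V) ⟶ CommRingCat.of K := Spec.preimage β
  have hφ : Spec.map φ = β := Spec.map_preimage β
  have hT' : IsPullback t (T ↘ Spec (CommRingCat.of K)) f (Spec.map φ ≫ hV.fromSpec) := by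
    rw [hφ, hβ]; exact hT
  have key := Groth.Agent.Lib.helper21.GCBC.finrank_eq_fiberRank f Γ(Y, V) hV.fromSpec
    (f ⁻¹ᵁ V).ι (isPullback_chart f hV) K φ t hT' F (FA f (V := V) F) (eF f (V := V) F) G eG
    L hC (fun i => by haveI := (h1 i).2; infer_instance) p
  have hpt : hV.fromSpec.base (PrimeSpectrum.comap φ.hom ⊥) = b.base pt := by
    have h2 : (Spec.map φ ≫ hV.fromSpec).base pt = b.base pt := by
      rw [hφ, hβ]
    rw [← h2]
    rfl
  rw [← hpt]
  exact key

section corollaries

variable {X Y : Scheme.{u}} (f : X ⟶ Y) [IsProper f] [LocallyOfFinitePresentation f]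
  (F : X.Modules) (hF : CohB1.IsFP F) (hfl : FlatMod.IsFlatOver f F)

include hF hfl in
/-- The Euler characteristic of the base change to a field-valued point is the Euler characteristic of the
fibre at the image point. -/
theorem euler_eq_eulerChar_of_point (K : Type u) [Field K] (b : Spec (CommRingCat.of K) ⟶ Y)
    {T : Scheme.{u}} [T.Over (Spec (CommRingCat.of K))] (t : T ⟶ X)
    (hT : IsPullback t (T ↘ Spec (CommRingCat.of K)) f b)
    (G : T.Modules) (eG : G ≅ (Scheme.Modules.pullback t).obj F) :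
    Curv2.euler K T G = PerfAux.eulerChar f F (b.base (⊥ : PrimeSpectrum K)) := by
  unfold Curv2.euler PerfAux.eulerChar
  congr 1
  funext i
  rw [finrank_eq_fiberRank_of_point f F hF hfl K b t hT G eG i]
  rfl

include hF hfl in
/-- Over a connected base, the Euler characteristics of the base changes to any two field-valued points
agree. -/
theorem euler_eq_of_preconnected [PreconnectedSpace Y]
    (K₁ : Type u) [Field K₁] (b₁ : Spec (CommRingCat.of K₁) ⟶ Y)
    {T₁ : Scheme.{u}} [T₁.Over (Spec (CommRingCat.of K₁))] (t₁ : T₁ ⟶ X)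
    (hT₁ : IsPullback t₁ (T₁ ↘ Spec (CommRingCat.of K₁)) f b₁)
    (G₁ : T₁.Modules) (eG₁ : G₁ ≅ (Scheme.Modules.pullback t₁).obj F)
    (K₂ : Type u) [Field K₂] (b₂ : Spec (CommRingCat.of K₂) ⟶ Y)
    {T₂ : Scheme.{u}} [T₂.Over (Spec (CommRingCat.of K₂))] (t₂ : T₂ ⟶ X)
    (hT₂ : IsPullback t₂ (T₂ ↘ Spec (CommRingCat.of K₂)) f b₂)
    (G₂ : T₂.Modules) (eG₂ : G₂ ≅ (Scheme.Modules.pullback t₂).obj F) :
    Curv2.euler K₁ T₁ G₁ = Curv2.euler K₂ T₂ G₂ := by
  rw [euler_eq_eulerChar_of_point f F hF hfl K₁ b₁ t₁ hT₁ G₁ eG₁,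
    euler_eq_eulerChar_of_point f F hF hfl K₂ b₂ t₂ hT₂ G₂ eG₂]
  exact (isLocallyConstant_eulerChar f F hF hfl).apply_eq_of_preconnectedSpace _ _

end corollaries

/-- the truncated Euler characteristic equals the full one when the higher cohomology vanishes -/
theorem eulerCharLE_eq_euler (K : Type u) [Field K] (T : Scheme.{u})
    [T.Over (Spec (CommRingCat.of K))] (G : T.Modules) (d : ℕ)
    (h : ∀ i : ℕ, d < i → Subsingleton (Coh.HH T G i)) :
    FGA.eulerCharLE K T G d = Curv2.euler K T G := by
  unfold FGA.eulerCharLE Curv2.euler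
  symm
  apply finsum_eq_sum_of_support_subset
  intro i hi
  rw [Function.mem_support] at hi
  by_contra hid
  apply hi
  have hdi : d < i := by
    have : ¬ i < d + 1 := fun h' => hid (Finset.mem_coe.mpr (Finset.mem_range.mpr h'))
    omega
  haveI := h i hdi
  rw [Module.finrank_zero_of_subsingleton]
  simp

end Groth.Agent.Lib.Lead.EulerLC
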