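import Mathlib
import Groth.Agent.Lib.Lead.EulerLC3

/-! # Semicontinuity of fibre cohomology over an arbitrary base (lead)

* `upperSemicontinuous_dRank_of_projective`: for a complex of finite projective modules over ANY commutative ring,
  `x ↦ dim H^p(L ⊗ κ(x))` is upper semicontinuous (rank formula + usc of fibre ranks of finite modules).
* `upperSemicontinuous_fiberRank`, `isOpen_betti_lt`: `f` proper lfp, `F` f.p. flat over the base ⇒
  `s ↦ dim H^p(X_s, F_s)` is upper semicontinuous (non-Noetherian version of helper21 `FibreH0`). Gives S1025. -/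

set_option autoImplicit false
set_option linter.style.haveILetI false
universe u
open TensorProduct CategoryTheory CategoryTheory.Limits AlgebraicGeometry

namespace Groth.Agent.Lib.Lead.EulerLC

/-- **Upper semicontinuity of the fibre cohomology ranks of a complex of finite projective modules** (no
Noetherian hypothesis). -/
theorem upperSemicontinuous_dRank_of_projective {A : Type u} [CommRing A]
    (L : CochainComplex (ModuleCat.{u} A) ℤ)
    (hL : ∀ i, Module.Finite A (L.X i) ∧ Module.Projective A (L.X i)) (p : ℤ) :
    UpperSemicontinuous (CohIII.dRank L p) := by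
  have hfin : ∀ i, Module.Finite A (L.X i) := fun i => (hL i).1
  intro x c hc
  have hr : ∀ᶠ y in nhds x, rK L y (p + 1) = rK L x (p + 1) := by
    haveI := (hL (p + 1)).1
    haveI := (hL (p + 1)).2
    haveI : Module.FinitePresentation A (L.X (p + 1)) := Module.finitePresentation_of_projective A _
    have h := (Module.isLocallyConstant_rankAtStalk (R := A) (M := L.X (p + 1))).eventually_eq x
    filter_upwards [h] with y hy
    have e1 := Module.rankAtStalk_eq (M := L.X (p + 1)) y
    have e2 := Module.rankAtStalk_eq (M := L.X (p + 1)) x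
    show Module.finrank _ _ = Module.finrank _ _
    rw [← e1, ← e2]; exact hy
  have hcK : ∀ i : ℤ, ∀ᶠ y in nhds x, cK L y i ≤ cK L x i := by
    intro i
    haveI := hfin i
    have h := Groth.Agent.S2380.fibre_finrank_usc (A := A)
      (L.X i ⧸ LinearMap.range (L.d (i - 1) i).hom) x _ (Nat.lt_succ_self _)
    filter_upwards [h] with y hy
    exact Nat.lt_succ_iff.mp hy
  filter_upwards [hr, hcK p, hcK (p + 1)] with y h1 h2 h3
  have fy := rank_formula_c L hfin p y
  have fx := rank_formula_c L hfin p x
  have : CohIII.dRank L p y ≤ CohIII.dRank L p x := by omega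
  exact lt_of_le_of_lt this hc

section geom

variable {X S : Scheme.{u}} (f : X ⟶ S) [IsProper f] [LocallyOfFinitePresentation f]
  (F : X.Modules) (hF : CohB1.IsFP F) (hflat : FlatMod.IsFlatOver f F)

include hF hflat in
/-- **semicontinuity over an arbitrary base** -/
theorem upperSemicontinuous_fiberRank (p : ℕ) : UpperSemicontinuous (CohIII.fiberRank f F p) := by
  intro y c hc
  obtain ⟨V, hV, hyV⟩ : ∃ V : S.Opens, IsAffineOpen V ∧ y ∈ V := by
    obtain ⟨V, hV⟩ := TopologicalSpace.Opens.mem_iSup.1
      (show y ∈ (⨆ i : S.affineOpens, (i : S.Opens)) by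
        rw [iSup_affineOpens_eq_top]; trivial)
    exact ⟨V.1, V.2, hV⟩
  obtain ⟨x, rfl⟩ : ∃ x, hV.fromSpec x = y := by
    have : y ∈ Set.range hV.fromSpec := by
      rw [hV.range_fromSpec]
      exact hyV
    exact this
  obtain ⟨L, h1, -, -, -, h7⟩ := exists_complex_chart_fp f hV F hF hflat
  have hL : ∀ i, Module.Finite Γ(S, V) (L.X i) ∧ Module.Projective Γ(S, V) (L.X i) := fun i =>
    ⟨(h1 i).1, by haveI := (h1 i).2; infer_instance⟩
  have hc' : CohIII.dRank L (p : ℤ) x < c := (h7 x p).trans_lt hc
  have husc := upperSemicontinuous_dRank_of_projective L hL (p : ℤ) x c hc'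
  rw [← hV.fromSpec.isOpenEmbedding.map_nhds_eq x, Filter.eventually_map]
  filter_upwards [husc] with x' hx'
  exact (h7 x' p).symm.trans_lt hx'

include hF hflat in
theorem isOpen_betti_lt (i n : ℕ) : IsOpen {s : S | PerfAux.betti f F s i < n} := by
  have h := upperSemicontinuous_fiberRank f F hF hflat i
  rw [upperSemicontinuous_iff_isOpen_preimage] at h
  exact h n

end geom

end Groth.Agent.Lib.Lead.EulerLC
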