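import Mathlib

/-!
# Ring theory for Stacks 09NR (lead)

Local algebra behind "a retrocompact open `U ⊆ X` with discrete complement whose points have Noetherian local
rings of dimension `≤ 1`":

* `exists_mem_maximalIdeal_only`: a Noetherian local ring of dimension `≤ 1` has an element of the maximal ideal
  lying in no other prime (prime avoidance).
* `exists_f_h`: `A` a ring, `p` a prime with `A_p` Noetherian of dimension `≤ 1` and `V(s) ⊆ {p}` for a finite
  `s ⊆ p`: there are `f ∈ p`, `h ∉ p` with `V(f) ∩ D(h) ⊆ {p}`.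
* `exists_mul_pow_mem`: if an ideal `J` is contained in no prime `q ⊆ p` with `f ∉ q` then `h f^n ∈ J` for some `h ∉ p`.
* `finite_primes_lt`, `eq_of_le_of_lt`: the primes strictly below `p` are finite in number and pairwise incomparable.
-/

set_option autoImplicit false
set_option backward.isDefEq.respectTransparency false
set_option linter.style.haveILetI false
set_option linter.unusedSectionVars false

namespace Groth.Agent.Lib.Lead.DiscCompl

/-- a Noetherian local ring of dimension `≤ 1` has an element of the maximal ideal lying in no other prime -/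
theorem exists_mem_maximalIdeal_only (R : Type*) [CommRing R] [IsLocalRing R] [IsNoetherianRing R]
    (hdim : ringKrullDim R ≤ 1) :
    ∃ f ∈ IsLocalRing.maximalIdeal R,
      ∀ P : Ideal R, P.IsPrime → f ∈ P → P = IsLocalRing.maximalIdeal R := by
  classical
  haveI : Ring.KrullDimLE 1 R := Ring.krullDimLE_iff.mpr (by exact_mod_cast hdim)
  have hfin := minimalPrimes.finite_of_isNoetherianRing R
  let S : Finset (Ideal R) := hfin.toFinset.filter (fun q => q ≠ IsLocalRing.maximalIdeal R)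
  have hS : ∀ q, q ∈ S ↔ q ∈ minimalPrimes R ∧ q ≠ IsLocalRing.maximalIdeal R := by
    intro q
    simp [S]
  have hprime : ∀ q ∈ S, q.IsPrime := fun q hq => Ideal.minimalPrimes_isPrime ((hS q).mp hq).1
  by_cases hsub : ((IsLocalRing.maximalIdeal R : Ideal R) : Set R) ⊆
      ⋃ q ∈ (S : Set (Ideal R)), ((id q : Ideal R) : Set R)
  · obtain ⟨q, hq, hmq⟩ := (Ideal.subset_union_prime (f := id) (IsLocalRing.maximalIdeal R)
        (IsLocalRing.maximalIdeal R) (fun i hi _ _ => hprime i hi)).mp hsub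
    exfalso
    have hqp := hprime q hq
    exact ((hS q).mp hq).2 ((IsLocalRing.maximalIdeal.isMaximal R).eq_of_le hqp.ne_top hmq).symm
  · obtain ⟨f, hfm, hf⟩ := Set.not_subset.mp hsub
    refine ⟨f, hfm, fun P hP hfP => ?_⟩
    rcases Ring.krullDimLE_one_iff.mp ‹_› P hP with h | h
    · by_contra hne
      apply hf
      simp only [Set.mem_iUnion]
      exact ⟨P, (hS P).mpr ⟨h, hne⟩, hfP⟩
    · exact IsLocalRing.eq_maximalIdeal h

/-- `A_p` Noetherian of dimension `≤ 1`, `V(s) ⊆ {p}` for a finite `s ⊆ p`: there are `f ∈ p`, `h ∉ p` with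
`V(f) ∩ D(h) ⊆ {p}` -/
theorem exists_f_h {A : Type*} [CommRing A] (p : Ideal A) [p.IsPrime]
    (R : Type*) [CommRing R] [Algebra A R] [IsLocalization.AtPrime R p] [IsNoetherianRing R]
    (hdim : ringKrullDim R ≤ 1) (s : Finset A) (hsp : ∀ g ∈ s, g ∈ p)
    (hs : ∀ q : Ideal A, q.IsPrime → (∀ g ∈ s, g ∈ q) → q = p) :
    ∃ f ∈ p, ∃ h, h ∉ p ∧ ∀ q : Ideal A, q.IsPrime → f ∈ q → h ∉ q → q = p := by
  classical
  haveI : IsLocalRing R := IsLocalization.AtPrime.isLocalRing R p
  obtain ⟨f₀, hf₀m, hf₀⟩ := exists_mem_maximalIdeal_only R hdim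
  obtain ⟨f, t, rfl⟩ := IsLocalization.exists_mk'_eq p.primeCompl f₀
  have hfp : f ∈ p := (IsLocalization.AtPrime.mk'_mem_maximal_iff R p f t).mp hf₀m
  have hrad : ∀ g ∈ p, ∃ n : ℕ, algebraMap A R g ^ n ∈ Ideal.span {algebraMap A R f} := by
    intro g hg
    have hgm : algebraMap A R g ∈ IsLocalRing.maximalIdeal R :=
      (IsLocalization.AtPrime.to_map_mem_maximal_iff R p g).mpr hg
    have : algebraMap A R g ∈ (Ideal.span {algebraMap A R f}).radical := by
      rw [Ideal.radical_eq_sInf, Ideal.mem_sInf]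
      rintro P ⟨hle, hP⟩
      have hfP : IsLocalization.mk' R f t ∈ P := by
        rw [IsLocalization.mk'_mem_iff]
        exact hle (Ideal.subset_span rfl)
      rw [hf₀ P hP hfP]
      exact hgm
    exact this
  have hg : ∀ g ∈ s, ∃ h, h ∉ p ∧ ∃ n : ℕ, h * g ^ n ∈ Ideal.span {f} := by
    intro g hgs
    obtain ⟨n, hn⟩ := hrad g (hsp g hgs)
    rw [Ideal.mem_span_singleton'] at hn
    obtain ⟨a, ha⟩ := hn
    obtain ⟨a', u, rfl⟩ := IsLocalization.exists_mk'_eq p.primeCompl a
    have h1 : algebraMap A R (a' * f) = algebraMap A R (u * g ^ n) := by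
      rw [map_mul, map_mul, map_pow, ← ha, ← mul_assoc, IsLocalization.mul_mk'_eq_mk'_of_mul,
        IsLocalization.mk'_mul_cancel_left]
    obtain ⟨c, hc⟩ := (IsLocalization.eq_iff_exists p.primeCompl R).mp h1
    refine ⟨c * u, p.primeCompl.mul_mem c.2 u.2, n, ?_⟩
    rw [Ideal.mem_span_singleton']
    exact ⟨c * a', by linear_combination hc⟩
  choose! hh hhp hhn using hg
  refine ⟨f, hfp, ∏ g ∈ s, hh g, ?_, ?_⟩
  · intro hmem
    obtain ⟨g, hgs, hgp⟩ := (Ideal.IsPrime.prod_mem_iff (hp := ‹p.IsPrime›)).mp hmem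
    exact hhp g hgs hgp
  · intro q hq hfq hhq
    apply hs q hq
    intro g hgs
    obtain ⟨n, hn⟩ := hhn g hgs
    have h1 : hh g * g ^ n ∈ q := ((Ideal.span_singleton_le_iff_mem q).mpr hfq) hn
    rcases hq.mem_or_mem h1 with h2 | h2
    · exfalso
      apply hhq
      exact Ideal.mem_of_dvd q (Finset.dvd_prod_of_mem hh hgs) h2
    · exact hq.mem_of_pow_mem n h2

/-- if an ideal `J` is contained in no prime `q ⊆ p` with `f ∉ q` then `h f^n ∈ J` for some `h ∉ p` -/
theorem exists_mul_pow_mem {A : Type*} [CommRing A] (p : Ideal A) [p.IsPrime] (f : A) (J : Ideal A)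
    (hJ : ∀ q : Ideal A, q.IsPrime → q ≤ p → f ∉ q → ¬ J ≤ q) :
    ∃ h, h ∉ p ∧ ∃ n : ℕ, h * f ^ n ∈ J := by
  by_contra hcon
  push Not at hcon
  have hdisj : Disjoint (J : Set A) ((p.primeCompl ⊔ Submonoid.powers f : Submonoid A) : Set A) := by
    rw [Set.disjoint_left]
    intro x hxJ hx
    obtain ⟨y, hy, z, ⟨n, rfl⟩, rfl⟩ := Submonoid.mem_sup.mp hx
    exact hcon y hy n hxJ
  obtain ⟨q, hq, hJq, hqd⟩ := Ideal.exists_le_prime_disjoint J _ hdisj
  refine hJ q hq ?_ ?_ hJq
  · intro x hx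
    by_contra hxp
    exact Set.disjoint_left.mp hqd hx (Submonoid.mem_sup_left hxp)
  · intro hfq
    exact Set.disjoint_left.mp hqd hfq (Submonoid.mem_sup_right (Submonoid.mem_powers f))

section Below

variable {A : Type*} [CommRing A] (p : Ideal A) [p.IsPrime]
  (R : Type*) [CommRing R] [Algebra A R] [IsLocalization.AtPrime R p]

theorem map_mem_minimalPrimes (hdim : ringKrullDim R ≤ 1) (q : Ideal A) (hq : q.IsPrime) (hqp : q < p) :
    q.map (algebraMap A R) ∈ minimalPrimes R ∧ (q.map (algebraMap A R)).comap (algebraMap A R) = q := by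
  haveI : IsLocalRing R := IsLocalization.AtPrime.isLocalRing R p
  haveI : Ring.KrullDimLE 1 R := Ring.krullDimLE_iff.mpr (by exact_mod_cast hdim)
  have hd : Disjoint (p.primeCompl : Set A) (q : Set A) := by
    rw [Set.disjoint_left]
    intro x hx hxq
    exact hx (hqp.le hxq)
  have hprime := IsLocalization.isPrime_of_isPrime_disjoint p.primeCompl R q hq hd
  have hcomap : (q.map (algebraMap A R)).comap (algebraMap A R) = q :=
    IsLocalization.under_map_of_isPrime_disjoint p.primeCompl R hq hd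
  refine ⟨?_, hcomap⟩
  rcases Ring.krullDimLE_one_iff.mp ‹_› _ hprime with h | h
  · exact h
  · exfalso
    have h1 : q.map (algebraMap A R) = IsLocalRing.maximalIdeal R := IsLocalRing.eq_maximalIdeal h
    have h2 : (IsLocalRing.maximalIdeal R).comap (algebraMap A R) = p :=
      IsLocalization.AtPrime.under_maximalIdeal R p
    rw [← h1, hcomap] at h2
    exact hqp.ne h2

/-- finitely many primes strictly below `p` -/
theorem finite_primes_lt [IsNoetherianRing R] (hdim : ringKrullDim R ≤ 1) :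
    {q : Ideal A | q.IsPrime ∧ q < p}.Finite := by
  have hfin := minimalPrimes.finite_of_isNoetherianRing R
  refine (hfin.image (Ideal.comap (algebraMap A R))).subset ?_
  rintro q ⟨hq, hqp⟩
  obtain ⟨h1, h2⟩ := map_mem_minimalPrimes p R hdim q hq hqp
  exact ⟨_, h1, h2⟩

/-- the primes strictly below `p` are pairwise incomparable -/
theorem eq_of_le_of_lt (hdim : ringKrullDim R ≤ 1) (q₁ q₂ : Ideal A) (h₁ : q₁.IsPrime) (h₂ : q₂.IsPrime)
    (h₁p : q₁ < p) (h₂p : q₂ < p) (hle : q₁ ≤ q₂) : q₁ = q₂ := by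
  obtain ⟨m₁, c₁⟩ := map_mem_minimalPrimes p R hdim q₁ h₁ h₁p
  obtain ⟨m₂, c₂⟩ := map_mem_minimalPrimes p R hdim q₂ h₂ h₂p
  have hle' : q₁.map (algebraMap A R) ≤ q₂.map (algebraMap A R) := Ideal.map_mono hle
  have : q₂.map (algebraMap A R) ≤ q₁.map (algebraMap A R) := m₂.2 m₁.1 hle'
  rw [← c₁, ← c₂, le_antisymm hle' this]

end Below

end Groth.Agent.Lib.Lead.DiscCompl
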