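import Mathlib
import Groth.Agent.Lib.Lead.DiscCompl1

/-!
# Good affine neighbourhoods of the points of a discrete complement (lead; Stacks 09NR)

`exists_good_nbhd`: `U ⊆ X` retrocompact open with discrete complement, `x ∉ U` with `O_{X,x}` Noetherian of
dimension `≤ 1`.  Then there are an affine open `W ∋ x` and `f ∈ Γ(X, W)` such that `x` is the only point of `W`
outside `U` and `V(f) = {x}` inside `W`.
-/

set_option autoImplicit false
set_option backward.isDefEq.respectTransparency false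
set_option linter.style.haveILetI false
set_option linter.unusedSectionVars false

universe u
open CategoryTheory AlgebraicGeometry TopologicalSpace Opposite

namespace Groth.Agent.Lib.Lead.DiscCompl

variable {X : Scheme.{u}}

theorem fromSpec_mem' {W : X.Opens} (hW : IsAffineOpen W) (q : PrimeSpectrum Γ(X, W)) :
    hW.fromSpec q ∈ W := by
  have h1 : hW.fromSpec q ∈ Set.range hW.fromSpec := ⟨_, rfl⟩
  rw [hW.range_fromSpec] at h1
  exact h1

theorem fromSpec_mem_basicOpen_iff {W : X.Opens} (hW : IsAffineOpen W) (g : Γ(X, W))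
    (q : PrimeSpectrum Γ(X, W)) : hW.fromSpec q ∈ X.basicOpen g ↔ g ∉ q.asIdeal := by
  have h1 := hW.fromSpec_preimage_basicOpen g
  have h2 : q ∈ hW.fromSpec ⁻¹ᵁ X.basicOpen g ↔ q ∈ PrimeSpectrum.basicOpen g := by rw [h1]
  exact h2

theorem mem_basicOpen_iff_primeIdealOf {W : X.Opens} (hW : IsAffineOpen W) (g : Γ(X, W))
    (y : X) (hy : y ∈ W) : y ∈ X.basicOpen g ↔ g ∉ (hW.primeIdealOf ⟨y, hy⟩).asIdeal := by
  rw [← fromSpec_mem_basicOpen_iff hW g, hW.fromSpec_primeIdealOf ⟨y, hy⟩]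

theorem primeIdealOf_fromSpec' {W : X.Opens} (hW : IsAffineOpen W) (q : PrimeSpectrum Γ(X, W)) :
    hW.primeIdealOf ⟨hW.fromSpec q, fromSpec_mem' hW q⟩ = q := by
  apply hW.fromSpec.isOpenEmbedding.injective
  rw [hW.fromSpec_primeIdealOf]

/-- a good affine neighbourhood of a point of the discrete complement -/
theorem exists_good_nbhd (U : X.Opens) [QuasiCompact U.ι]
    (hdisc : DiscreteTopology ↥((U : Set X)ᶜ)) (x : X) (hx : x ∉ U)
    (hN : IsNoetherianRing (X.presheaf.stalk x)) (hdim : ringKrullDim (X.presheaf.stalk x) ≤ 1) :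
    ∃ (W : X.Opens) (f : Γ(X, W)), IsAffineOpen W ∧ x ∈ W ∧ (∀ y ∈ W, y ∉ U → y = x) ∧
      (∀ y ∈ W, y ≠ x → y ∈ X.basicOpen f) ∧ x ∉ X.basicOpen f := by
  classical
  obtain ⟨O, hO, hOx⟩ : ∃ O : Set X, IsOpen O ∧
      Subtype.val ⁻¹' O = ({⟨x, hx⟩} : Set ↥((U : Set X)ᶜ)) :=
    isOpen_induced_iff.mp (isOpen_discrete _)
  have hxO : x ∈ O := by
    have : (⟨x, hx⟩ : ↥((U : Set X)ᶜ)) ∈ Subtype.val ⁻¹' O := by rw [hOx]; rfl
    exact this
  have hOU : ∀ y ∈ O, y ∉ U → y = x := by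
    intro y hy hyU
    have : (⟨y, hyU⟩ : ↥((U : Set X)ᶜ)) ∈ Subtype.val ⁻¹' O := hy
    rw [hOx] at this
    exact congrArg Subtype.val this
  obtain ⟨_, ⟨W₀, hW₀, rfl⟩, hxW₀, hW₀O⟩ := X.isBasis_affineOpens.exists_subset_of_mem_open hxO hO
  have hK : IsCompact ((U : Set X) ∩ W₀) := by
    have h1 : IsCompact (U.ι ⁻¹' (W₀ : Set X)) :=
      QuasiCompact.isCompact_preimage (f := U.ι) _ W₀.isOpen hW₀.isCompact
    have h2 := h1.image U.ι.continuous
    rwa [Set.image_preimage_eq_inter_range, Scheme.Opens.range_ι, Set.inter_comm] at h2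
  set px := hW₀.primeIdealOf ⟨x, hxW₀⟩ with hpx
  have hfx : hW₀.fromSpec px = x := hW₀.fromSpec_primeIdealOf ⟨x, hxW₀⟩
  have hpre : hW₀.fromSpec ⁻¹' ((U : Set X) ∩ W₀) = ({px} : Set (PrimeSpectrum Γ(X, W₀)))ᶜ := by
    ext q
    simp only [Set.mem_preimage, Set.mem_inter_iff, Set.mem_compl_iff, Set.mem_singleton_iff]
    constructor
    · rintro ⟨hqU, -⟩ rfl
      exact hx (hfx ▸ hqU)
    · intro hq
      have hqW : hW₀.fromSpec q ∈ W₀ := fromSpec_mem' hW₀ q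
      refine ⟨?_, hqW⟩
      by_contra hqU
      have := hOU _ (hW₀O hqW) hqU
      exact hq (hW₀.fromSpec.isOpenEmbedding.injective (this.trans hfx.symm))
  have hKc : IsCompact (hW₀.fromSpec ⁻¹' ((U : Set X) ∩ W₀)) :=
    hW₀.fromSpec.isOpenEmbedding.isInducing.isCompact_preimage' hK
      (by rw [hW₀.range_fromSpec]; exact Set.inter_subset_right)
  have hKo : IsOpen (hW₀.fromSpec ⁻¹' ((U : Set X) ∩ W₀)) :=
    (U.isOpen.inter W₀.isOpen).preimage hW₀.fromSpec.continuous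
  obtain ⟨s, hs⟩ := PrimeSpectrum.isCompact_isOpen_iff.mp ⟨hKc, hKo⟩
  have hz : PrimeSpectrum.zeroLocus (s : Set Γ(X, W₀)) = {px} := by
    rw [← compl_compl (PrimeSpectrum.zeroLocus _), hs, hpre, compl_compl]
  have hsp : ∀ g ∈ s, g ∈ px.asIdeal := by
    intro g hg
    have : px ∈ PrimeSpectrum.zeroLocus (s : Set Γ(X, W₀)) := by rw [hz]; rfl
    exact this hg
  have hsq : ∀ q : Ideal Γ(X, W₀), q.IsPrime → (∀ g ∈ s, g ∈ q) → q = px.asIdeal := by
    intro q hq hsq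
    have : (⟨q, hq⟩ : PrimeSpectrum Γ(X, W₀)) ∈ PrimeSpectrum.zeroLocus (s : Set Γ(X, W₀)) :=
      fun g hg => hsq g hg
    rw [hz] at this
    exact congrArg PrimeSpectrum.asIdeal this
  letI := TopCat.Presheaf.algebra_section_stalk X.presheaf (⟨x, hxW₀⟩ : W₀)
  haveI := hW₀.isLocalization_stalk ⟨x, hxW₀⟩
  obtain ⟨f, hfp, h, hhp, hfh⟩ := exists_f_h px.asIdeal (X.presheaf.stalk x) hdim s hsp hsq
  have hle : X.basicOpen h ≤ W₀ := X.basicOpen_le h
  refine ⟨X.basicOpen h, X.presheaf.map (homOfLE hle).op f, hW₀.basicOpen h, ?_, ?_, ?_, ?_⟩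
  · exact (mem_basicOpen_iff_primeIdealOf hW₀ h x hxW₀).mpr hhp
  · intro y hy hyU
    exact hOU y (hW₀O (hle hy)) hyU
  · intro y hy hyx
    rw [Scheme.basicOpen_res]
    refine ⟨hy, (mem_basicOpen_iff_primeIdealOf hW₀ f y (hle hy)).mpr ?_⟩
    intro hfy
    have hhy : h ∉ (hW₀.primeIdealOf ⟨y, hle hy⟩).asIdeal :=
      (mem_basicOpen_iff_primeIdealOf hW₀ h y (hle hy)).mp hy
    have h1 := hfh _ (hW₀.primeIdealOf ⟨y, hle hy⟩).isPrime hfy hhy
    have h2 : hW₀.primeIdealOf ⟨y, hle hy⟩ = px := PrimeSpectrum.ext h1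
    apply hyx
    have h3 := hW₀.fromSpec_primeIdealOf ⟨y, hle hy⟩
    rw [h2, hfx] at h3
    exact h3.symm
  · rw [Scheme.basicOpen_res]
    rintro ⟨-, hxf⟩
    exact (mem_basicOpen_iff_primeIdealOf hW₀ f x hxW₀).mp hxf hfp

end Groth.Agent.Lib.Lead.DiscCompl
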