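import Mathlib
import Groth.Prelude.Def_ModSite2
import Groth.Agent.Lib.Helper20.SmulHom
import Groth.Agent.Lib.Helper11.FibLift1
import Groth.Agent.Lib.Helper11.TensorEpi

/-!
# `ℰxt^q(M, -)` is linear over global functions (lead; block B4b of helper20's PLAN-S11924)

Abstract part (`𝒜`, `ℬ` abelian, `τ : 𝟭 𝒜 ⟶ 𝟭 𝒜`, `τ' : 𝟭 ℬ ⟶ 𝟭 ℬ` "central elements", `G : 𝒜 ⥤ ℬ` additive):
* `tauHom τ K : K ⟶ K`, `homologyMap_tauHom`;
* `rightDerived_map_app`: `G (τ_W) = τ'_{G W}` for all `W` ⇒ `R^qG (τ_W) = τ'_{R^qG W}`;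
* `rightDerived_map_eq_zero`: `G (τ_W) = 0` for all `W` ⇒ `R^qG (τ_W) = 0`.
Concrete part (`X` a scheme, `r : Coh.Γtop X`, `smulHom` of `Helper20.SmulHom`):
* `smulHom_eq : smulHom r M = Formal.smulModΓ M r` (rfl), `tensorMap_smulHom_left/right`, `tau r`;
* `sheafHom_map_smulHom`, `sheafHom_map_smulHom_eq_zero` (for `ModSite.sheafHom M`, via the adjunction with `- ⊗ M`);
* **`extSh_map_smulHom`**: `(ModSite.extSh M q).map (smulHom r W) = smulHom r ((ModSite.extSh M q).obj W)`;
* **`extSh_map_smulHom_eq_zero`**: if `smulHom r M = 0` then `(ModSite.extSh M q).map (smulHom r W) = 0`.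
-/

set_option autoImplicit false
set_option linter.style.haveILetI false
set_option linter.unusedSectionVars false

universe u v u' v'
open CategoryTheory CategoryTheory.Limits AlgebraicGeometry Opposite TopologicalSpace

namespace Groth.Agent.Lib.Lead.ExtShLin

section Abstract

variable {𝒜 : Type u} [Category.{v} 𝒜] [Abelian 𝒜]
  {ℬ : Type u'} [Category.{v'} ℬ] [Abelian ℬ]

/-- the endomorphism of a cochain complex given by a natural endomorphism of the identity functor -/
@[simps]
def tauHom (τ : 𝟭 𝒜 ⟶ 𝟭 𝒜) (K : CochainComplex 𝒜 ℕ) : K ⟶ K where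
  f j := τ.app (K.X j)
  comm' i j _ := by
    have := τ.naturality (K.d i j)
    simpa using this.symm

/-- homology of `tauHom` is `τ` on homology -/
theorem homologyMap_tauHom (τ : 𝟭 𝒜 ⟶ 𝟭 𝒜) (K : CochainComplex 𝒜 ℕ) (n : ℕ) :
    HomologicalComplex.homologyMap (tauHom τ K) n = τ.app (K.homology n) := by
  have h1 : HomologicalComplex.cyclesMap (tauHom τ K) n = τ.app (K.cycles n) := by
    rw [← cancel_mono (K.iCycles n), HomologicalComplex.cyclesMap_i]
    have := τ.naturality (K.iCycles n)
    simpa using this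
  rw [← cancel_epi (K.homologyπ n), HomologicalComplex.homologyπ_naturality, h1]
  have := τ.naturality (K.homologyπ n)
  simpa using this.symm

variable [HasInjectiveResolutions 𝒜] (τ : 𝟭 𝒜 ⟶ 𝟭 𝒜) (τ' : 𝟭 ℬ ⟶ 𝟭 ℬ) (G : 𝒜 ⥤ ℬ) [G.Additive]

/-- right derived functors of a functor compatible with central endomorphisms are compatible with them -/
theorem rightDerived_map_app (hG : ∀ W, G.map (τ.app W) = τ'.app (G.obj W)) (q : ℕ) (W : 𝒜) :
    (G.rightDerived q).map (τ.app W) = τ'.app ((G.rightDerived q).obj W) := by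
  let I := injectiveResolution W
  have comm : I.ι.f 0 ≫ (tauHom τ I.cocomplex).f 0 = τ.app W ≫ I.ι.f 0 := by
    have := τ.naturality (I.ι.f 0)
    simpa using this
  have h1 := InjectiveResolution.isoRightDerivedObj_hom_naturality (τ.app W) I I
    (tauHom τ I.cocomplex) comm G q
  have h2 : (G.mapHomologicalComplex _).map (tauHom τ I.cocomplex) =
      tauHom τ' ((G.mapHomologicalComplex _).obj I.cocomplex) := by
    ext j
    simp [hG]
    rfl
  rw [← cancel_mono (I.isoRightDerivedObj G q).hom, h1]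
  dsimp only [Functor.comp_map]
  rw [h2]
  change _ ≫ HomologicalComplex.homologyMap _ q = _
  rw [homologyMap_tauHom]
  have := τ'.naturality (I.isoRightDerivedObj G q).hom
  simp only [Functor.id_obj, Functor.id_map] at this
  exact this

/-- right derived functors of a functor killing a central endomorphism kill it -/
theorem rightDerived_map_eq_zero (hG : ∀ W, G.map (τ.app W) = 0) (q : ℕ) (W : 𝒜) :
    (G.rightDerived q).map (τ.app W) = 0 := by
  let I := injectiveResolution W
  have comm : I.ι.f 0 ≫ (tauHom τ I.cocomplex).f 0 = τ.app W ≫ I.ι.f 0 := by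
    have := τ.naturality (I.ι.f 0)
    simpa using this
  have h1 := InjectiveResolution.isoRightDerivedObj_hom_naturality (τ.app W) I I
    (tauHom τ I.cocomplex) comm G q
  have h2 : (G.mapHomologicalComplex _).map (tauHom τ I.cocomplex) = 0 := by
    ext j
    simp [hG]
    rfl
  rw [← cancel_mono (I.isoRightDerivedObj G q).hom, h1]
  dsimp only [Functor.comp_map]
  rw [h2, Functor.map_zero, comp_zero, zero_comp]

end Abstract

section Concrete

open Groth.Agent.Lib.Helper20.SmulHom Groth.Agent.Lib.Lead.ModTensor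
open Groth.Agent.Lib.helper12.PullTensor

variable {X : Scheme.{u}}

theorem smulHom_eq (r : Coh.Γtop X) (M : X.Modules) : smulHom r M = Formal.smulModΓ M r := rfl

theorem tensorMap_smulHom_left (N E : X.Modules) (r : Coh.Γtop X) :
    tensorMap (smulHom r N) (𝟙 E) = smulHom r (CohB1.tensorMod N E) :=
  Groth.Agent.Lib.helper11.FibLift.tensorMap_smulModΓ_left N E r

theorem tensorMap_smulHom_right (N E : X.Modules) (r : Coh.Γtop X) :
    tensorMap (𝟙 N) (smulHom r E) = smulHom r (CohB1.tensorMod N E) := by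
  apply tensorMod_hom_ext
  intro U n e
  rw [tensorMap_tmul]
  have h1 : ((smulHom r E).val.app (op U)).hom e =
      (X.presheaf.map (homOfLE (le_top : U ≤ ⊤)).op r : X.ringCatSheaf.obj.obj (op U)) • e := rfl
  have h2 : ((smulHom r (CohB1.tensorMod N E)).val.app (op U)).hom (SecTwist.tmul N E U n e) =
      (X.presheaf.map (homOfLE (le_top : U ≤ ⊤)).op r : X.ringCatSheaf.obj.obj (op U)) •
        SecTwist.tmul N E U n e := rfl
  rw [h1, h2]
  have h3 : ((𝟙 N : N ⟶ N).val.app (op U)).hom n = n := rfl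
  rw [h3]
  exact Groth.Agent.Lib.helper11.TensorEpi.tmul_smul_right N E U _ n e

/-- multiplication by a global function as a natural endomorphism of the identity functor -/
noncomputable def tau (r : Coh.Γtop X) : 𝟭 (ModSite.Mod X.sheaf) ⟶ 𝟭 (ModSite.Mod X.sheaf) where
  app W := smulHom r (X := X) W
  naturality _ _ f := (smulHom_naturality r f).symm

variable (M W : X.Modules) [ModSite.HasSheafHom (O := X.sheaf) M]

theorem sheafHom_map_smulHom (r : Coh.Γtop X) :
    (ModSite.sheafHom (O := X.sheaf) M).map (smulHom r W) =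
      smulHom r ((ModSite.sheafHom (O := X.sheaf) M).obj W) := by
  let adj := ModSite.sheafHomAdj (O := X.sheaf) M
  apply (adj.homEquiv _ _).symm.injective
  rw [adj.homEquiv_counit, adj.homEquiv_counit, adj.counit_naturality]
  have h1 : ((ModSite.tensorBi X.sheaf).flip.obj M).map
      (smulHom r ((ModSite.sheafHom (O := X.sheaf) M).obj W)) =
      tensorMap (smulHom r ((ModSite.sheafHom (O := X.sheaf) M).obj W)) (𝟙 M) :=
    Groth.Agent.Lib.helper11.Bidual.tens_map M _
  rw [h1, tensorMap_smulHom_left]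
  exact (smulHom_naturality r _).symm

set_option backward.isDefEq.respectTransparency false in
theorem sheafHom_map_smulHom_eq_zero (r : Coh.Γtop X) (h : smulHom r M = 0) :
    (ModSite.sheafHom (O := X.sheaf) M).map (smulHom r W) = 0 := by
  rw [sheafHom_map_smulHom]
  let adj := ModSite.sheafHomAdj (O := X.sheaf) M
  apply (adj.homEquiv _ _).symm.injective
  rw [adj.homEquiv_counit, adj.homEquiv_counit]
  have h1 : ((ModSite.tensorBi X.sheaf).flip.obj M).map
      (smulHom r ((ModSite.sheafHom (O := X.sheaf) M).obj W)) =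
      tensorMap (smulHom r ((ModSite.sheafHom (O := X.sheaf) M).obj W)) (𝟙 M) :=
    Groth.Agent.Lib.helper11.Bidual.tens_map M _
  rw [h1, tensorMap_smulHom_left, ← tensorMap_smulHom_right, h]
  have h2 : tensorMap (𝟙 ((ModSite.sheafHom (O := X.sheaf) M).obj W)) (0 : M ⟶ M) = 0 := by
    apply tensorMod_hom_ext
    intro U n e
    rw [tensorMap_tmul]
    have : ((0 : M ⟶ M).val.app (op U)).hom e = 0 := rfl
    rw [this, Groth.Agent.Lib.helper11.TensorEpi.tmul_zero_right]
    rfl
  rw [h2, zero_comp, Functor.map_zero, zero_comp]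

variable [HasInjectiveResolutions (ModSite.Mod X.sheaf)]

/-- **B4b (1)**: `ℰxt^q(M, -)` is linear over global functions -/
theorem extSh_map_smulHom (r : Coh.Γtop X) (q : ℕ) :
    (ModSite.extSh (O := X.sheaf) M q).map (smulHom r W) =
      smulHom r ((ModSite.extSh (O := X.sheaf) M q).obj W) :=
  rightDerived_map_app (tau r) (tau r) (ModSite.sheafHom (O := X.sheaf) M)
    (fun W' => sheafHom_map_smulHom M W' r) q W

/-- **B4b (2)**: a global function killing `M` kills `ℰxt^q(M, W)` -/
theorem extSh_map_smulHom_eq_zero (r : Coh.Γtop X) (h : smulHom r M = 0) (q : ℕ) :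
    (ModSite.extSh (O := X.sheaf) M q).map (smulHom r W) = 0 :=
  rightDerived_map_eq_zero (tau r) (ModSite.sheafHom (O := X.sheaf) M)
    (fun W' => sheafHom_map_smulHom_eq_zero M W' r h) q W

end Concrete

end Groth.Agent.Lib.Lead.ExtShLin
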