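import Mathlib
import Groth.Agent.Lib.Lead.HilbPos12

/-!
# Semistable modules with a fixed reduced Hilbert polynomial form an abelian subcategory (lead)

`X` proper over a field `k`, `L` ample, `E`, `F` semistable of dimension `d` with
`RedEq d pE pF`, `f : E ⟶ F`.

* `redEq_trans`, `redEq_sub_of_quot` (polynomials).
* `isHilbPoly_sub₃`, `isHilbPoly_sub₁`: Hilbert polynomials of the third / first term of a short exact
  sequence by subtraction.
* `shortExact_image_cokernel`: `0 → im f → F → coker f → 0`.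
* `redEq_image`: the image has the same reduced Hilbert polynomial.
* `isSemistable_kernel`, `isSemistable_cokernel`.
-/

set_option autoImplicit false
set_option linter.unusedSectionVars false
set_option linter.style.haveILetI false
set_option backward.isDefEq.respectTransparency false
universe u

open CategoryTheory CategoryTheory.Limits AlgebraicGeometry Polynomial TopologicalSpace Topology
  Opposite

namespace Groth.Agent.Lib.Lead.HilbPos

open StabCat Scheme.Modules

section Poly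

theorem alpha_zero (d : ℕ) : alpha d (0 : ℚ[X]) = 0 := by
  unfold alpha
  rw [coeff_zero, mul_zero]

theorem alpha_sub (d : ℕ) (P Q : ℚ[X]) : alpha d (P - Q) = alpha d P - alpha d Q := by
  unfold alpha
  rw [coeff_sub]
  ring

theorem redEq_zero_left (d : ℕ) (Q : ℚ[X]) : RedEq d 0 Q := by
  show alpha d Q • (0 : ℚ[X]) = alpha d 0 • Q
  rw [smul_zero, alpha_zero, zero_smul]

theorem redEq_trans {d : ℕ} {P Q R : ℚ[X]} (hQ : alpha d Q ≠ 0) (h1 : RedEq d P Q)
    (h2 : RedEq d Q R) : RedEq d P R := by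
  have e1 : alpha d Q • P = alpha d P • Q := h1
  have e2 : alpha d R • Q = alpha d Q • R := h2
  show alpha d R • P = alpha d P • R
  have : alpha d Q • (alpha d R • P) = alpha d Q • (alpha d P • R) := by
    calc alpha d Q • (alpha d R • P) = alpha d R • (alpha d Q • P) := smul_comm _ _ _
      _ = alpha d R • (alpha d P • Q) := by rw [e1]
      _ = alpha d P • (alpha d R • Q) := smul_comm _ _ _
      _ = alpha d P • (alpha d Q • R) := by rw [e2]
      _ = alpha d Q • (alpha d P • R) := smul_comm _ _ _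
  exact smul_right_injective _ hQ this

/-- see-saw with equality: `F = K + I`, `I ~ F` ⇒ `K ~ F` -/
theorem redEq_sub_of_quot {d : ℕ} {PK PI : ℚ[X]} (h : RedEq d PI (PK + PI)) :
    RedEq d PK (PK + PI) := by
  have e : alpha d (PK + PI) • PI = alpha d PI • (PK + PI) := h
  show alpha d (PK + PI) • PK = alpha d PK • (PK + PI)
  rw [alpha_add] at e ⊢
  simp only [add_smul, smul_add] at e ⊢
  have h' : alpha d PK • PI = alpha d PI • PK := add_right_cancel e
  rw [h']

end Poly

section Abelian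

variable {C : Type*} [Category C] [Abelian C] {A B : C} (f : A ⟶ B)

/-- `0 → im f → B → coker f → 0` -/
theorem shortExact_image_cokernel :
    (ShortComplex.mk (Abelian.image.ι f) (cokernel.π f) (kernel.condition (cokernel.π f))).ShortExact :=
  { exact := ShortComplex.exact_of_f_is_kernel _ (kernelIsKernel (cokernel.π f))
    mono_f := inferInstanceAs (Mono (kernel.ι (cokernel.π f)))
    epi_g := inferInstanceAs (Epi (cokernel.π f)) }

theorem isZero_image_of_eq_zero (hf : f = 0) : IsZero (Abelian.image f) := by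
  rw [IsZero.iff_id_eq_zero]
  have h1 : Abelian.factorThruImage f = 0 := by
    rw [← cancel_mono (Abelian.image.ι f), Abelian.image.fac, hf, Limits.zero_comp]
  rw [← cancel_epi (Abelian.factorThruImage f), Category.comp_id, h1, Limits.zero_comp]

theorem isZero_of_epi_zero {A B : C} (φ : A ⟶ B) [Epi φ] (h : φ = 0) : IsZero B := by
  rw [IsZero.iff_id_eq_zero, ← cancel_epi φ, Category.comp_id, h, Limits.zero_comp]

end Abelian

variable (k : Type u) [Field k] (X : Scheme.{u}) [X.Over (Spec (CommRingCat.of k))]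
  [IsProper (X ↘ Spec (CommRingCat.of k))]

theorem isHilbPoly_sub₃ {L : X.Modules} (hL : PicF.IsInvertible L) (S : ShortComplex X.Modules)
    (hS : S.ShortExact) (h₁ : Coh.IsCoh S.X₁) (h₃ : Coh.IsCoh S.X₃) {P₁ P₂ : ℚ[X]}
    (hP₁ : ShStab.IsHilbPoly k X L S.X₁ P₁) (hP₂ : ShStab.IsHilbPoly k X L S.X₂ P₂) :
    ShStab.IsHilbPoly k X L S.X₃ (P₂ - P₁) := by
  intro m
  have h := hilb_add k X hL S hS h₁ h₃ m
  rw [eval_sub, ← hP₁ m, ← hP₂ m]
  have h3 : (hilb k X L S.X₂ m : ℚ) = (hilb k X L S.X₁ m : ℚ) + (hilb k X L S.X₃ m : ℚ) := by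
    rw [h]; push_cast; rfl
  have h4 : (hilb k X L S.X₃ m : ℚ) = (hilb k X L S.X₂ m : ℚ) - (hilb k X L S.X₁ m : ℚ) := by
    rw [h3]; ring
  exact h4

theorem isHilbPoly_sub₁ {L : X.Modules} (hL : PicF.IsInvertible L) (S : ShortComplex X.Modules)
    (hS : S.ShortExact) (h₁ : Coh.IsCoh S.X₁) (h₃ : Coh.IsCoh S.X₃) {P₂ P₃ : ℚ[X]}
    (hP₂ : ShStab.IsHilbPoly k X L S.X₂ P₂) (hP₃ : ShStab.IsHilbPoly k X L S.X₃ P₃) :
    ShStab.IsHilbPoly k X L S.X₁ (P₂ - P₃) := by
  intro m
  have h := hilb_add k X hL S hS h₁ h₃ m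
  rw [eval_sub, ← hP₃ m, ← hP₂ m]
  have h3 : (hilb k X L S.X₂ m : ℚ) = (hilb k X L S.X₁ m : ℚ) + (hilb k X L S.X₃ m : ℚ) := by
    rw [h]; push_cast; rfl
  have h4 : (hilb k X L S.X₁ m : ℚ) = (hilb k X L S.X₂ m : ℚ) - (hilb k X L S.X₃ m : ℚ) := by
    rw [h3]; ring
  exact h4

/-- a nonzero coherent module has an eventually positive Hilbert polynomial -/
theorem eventually_pos_of_isHilbPoly {L : X.Modules} (hL : CohB1.IsAmple L) {F : X.Modules}
    (hF : Coh.IsCoh F) (hF0 : ¬ IsZero F) {P : ℚ[X]} (hP : ShStab.IsHilbPoly k X L F P) :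
    ∃ N : ℕ, ∀ m : ℕ, N ≤ m → 0 < P.eval (m : ℚ) :=
  eventually_pos_of_leadingCoeff_pos P (leadingCoeff_pos k X hL hF hF0 hP)

variable {L : X.Modules} (hL : CohB1.IsAmple L) {d : ℕ} {E F : X.Modules}
  (hE : ShStab.IsSemistable k X L E d) (hF : ShStab.IsSemistable k X L F d)
  {pE pF : ℚ[X]} (hpE : ShStab.IsHilbPoly k X L E pE) (hpF : ShStab.IsHilbPoly k X L F pF)
  (hred : RedEq d pE pF) (f : E ⟶ F)

include hL hE hF hpE hpF hred in
/-- the image of a map between semistable modules of the same reduced Hilbert polynomial has that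
reduced Hilbert polynomial (trivially so when the image is zero) -/
theorem redEq_image {pI : ℚ[X]} (hpI : ShStab.IsHilbPoly k X L (Abelian.image f) pI) :
    RedEq d pI pF := by
  have hIc : Coh.IsCoh (Abelian.image f) := isCoh_image k X hE.1 hF.1 f
  by_cases hf : f = 0
  · have hI0 : IsZero (Abelian.image f) := isZero_image_of_eq_zero f hf
    have : pI = 0 := isHilbPoly_unique k X hpI (isHilbPoly_zero_of_isZero k X hI0)
    rw [this]
    exact redEq_zero_left d pF
  · have hI0 : ¬ IsZero (Abelian.image f) := not_isZero_image f hf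
    have aE : 0 < alpha d pE := alpha_pos_of_isSemistable k X hL hE hpE
    have aF : 0 < alpha d pF := alpha_pos_of_isSemistable k X hL hF hpF
    have aI : 0 < alpha d pI :=
      alpha_pos_of_mono_pure k X hL hF.2.2.1 (Abelian.image.ι f) hIc hI0 hpI
    have h1 : RedLE d pE pI := redLE_image_of_isSemistable k X hL.1 hE hF.1 f hf hpE hpI
    have h2 : RedLE d pI pF := redLE_of_mono_of_isSemistable k X hF (Abelian.image.ι f) hIc hI0 hpI hpF
    have h3 : RedLE d pF pI := redLE_trans aF.le aE aI.le (redLE_of_redEq (redEq_symm hred)) h1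
    exact redEq_of_redLE_of_redLE h2 h3

include hL hE hF hpE hpF hred in
theorem isSemistable_kernel (hK0 : ¬ IsZero (kernel f)) :
    ShStab.IsSemistable k X L (kernel f) d ∧
      ∀ pK : ℚ[X], ShStab.IsHilbPoly k X L (kernel f) pK → RedEq d pK pE := by
  have hKc : Coh.IsCoh (kernel f) := isCoh_kernel k X hE.1 hF.1 f
  have hIc : Coh.IsCoh (Abelian.image f) := isCoh_image k X hE.1 hF.1 f
  obtain ⟨pK, hpK⟩ := exists_isHilbPoly_of_mono_pure k X hL.1 hE.2.2.1 (kernel.ι f) hKc
  obtain ⟨pI, hpI⟩ := exists_isHilbPoly_of_mono_pure k X hL.1 hF.2.2.1 (Abelian.image.ι f) hIc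
  have hadd := isHilbPoly_add k X hL.1 _ (shortExact_kernel_image f) hKc hIc hpK hpI
  have hpEeq : pE = pK + pI := isHilbPoly_unique k X hpE hadd
  have aE : 0 < alpha d pE := alpha_pos_of_isSemistable k X hL hE hpE
  have aF : 0 < alpha d pF := alpha_pos_of_isSemistable k X hL hF hpF
  have aK : 0 < alpha d pK := alpha_pos_of_mono_pure k X hL hE.2.2.1 (kernel.ι f) hKc hK0 hpK
  have hIF : RedEq d pI pF := redEq_image k X hL hE hF hpE hpF hred f hpI
  have hIE : RedEq d pI pE := redEq_trans aF.ne' hIF (redEq_symm hred)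
  have hKE : RedEq d pK pE := by
    rw [hpEeq] at hIE ⊢
    exact redEq_sub_of_quot hIE
  refine ⟨⟨hKc, hK0, isPure_of_mono hE.2.2.1 (kernel.ι f), ?_⟩, fun pK' hpK' => ?_⟩
  · intro G ι hι hG hG0 _ pG pK' hpG hpK'
    haveI := hι
    have : pK' = pK := isHilbPoly_unique k X hpK' hpK
    subst this
    have aG : 0 < alpha d pG :=
      alpha_pos_of_mono_pure k X hL hE.2.2.1 (ι ≫ kernel.ι f) hG hG0 hpG
    have h1 : RedLE d pG pE :=
      redLE_of_mono_of_isSemistable k X hE (ι ≫ kernel.ι f) hG hG0 hpG hpE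
    exact redLE_trans aG.le aE aK.le h1 (redLE_of_redEq (redEq_symm hKE))
  · have : pK' = pK := isHilbPoly_unique k X hpK' hpK
    subst this
    exact hKE

include hL hE hF hpE hpF hred in
theorem isSemistable_cokernel (hQ0 : ¬ IsZero (cokernel f)) :
    ShStab.IsSemistable k X L (cokernel f) d ∧
      ∀ pQ : ℚ[X], ShStab.IsHilbPoly k X L (cokernel f) pQ → RedEq d pQ pE := by
  haveI := Groth.Agent.Lib.Lead.CurveEuler.isNoetherian k X
  have hQc : Coh.IsCoh (cokernel f) := Groth.Agent.Lib.helper7.CohKer.isCoh_cokernel hE.1 hF.1 f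
  have hIc : Coh.IsCoh (Abelian.image f) := isCoh_image k X hE.1 hF.1 f
  obtain ⟨pI, hpI⟩ := exists_isHilbPoly_of_mono_pure k X hL.1 hF.2.2.1 (Abelian.image.ι f) hIc
  have hpQ : ShStab.IsHilbPoly k X L (cokernel f) (pF - pI) :=
    isHilbPoly_sub₃ k X hL.1 _ (shortExact_image_cokernel f) hIc hQc hpI hpF
  set pQ : ℚ[X] := pF - pI with hpQdef
  have hpFeq : pF = pQ + pI := by rw [hpQdef]; ring
  have aE : 0 < alpha d pE := alpha_pos_of_isSemistable k X hL hE hpE
  have aF : 0 < alpha d pF := alpha_pos_of_isSemistable k X hL hF hpF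
  have hIF : RedEq d pI pF := redEq_image k X hL hE hF hpE hpF hred f hpI
  have hQF : RedEq d pQ pF := by
    rw [hpFeq] at hIF ⊢
    exact redEq_sub_of_quot hIF
  have hQE : RedEq d pQ pE := redEq_trans aF.ne' hQF (redEq_symm hred)
  -- dimension bounds
  have hdF : topologicalKrullDim (CohB1.support F) = ((d : ℕ) : WithBot ℕ∞) :=
    dim_support_of_isPure hF.2.2.1 (𝟙 F) hF.1 hF.2.1
  have hdQ : topologicalKrullDim (CohB1.support (cokernel f)) ≤ ((d : ℕ) : WithBot ℕ∞) := by
    rw [← hdF]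
    exact Groth.Agent.Lib.helper8.DimLt.topologicalKrullDim_le_of_subset
      (Groth.Agent.Lib.helper8.Dev.support_subset_of_epi (cokernel.π f) hF.1 hQc)
  have hpQ0 : pQ ≠ 0 := isHilbPoly_ne_zero k X hL hQc hQ0 hpQ
  have aQ : 0 < alpha d pQ := by
    have h0 : 0 ≤ alpha d pQ := by
      unfold alpha
      exact mul_nonneg (Nat.cast_nonneg _) (coeff_nonneg k X hL hQc d hdQ hpQ)
    refine lt_of_le_of_ne h0 (fun h => hpQ0 ?_)
    have e : alpha d pF • pQ = alpha d pQ • pF := hQF
    rw [← h, zero_smul] at e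
    exact (smul_eq_zero.mp e).resolve_left aF.ne'
  -- the key inequality for quotients of `cokernel f`
  have key : ∀ (T : X.Modules) (τ : T ⟶ cokernel f) [Mono τ], Coh.IsCoh T →
      ¬ IsZero (cokernel τ) → ∀ pT : ℚ[X], ShStab.IsHilbPoly k X L T pT →
      RedLE d pF (pQ - pT) ∧ 0 ≤ alpha d (pQ - pT) := by
    intro T τ _ hTc hR0 pT hpT
    have hRc : Coh.IsCoh (cokernel τ) := Groth.Agent.Lib.helper7.CohKer.isCoh_cokernel hTc hQc τ
    have hpR : ShStab.IsHilbPoly k X L (cokernel τ) (pQ - pT) :=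
      isHilbPoly_sub₃ k X hL.1 _ (Groth.Agent.Lib.helper8.Dev.shortExact_cokernel τ) hTc hRc hpT hpQ
    set φ : F ⟶ cokernel τ := cokernel.π f ≫ cokernel.π τ with hφ
    haveI : Epi φ := epi_comp _ _
    have hφ0 : φ ≠ 0 := fun h => hR0 (isZero_of_epi_zero φ h)
    haveI : IsIso (Abelian.image.ι φ) := by
      haveI : Epi (Abelian.image.ι φ) := by
        have : Epi (Abelian.factorThruImage φ ≫ Abelian.image.ι φ) := by
          rw [Abelian.image.fac]; infer_instance
        exact epi_of_epi (Abelian.factorThruImage φ) (Abelian.image.ι φ)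
      exact isIso_of_mono_of_epi _
    have hpIm : ShStab.IsHilbPoly k X L (Abelian.image φ) (pQ - pT) :=
      isHilbPoly_of_iso k X (asIso (Abelian.image.ι φ)).symm hpR
    refine ⟨redLE_image_of_isSemistable k X hL.1 hF hRc φ hφ0 hpF hpIm, ?_⟩
    have hdR : topologicalKrullDim (CohB1.support (cokernel τ)) ≤ ((d : ℕ) : WithBot ℕ∞) := by
      rw [← hdF]
      exact Groth.Agent.Lib.helper8.DimLt.topologicalKrullDim_le_of_subset
        (Groth.Agent.Lib.helper8.Dev.support_subset_of_epi φ hF.1 hRc)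
    unfold alpha
    exact mul_nonneg (Nat.cast_nonneg _) (coeff_nonneg k X hL hRc d hdR hpR)
  refine ⟨⟨hQc, hQ0, ?_, ?_⟩, fun pQ' hpQ' => ?_⟩
  · -- purity
    intro T τ hτ hTc hT0
    haveI := hτ
    have hdT : topologicalKrullDim (CohB1.support T) ≤ ((d : ℕ) : WithBot ℕ∞) :=
      (Groth.Agent.Lib.helper8.DimLt.topologicalKrullDim_le_of_subset
        (Groth.Agent.Lib.helper8.Dev.support_subset_of_mono τ hTc hQc)).trans hdQ
    by_contra hne
    have hlt : topologicalKrullDim (CohB1.support T) < ((d : ℕ) : WithBot ℕ∞) :=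
      lt_of_le_of_ne hdT hne
    obtain ⟨pT, hpT, hpT0⟩ := exists_isHilbPoly_lt k X hL.1 hTc d hlt
    have aT : alpha d pT = 0 := by unfold alpha; rw [hpT0, mul_zero]
    obtain ⟨N₁, hN₁⟩ := eventually_pos_of_isHilbPoly k X hL hTc hT0 hpT
    by_cases hR0 : IsZero (cokernel τ)
    · have hRc : Coh.IsCoh (cokernel τ) :=
        Groth.Agent.Lib.helper7.CohKer.isCoh_cokernel hTc hQc τ
      have hpR : ShStab.IsHilbPoly k X L (cokernel τ) (pQ - pT) :=
        isHilbPoly_sub₃ k X hL.1 _ (Groth.Agent.Lib.helper8.Dev.shortExact_cokernel τ) hTc hRc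
          hpT hpQ
      have h0 : pQ - pT = 0 := isHilbPoly_unique k X hpR (isHilbPoly_zero_of_isZero k X hR0)
      have : pQ = pT := sub_eq_zero.mp h0
      rw [this, aT] at aQ
      exact lt_irrefl _ aQ
    · obtain ⟨⟨N₂, hN₂⟩, -⟩ := key T τ hTc hR0 pT hpT
      have a := hN₂ (max N₁ N₂) (le_max_right _ _)
      have b := hN₁ (max N₁ N₂) (le_max_left _ _)
      have e : alpha d pF • pQ = alpha d pQ • pF := hQF
      have e' := congrArg (fun P : ℚ[X] => P.eval ((max N₁ N₂ : ℕ) : ℚ)) e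
      simp only [eval_smul, smul_eq_mul, eval_sub, alpha_sub, aT, sub_zero] at a e'
      nlinarith
  · -- semistability
    intro T τ hτ hTc hT0 hni pT pQ' hpT hpQ'
    haveI := hτ
    have : pQ' = pQ := isHilbPoly_unique k X hpQ' hpQ
    subst this
    have hR0 : ¬ IsZero (cokernel τ) := by
      intro h
      apply hni
      haveI : Epi τ := Preadditive.epi_of_isZero_cokernel τ h
      exact isIso_of_mono_of_epi τ
    obtain ⟨h1, aR⟩ := key T τ hTc hR0 pT hpT
    have h2 : RedLE d pQ (pQ - pT) := redLE_trans aQ.le aF aR (redLE_of_redEq hQF) h1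
    have h3 : pQ = pT + (pQ - pT) := by ring
    have h4 : RedLE d (pT + (pQ - pT)) (pQ - pT) := by rw [← h3]; exact h2
    have h5 := redLE_sub_of_quot h4
    rw [← h3] at h5
    exact h5
  · have : pQ' = pQ := isHilbPoly_unique k X hpQ' hpQ
    subst this
    exact hQE

end Groth.Agent.Lib.Lead.HilbPos
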