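import Mathlib
import Groth.Agent.Lib.Lead.HilbPos13

/-!
# Filtrations by subobjects and vanishing of Hom (lead)

* `hom_eq_zero_of_factors_target`: if `Hom(A, gr_b G) = 0` for all factors of a filtration of `G`
  from `⊥` to `⊤`, then `Hom(A, G) = 0`.
* `hom_eq_zero_of_factors_source`: if `Hom(gr_a F, B) = 0` for all factors of a filtration of `F`
  from `⊥` to `⊤`, then `Hom(F, B) = 0`.
* `redLE_of_le_of_isHNWith`: in a Harder–Narasimhan filtration the reduced polynomials of the
  factors decrease (weakly) along the filtration.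
* `hom_eq_zero_of_isSemistable_of_redLT`, `hom_eq_zero_of_pmin_gt_pmax`.
-/

set_option autoImplicit false
set_option linter.unusedSectionVars false
set_option linter.style.haveILetI false
set_option backward.isDefEq.respectTransparency false
universe u

open CategoryTheory CategoryTheory.Limits AlgebraicGeometry Polynomial TopologicalSpace Topology
  Opposite

namespace Groth.Agent.Lib.Lead.HilbPos

open StabCat Scheme.Modules

section Abelian

variable {C : Type*} [Category C] [Abelian C]

theorem arrow_comp_eq_zero_of_eq_bot {F B : C} (P : Subobject F) (h : P = ⊥) (φ : F ⟶ B) :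
    P.arrow ≫ φ = 0 := by
  subst h
  rw [Subobject.bot_arrow, Limits.zero_comp]

theorem eq_zero_of_arrow_comp_eq_zero_of_eq_top {F B : C} (P : Subobject F) (h : P = ⊤) (φ : F ⟶ B)
    (h0 : P.arrow ≫ φ = 0) : φ = 0 := by
  subst h
  rw [← cancel_epi (⊤ : Subobject F).arrow, h0, Limits.comp_zero]

theorem hom_eq_zero_of_factors_source {F B : C} (s : LTSeries (Subobject F)) (h0 : s.head = ⊥)
    (h1 : s.last = ⊤) (h : ∀ (a : Fin s.length) (ψ : factor s a ⟶ B), ψ = 0) (φ : F ⟶ B) :
    φ = 0 := by
  have key : ∀ (n : ℕ) (hn : n < s.length + 1), (s ⟨n, hn⟩).arrow ≫ φ = 0 := by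
    intro n
    induction n with
    | zero =>
      intro hn
      exact arrow_comp_eq_zero_of_eq_bot _ h0 φ
    | succ n ih =>
      intro hn
      have hn' : n < s.length := by omega
      let a : Fin s.length := ⟨n, hn'⟩
      have e0 : Subobject.ofLE (s a.castSucc) (s a.succ) (le_of_lt (s.step a)) ≫
          ((s a.succ).arrow ≫ φ) = 0 := by
        rw [← Category.assoc, Subobject.ofLE_arrow]
        exact ih (by omega)
      have e1 : (s a.succ).arrow ≫ φ = cokernel.π _ ≫ cokernel.desc _ _ e0 :=
        (cokernel.π_desc _ _ e0).symm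
      have e2 : cokernel.desc _ _ e0 = 0 := h a _
      rw [e2, Limits.comp_zero] at e1
      exact e1
  exact eq_zero_of_arrow_comp_eq_zero_of_eq_top _ h1 φ (key s.length (by omega))

theorem hom_eq_zero_of_factors_target {A G : C} (t : LTSeries (Subobject G)) (h0 : t.head = ⊥)
    (h1 : t.last = ⊤) (h : ∀ (b : Fin t.length) (ψ : A ⟶ factor t b), ψ = 0) (φ : A ⟶ G) :
    φ = 0 := by
  have key : ∀ (n : ℕ) (hn : n < t.length + 1), (t ⟨n, hn⟩).Factors φ → φ = 0 := by
    intro n
    induction n with
    | zero =>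
      intro hn hf
      have : (⊥ : Subobject G).Factors φ := by
        have e : t ⟨0, hn⟩ = ⊥ := h0
        rw [← e]; exact hf
      exact (Subobject.bot_factors_iff_zero φ).mp this
    | succ n ih =>
      intro hn hf
      have hn' : n < t.length := by omega
      let b : Fin t.length := ⟨n, hn'⟩
      have hf' : (t b.succ).Factors φ := hf
      set ι := Subobject.ofLE (t b.castSucc) (t b.succ) (le_of_lt (t.step b)) with hι
      set φ' := (t b.succ).factorThru φ hf' with hφ'
      have e0 : φ' ≫ cokernel.π ι = 0 := h b _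
      have hk := Abelian.monoIsKernelOfCokernel (f := ι) _ (cokernelIsCokernel ι)
      let φ'' : A ⟶ (t b.castSucc : C) := hk.lift (KernelFork.ofι φ' e0)
      have e1 : φ'' ≫ ι = φ' := hk.fac (KernelFork.ofι φ' e0) WalkingParallelPair.zero
      have e2 : φ = φ'' ≫ (t b.castSucc).arrow := by
        rw [← Subobject.ofLE_arrow (le_of_lt (t.step b)), ← Category.assoc, ← hι, e1, hφ',
          Subobject.factorThru_arrow]
      apply ih (by omega)
      rw [e2]
      exact Subobject.factors_comp_arrow φ''
  refine key t.length (by omega) ?_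
  have e : t ⟨t.length, by omega⟩ = ⊤ := h1
  rw [e]
  exact Subobject.top_factors φ

end Abelian

section Chain

variable {C : Type*} [Category C] [Abelian C]

/-- in a Harder–Narasimhan chain the reduced polynomials decrease (weakly) -/
theorem redLE_of_le_of_isHNWith {SS : C → Prop} {HP : C → ℚ[X] → Prop} {d : ℕ} {E : C}
    {s : LTSeries (Subobject E)} (hs : IsHNWith SS HP d E s) (P : Fin s.length → ℚ[X])
    (hP : ∀ a, HP (factor s a) (P a)) (hα : ∀ a, 0 < alpha d (P a)) (a b : Fin s.length)
    (hab : a ≤ b) : RedLE d (P b) (P a) := by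
  have key : ∀ (n : ℕ) (a b : Fin s.length), a.val + n = b.val → RedLE d (P b) (P a) := by
    intro n
    induction n with
    | zero =>
      intro a b h
      have : a = b := Fin.ext (by omega)
      subst this
      exact redLE_refl d _
    | succ n ih =>
      intro a b h
      let c : Fin s.length := ⟨a.val + n, by omega⟩
      have h1 : RedLE d (P c) (P a) := ih a c rfl
      have h2 : RedLT d (P b) (P c) := hs.2.2.2 c b (by show a.val + n + 1 = b.val; omega) _ _
        (hP c) (hP b)
      exact redLE_of_redLT (redLT_of_redLT_of_redLE (hα b).le (hα c) (hα a) h2 h1)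
  exact key (b.val - a.val) a b (by have : a.val ≤ b.val := hab; omega)

end Chain

variable (k : Type u) [Field k] (X : Scheme.{u}) [X.Over (Spec (CommRingCat.of k))]
  [IsProper (X ↘ Spec (CommRingCat.of k))]

theorem hom_eq_zero_of_isSemistable_of_redLT {L : X.Modules} (hL : CohB1.IsAmple L) {d : ℕ}
    {F G : X.Modules} (hF : ShStab.IsSemistable k X L F d) (hG : ShStab.IsSemistable k X L G d)
    {pF pG : ℚ[X]} (hpF : ShStab.IsHilbPoly k X L F pF) (hpG : ShStab.IsHilbPoly k X L G pG)
    (hlt : RedLT d pG pF) (φ : F ⟶ G) : φ = 0 := by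
  by_contra hφ
  have hIc : Coh.IsCoh (Abelian.image φ) := isCoh_image k X hF.1 hG.1 φ
  have hI0 : ¬ IsZero (Abelian.image φ) := not_isZero_image φ hφ
  obtain ⟨pI, hpI⟩ := exists_isHilbPoly_of_mono_pure k X hL.1 hG.2.2.1 (Abelian.image.ι φ) hIc
  have aI : 0 < alpha d pI :=
    alpha_pos_of_mono_pure k X hL hG.2.2.1 (Abelian.image.ι φ) hIc hI0 hpI
  have aF := alpha_pos_of_isSemistable k X hL hF hpF
  have aG := alpha_pos_of_isSemistable k X hL hG hpG
  have h1 := redLE_image_of_isSemistable k X hL.1 hF hG.1 φ hφ hpF hpI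
  have h2 := redLE_of_mono_of_isSemistable k X hG (Abelian.image.ι φ) hIc hI0 hpI hpG
  exact not_redLT_of_redLE hlt (redLE_trans aF.le aI aG.le h1 h2)

/-- `p_min(F) > p_max(G)` implies `Hom(F, G) = 0` -/
theorem hom_eq_zero_of_pmin_gt_pmax {L : X.Modules} (hL : CohB1.IsAmple L) {d : ℕ}
    {F G : X.Modules} (s : LTSeries (Subobject F)) (hs : ShStab.IsHNFiltration k X L F d s)
    (t : LTSeries (Subobject G)) (ht : ShStab.IsHNFiltration k X L G d t)
    (i : Fin s.length) (hi : i.val + 1 = s.length) (j : Fin t.length) (hj : j.val = 0)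
    {pmin pmax : ℚ[X]} (hpmin : ShStab.IsHilbPoly k X L (factor s i) pmin)
    (hpmax : ShStab.IsHilbPoly k X L (factor t j) pmax)
    (hlt : RedLT d pmax pmin) (φ : F ⟶ G) : φ = 0 := by
  have hsS : ∀ a, ShStab.IsSemistable k X L (factor s a) d := hs.2.2.1
  have htS : ∀ b, ShStab.IsSemistable k X L (factor t b) d := ht.2.2.1
  choose P hP using fun a => exists_isHilbPoly_of_isSemistable k X hL.1 (hsS a)
  choose Q hQ using fun b => exists_isHilbPoly_of_isSemistable k X hL.1 (htS b)
  have aP : ∀ a, 0 < alpha d (P a) := fun a => alpha_pos_of_isSemistable k X hL (hsS a) (hP a)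
  have aQ : ∀ b, 0 < alpha d (Q b) := fun b => alpha_pos_of_isSemistable k X hL (htS b) (hQ b)
  have e1 : pmin = P i := isHilbPoly_unique k X hpmin (hP i)
  have e2 : pmax = Q j := isHilbPoly_unique k X hpmax (hQ j)
  subst e1 e2
  refine hom_eq_zero_of_factors_source s hs.1 hs.2.1 (fun a => ?_) φ
  refine hom_eq_zero_of_factors_target t ht.1 ht.2.1 (fun b ψ => ?_)
  have h1 : RedLE d (P i) (P a) :=
    redLE_of_le_of_isHNWith hs P hP aP a i (by show a.val ≤ i.val; have := a.2; omega)
  have h2 : RedLE d (Q b) (Q j) :=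
    redLE_of_le_of_isHNWith ht Q hQ aQ j b (by show j.val ≤ b.val; omega)
  have h3 : RedLT d (Q b) (P i) := redLT_of_redLE_of_redLT (aQ b) (aQ j) (aP i).le h2 hlt
  have h4 : RedLT d (Q b) (P a) := redLT_of_redLT_of_redLE (aQ b).le (aP i) (aP a) h3 h1
  exact hom_eq_zero_of_isSemistable_of_redLT k X hL (hsS a) (htS b) (hP a) (hQ b) h4 ψ

end Groth.Agent.Lib.Lead.HilbPos
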