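import Mathlib
import Groth.Agent.Lib.Lead.HilbPos14
import Groth.Agent.Lib.Helper7.QCohZero

/-!
# Preimages of subobjects of a quotient; the maximal subsheaf of small dimension (lead)

* `preim π σ`: for `π : Q ⟶ Q'` and a mono `σ : S ⟶ Q'`, the preimage `π⁻¹ S = ker (Q ⟶ Q' ⟶ Q'/S)`,
  with `preimι : preim ⟶ Q`, `preimTo : preim ⟶ S`, `kerToPreim : kernel π ⟶ preim`, and the short
  exact sequence `0 → ker π → π⁻¹ S → S → 0` for `π` epi (`shortExact_preim`).
* `dim_lt_of_subset_union`.
* `exists_maximal_small`: on a Noetherian scheme, a coherent module `Q` has a coherent submodule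
  `T` with `dim Supp T < d` which is maximal for this property.
* `exists_torsion_sub`: moreover `Q/T` has no nonzero coherent submodule of dimension `< d`.
-/

set_option autoImplicit false
set_option linter.unusedSectionVars false
set_option linter.style.haveILetI false
set_option backward.isDefEq.respectTransparency false
universe u

open CategoryTheory CategoryTheory.Limits AlgebraicGeometry Polynomial TopologicalSpace Topology
  Opposite

namespace Groth.Agent.Lib.Lead.HilbPos

open StabCat Scheme.Modules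

section Abelian

variable {C : Type*} [Category C] [Abelian C] {Q Q' S : C} (π : Q ⟶ Q') (σ : S ⟶ Q')

/-- the preimage of the subobject `σ : S ↪ Q'` under `π : Q ⟶ Q'` -/
noncomputable def preim : C := kernel (π ≫ cokernel.π σ)

noncomputable def preimι : preim π σ ⟶ Q := kernel.ι (π ≫ cokernel.π σ)

instance : Mono (preimι π σ) := inferInstanceAs (Mono (kernel.ι _))

theorem preimι_comp : preimι π σ ≫ π ≫ cokernel.π σ = 0 := kernel.condition _

variable [Mono σ]

noncomputable def preimTo : preim π σ ⟶ S :=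
  (Abelian.monoIsKernelOfCokernel (f := σ) _ (cokernelIsCokernel σ)).lift
    (KernelFork.ofι (preimι π σ ≫ π) (by rw [Category.assoc]; exact preimι_comp π σ))

theorem preimTo_comp : preimTo π σ ≫ σ = preimι π σ ≫ π :=
  (Abelian.monoIsKernelOfCokernel (f := σ) _ (cokernelIsCokernel σ)).fac
    (KernelFork.ofι (preimι π σ ≫ π) (by rw [Category.assoc]; exact preimι_comp π σ))
    WalkingParallelPair.zero

/-- a map to `Q` whose composite to `Q'` factors through `S` factors through the preimage -/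
noncomputable def preimLift {A : C} (a : A ⟶ Q) (b : A ⟶ S) (h : a ≫ π = b ≫ σ) : A ⟶ preim π σ :=
  kernel.lift _ a (by rw [← Category.assoc, h, Category.assoc, cokernel.condition, Limits.comp_zero])

theorem preimLift_ι {A : C} (a : A ⟶ Q) (b : A ⟶ S) (h : a ≫ π = b ≫ σ) :
    preimLift π σ a b h ≫ preimι π σ = a := kernel.lift_ι _ _ _

theorem preimLift_to {A : C} (a : A ⟶ Q) (b : A ⟶ S) (h : a ≫ π = b ≫ σ) :
    preimLift π σ a b h ≫ preimTo π σ = b := by
  rw [← cancel_mono σ, Category.assoc, preimTo_comp, ← Category.assoc, preimLift_ι, h]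

instance epi_preimTo [Epi π] : Epi (preimTo π σ) := by
  have h : pullback.fst π σ ≫ π = pullback.snd π σ ≫ σ := pullback.condition
  have e : preimLift π σ (pullback.fst π σ) (pullback.snd π σ) h ≫ preimTo π σ =
      pullback.snd π σ := preimLift_to π σ _ _ h
  haveI : Epi (pullback.snd π σ) := inferInstance
  haveI : Epi (preimLift π σ (pullback.fst π σ) (pullback.snd π σ) h ≫ preimTo π σ) := by
    rw [e]; infer_instance
  exact epi_of_epi (preimLift π σ (pullback.fst π σ) (pullback.snd π σ) h) (preimTo π σ)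

noncomputable def kerToPreim : kernel π ⟶ preim π σ :=
  preimLift π σ (kernel.ι π) 0 (by rw [kernel.condition, Limits.zero_comp])

theorem kerToPreim_ι : kerToPreim π σ ≫ preimι π σ = kernel.ι π := preimLift_ι π σ _ _ _

theorem kerToPreim_to : kerToPreim π σ ≫ preimTo π σ = 0 := preimLift_to π σ _ _ _

instance : Mono (kerToPreim π σ) := by
  haveI : Mono (kerToPreim π σ ≫ preimι π σ) := by rw [kerToPreim_ι]; infer_instance
  exact mono_of_mono (kerToPreim π σ) (preimι π σ)

/-- `0 → ker π → π⁻¹ S → S → 0` -/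
theorem shortExact_preim [Epi π] :
    (ShortComplex.mk (kerToPreim π σ) (preimTo π σ) (kerToPreim_to π σ)).ShortExact := by
  have hk : IsLimit (KernelFork.ofι (kerToPreim π σ) (kerToPreim_to π σ)) := by
    refine KernelFork.IsLimit.ofι _ _
      (fun {A} a ha => kernel.lift π (a ≫ preimι π σ) (by
        rw [Category.assoc, ← preimTo_comp, ← Category.assoc, ha, Limits.zero_comp]))
      (fun {A} a ha => ?_) (fun {A} a ha b hb => ?_)
    · rw [← cancel_mono (preimι π σ), Category.assoc, kerToPreim_ι, kernel.lift_ι]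
    · rw [← cancel_mono (kerToPreim π σ), hb]
      rw [← cancel_mono (preimι π σ), Category.assoc, kerToPreim_ι, kernel.lift_ι]
  exact
    { exact := ShortComplex.exact_of_f_is_kernel _ hk
      mono_f := inferInstanceAs (Mono (kerToPreim π σ))
      epi_g := inferInstanceAs (Epi (preimTo π σ)) }

/-- for `τ` mono, `T ≅ ker (coker τ)` -/
noncomputable def isoKernelCokernel {T : C} (τ : T ⟶ Q) [Mono τ] : T ≅ kernel (cokernel.π τ) where
  hom := kernel.lift (cokernel.π τ) τ (cokernel.condition τ)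
  inv := (Abelian.monoIsKernelOfCokernel (f := τ) _ (cokernelIsCokernel τ)).lift
    (KernelFork.ofι (kernel.ι (cokernel.π τ)) (kernel.condition _))
  hom_inv_id := by
    rw [← cancel_mono τ, Category.assoc]
    erw [(Abelian.monoIsKernelOfCokernel (f := τ) _ (cokernelIsCokernel τ)).fac
      (KernelFork.ofι (kernel.ι (cokernel.π τ)) (kernel.condition _)) WalkingParallelPair.zero]
    simp
  inv_hom_id := by
    rw [← cancel_mono (kernel.ι (cokernel.π τ)), Category.assoc, kernel.lift_ι]
    erw [(Abelian.monoIsKernelOfCokernel (f := τ) _ (cokernelIsCokernel τ)).fac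
      (KernelFork.ofι (kernel.ι (cokernel.π τ)) (kernel.condition _)) WalkingParallelPair.zero]
    simp

theorem isoKernelCokernel_hom_ι {T : C} (τ : T ⟶ Q) [Mono τ] :
    (isoKernelCokernel τ).hom ≫ kernel.ι (cokernel.π τ) = τ :=
  kernel.lift_ι _ _ _

end Abelian

section Dim

variable {B : Type*} [TopologicalSpace B]

theorem dim_lt_of_subset_union {n : ℕ} {S T₁ T₂ : Set B} (hS : IsClosed S) (hT₁ : IsClosed T₁)
    (hT₂ : IsClosed T₂) (hsub : S ⊆ T₁ ∪ T₂)
    (h₁ : topologicalKrullDim ↥T₁ < ((n : ℕ) : WithBot ℕ∞))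
    (h₂ : topologicalKrullDim ↥T₂ < ((n : ℕ) : WithBot ℕ∞)) :
    topologicalKrullDim ↥S < ((n : ℕ) : WithBot ℕ∞) := by
  by_contra h
  rw [not_lt] at h
  rcases le_dim_or_of_subset_union hS hT₁ hT₂ hsub h with h' | h'
  · exact absurd h₁ (not_lt.mpr h')
  · exact absurd h₂ (not_lt.mpr h')

end Dim

variable {X : Scheme.{u}} [IsNoetherian X]

theorem support_eq_of_iso' {F G : X.Modules} (hF : Coh.IsCoh F) (hG : Coh.IsCoh G) (e : F ≅ G) :
    CohB1.support F = CohB1.support G :=
  Set.Subset.antisymm (Groth.Agent.Lib.helper8.Dev.support_subset_of_mono e.hom hF hG)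
    (Groth.Agent.Lib.helper8.Dev.support_subset_of_mono e.inv hG hF)

theorem dim_support_empty_lt {F : X.Modules} (hF : IsZero F) (d : ℕ) :
    topologicalKrullDim (CohB1.support F) < ((d : ℕ) : WithBot ℕ∞) := by
  rw [support_eq_empty_of_isZero hF]
  have h1 : topologicalKrullDim (∅ : Set X) = ⊥ := by
    unfold topologicalKrullDim
    rw [Order.krullDim_eq_bot_iff]
    refine ⟨fun z => ?_⟩
    obtain ⟨x, hx⟩ := z.2.nonempty
    exact x.2.elim
  rw [h1]
  exact WithBot.bot_lt_coe _

/-- ACC: a coherent submodule of dimension `< d`, maximal with this property -/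
theorem exists_maximal_small (Q : X.Modules) (hQ : Coh.IsCoh Q) (d : ℕ) :
    ∃ (T : X.Modules) (τ : T ⟶ Q), Mono τ ∧ Coh.IsCoh T ∧
      topologicalKrullDim (CohB1.support T) < ((d : ℕ) : WithBot ℕ∞) ∧
      ∀ (T' : X.Modules) (τ' : T' ⟶ Q), Mono τ' → Coh.IsCoh T' →
        topologicalKrullDim (CohB1.support T') < ((d : ℕ) : WithBot ℕ∞) →
        ∀ j : T ⟶ T', j ≫ τ' = τ → IsIso j := by
  classical
  let α := {T : Subobject Q // ((T : Subobject Q) : X.Modules).IsQuasicoherent}
  have hwf : WellFoundedGT α := by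
    rw [wellFoundedGT_iff_monotone_chain_condition]
    intro a
    let F : ℕ →o Subobject Q := ⟨fun n => (a n).1, fun m n h => a.mono h⟩
    obtain ⟨n, hn⟩ := Groth.Agent.Lib.helper7.QCohZero.acc_qcoh_subobjects X Q hQ F
      (fun n => (a n).2)
    exact ⟨n, fun m hm => Subtype.ext (hn m hm).symm⟩
  let 𝒮 : Set α := {T | Coh.IsCoh ((T.1 : Subobject Q) : X.Modules) ∧
    topologicalKrullDim (CohB1.support ((T.1 : Subobject Q) : X.Modules)) <
      ((d : ℕ) : WithBot ℕ∞)}
  have hbot : IsZero (((⊥ : Subobject Q) : Subobject Q) : X.Modules) :=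
    (isZero_zero _).of_iso Subobject.botCoeIsoZero
  have hne : 𝒮.Nonempty := by
    refine ⟨⟨⊥, (Groth.Agent.Lib.helper7.CohKer.isCoh_of_isZero hbot).1⟩,
      Groth.Agent.Lib.helper7.CohKer.isCoh_of_isZero hbot, dim_support_empty_lt hbot d⟩
  obtain ⟨T₀, hT₀, hmax⟩ := hwf.wf.has_min 𝒮 hne
  refine ⟨((T₀.1 : Subobject Q) : X.Modules), T₀.1.arrow, inferInstance, hT₀.1, hT₀.2, ?_⟩
  intro T' τ' hτ' hT'c hT'd j hj
  haveI := hτ'
  have hle : T₀.1 ≤ Subobject.mk τ' := Subobject.le_mk_of_comm j hj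
  let e : ((Subobject.mk τ' : Subobject Q) : X.Modules) ≅ T' := Subobject.underlyingIso τ'
  have hc : Coh.IsCoh ((Subobject.mk τ' : Subobject Q) : X.Modules) :=
    Groth.Agent.Lib.helper7.CohKer.isCoh_of_iso e.symm hT'c
  let T₁ : α := ⟨Subobject.mk τ', hc.1⟩
  have hT₁ : T₁ ∈ 𝒮 := ⟨hc, by rw [support_eq_of_iso' hc hT'c e]; exact hT'd⟩
  have hnot := hmax T₁ hT₁
  have heq : T₀.1 = Subobject.mk τ' := by
    by_contra hne'
    exact hnot (lt_of_le_of_ne (show T₀ ≤ T₁ from hle) (fun h => hne' (congrArg Subtype.val h)))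
  have hge : Subobject.mk τ' ≤ T₀.1 := le_of_eq heq.symm
  let h : T' ⟶ ((T₀.1 : Subobject Q) : X.Modules) := e.inv ≫ Subobject.ofLE _ _ hge
  have hh : h ≫ T₀.1.arrow = τ' := by
    show (e.inv ≫ Subobject.ofLE _ _ hge) ≫ T₀.1.arrow = τ'
    rw [Category.assoc, Subobject.ofLE_arrow]
    exact Subobject.underlyingIso_arrow τ'
  refine ⟨h, ?_, ?_⟩
  · rw [← cancel_mono T₀.1.arrow, Category.assoc, hh, hj, Category.id_comp]
  · rw [← cancel_mono τ', Category.assoc, hj, hh, Category.id_comp]

/-- the maximal coherent submodule `T ⊆ Q` of dimension `< d`: the quotient `Q/T` has no nonzero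
coherent submodule of dimension `< d` -/
theorem exists_torsion_sub (Q : X.Modules) (hQ : Coh.IsCoh Q) (d : ℕ) :
    ∃ (T : X.Modules) (τ : T ⟶ Q), Mono τ ∧ Coh.IsCoh T ∧
      topologicalKrullDim (CohB1.support T) < ((d : ℕ) : WithBot ℕ∞) ∧
      ∀ (S : X.Modules) (σ : S ⟶ cokernel τ), Mono σ → Coh.IsCoh S →
        topologicalKrullDim (CohB1.support S) < ((d : ℕ) : WithBot ℕ∞) → IsZero S := by
  obtain ⟨T, τ, hτ, hTc, hTd, hmax⟩ := exists_maximal_small Q hQ d
  haveI := hτ
  refine ⟨T, τ, hτ, hTc, hTd, ?_⟩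
  intro S σ hσ hSc hSd
  haveI := hσ
  set π := cokernel.π τ with hπ
  have hQ'c : Coh.IsCoh (cokernel τ) := Groth.Agent.Lib.helper7.CohKer.isCoh_cokernel hTc hQ τ
  have hRc : Coh.IsCoh (cokernel σ) := Groth.Agent.Lib.helper7.CohKer.isCoh_cokernel hSc hQ'c σ
  have hPc : Coh.IsCoh (preim π σ) :=
    Groth.Agent.Lib.helper7.CohKer.isCoh_kernel hQ hRc (π ≫ cokernel.π σ)
  have hKc : Coh.IsCoh (kernel π) := Groth.Agent.Lib.helper7.CohKer.isCoh_kernel hQ hQ'c π
  have hKd : topologicalKrullDim (CohB1.support (kernel π)) < ((d : ℕ) : WithBot ℕ∞) := by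
    rw [← support_eq_of_iso' hTc hKc (isoKernelCokernel τ)]
    exact hTd
  have hPd : topologicalKrullDim (CohB1.support (preim π σ)) < ((d : ℕ) : WithBot ℕ∞) :=
    dim_lt_of_subset_union (Groth.Agent.Lib.helper8.Dev.isClosed_support_of_isCoh _ hPc)
      (Groth.Agent.Lib.helper8.Dev.isClosed_support_of_isCoh _ hKc)
      (Groth.Agent.Lib.helper8.Dev.isClosed_support_of_isCoh _ hSc)
      (Groth.Agent.Lib.helper8.Dev.support_subset_union _ (shortExact_preim π σ) hKc hPc hSc)
      hKd hSd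
  let j : T ⟶ preim π σ := (isoKernelCokernel τ).hom ≫ kerToPreim π σ
  have hj : j ≫ preimι π σ = τ := by
    show ((isoKernelCokernel τ).hom ≫ kerToPreim π σ) ≫ preimι π σ = τ
    rw [Category.assoc, kerToPreim_ι, isoKernelCokernel_hom_ι]
  haveI : IsIso j := hmax (preim π σ) (preimι π σ) inferInstance hPc hPd j hj
  have h0 : preimι π σ ≫ π = 0 := by
    have h2 : τ ≫ π = 0 := cokernel.condition τ
    rw [← cancel_epi j, ← Category.assoc, hj, h2, Limits.comp_zero]
  have h1 : preimTo π σ = 0 := by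
    rw [← cancel_mono σ, preimTo_comp, h0, Limits.zero_comp]
  exact isZero_of_epi_zero (preimTo π σ) h1

end Groth.Agent.Lib.Lead.HilbPos
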