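import Mathlib
import Groth.Agent.Lib.Lead.HilbPos15

/-!
# Saturation of a coherent submodule of a pure module (lead)

`X` proper over a field `k`, `L` ample, `E` coherent, pure of dimension `d`.

* `cokernelKernelIso`: `E / ker ψ ≅ Q'` for an epi `ψ : E ⟶ Q'`.
* `redLE_add_of_alpha_zero`, `redLT_add_of_alpha_zero` (polynomials).
* `exists_saturation`: for a coherent `F ⊆ E` there is a coherent `F ⊆ F' ⊆ E` with `F'/F` of
  dimension `< d` and `E/F'` pure of dimension `d`.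
* `redLE_saturation`: `p(F) ≤ p(F')`.
* `isSS_of_saturated`, `isSt_of_saturated`: (semi)stability can be tested on saturated submodules.
-/

set_option autoImplicit false
set_option linter.unusedSectionVars false
set_option linter.style.haveILetI false
set_option backward.isDefEq.respectTransparency false
universe u

open CategoryTheory CategoryTheory.Limits AlgebraicGeometry Polynomial TopologicalSpace Topology
  Opposite

namespace Groth.Agent.Lib.Lead.HilbPos

open StabCat Scheme.Modules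

section Abelian

variable {C : Type*} [Category C] [Abelian C] {E Q' : C} (ψ : E ⟶ Q') [Epi ψ]

/-- `E / ker ψ ≅ Q'` for an epimorphism `ψ` -/
noncomputable def cokernelKernelIso : cokernel (kernel.ι ψ) ≅ Q' where
  hom := cokernel.desc (kernel.ι ψ) ψ (kernel.condition ψ)
  inv := Abelian.epiDesc ψ (cokernel.π (kernel.ι ψ)) (cokernel.condition _)
  hom_inv_id := by
    rw [← cancel_epi (cokernel.π (kernel.ι ψ)), ← Category.assoc, cokernel.π_desc,
      Abelian.comp_epiDesc, Category.comp_id]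
  inv_hom_id := by
    rw [← cancel_epi ψ, ← Category.assoc, Abelian.comp_epiDesc, cokernel.π_desc, Category.comp_id]

theorem isZero_of_mono_of_isZero {A B : C} (j : A ⟶ B) [Mono j] (h : IsZero B) : IsZero A := by
  rw [IsZero.iff_id_eq_zero, ← cancel_mono j, Limits.zero_comp]
  exact h.eq_of_tgt _ _

end Abelian

section Poly

theorem redLE_add_of_alpha_zero {d : ℕ} {P T : ℚ[X]} (hP : 0 ≤ alpha d P) (hT : alpha d T = 0)
    (hev : EvNonneg T) : RedLE d P (P + T) := by
  obtain ⟨N, hN⟩ := hev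
  refine ⟨N, fun m hm => ?_⟩
  have := hN m hm
  simp only [eval_smul, smul_eq_mul, alpha_add, eval_add, hT, add_zero]
  nlinarith

theorem redLT_add_of_alpha_zero {d : ℕ} {P T : ℚ[X]} (hP : 0 < alpha d P) (hT : alpha d T = 0)
    (hev : ∃ N : ℕ, ∀ m : ℕ, N ≤ m → 0 < T.eval (m : ℚ)) : RedLT d P (P + T) := by
  obtain ⟨N, hN⟩ := hev
  refine ⟨N, fun m hm => ?_⟩
  have := hN m hm
  simp only [eval_smul, smul_eq_mul, alpha_add, eval_add, hT, add_zero]
  nlinarith

end Poly

variable (k : Type u) [Field k] (X : Scheme.{u}) [X.Over (Spec (CommRingCat.of k))]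
  [IsProper (X ↘ Spec (CommRingCat.of k))]

include k in
/-- the saturation of `F ⊆ E` -/
theorem exists_saturation {d : ℕ} {E : X.Modules} (hE : Coh.IsCoh E) (h0 : ¬ IsZero E)
    (hp : ShStab.IsPure X E d) {F : X.Modules} (ι : F ⟶ E) [Mono ι] (hF : Coh.IsCoh F) :
    ∃ (F' : X.Modules) (ι' : F' ⟶ E) (j : F ⟶ F') (T : X.Modules) (q : F' ⟶ T)
      (w : j ≫ q = 0), Mono ι' ∧ Coh.IsCoh F' ∧ j ≫ ι' = ι ∧ Coh.IsCoh T ∧
      topologicalKrullDim (CohB1.support T) < ((d : ℕ) : WithBot ℕ∞) ∧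
      (ShortComplex.mk j q w).ShortExact ∧ ShStab.IsPure X (cokernel ι') d := by
  haveI := Groth.Agent.Lib.Lead.CurveEuler.isNoetherian k X
  have hQc : Coh.IsCoh (cokernel ι) := Groth.Agent.Lib.helper7.CohKer.isCoh_cokernel hF hE ι
  obtain ⟨T, τ, hτ, hTc, hTd, htf⟩ := exists_torsion_sub (cokernel ι) hQc d
  haveI := hτ
  set π := cokernel.π ι with hπ
  have hQ'c : Coh.IsCoh (cokernel τ) := Groth.Agent.Lib.helper7.CohKer.isCoh_cokernel hTc hQc τ
  have hPc : Coh.IsCoh (preim π τ) :=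
    Groth.Agent.Lib.helper7.CohKer.isCoh_kernel hE hQ'c (π ≫ cokernel.π τ)
  let j : F ⟶ preim π τ := (isoKernelCokernel ι).hom ≫ kerToPreim π τ
  have hj : j ≫ preimι π τ = ι := by
    show ((isoKernelCokernel ι).hom ≫ kerToPreim π τ) ≫ preimι π τ = ι
    rw [Category.assoc, kerToPreim_ι, isoKernelCokernel_hom_ι]
  have w : j ≫ preimTo π τ = 0 := by
    show ((isoKernelCokernel ι).hom ≫ kerToPreim π τ) ≫ preimTo π τ = 0
    rw [Category.assoc, kerToPreim_to, Limits.comp_zero]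
  have hSE : (ShortComplex.mk j (preimTo π τ) w).ShortExact := by
    have h1 := shortExact_preim π τ
    let e : ShortComplex.mk j (preimTo π τ) w ≅
        ShortComplex.mk (kerToPreim π τ) (preimTo π τ) (kerToPreim_to π τ) :=
      ShortComplex.isoMk (isoKernelCokernel ι) (Iso.refl _) (Iso.refl _)
        (by simp [j]) (by simp)
    exact ShortComplex.shortExact_of_iso e.symm h1
  refine ⟨preim π τ, preimι π τ, j, T, preimTo π τ, w, inferInstance, hPc, hj, hTc, hTd, hSE, ?_⟩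
  -- purity of the quotient
  have hdE : topologicalKrullDim (CohB1.support E) = ((d : ℕ) : WithBot ℕ∞) :=
    dim_support_of_isPure hp (𝟙 E) hE h0
  haveI : Epi (π ≫ cokernel.π τ) := epi_comp _ _
  let e := cokernelKernelIso (π ≫ cokernel.π τ)
  intro G γ hγ hGc hG0
  haveI := hγ
  have hγ' : Mono (γ ≫ e.hom) := mono_comp _ _
  refine le_antisymm ?_ ?_
  · rw [← hdE]
    refine Groth.Agent.Lib.helper8.DimLt.topologicalKrullDim_le_of_subset ?_
    refine (Groth.Agent.Lib.helper8.Dev.support_subset_of_mono (γ ≫ e.hom) hGc hQ'c).trans ?_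
    exact Groth.Agent.Lib.helper8.Dev.support_subset_of_epi (π ≫ cokernel.π τ) hE hQ'c
  · by_contra hlt
    rw [not_le] at hlt
    exact hG0 (htf G (γ ≫ e.hom) hγ' hGc hlt)

variable {X}

/-- `p(F) ≤ p(F')` when `F'/F` has dimension `< d` -/
theorem redLE_of_small_quotient {L : X.Modules} (hL : CohB1.IsAmple L) {d : ℕ}
    (S : ShortComplex X.Modules) (hS : S.ShortExact) (h₁ : Coh.IsCoh S.X₁) (h₃ : Coh.IsCoh S.X₃)
    (hd : topologicalKrullDim (CohB1.support S.X₃) < ((d : ℕ) : WithBot ℕ∞))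
    {p₁ p₂ : ℚ[X]} (hp₁ : ShStab.IsHilbPoly k X L S.X₁ p₁) (hp₂ : ShStab.IsHilbPoly k X L S.X₂ p₂)
    (a₁ : 0 ≤ alpha d p₁) :
    RedLE d p₁ p₂ ∧ alpha d p₂ = alpha d p₁ ∧ (¬ IsZero S.X₃ → 0 < alpha d p₁ → RedLT d p₁ p₂) := by
  have hp₃ := isHilbPoly_sub₃ k X hL.1 S hS h₁ h₃ hp₁ hp₂
  obtain ⟨P, hP, hP0⟩ := exists_isHilbPoly_lt k X hL.1 h₃ d hd
  have hPe : p₂ - p₁ = P := isHilbPoly_unique k X hp₃ hP
  have a₃ : alpha d (p₂ - p₁) = 0 := by rw [hPe]; unfold alpha; rw [hP0, mul_zero]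
  have e : p₂ = p₁ + (p₂ - p₁) := by ring
  refine ⟨?_, ?_, fun h3 a1 => ?_⟩
  · rw [e]
    exact redLE_add_of_alpha_zero a₁ a₃ (evNonneg_of_isHilbPoly k X hL h₃ hp₃)
  · rw [alpha_sub] at a₃
    linarith
  · rw [e]
    exact redLT_add_of_alpha_zero a1 a₃ (eventually_pos_of_isHilbPoly k X hL h₃ h3 hp₃)

variable (X)

/-- semistability can be tested on saturated submodules -/
theorem isSemistable_of_saturated {L : X.Modules} (hL : CohB1.IsAmple L) {d : ℕ} {E : X.Modules}
    (hE : Coh.IsCoh E) (h0 : ¬ IsZero E) (hp : ShStab.IsPure X E d)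
    (h : ∀ (F : X.Modules) (ι : F ⟶ E), Mono ι → Coh.IsCoh F → ¬ IsZero F → ¬ IsIso ι →
        ShStab.IsPure X (cokernel ι) d →
        ∀ (pF pE : ℚ[X]), ShStab.IsHilbPoly k X L F pF → ShStab.IsHilbPoly k X L E pE →
          RedLE d pF pE) :
    ShStab.IsSemistable k X L E d := by
  refine ⟨hE, h0, hp, ?_⟩
  intro F ι hι hF hF0 hni pF pE hpF hpE
  haveI := hι
  obtain ⟨F', ι', j, T, q, w, hι', hF'c, hj, hTc, hTd, hSE, hpure⟩ :=
    exists_saturation k X hE h0 hp ι hF
  haveI := hι'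
  haveI : Mono j := by
    haveI : Mono (j ≫ ι') := by rw [hj]; infer_instance
    exact mono_of_mono j ι'
  have hF'0 : ¬ IsZero F' := fun hz => hF0 (isZero_of_mono_of_isZero j hz)
  obtain ⟨pF', hpF'⟩ := exists_isHilbPoly_of_mono_pure k X hL.1 hp ι' hF'c
  have aF : 0 < alpha d pF := alpha_pos_of_mono_pure k X hL hp ι hF hF0 hpF
  have aF' : 0 < alpha d pF' := alpha_pos_of_mono_pure k X hL hp ι' hF'c hF'0 hpF'
  have aE : 0 < alpha d pE := alpha_pos_of_mono_pure k X hL hp (𝟙 E) hE h0 hpE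
  obtain ⟨h1, -, -⟩ := redLE_of_small_quotient k hL _ hSE hF hTc hTd hpF hpF' aF.le
  by_cases hiso : IsIso ι'
  · have : pF' = pE := isHilbPoly_unique k X hpF' (isHilbPoly_of_iso k X (asIso ι').symm hpE)
    rw [← this]
    exact h1
  · have h2 := h F' ι' hι' hF'c hF'0 hiso hpure pF' pE hpF' hpE
    exact redLE_trans aF.le aF' aE.le h1 h2

/-- stability can be tested on saturated submodules -/
theorem isStable_of_saturated {L : X.Modules} (hL : CohB1.IsAmple L) {d : ℕ} {E : X.Modules}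
    (hE : Coh.IsCoh E) (h0 : ¬ IsZero E) (hp : ShStab.IsPure X E d)
    (h : ∀ (F : X.Modules) (ι : F ⟶ E), Mono ι → Coh.IsCoh F → ¬ IsZero F → ¬ IsIso ι →
        ShStab.IsPure X (cokernel ι) d →
        ∀ (pF pE : ℚ[X]), ShStab.IsHilbPoly k X L F pF → ShStab.IsHilbPoly k X L E pE →
          RedLT d pF pE) :
    ShStab.IsStable k X L E d := by
  refine ⟨hE, h0, hp, ?_⟩
  intro F ι hι hF hF0 hni pF pE hpF hpE
  haveI := hι
  obtain ⟨F', ι', j, T, q, w, hι', hF'c, hj, hTc, hTd, hSE, hpure⟩ :=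
    exists_saturation k X hE h0 hp ι hF
  haveI := hι'
  haveI : Mono j := by
    haveI : Mono (j ≫ ι') := by rw [hj]; infer_instance
    exact mono_of_mono j ι'
  have hF'0 : ¬ IsZero F' := fun hz => hF0 (isZero_of_mono_of_isZero j hz)
  obtain ⟨pF', hpF'⟩ := exists_isHilbPoly_of_mono_pure k X hL.1 hp ι' hF'c
  have aF : 0 < alpha d pF := alpha_pos_of_mono_pure k X hL hp ι hF hF0 hpF
  have aF' : 0 < alpha d pF' := alpha_pos_of_mono_pure k X hL hp ι' hF'c hF'0 hpF'
  have aE : 0 < alpha d pE := alpha_pos_of_mono_pure k X hL hp (𝟙 E) hE h0 hpE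
  obtain ⟨h1, -, h1'⟩ := redLE_of_small_quotient k hL _ hSE hF hTc hTd hpF hpF' aF.le
  by_cases hiso : IsIso ι'
  · have : pF' = pE := isHilbPoly_unique k X hpF' (isHilbPoly_of_iso k X (asIso ι').symm hpE)
    rw [← this]
    refine h1' (fun hT0 => hni ?_) aF
    -- if `T = 0` then `j` is an isomorphism, hence so is `ι`
    haveI : Epi j := hSE.exact.epi_f (hT0.eq_of_tgt _ _)
    haveI : IsIso j := isIso_of_mono_of_epi j
    rw [← hj]
    infer_instance
  · have h2 := h F' ι' hι' hF'c hF'0 hiso hpure pF' pE hpF' hpE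
    exact redLT_of_redLE_of_redLT aF aF' aE.le h1 h2

end Groth.Agent.Lib.Lead.HilbPos
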