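import Mathlib
import Groth.Agent.Lib.Lead.HilbPos16

/-!
# Equivalent forms of (semi)stability: quotients (lead)

* `shortExact_kernel_epi`: `0 → ker π → E → G → 0` for `π` epi.
* `quot_of_sub_LE/LT`: from the submodule condition to the quotient condition (iii).
* `sub_of_quot_LE/LT`: from the pure quotient condition (iv) to the saturated submodule condition (ii).
-/

set_option autoImplicit false
set_option linter.unusedSectionVars false
set_option linter.style.haveILetI false
set_option backward.isDefEq.respectTransparency false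
universe u

open CategoryTheory CategoryTheory.Limits AlgebraicGeometry Polynomial TopologicalSpace Topology
  Opposite

namespace Groth.Agent.Lib.Lead.HilbPos

open StabCat Scheme.Modules

section Abelian

variable {C : Type*} [Category C] [Abelian C] {E G : C} (π : E ⟶ G) [Epi π]

theorem shortExact_kernel_epi :
    (ShortComplex.mk (kernel.ι π) π (kernel.condition π)).ShortExact :=
  { exact := ShortComplex.exact_of_f_is_kernel _ (kernelIsKernel π)
    mono_f := inferInstanceAs (Mono (kernel.ι π))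
    epi_g := inferInstanceAs (Epi π) }

theorem isIso_of_epi_of_isZero_kernel (h : IsZero (kernel π)) : IsIso π := by
  haveI : Mono π := Preadditive.mono_of_isZero_kernel π h
  exact isIso_of_mono_of_epi π

end Abelian

variable (k : Type u) [Field k] (X : Scheme.{u}) [X.Over (Spec (CommRingCat.of k))]
  [IsProper (X ↘ Spec (CommRingCat.of k))]

/-- common part of (i) ⇒ (iii): data for a proper quotient of positive multiplicity -/
theorem quot_data {L : X.Modules} (hL : CohB1.IsAmple L) {d : ℕ} {E : X.Modules}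
    (hE : Coh.IsCoh E) {G : X.Modules} (π : E ⟶ G) [Epi π] (hG : Coh.IsCoh G) (hni : ¬ IsIso π)
    {pE pG : ℚ[X]} (hpE : ShStab.IsHilbPoly k X L E pE) (hpG : ShStab.IsHilbPoly k X L G pG)
    (aG : 0 < alpha d pG) :
    Coh.IsCoh (kernel π) ∧ ¬ IsZero (kernel π) ∧ ¬ IsIso (kernel.ι π) ∧
      ShStab.IsHilbPoly k X L (kernel π) (pE - pG) := by
  haveI := Groth.Agent.Lib.Lead.CurveEuler.isNoetherian k X
  have hKc : Coh.IsCoh (kernel π) := Groth.Agent.Lib.helper7.CohKer.isCoh_kernel hE hG π
  refine ⟨hKc, fun h => hni (isIso_of_epi_of_isZero_kernel π h), fun h => ?_,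
    isHilbPoly_sub₁ k X hL.1 _ (shortExact_kernel_epi π) hKc hG hpE hpG⟩
  haveI := h
  have hπ0 : π = 0 := by rw [← cancel_epi (kernel.ι π), kernel.condition, Limits.comp_zero]
  have hG0 : IsZero G := isZero_of_epi_zero π hπ0
  have : pG = 0 := isHilbPoly_unique k X hpG (isHilbPoly_zero_of_isZero k X hG0)
  rw [this, alpha_zero] at aG
  exact lt_irrefl _ aG

theorem quot_of_isSemistable {L : X.Modules} (hL : CohB1.IsAmple L) {d : ℕ} {E : X.Modules}
    (hss : ShStab.IsSemistable k X L E d) {G : X.Modules} (π : E ⟶ G) [Epi π] (hG : Coh.IsCoh G)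
    (hni : ¬ IsIso π) {pE pG : ℚ[X]} (hpE : ShStab.IsHilbPoly k X L E pE)
    (hpG : ShStab.IsHilbPoly k X L G pG) (aG : 0 < alpha d pG) : RedLE d pE pG := by
  obtain ⟨hKc, hK0, hKni, hpK⟩ := quot_data k X hL hss.1 π hG hni hpE hpG aG
  have h1 : RedLE d (pE - pG) pE :=
    hss.2.2.2 (kernel π) (kernel.ι π) inferInstance hKc hK0 hKni _ _ hpK hpE
  have key : ∀ PK : ℚ[X], pE = PK + pG → RedLE d PK pE → RedLE d pE pG := by
    intro PK e h; subst e; exact redLE_quot h
  exact key (pE - pG) (by ring) h1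

theorem quot_of_isStable {L : X.Modules} (hL : CohB1.IsAmple L) {d : ℕ} {E : X.Modules}
    (hss : ShStab.IsStable k X L E d) {G : X.Modules} (π : E ⟶ G) [Epi π] (hG : Coh.IsCoh G)
    (hni : ¬ IsIso π) {pE pG : ℚ[X]} (hpE : ShStab.IsHilbPoly k X L E pE)
    (hpG : ShStab.IsHilbPoly k X L G pG) (aG : 0 < alpha d pG) : RedLT d pE pG := by
  obtain ⟨hKc, hK0, hKni, hpK⟩ := quot_data k X hL hss.1 π hG hni hpE hpG aG
  have h1 : RedLT d (pE - pG) pE :=
    hss.2.2.2 (kernel π) (kernel.ι π) inferInstance hKc hK0 hKni _ _ hpK hpE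
  have key : ∀ PK : ℚ[X], pE = PK + pG → RedLT d PK pE → RedLT d pE pG := by
    intro PK e h; subst e; exact redLT_quot h
  exact key (pE - pG) (by ring) h1

/-- common part of (iv) ⇒ (ii): data for the quotient by a proper nonzero submodule -/
theorem sub_data {L : X.Modules} (hL : CohB1.IsAmple L) {E : X.Modules}
    (hE : Coh.IsCoh E) {F : X.Modules} (ι : F ⟶ E) [Mono ι] (hF : Coh.IsCoh F) (hF0 : ¬ IsZero F)
    (hni : ¬ IsIso ι) {pF pE : ℚ[X]} (hpF : ShStab.IsHilbPoly k X L F pF)
    (hpE : ShStab.IsHilbPoly k X L E pE) :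
    Coh.IsCoh (cokernel ι) ∧ ¬ IsZero (cokernel ι) ∧ ¬ IsIso (cokernel.π ι) ∧
      ShStab.IsHilbPoly k X L (cokernel ι) (pE - pF) := by
  haveI := Groth.Agent.Lib.Lead.CurveEuler.isNoetherian k X
  have hQc : Coh.IsCoh (cokernel ι) := Groth.Agent.Lib.helper7.CohKer.isCoh_cokernel hF hE ι
  refine ⟨hQc, fun h => hni ?_, fun h => hF0 ?_,
    isHilbPoly_sub₃ k X hL.1 _ (Groth.Agent.Lib.helper8.Dev.shortExact_cokernel ι) hF hQc hpF hpE⟩
  · haveI : Epi ι := Preadditive.epi_of_isZero_cokernel ι h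
    exact isIso_of_mono_of_epi ι
  · haveI := h
    have hι0 : ι = 0 := by rw [← cancel_mono (cokernel.π ι), cokernel.condition, Limits.zero_comp]
    rw [IsZero.iff_id_eq_zero, ← cancel_mono ι, hι0, Limits.comp_zero, Limits.comp_zero]

end Groth.Agent.Lib.Lead.HilbPos
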