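import Mathlib
import Groth.Agent.Lib.Lead.HilbPos17

/-!
# Tools for Jordan–Hölder filtrations (lead)

* `exists_maximal_sub`: ACC — a maximal coherent submodule with a given isomorphism-invariant property.
* `redEq_of_redLE_of_not_redLT`, `redEq_add` (polynomials).
* `alpha_int_of_int_valued`, `alpha_int`: `d! · (coefficient of degree d)` of a Hilbert polynomial of
  degree `≤ d` is an integer.
* `isSemistable_of_iso`, `isStable_of_iso`.
* `isSemistable_of_mono_of_redEq`: a submodule of a semistable module with the same reduced Hilbert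
  polynomial is semistable.
-/

set_option autoImplicit false
set_option linter.unusedSectionVars false
set_option linter.style.haveILetI false
set_option backward.isDefEq.respectTransparency false
universe u

open CategoryTheory CategoryTheory.Limits AlgebraicGeometry Polynomial TopologicalSpace Topology
  Opposite

namespace Groth.Agent.Lib.Lead.HilbPos

open StabCat Scheme.Modules

section ACC

variable {X : Scheme.{u}} [IsNoetherian X]

/-- ACC: a maximal coherent submodule with an isomorphism-invariant property -/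
theorem exists_maximal_sub (Q : X.Modules) (hQ : Coh.IsCoh Q)
    (P : ∀ (T : X.Modules), (T ⟶ Q) → Prop)
    (hP : ∀ (T T' : X.Modules) (τ : T ⟶ Q) (τ' : T' ⟶ Q) (e : T ≅ T'), e.hom ≫ τ' = τ →
      P T τ → P T' τ')
    (hne : ∃ (T : X.Modules) (τ : T ⟶ Q), Mono τ ∧ Coh.IsCoh T ∧ P T τ) :
    ∃ (T : X.Modules) (τ : T ⟶ Q), Mono τ ∧ Coh.IsCoh T ∧ P T τ ∧
      ∀ (T' : X.Modules) (τ' : T' ⟶ Q), Mono τ' → Coh.IsCoh T' → P T' τ' →
        ∀ j : T ⟶ T', j ≫ τ' = τ → IsIso j := by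
  classical
  let α := {T : Subobject Q // ((T : Subobject Q) : X.Modules).IsQuasicoherent}
  have hwf : WellFoundedGT α := by
    rw [wellFoundedGT_iff_monotone_chain_condition]
    intro a
    let F : ℕ →o Subobject Q := ⟨fun n => (a n).1, fun m n h => a.mono h⟩
    obtain ⟨n, hn⟩ := Groth.Agent.Lib.helper7.QCohZero.acc_qcoh_subobjects X Q hQ F
      (fun n => (a n).2)
    exact ⟨n, fun m hm => Subtype.ext (hn m hm).symm⟩
  let 𝒮 : Set α := {T | Coh.IsCoh ((T.1 : Subobject Q) : X.Modules) ∧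
    P ((T.1 : Subobject Q) : X.Modules) T.1.arrow}
  have key : ∀ (T' : X.Modules) (τ' : T' ⟶ Q) [Mono τ'], Coh.IsCoh T' → P T' τ' →
      ∃ hc : Coh.IsCoh ((Subobject.mk τ' : Subobject Q) : X.Modules),
        (⟨Subobject.mk τ', hc.1⟩ : α) ∈ 𝒮 := by
    intro T' τ' _ hT'c hT'P
    let e : ((Subobject.mk τ' : Subobject Q) : X.Modules) ≅ T' := Subobject.underlyingIso τ'
    have hc : Coh.IsCoh ((Subobject.mk τ' : Subobject Q) : X.Modules) :=
      Groth.Agent.Lib.helper7.CohKer.isCoh_of_iso e.symm hT'c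
    refine ⟨hc, hc, ?_⟩
    refine hP T' _ τ' (Subobject.mk τ').arrow e.symm ?_ hT'P
    exact Subobject.underlyingIso_arrow τ'
  have hne' : 𝒮.Nonempty := by
    obtain ⟨T, τ, hτ, hTc, hTP⟩ := hne
    haveI := hτ
    obtain ⟨hc, hmem⟩ := key T τ hTc hTP
    exact ⟨_, hmem⟩
  obtain ⟨T₀, hT₀, hmax⟩ := hwf.wf.has_min 𝒮 hne'
  refine ⟨((T₀.1 : Subobject Q) : X.Modules), T₀.1.arrow, inferInstance, hT₀.1, hT₀.2, ?_⟩
  intro T' τ' hτ' hT'c hT'P j hj
  haveI := hτ'
  have hle : T₀.1 ≤ Subobject.mk τ' := Subobject.le_mk_of_comm j hj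
  let e : ((Subobject.mk τ' : Subobject Q) : X.Modules) ≅ T' := Subobject.underlyingIso τ'
  obtain ⟨hc, hT₁⟩ := key T' τ' hT'c hT'P
  let T₁ : α := ⟨Subobject.mk τ', hc.1⟩
  have hnot := hmax T₁ hT₁
  have heq : T₀.1 = Subobject.mk τ' := by
    by_contra hne'
    exact hnot (lt_of_le_of_ne (show T₀ ≤ T₁ from hle) (fun h => hne' (congrArg Subtype.val h)))
  have hge : Subobject.mk τ' ≤ T₀.1 := le_of_eq heq.symm
  let h : T' ⟶ ((T₀.1 : Subobject Q) : X.Modules) := e.inv ≫ Subobject.ofLE _ _ hge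
  have hh : h ≫ T₀.1.arrow = τ' := by
    show (e.inv ≫ Subobject.ofLE _ _ hge) ≫ T₀.1.arrow = τ'
    rw [Category.assoc, Subobject.ofLE_arrow]
    exact Subobject.underlyingIso_arrow τ'
  refine ⟨h, ?_, ?_⟩
  · rw [← cancel_mono T₀.1.arrow, Category.assoc, hh, hj, Category.id_comp]
  · rw [← cancel_mono τ', Category.assoc, hj, hh, Category.id_comp]

end ACC

section Poly

theorem redEq_of_redLE_of_not_redLT {d : ℕ} {P Q : ℚ[X]} (h1 : RedLE d P Q) (h2 : ¬ RedLT d P Q) :
    RedEq d P Q := by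
  set D : ℚ[X] := alpha d P • Q - alpha d Q • P with hD
  have hev : EvNonneg D := by
    obtain ⟨N, hN⟩ := h1
    refine ⟨N, fun m hm => ?_⟩
    have := hN m hm
    rw [hD, eval_sub]
    linarith
  by_cases h0 : D = 0
  · have : alpha d P • Q = alpha d Q • P := sub_eq_zero.mp h0
    exact this.symm
  · exfalso
    apply h2
    obtain ⟨N, hN⟩ := eventually_pos_of_leadingCoeff_pos D (leadingCoeff_pos_of_evNonneg D hev h0)
    refine ⟨N, fun m hm => ?_⟩
    have := hN m hm
    rw [hD, eval_sub] at this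
    linarith

theorem redEq_add {d : ℕ} {P₁ P₂ Q : ℚ[X]} (h1 : RedEq d P₁ Q) (h2 : RedEq d P₂ Q) :
    RedEq d (P₁ + P₂) Q := by
  have e1 : alpha d Q • P₁ = alpha d P₁ • Q := h1
  have e2 : alpha d Q • P₂ = alpha d P₂ • Q := h2
  show alpha d Q • (P₁ + P₂) = alpha d (P₁ + P₂) • Q
  rw [smul_add, e1, e2, alpha_add, add_smul]

open fwdDiff in
/-- `d! · coeff_d` of a polynomial of degree `≤ d` with integer values at the naturals is an integer -/
theorem alpha_int_of_int_valued {d : ℕ} {P : ℚ[X]} (hdeg : P.natDegree ≤ d)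
    (hint : ∀ m : ℕ, ∃ z : ℤ, P.eval (m : ℚ) = z) : ∃ z : ℤ, alpha d P = z := by
  rcases lt_or_eq_of_le hdeg with hlt | heq
  · refine ⟨0, ?_⟩
    unfold alpha
    rw [coeff_eq_zero_of_natDegree_lt hlt]
    simp
  · have h1 := congrFun (Polynomial.fwdDiff_iter_degree_eq_factorial P) 0
    rw [heq, fwdDiff_iter_eq_sum_shift] at h1
    have h2 : alpha d P = ∑ k ∈ Finset.range (d + 1),
        ((-1 : ℤ) ^ (d - k) * (d.choose k : ℤ)) • P.eval ((0 : ℚ) + k • (1 : ℚ)) := by
      rw [h1]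
      unfold alpha
      rw [Polynomial.leadingCoeff, heq]
      simp [mul_comm]
    rw [h2]
    choose z hz using hint
    refine ⟨∑ k ∈ Finset.range (d + 1), ((-1 : ℤ) ^ (d - k) * (d.choose k : ℤ)) * z k, ?_⟩
    push_cast
    refine Finset.sum_congr rfl (fun k _ => ?_)
    rw [← hz k]
    simp

end Poly

variable (k : Type u) [Field k] (X : Scheme.{u}) [X.Over (Spec (CommRingCat.of k))]
  [IsProper (X ↘ Spec (CommRingCat.of k))]

theorem alpha_int {L : X.Modules} (hL : PicF.IsInvertible L) {F : X.Modules} (hF : Coh.IsCoh F)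
    (d : ℕ) (hd : topologicalKrullDim (CohB1.support F) ≤ ((d : ℕ) : WithBot ℕ∞)) {P : ℚ[X]}
    (hP : ShStab.IsHilbPoly k X L F P) : ∃ z : ℤ, alpha d P = z :=
  alpha_int_of_int_valued (natDegree_le k X hL hF d hd hP) (fun m => ⟨hilb k X L F m, (hP m).symm⟩)

variable {X}

theorem isPure_of_iso {d : ℕ} {F G : X.Modules} (e : F ≅ G) (hF : ShStab.IsPure X F d) :
    ShStab.IsPure X G d := by
  intro H ι hι hH hH0
  haveI := hι
  exact hF H (ι ≫ e.inv) (mono_comp _ _) hH hH0

include k in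
theorem isSemistable_of_iso {L : X.Modules} {d : ℕ} {F G : X.Modules} (e : F ≅ G)
    (hF : ShStab.IsSemistable k X L F d) : ShStab.IsSemistable k X L G d := by
  haveI := Groth.Agent.Lib.Lead.CurveEuler.isNoetherian k X
  refine ⟨Groth.Agent.Lib.helper7.CohKer.isCoh_of_iso e hF.1, fun h => hF.2.1 (h.of_iso e),
    isPure_of_iso e hF.2.2.1, ?_⟩
  intro H ι hι hH hH0 hni pH pG hpH hpG
  haveI := hι
  refine hF.2.2.2 H (ι ≫ e.inv) (mono_comp _ _) hH hH0 (fun h => hni ?_) pH pG hpH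
    (isHilbPoly_of_iso k X e.symm hpG)
  haveI := h
  have : ι = (ι ≫ e.inv) ≫ e.hom := by simp
  rw [this]
  infer_instance

include k in
theorem isStable_of_iso {L : X.Modules} {d : ℕ} {F G : X.Modules} (e : F ≅ G)
    (hF : ShStab.IsStable k X L F d) : ShStab.IsStable k X L G d := by
  haveI := Groth.Agent.Lib.Lead.CurveEuler.isNoetherian k X
  refine ⟨Groth.Agent.Lib.helper7.CohKer.isCoh_of_iso e hF.1, fun h => hF.2.1 (h.of_iso e),
    isPure_of_iso e hF.2.2.1, ?_⟩
  intro H ι hι hH hH0 hni pH pG hpH hpG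
  haveI := hι
  refine hF.2.2.2 H (ι ≫ e.inv) (mono_comp _ _) hH hH0 (fun h => hni ?_) pH pG hpH
    (isHilbPoly_of_iso k X e.symm hpG)
  haveI := h
  have : ι = (ι ≫ e.inv) ≫ e.hom := by simp
  rw [this]
  infer_instance

variable (X)

/-- a nonzero coherent submodule of a semistable module with the same reduced Hilbert polynomial is
semistable -/
theorem isSemistable_of_mono_of_redEq {L : X.Modules} (hL : CohB1.IsAmple L) {d : ℕ}
    {E : X.Modules} (hE : ShStab.IsSemistable k X L E d) {F : X.Modules} (ι : F ⟶ E) [Mono ι]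
    (hF : Coh.IsCoh F) (hF0 : ¬ IsZero F) {pF pE : ℚ[X]} (hpF : ShStab.IsHilbPoly k X L F pF)
    (hpE : ShStab.IsHilbPoly k X L E pE) (hred : RedEq d pF pE) :
    ShStab.IsSemistable k X L F d := by
  refine ⟨hF, hF0, isPure_of_mono hE.2.2.1 ι, ?_⟩
  intro H κ hκ hH hH0 _ pH pF' hpH hpF'
  haveI := hκ
  have : pF' = pF := isHilbPoly_unique k X hpF' hpF
  subst this
  have aH : 0 < alpha d pH := alpha_pos_of_mono_pure k X hL hE.2.2.1 (κ ≫ ι) hH hH0 hpH
  have aF : 0 < alpha d pF' := alpha_pos_of_mono_pure k X hL hE.2.2.1 ι hF hF0 hpF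
  have aE : 0 < alpha d pE := alpha_pos_of_isSemistable k X hL hE hpE
  have h1 : RedLE d pH pE := redLE_of_mono_of_isSemistable k X hE (κ ≫ ι) hH hH0 hpH hpE
  exact redLE_trans aH.le aE aF.le h1 (redLE_of_redEq (redEq_symm hred))

end Groth.Agent.Lib.Lead.HilbPos
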