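import Mathlib
import Groth.Agent.Lib.Lead.HilbPos18

/-!
# Existence of Jordan–Hölder filtrations (lead)

* `exists_sub_stable_quotient`: a semistable module which is not stable has a proper nonzero coherent
  submodule with the same reduced Hilbert polynomial and STABLE quotient.
* `factorIso`, chain extension `chain_snoc`.
* `exists_isJHFiltration`.
-/

set_option autoImplicit false
set_option linter.unusedSectionVars false
set_option linter.style.haveILetI false
set_option backward.isDefEq.respectTransparency false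
universe u

open CategoryTheory CategoryTheory.Limits AlgebraicGeometry Polynomial TopologicalSpace Topology
  Opposite

namespace Groth.Agent.Lib.Lead.HilbPos

open StabCat Scheme.Modules

section Abelian

variable {C : Type*} [Category C] [Abelian C]

/-- the factor of a chain, computed from the values of its two ends -/
noncomputable def factorIso {E : C} (s : LTSeries (Subobject E)) (i : Fin s.length)
    {A B : Subobject E} (hA : s i.castSucc = A) (hB : s i.succ = B) (hAB : A ≤ B) :
    factor s i ≅ cokernel (Subobject.ofLE A B hAB) := by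
  subst hA hB
  exact Iso.refl _

/-- `G/⊥ ≅ G` -/
noncomputable def cokernelOfLEBotIso {E : C} (G : Subobject E) :
    cokernel (Subobject.ofLE ⊥ G bot_le) ≅ (G : C) :=
  have h0 : Subobject.ofLE ⊥ G bot_le = 0 :=
    ((isZero_zero C).of_iso Subobject.botCoeIsoZero).eq_of_src _ _
  cokernelIsoOfEq h0 ≪≫ cokernelZeroIsoTarget

/-- `G / mk (τ ≫ G.arrow) ≅ coker τ` -/
noncomputable def cokernelOfLEMkIso {E : C} (G : Subobject E) {T : C} (τ : T ⟶ (G : C)) [Mono τ]
    (h : Subobject.mk (τ ≫ G.arrow) ≤ G) :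
    cokernel (Subobject.ofLE (Subobject.mk (τ ≫ G.arrow)) G h) ≅ cokernel τ :=
  have e : Subobject.ofLE (Subobject.mk (τ ≫ G.arrow)) G h =
      (Subobject.underlyingIso (τ ≫ G.arrow)).hom ≫ τ := by
    rw [← cancel_mono G.arrow, Subobject.ofLE_arrow, Category.assoc,
      Subobject.underlyingIso_hom_comp_eq_mk]
  cokernelIsoOfEq e ≪≫ cokernelEpiComp _ τ

end Abelian

variable (k : Type u) [Field k] (X : Scheme.{u}) [X.Over (Spec (CommRingCat.of k))]
  [IsProper (X ↘ Spec (CommRingCat.of k))]

/-- a semistable, not stable module has a proper nonzero coherent submodule with the same reduced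
Hilbert polynomial, semistable, with stable quotient of the same reduced Hilbert polynomial -/
theorem exists_sub_stable_quotient {L : X.Modules} (hL : CohB1.IsAmple L) {d : ℕ} {G : X.Modules}
    (hG : ShStab.IsSemistable k X L G d) (hns : ¬ ShStab.IsStable k X L G d) {pG : ℚ[X]}
    (hpG : ShStab.IsHilbPoly k X L G pG) :
    ∃ (T : X.Modules) (τ : T ⟶ G) (pT : ℚ[X]), Mono τ ∧ ShStab.IsSemistable k X L T d ∧
      ShStab.IsHilbPoly k X L T pT ∧ RedEq d pT pG ∧ ShStab.IsStable k X L (cokernel τ) d ∧
      ShStab.IsHilbPoly k X L (cokernel τ) (pG - pT) ∧ RedEq d (pG - pT) pG := by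
  haveI := Groth.Agent.Lib.Lead.CurveEuler.isNoetherian k X
  have aG : 0 < alpha d pG := alpha_pos_of_isSemistable k X hL hG hpG
  -- the property
  let P : ∀ (T : X.Modules), (T ⟶ G) → Prop := fun T τ =>
    ¬ IsZero T ∧ ¬ IsIso τ ∧ ∀ pT : ℚ[X], ShStab.IsHilbPoly k X L T pT → RedEq d pT pG
  have hP : ∀ (T T' : X.Modules) (τ : T ⟶ G) (τ' : T' ⟶ G) (e : T ≅ T'), e.hom ≫ τ' = τ →
      P T τ → P T' τ' := by
    intro T T' τ τ' e he ⟨h1, h2, h3⟩
    refine ⟨fun h => h1 (h.of_iso e), fun h => h2 ?_, fun pT hpT =>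
      h3 pT (isHilbPoly_of_iso k X e.symm hpT)⟩
    haveI := h
    rw [← he]
    infer_instance
  have hne : ∃ (T : X.Modules) (τ : T ⟶ G), Mono τ ∧ Coh.IsCoh T ∧ P T τ := by
    by_contra hcon
    apply hns
    refine ⟨hG.1, hG.2.1, hG.2.2.1, ?_⟩
    intro F ι hι hF hF0 hni pF pG' hpF hpG'
    haveI := hι
    have : pG' = pG := isHilbPoly_unique k X hpG' hpG
    subst this
    by_contra hlt
    apply hcon
    have hle : RedLE d pF pG' := hG.2.2.2 F ι hι hF hF0 hni pF pG' hpF hpG'
    refine ⟨F, ι, hι, hF, hF0, hni, fun pT hpT => ?_⟩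
    have : pT = pF := isHilbPoly_unique k X hpT hpF
    rw [this]
    exact redEq_of_redLE_of_not_redLT hle hlt
  obtain ⟨T, τ, hτ, hTc, ⟨hT0, hTni, hTred⟩, hmax⟩ := exists_maximal_sub G hG.1 P hP hne
  haveI := hτ
  obtain ⟨pT, hpT⟩ := exists_isHilbPoly_of_mono_pure k X hL.1 hG.2.2.1 τ hTc
  have hredT : RedEq d pT pG := hTred pT hpT
  have hTss : ShStab.IsSemistable k X L T d :=
    isSemistable_of_mono_of_redEq k X hL hG τ hTc hT0 hpT hpG hredT
  obtain ⟨hQc, hQ0, hπni, hpQ⟩ := sub_data k X hL hG.1 τ hTc hT0 hTni hpT hpG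
  obtain ⟨hQss, hQred⟩ := isSemistable_cokernel k X hL hTss hG hpT hpG hredT τ hQ0
  have hredQ : RedEq d (pG - pT) pG :=
    redEq_trans (alpha_pos_of_isSemistable k X hL hTss hpT).ne' (hQred _ hpQ) hredT
  have aQ : 0 < alpha d (pG - pT) := alpha_pos_of_isSemistable k X hL hQss hpQ
  refine ⟨T, τ, pT, hτ, hTss, hpT, hredT, ⟨hQc, hQ0, hQss.2.2.1, ?_⟩, hpQ, hredQ⟩
  -- stability of the quotient
  intro H σ hσ hHc hH0 hσni pH pQ' hpH hpQ'
  haveI := hσ
  have : pQ' = pG - pT := isHilbPoly_unique k X hpQ' hpQ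
  subst this
  by_contra hlt
  have hle : RedLE d pH (pG - pT) := hQss.2.2.2 H σ hσ hHc hH0 hσni pH _ hpH hpQ
  have hredH : RedEq d pH (pG - pT) := redEq_of_redLE_of_not_redLT hle hlt
  have hredHG : RedEq d pH pG := redEq_trans aQ.ne' hredH hredQ
  set π := cokernel.π τ with hπ
  have hRc : Coh.IsCoh (cokernel σ) := Groth.Agent.Lib.helper7.CohKer.isCoh_cokernel hHc hQc σ
  have hPc : Coh.IsCoh (preim π σ) :=
    Groth.Agent.Lib.helper7.CohKer.isCoh_kernel hG.1 hRc (π ≫ cokernel.π σ)
  have hKc : Coh.IsCoh (kernel π) := Groth.Agent.Lib.helper7.CohKer.isCoh_kernel hG.1 hQc π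
  let j : T ⟶ preim π σ := (isoKernelCokernel τ).hom ≫ kerToPreim π σ
  have hj : j ≫ preimι π σ = τ := by
    show ((isoKernelCokernel τ).hom ≫ kerToPreim π σ) ≫ preimι π σ = τ
    rw [Category.assoc, kerToPreim_ι, isoKernelCokernel_hom_ι]
  haveI : Mono j := by
    haveI : Mono (j ≫ preimι π σ) := by rw [hj]; infer_instance
    exact mono_of_mono j (preimι π σ)
  have hpK : ShStab.IsHilbPoly k X L (kernel π) pT :=
    isHilbPoly_of_iso k X (isoKernelCokernel τ) hpT
  have hpP : ShStab.IsHilbPoly k X L (preim π σ) (pT + pH) :=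
    isHilbPoly_add k X hL.1 _ (shortExact_preim π σ) hKc hHc hpK hpH
  have hPP : P (preim π σ) (preimι π σ) := by
    refine ⟨fun h => hT0 (isZero_of_mono_of_isZero j h), fun h => hσni ?_, fun p hp => ?_⟩
    · -- `preimι` iso ⇒ `σ` epi
      haveI := h
      have h1 : π ≫ cokernel.π σ = 0 := by
        rw [← cancel_epi (preimι π σ), preimι_comp, Limits.comp_zero]
      have h2 : cokernel.π σ = 0 := by
        rw [← cancel_epi π, h1, Limits.comp_zero]
      haveI : Epi σ := Preadditive.epi_of_isZero_cokernel σ (isZero_of_epi_zero _ h2)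
      exact isIso_of_mono_of_epi σ
    · have : p = pT + pH := isHilbPoly_unique k X hp hpP
      rw [this]
      exact redEq_add hredT hredHG
  haveI : IsIso j := hmax (preim π σ) (preimι π σ) inferInstance hPc hPP j hj
  have h0 : preimι π σ ≫ π = 0 := by
    have h2 : τ ≫ π = 0 := cokernel.condition τ
    rw [← cancel_epi j, ← Category.assoc, hj, h2, Limits.comp_zero]
  have h1 : preimTo π σ = 0 := by
    rw [← cancel_mono σ, preimTo_comp, h0, Limits.zero_comp]
  exact hH0 (isZero_of_epi_zero (preimTo π σ) h1)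

section Chain

variable {X}
variable {L : X.Modules} {d : ℕ} {E : X.Modules} (pE : ℚ[X])

/-- a chain from `⊥` to `G` with stable factors of reduced Hilbert polynomial `p(E)` -/
def JHChain (L : X.Modules) (d : ℕ) (E : X.Modules) (pE : ℚ[X]) (G : Subobject E) : Prop :=
  ∃ s : LTSeries (Subobject E), s.head = ⊥ ∧ s.last = G ∧
    ∀ i : Fin s.length, ShStab.IsStable k X L (factor s i) d ∧
      ∀ p : ℚ[X], ShStab.IsHilbPoly k X L (factor s i) p → RedEq d p pE

theorem jhChain_bot : JHChain k L d E pE ⊥ :=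
  ⟨RelSeries.singleton _ ⊥, rfl, rfl, fun i => i.elim0⟩

theorem jhChain_snoc {G₁ G : Subobject E} (h : G₁ < G) (h₁ : JHChain k L d E pE G₁)
    (hst : ShStab.IsStable k X L (cokernel (Subobject.ofLE G₁ G h.le)) d)
    (hp : ∀ p : ℚ[X], ShStab.IsHilbPoly k X L (cokernel (Subobject.ofLE G₁ G h.le)) p →
      RedEq d p pE) : JHChain k L d E pE G := by
  obtain ⟨s, hs0, hs1, hs⟩ := h₁
  have hrel : s.last < G := by rw [hs1]; exact h
  refine ⟨s.snoc G hrel, ?_, ?_, ?_⟩
  · rw [RelSeries.head_snoc]; exact hs0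
  · exact RelSeries.last_snoc _ _ _
  · intro i
    have key : ∀ i : Fin (s.length + 1), ShStab.IsStable k X L (factor (s.snoc G hrel) i) d ∧
        ∀ p : ℚ[X], ShStab.IsHilbPoly k X L (factor (s.snoc G hrel) i) p → RedEq d p pE := by
      intro i
      refine Fin.lastCases ?_ (fun j => ?_) i
      · -- the last factor
        have hA : (s.snoc G hrel) (Fin.last s.length).castSucc = G₁ := by
          rw [RelSeries.snoc_castSucc]; exact hs1
        have hB : (s.snoc G hrel) (Fin.last s.length).succ = G := by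
          rw [Fin.succ_last]; exact RelSeries.last_snoc' _ _ _
        let e := factorIso (s.snoc G hrel) (Fin.last s.length) hA hB h.le
        exact ⟨isStable_of_iso k e.symm hst, fun p hp' => hp p (isHilbPoly_of_iso k X e hp')⟩
      · have hA : (s.snoc G hrel) j.castSucc.castSucc = s j.castSucc := by
          rw [RelSeries.snoc_castSucc]
        have hB : (s.snoc G hrel) j.castSucc.succ = s j.succ := by
          rw [← Fin.castSucc_succ, RelSeries.snoc_castSucc]
        let e := factorIso (s.snoc G hrel) j.castSucc hA hB (le_of_lt (s.step j))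
        exact ⟨isStable_of_iso k e.symm (hs j).1,
          fun p hp' => (hs j).2 p (isHilbPoly_of_iso k X e hp')⟩
    exact key i

end Chain

/-- existence of Jordan–Hölder filtrations -/
theorem exists_isJHFiltration {L : X.Modules} (hL : CohB1.IsAmple L) {d : ℕ} {E : X.Modules}
    (hE : ShStab.IsSemistable k X L E d) :
    ∃ s : LTSeries (Subobject E), ShStab.IsJHFiltration k X L E d s := by
  haveI := Groth.Agent.Lib.Lead.CurveEuler.isNoetherian k X
  obtain ⟨pE, hpE⟩ := exists_isHilbPoly_of_isSemistable k X hL.1 hE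
  have aE : 0 < alpha d pE := alpha_pos_of_isSemistable k X hL hE hpE
  -- the induction
  have main : ∀ (n : ℕ) (G : Subobject E) (pG : ℚ[X]),
      ShStab.IsSemistable k X L ((G : Subobject E) : X.Modules) d →
      ShStab.IsHilbPoly k X L ((G : Subobject E) : X.Modules) pG → RedEq d pG pE →
      alpha d pG ≤ n → JHChain k L d E pE G := by
    intro n
    induction n with
    | zero =>
      intro G pG hG hpG _ hn
      exfalso
      have := alpha_pos_of_isSemistable k X hL hG hpG
      simp only [Nat.cast_zero] at hn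
      linarith
    | succ n ih =>
      intro G pG hG hpG hred hn
      have aG : 0 < alpha d pG := alpha_pos_of_isSemistable k X hL hG hpG
      by_cases hst : ShStab.IsStable k X L ((G : Subobject E) : X.Modules) d
      · -- one step from `⊥`
        have hlt : (⊥ : Subobject E) < G := by
          refine lt_of_le_of_ne bot_le (fun h => hG.2.1 ?_)
          rw [← h]
          exact (isZero_zero _).of_iso Subobject.botCoeIsoZero
        refine jhChain_snoc k pE hlt (jhChain_bot k pE) ?_ ?_
        · exact isStable_of_iso k (cokernelOfLEBotIso G).symm hst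
        · intro p hp
          have : p = pG := isHilbPoly_unique k X hp
            (isHilbPoly_of_iso k X (cokernelOfLEBotIso G).symm hpG)
          rw [this]
          exact hred
      · obtain ⟨T, τ, pT, hτ, hTss, hpT, hredT, hQst, hpQ, hredQ⟩ :=
          exists_sub_stable_quotient k X hL hG hst hpG
        haveI := hτ
        set G₁ : Subobject E := Subobject.mk (τ ≫ G.arrow) with hG₁
        have hle : G₁ ≤ G := Subobject.mk_le_of_comm τ rfl
        let e₁ : ((G₁ : Subobject E) : X.Modules) ≅ T := Subobject.underlyingIso (τ ≫ G.arrow)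
        let eQ := cokernelOfLEMkIso G τ hle
        have hQ0 : ¬ IsZero (cokernel τ) := hQst.2.1
        have hlt : G₁ < G := by
          refine lt_of_le_of_ne hle (fun h => hQ0 ?_)
          -- if `G₁ = G` then `τ` is an isomorphism
          have hge : G ≤ G₁ := le_of_eq h.symm
          have h1 : (Subobject.ofLE G G₁ hge ≫ e₁.hom) ≫ τ = 𝟙 _ := by
            rw [← cancel_mono G.arrow, Category.assoc, Category.assoc, Category.id_comp]
            have : e₁.hom ≫ τ ≫ G.arrow = G₁.arrow :=
              Subobject.underlyingIso_hom_comp_eq_mk (τ ≫ G.arrow)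
            rw [this, Subobject.ofLE_arrow]
          haveI : Epi τ := epi_of_epi_fac h1
          exact (isZero_zero _).of_iso (cokernel.ofEpi τ)
        have aQ : 0 < alpha d (pG - pT) := alpha_pos_of_isSemistable k X hL
          ⟨hQst.1, hQst.2.1, hQst.2.2.1, fun F ι hι hF hF0 hni pF pQ hpF hpQ' =>
            redLE_of_redLT (hQst.2.2.2 F ι hι hF hF0 hni pF pQ hpF hpQ')⟩ hpQ
        -- integrality
        have hdQ : topologicalKrullDim (CohB1.support (cokernel τ)) ≤ ((d : ℕ) : WithBot ℕ∞) :=
          le_of_eq (dim_support_of_isPure hQst.2.2.1 (𝟙 _) hQst.1 hQst.2.1)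
        obtain ⟨z, hz⟩ := alpha_int k X hL.1 hQst.1 d hdQ hpQ
        have hz1 : (1 : ℚ) ≤ alpha d (pG - pT) := by
          rw [hz] at aQ ⊢
          have : (0 : ℤ) < z := by exact_mod_cast aQ
          exact_mod_cast this
        have hnT : alpha d pT ≤ n := by
          rw [alpha_sub] at hz1
          push_cast at hn
          linarith
        have h₁ : JHChain k L d E pE G₁ :=
          ih G₁ pT (isSemistable_of_iso k e₁.symm hTss) (isHilbPoly_of_iso k X e₁.symm hpT)
            (redEq_trans aG.ne' hredT hred) hnT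
        refine jhChain_snoc k pE hlt h₁ (isStable_of_iso k eQ.symm hQst) ?_
        intro p hp
        have : p = pG - pT := isHilbPoly_unique k X hp (isHilbPoly_of_iso k X eQ.symm hpQ)
        rw [this]
        exact redEq_trans aG.ne' hredQ hred
  -- apply to `⊤`
  let eT : (((⊤ : Subobject E) : Subobject E) : X.Modules) ≅ E := asIso (⊤ : Subobject E).arrow
  obtain ⟨z, hz⟩ := alpha_int k X hL.1 hE.1 d
    (le_of_eq (dim_support_of_isPure hE.2.2.1 (𝟙 _) hE.1 hE.2.1)) hpE
  have hz0 : 0 ≤ z := by
    have : (0 : ℚ) < z := by rw [← hz]; exact aE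
    exact_mod_cast this.le
  obtain ⟨s, hs0, hs1, hs⟩ := main z.toNat ⊤ pE (isSemistable_of_iso k eT.symm hE)
    (isHilbPoly_of_iso k X eT.symm hpE) rfl (by
      rw [hz]
      have : ((z.toNat : ℤ) : ℚ) = (z : ℚ) := by rw [Int.toNat_of_nonneg hz0]
      rw [← this]; push_cast; exact le_rfl)
  refine ⟨s, hs0, hs1, fun i => ⟨(hs i).1, fun p q hp hq => ?_⟩⟩
  have : q = pE := isHilbPoly_unique k X hq hpE
  rw [this]
  exact (hs i).2 p hp

end Groth.Agent.Lib.Lead.HilbPos
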