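import Mathlib
import Groth.Agent.Lib.Lead.HilbPos19

/-!
# Sums and intersections of submodules; the order `≼` (lead)

* `interObj ι_F ι_G` (`F ∩ G`), `sumObj ι_F ι_G` (`F + G`) for two maps into `E`, with their
  structure maps and universal properties (any abelian category).
* `pol k X L F`: the Hilbert polynomial of `F` (junk value `0` if there is none).
* `redLE_or_redLT`: trichotomy for reduced polynomials.
* `key_ineq`: `p(F+G) < p(F) ≤ p(G)` implies `p(F ∩ G) > p(G)`.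
* `exists_preceq_maximal`: ACC for the order `F ≼ F'` (`F ⊆ F'` and `p(F) ≤ p(F')`).
-/

set_option autoImplicit false
set_option linter.unusedSectionVars false
set_option linter.style.haveILetI false
set_option backward.isDefEq.respectTransparency false
universe u

open CategoryTheory CategoryTheory.Limits AlgebraicGeometry Polynomial TopologicalSpace Topology
  Opposite

namespace Groth.Agent.Lib.Lead.HilbPos

open StabCat Scheme.Modules

section Abelian

variable {C : Type*} [Category C] [Abelian C] {E F G : C} (ιF : F ⟶ E) (ιG : G ⟶ E)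

/-- `F ⊞ G ⟶ E`, `(f, g) ↦ ι_F f - ι_G g` -/
noncomputable def diffMap : F ⊞ G ⟶ E := biprod.desc ιF (-ιG)

/-- `F ∩ G` -/
noncomputable def interObj : C := kernel (diffMap ιF ιG)

/-- `F + G` -/
noncomputable def sumObj : C := Abelian.image (diffMap ιF ιG)

noncomputable def interToF : interObj ιF ιG ⟶ F := kernel.ι (diffMap ιF ιG) ≫ biprod.fst

noncomputable def interToG : interObj ιF ιG ⟶ G := kernel.ι (diffMap ιF ιG) ≫ biprod.snd

noncomputable def sumι : sumObj ιF ιG ⟶ E := Abelian.image.ι (diffMap ιF ιG)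

noncomputable def fToSum : F ⟶ sumObj ιF ιG := biprod.inl ≫ Abelian.factorThruImage (diffMap ιF ιG)

noncomputable def gToSum : G ⟶ sumObj ιF ιG :=
  -(biprod.inr ≫ Abelian.factorThruImage (diffMap ιF ιG))

instance : Mono (sumι ιF ιG) := inferInstanceAs (Mono (Abelian.image.ι _))

theorem fToSum_ι : fToSum ιF ιG ≫ sumι ιF ιG = ιF := by
  unfold fToSum sumι diffMap
  rw [Category.assoc, Abelian.image.fac, biprod.inl_desc]

theorem gToSum_ι : gToSum ιF ιG ≫ sumι ιF ιG = ιG := by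
  unfold gToSum sumι diffMap
  rw [Preadditive.neg_comp, Category.assoc, Abelian.image.fac, biprod.inr_desc, neg_neg]

theorem inter_comm : interToF ιF ιG ≫ ιF = interToG ιF ιG ≫ ιG := by
  have h := kernel.condition (diffMap ιF ιG)
  have e : diffMap ιF ιG = biprod.fst ≫ ιF - biprod.snd ≫ ιG := by
    unfold diffMap
    ext <;> simp
  have h' : kernel.ι (diffMap ιF ιG) ≫ (biprod.fst ≫ ιF - biprod.snd ≫ ιG) = 0 := by
    rw [← e]; exact h
  rw [Preadditive.comp_sub, sub_eq_zero] at h'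
  unfold interToF interToG
  rw [Category.assoc, Category.assoc]
  exact h'

/-- the universal property of `F ∩ G` -/
noncomputable def interLift {A : C} (a : A ⟶ F) (b : A ⟶ G) (h : a ≫ ιF = b ≫ ιG) :
    A ⟶ interObj ιF ιG :=
  kernel.lift (diffMap ιF ιG) (biprod.lift a b) (by
    unfold diffMap
    rw [biprod.lift_desc, Preadditive.comp_neg, h]
    abel)

theorem interLift_toF {A : C} (a : A ⟶ F) (b : A ⟶ G) (h : a ≫ ιF = b ≫ ιG) :
    interLift ιF ιG a b h ≫ interToF ιF ιG = a := by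
  unfold interLift interToF
  rw [← Category.assoc, kernel.lift_ι, biprod.lift_fst]

theorem interLift_toG {A : C} (a : A ⟶ F) (b : A ⟶ G) (h : a ≫ ιF = b ≫ ιG) :
    interLift ιF ιG a b h ≫ interToG ιF ιG = b := by
  unfold interLift interToG
  rw [← Category.assoc, kernel.lift_ι, biprod.lift_snd]

instance mono_interToF [Mono ιG] : Mono (interToF ιF ιG) := by
  refine ⟨fun {A} a b hab => ?_⟩
  have h1 : a ≫ interToG ιF ιG = b ≫ interToG ιF ιG := by
    rw [← cancel_mono ιG, Category.assoc, Category.assoc, ← inter_comm, ← Category.assoc,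
      ← Category.assoc, hab]
  rw [← cancel_mono (kernel.ι (diffMap ιF ιG))]
  apply biprod.hom_ext
  · simpa [interToF, Category.assoc] using hab
  · simpa [interToG, Category.assoc] using h1

instance mono_fToSum [Mono ιF] : Mono (fToSum ιF ιG) := by
  haveI : Mono (fToSum ιF ιG ≫ sumι ιF ιG) := by rw [fToSum_ι]; infer_instance
  exact mono_of_mono (fToSum ιF ιG) (sumι ιF ιG)

/-- if `F ⟶ F + G` is an isomorphism then `G ⊆ F` -/
theorem incl_of_isIso_fToSum [IsIso (fToSum ιF ιG)] :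
    ∃ φ : G ⟶ F, φ ≫ ιF = ιG := by
  refine ⟨gToSum ιF ιG ≫ inv (fToSum ιF ιG), ?_⟩
  calc (gToSum ιF ιG ≫ inv (fToSum ιF ιG)) ≫ ιF
      = (gToSum ιF ιG ≫ inv (fToSum ιF ιG)) ≫ (fToSum ιF ιG ≫ sumι ιF ιG) := by rw [fToSum_ι]
    _ = gToSum ιF ιG ≫ sumι ιF ιG := by simp
    _ = ιG := gToSum_ι ιF ιG

/-- `0 → F ∩ G → F ⊞ G → F + G → 0` -/
theorem shortExact_inter_sum :
    (ShortComplex.mk (kernel.ι (diffMap ιF ιG)) (Abelian.factorThruImage (diffMap ιF ιG))
      (kernel_ι_factorThruImage _)).ShortExact :=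
  shortExact_kernel_image (diffMap ιF ιG)

end Abelian

section Poly

theorem redLE_or_redLT (d : ℕ) (P Q : ℚ[X]) : RedLE d P Q ∨ RedLT d Q P := by
  set D : ℚ[X] := alpha d P • Q - alpha d Q • P with hD
  by_cases h0 : D = 0
  · left
    have : alpha d P • Q = alpha d Q • P := sub_eq_zero.mp h0
    exact redLE_of_redEq this.symm
  · rcases lt_or_gt_of_ne (leadingCoeff_ne_zero.mpr h0) with hneg | hpos
    · right
      have h1 : 0 < (-D).leadingCoeff := by rw [leadingCoeff_neg]; linarith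
      obtain ⟨N, hN⟩ := eventually_pos_of_leadingCoeff_pos (-D) h1
      refine ⟨N, fun m hm => ?_⟩
      have := hN m hm
      rw [hD, eval_neg, eval_sub] at this
      linarith
    · left
      obtain ⟨N, hN⟩ := eventually_pos_of_leadingCoeff_pos D hpos
      refine ⟨N, fun m hm => ?_⟩
      have := hN m hm
      rw [hD, eval_sub] at this
      linarith

theorem not_redLT_self (d : ℕ) (P : ℚ[X]) : ¬ RedLT d P P := by
  rintro ⟨N, hN⟩
  exact lt_irrefl _ (hN N le_rfl)

/-- `p(F+G) < p(F) ≤ p(G)` implies `p(F ∩ G) > p(G)` -/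
theorem key_ineq {d : ℕ} {f g i κ : ℚ[X]} (hsum : κ + i = f + g) (af : 0 < alpha d f)
    (ag : 0 < alpha d g) (hκg : alpha d κ ≤ alpha d g) (h1 : RedLT d i f) (h2 : RedLE d f g) :
    RedLT d g κ := by
  obtain ⟨N₁, hN₁⟩ := h1
  obtain ⟨N₂, hN₂⟩ := h2
  refine ⟨max N₁ N₂, fun m hm => ?_⟩
  have a := hN₁ m ((le_max_left _ _).trans hm)
  have b := hN₂ m ((le_max_right _ _).trans hm)
  have hs := congrArg (fun P : ℚ[X] => P.eval (m : ℚ)) hsum
  have hα : alpha d κ + alpha d i = alpha d f + alpha d g := by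
    rw [← alpha_add, ← alpha_add, hsum]
  simp only [eval_smul, smul_eq_mul, eval_add] at a b hs ⊢
  -- abbreviations
  set F := f.eval (m : ℚ)
  set G := g.eval (m : ℚ)
  set I := i.eval (m : ℚ)
  set K := κ.eval (m : ℚ)
  set aF := alpha d f
  set aG := alpha d g
  set aI := alpha d i
  set aK := alpha d κ
  have hK : K = F + G - I := by linarith
  have haK : aK = aF + aG - aI := by linarith
  have ident : aF * (aK * G - aG * K) = aG * (aF * I - aI * F) + (aG - aK) * (aG * F - aF * G) := by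
    rw [hK, haK]; ring
  have t1 : aG * (aF * I - aI * F) < 0 := mul_neg_of_pos_of_neg ag (by linarith)
  have t2 : (aG - aK) * (aG * F - aF * G) ≤ 0 :=
    mul_nonpos_of_nonneg_of_nonpos (by linarith) (by linarith)
  have t3 : aF * (aK * G - aG * K) < 0 := by rw [ident]; linarith
  have t4 : aK * G - aG * K < 0 := by
    by_contra h
    rw [not_lt] at h
    have := mul_nonneg af.le h
    linarith
  linarith

end Poly

variable (k : Type u) [Field k] (X : Scheme.{u}) [X.Over (Spec (CommRingCat.of k))]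
  [IsProper (X ↘ Spec (CommRingCat.of k))]

open Classical in
/-- the Hilbert polynomial (junk value `0` if there is none) -/
noncomputable def pol (L F : X.Modules) : ℚ[X] :=
  if h : ∃ P : ℚ[X], ShStab.IsHilbPoly k X L F P then h.choose else 0

theorem isHilbPoly_pol {L F : X.Modules} (h : ∃ P : ℚ[X], ShStab.IsHilbPoly k X L F P) :
    ShStab.IsHilbPoly k X L F (pol k X L F) := by
  unfold pol
  rw [dif_pos h]
  exact h.choose_spec

theorem pol_eq {L F : X.Modules} {P : ℚ[X]} (hP : ShStab.IsHilbPoly k X L F P) :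
    pol k X L F = P :=
  isHilbPoly_unique k X (isHilbPoly_pol k X ⟨P, hP⟩) hP

theorem pol_eq_of_iso {L F G : X.Modules} (e : F ≅ G)
    (h : ∃ P : ℚ[X], ShStab.IsHilbPoly k X L F P) : pol k X L F = pol k X L G := by
  obtain ⟨P, hP⟩ := h
  rw [pol_eq k X hP, pol_eq k X (isHilbPoly_of_iso k X e hP)]

variable {X}

/-- data of a nonzero coherent submodule of a pure module -/
theorem sub_facts {L : X.Modules} (hL : CohB1.IsAmple L) {d : ℕ} {E : X.Modules}
    (hp : ShStab.IsPure X E d) {F : X.Modules} (ι : F ⟶ E) [Mono ι] (hF : Coh.IsCoh F)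
    (hF0 : ¬ IsZero F) :
    ShStab.IsHilbPoly k X L F (pol k X L F) ∧ 0 < alpha d (pol k X L F) := by
  have h := isHilbPoly_pol k X (exists_isHilbPoly_of_mono_pure k X hL.1 hp ι hF)
  exact ⟨h, alpha_pos_of_mono_pure k X hL hp ι hF hF0 h⟩

/-- `α_d` is monotone on coherent modules of dimension `≤ d` -/
theorem alpha_le_of_mono {L : X.Modules} (hL : CohB1.IsAmple L) {d : ℕ} {F G : X.Modules}
    (j : F ⟶ G) [Mono j] (hF : Coh.IsCoh F) (hG : Coh.IsCoh G)
    (hd : topologicalKrullDim (CohB1.support G) ≤ ((d : ℕ) : WithBot ℕ∞)) {pF pG : ℚ[X]}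
    (hpF : ShStab.IsHilbPoly k X L F pF) (hpG : ShStab.IsHilbPoly k X L G pG) :
    alpha d pF ≤ alpha d pG := by
  haveI := Groth.Agent.Lib.Lead.CurveEuler.isNoetherian k X
  have hCc : Coh.IsCoh (cokernel j) := Groth.Agent.Lib.helper7.CohKer.isCoh_cokernel hF hG j
  have hpC := isHilbPoly_sub₃ k X hL.1 _ (Groth.Agent.Lib.helper8.Dev.shortExact_cokernel j) hF hCc
    hpF hpG
  have hdC : topologicalKrullDim (CohB1.support (cokernel j)) ≤ ((d : ℕ) : WithBot ℕ∞) :=
    (Groth.Agent.Lib.helper8.DimLt.topologicalKrullDim_le_of_subset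
      (Groth.Agent.Lib.helper8.Dev.support_subset_of_epi (cokernel.π j) hG hCc)).trans hd
  have h0 : 0 ≤ alpha d (pG - pF) := by
    unfold alpha
    exact mul_nonneg (Nat.cast_nonneg _) (coeff_nonneg k X hL hCc d hdC hpC)
  rw [alpha_sub] at h0
  linarith

/-- `F ≼ F'` has maximal elements above any `F` (ACC) -/
theorem exists_preceq_maximal {L : X.Modules} (hL : CohB1.IsAmple L) {d : ℕ} {E : X.Modules}
    (hE : Coh.IsCoh E) (hp : ShStab.IsPure X E d) {F : X.Modules} (ι : F ⟶ E) [Mono ι]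
    (hF : Coh.IsCoh F) (hF0 : ¬ IsZero F) :
    ∃ (T : X.Modules) (τ : T ⟶ E) (j : F ⟶ T), Mono τ ∧ Coh.IsCoh T ∧ ¬ IsZero T ∧ j ≫ τ = ι ∧
      RedLE d (pol k X L F) (pol k X L T) ∧
      ∀ (T' : X.Modules) (τ' : T' ⟶ E), Mono τ' → Coh.IsCoh T' → ∀ j' : T ⟶ T', j' ≫ τ' = τ →
        RedLE d (pol k X L T) (pol k X L T') → IsIso j' := by
  haveI := Groth.Agent.Lib.Lead.CurveEuler.isNoetherian k X
  let P : ∀ (T : X.Modules), (T ⟶ E) → Prop := fun T τ =>
    (∃ j : F ⟶ T, j ≫ τ = ι) ∧ RedLE d (pol k X L F) (pol k X L T)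
  have hP : ∀ (T T' : X.Modules) (τ : T ⟶ E) (τ' : T' ⟶ E) (e : T ≅ T'), e.hom ≫ τ' = τ →
      P T τ → P T' τ' := by
    intro T T' τ τ' e he ⟨⟨j, hj⟩, h2⟩
    refine ⟨⟨j ≫ e.hom, by rw [Category.assoc, he, hj]⟩, ?_⟩
    by_cases hex : ∃ Q : ℚ[X], ShStab.IsHilbPoly k X L T Q
    · rw [← pol_eq_of_iso k X e hex]; exact h2
    · have hex' : ¬ ∃ Q : ℚ[X], ShStab.IsHilbPoly k X L T' Q := by
        rintro ⟨Q, hQ⟩
        exact hex ⟨Q, isHilbPoly_of_iso k X e.symm hQ⟩
      have e1 : pol k X L T = 0 := by unfold pol; rw [dif_neg hex]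
      have e2 : pol k X L T' = 0 := by unfold pol; rw [dif_neg hex']
      rw [e2, ← e1]; exact h2
  have hne : ∃ (T : X.Modules) (τ : T ⟶ E), Mono τ ∧ Coh.IsCoh T ∧ P T τ :=
    ⟨F, ι, inferInstance, hF, ⟨𝟙 F, Category.id_comp _⟩, redLE_refl d _⟩
  obtain ⟨T, τ, hτ, hTc, ⟨⟨j, hj⟩, hle⟩, hmax⟩ := exists_maximal_sub E hE P hP hne
  haveI := hτ
  haveI : Mono j := by
    haveI : Mono (j ≫ τ) := by rw [hj]; infer_instance
    exact mono_of_mono j τ
  have hT0 : ¬ IsZero T := fun h => hF0 (isZero_of_mono_of_isZero j h)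
  refine ⟨T, τ, j, hτ, hTc, hT0, hj, hle, ?_⟩
  intro T' τ' hτ' hT'c j' hj' hle'
  haveI := hτ'
  haveI : Mono j' := by
    haveI : Mono (j' ≫ τ') := by rw [hj']; infer_instance
    exact mono_of_mono j' τ'
  have hT'0 : ¬ IsZero T' := fun h => hT0 (isZero_of_mono_of_isZero j' h)
  refine hmax T' τ' hτ' hT'c ⟨⟨j ≫ j', by rw [Category.assoc, hj', hj]⟩, ?_⟩ j' hj'
  obtain ⟨-, aF⟩ := sub_facts k hL hp ι hF hF0
  obtain ⟨-, aT⟩ := sub_facts k hL hp τ hTc hT0
  obtain ⟨-, aT'⟩ := sub_facts k hL hp τ' hT'c hT'0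
  exact redLE_trans aF.le aT aT'.le hle hle'

end Groth.Agent.Lib.Lead.HilbPos
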