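import Mathlib
import Groth.Agent.Lib.Lead.HilbPos20

/-!
# Existence of the maximal destabilizing submodule (lead)

`X` proper over a field `k`, `L` ample, `E` coherent, nonzero, pure of dimension `d`.

* `Maxl`: `≼`-maximal nonzero coherent submodules.
* `exists_maxl_min`: a `≼`-maximal submodule of minimal multiplicity.
* `inter_gt`: if `F` is `≼`-maximal, `p(F) ≤ p(G)` and `G ⊄ F`, then `p(F ∩ G) > p(G)`.
* `exists_isMaxDestab`.
-/

set_option autoImplicit false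
set_option linter.unusedSectionVars false
set_option linter.style.haveILetI false
set_option backward.isDefEq.respectTransparency false
universe u

open CategoryTheory CategoryTheory.Limits AlgebraicGeometry Polynomial TopologicalSpace Topology
  Opposite

namespace Groth.Agent.Lib.Lead.HilbPos

open StabCat Scheme.Modules

variable (k : Type u) [Field k] {X : Scheme.{u}} [X.Over (Spec (CommRingCat.of k))]
  [IsProper (X ↘ Spec (CommRingCat.of k))]

/-- `≼`-maximal nonzero coherent submodule of `E` -/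
def Maxl (L : X.Modules) (d : ℕ) (E F : X.Modules) (ι : F ⟶ E) : Prop :=
  Mono ι ∧ Coh.IsCoh F ∧ ¬ IsZero F ∧
    ∀ (T' : X.Modules) (τ' : T' ⟶ E), Mono τ' → Coh.IsCoh T' → ∀ j' : F ⟶ T', j' ≫ τ' = ι →
      RedLE d (pol k X L F) (pol k X L T') → IsIso j'

variable {L : X.Modules} (hL : CohB1.IsAmple L) {d : ℕ} {E : X.Modules} (hE : Coh.IsCoh E)
  (hp : ShStab.IsPure X E d)

include hL hE hp in
theorem exists_maxl_above {F : X.Modules} (ι : F ⟶ E) [Mono ι] (hF : Coh.IsCoh F)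
    (hF0 : ¬ IsZero F) :
    ∃ (T : X.Modules) (τ : T ⟶ E) (j : F ⟶ T), Maxl k L d E T τ ∧ j ≫ τ = ι ∧
      RedLE d (pol k X L F) (pol k X L T) := by
  obtain ⟨T, τ, j, hτ, hTc, hT0, hj, hle, hmax⟩ := exists_preceq_maximal k hL hE hp ι hF hF0
  exact ⟨T, τ, j, ⟨hτ, hTc, hT0, hmax⟩, hj, hle⟩

include hL hE hp in
theorem alpha_nat {F : X.Modules} (ι : F ⟶ E) [Mono ι] (hF : Coh.IsCoh F) (hF0 : ¬ IsZero F) :
    ∃ n : ℕ, alpha d (pol k X L F) = n := by
  obtain ⟨hpF, aF⟩ := sub_facts k hL hp ι hF hF0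
  obtain ⟨z, hz⟩ := alpha_int k X hL.1 hF d (dim_support_le_of_mono_pure hp ι hF) hpF
  have hz0 : 0 ≤ z := by
    have : (0 : ℚ) < z := by rw [← hz]; exact aF
    exact_mod_cast this.le
  refine ⟨z.toNat, ?_⟩
  rw [hz]
  have : ((z.toNat : ℤ) : ℚ) = (z : ℚ) := by rw [Int.toNat_of_nonneg hz0]
  rw [← this]; push_cast; rfl

include hL hE hp in
theorem exists_maxl_min (h0 : ¬ IsZero E) :
    ∃ (F : X.Modules) (ι : F ⟶ E), Maxl k L d E F ι ∧
      ∀ (F' : X.Modules) (ι' : F' ⟶ E), Maxl k L d E F' ι' →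
        alpha d (pol k X L F) ≤ alpha d (pol k X L F') := by
  classical
  let S : Set ℕ := {n | ∃ (F : X.Modules) (ι : F ⟶ E), Maxl k L d E F ι ∧
    alpha d (pol k X L F) = n}
  have hne : S.Nonempty := by
    obtain ⟨T, τ, j, hT, -, -⟩ := exists_maxl_above k hL hE hp (𝟙 E) hE h0
    haveI := hT.1
    obtain ⟨n, hn⟩ := alpha_nat k hL hE hp τ hT.2.1 hT.2.2.1
    exact ⟨n, T, τ, hT, hn⟩
  obtain ⟨F, ι, hF, hn⟩ := Nat.sInf_mem hne
  refine ⟨F, ι, hF, fun F' ι' hF' => ?_⟩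
  haveI := hF'.1
  obtain ⟨n', hn'⟩ := alpha_nat k hL hE hp ι' hF'.2.1 hF'.2.2.1
  have hmem : n' ∈ S := ⟨F', ι', hF', hn'⟩
  have := Nat.sInf_le hmem
  rw [hn, hn']
  exact_mod_cast this

include hL hE hp in
/-- if `F` is `≼`-maximal, `p(F) ≤ p(G)` and `G ⊄ F`, then `F ∩ G ≠ 0` and `p(F ∩ G) > p(G)` -/
theorem inter_gt {F : X.Modules} {ι : F ⟶ E} (hF : Maxl k L d E F ι) {G : X.Modules} (κ : G ⟶ E)
    [Mono κ] (hG : Coh.IsCoh G) (hG0 : ¬ IsZero G)
    (hle : RedLE d (pol k X L F) (pol k X L G)) (hni : ¬ ∃ φ : G ⟶ F, φ ≫ ι = κ) :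
    Coh.IsCoh (interObj ι κ) ∧ ¬ IsZero (interObj ι κ) ∧
      RedLT d (pol k X L G) (pol k X L (interObj ι κ)) := by
  haveI := Groth.Agent.Lib.Lead.CurveEuler.isNoetherian k X
  haveI := hF.1
  have hFc := hF.2.1
  have hF0 := hF.2.2.1
  obtain ⟨hpF, aF⟩ := sub_facts k hL hp ι hFc hF0
  obtain ⟨hpG, aG⟩ := sub_facts k hL hp κ hG hG0
  -- `F ⊞ G`
  have hsplit := (ShortComplex.Splitting.ofHasBinaryBiproduct F G).shortExact
  have hBc : Coh.IsCoh (F ⊞ G) := isCoh_of_extension _ hsplit hFc hG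
  have hpB : ShStab.IsHilbPoly k X L (F ⊞ G) (pol k X L F + pol k X L G) :=
    isHilbPoly_add k X hL.1 _ hsplit hFc hG hpF hpG
  have hKc : Coh.IsCoh (interObj ι κ) := isCoh_kernel k X hBc hE (diffMap ι κ)
  have hIc : Coh.IsCoh (sumObj ι κ) := isCoh_image k X hBc hE (diffMap ι κ)
  have hI0 : ¬ IsZero (sumObj ι κ) := fun h => hF0 (isZero_of_mono_of_isZero (fToSum ι κ) h)
  obtain ⟨hpI, aI⟩ := sub_facts k hL hp (sumι ι κ) hIc hI0
  haveI : Mono (interToF ι κ ≫ ι) := mono_comp _ _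
  have hpK : ShStab.IsHilbPoly k X L (interObj ι κ) (pol k X L (interObj ι κ)) :=
    isHilbPoly_pol k X (exists_isHilbPoly_of_mono_pure k X hL.1 hp (interToF ι κ ≫ ι) hKc)
  have hsum : pol k X L (interObj ι κ) + pol k X L (sumObj ι κ) = pol k X L F + pol k X L G :=
    isHilbPoly_unique k X
      (isHilbPoly_add k X hL.1 _ (shortExact_inter_sum ι κ) hKc hIc hpK hpI) hpB
  -- `F ⟶ F + G` is not an isomorphism
  have hniso : ¬ IsIso (fToSum ι κ) := by
    intro h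
    haveI := h
    exact hni (incl_of_isIso_fToSum ι κ)
  have hlt : RedLT d (pol k X L (sumObj ι κ)) (pol k X L F) := by
    rcases redLE_or_redLT d (pol k X L F) (pol k X L (sumObj ι κ)) with h | h
    · exact absurd (hF.2.2.2 _ (sumι ι κ) inferInstance hIc (fToSum ι κ) (fToSum_ι ι κ) h) hniso
    · exact h
  have hαFI : alpha d (pol k X L F) ≤ alpha d (pol k X L (sumObj ι κ)) :=
    alpha_le_of_mono k hL (fToSum ι κ) hFc hIc (dim_support_le_of_mono_pure hp (sumι ι κ) hIc)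
      hpF hpI
  have hαK : alpha d (pol k X L (interObj ι κ)) ≤ alpha d (pol k X L G) := by
    have := congrArg (alpha d) hsum
    rw [alpha_add, alpha_add] at this
    linarith
  have hkey := key_ineq hsum aF aG hαK hlt hle
  refine ⟨hKc, fun hK0 => ?_, hkey⟩
  have : pol k X L (interObj ι κ) = 0 := pol_eq k X (isHilbPoly_zero_of_isZero k X hK0)
  rw [this] at hkey
  obtain ⟨N, hN⟩ := hkey
  have := hN N le_rfl
  simp [alpha_zero] at this

include hL hE hp in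
/-- existence of the maximal destabilizing submodule -/
theorem exists_isMaxDestab (h0 : ¬ IsZero E) :
    ∃ (F : X.Modules) (ι : F ⟶ E), ShStab.IsMaxDestab k X L E d F ι := by
  haveI := Groth.Agent.Lib.Lead.CurveEuler.isNoetherian k X
  obtain ⟨F, ι, hFm, hmin⟩ := exists_maxl_min k hL hE hp h0
  haveI := hFm.1
  have hFc := hFm.2.1
  have hF0 := hFm.2.2.1
  have hFp : ShStab.IsPure X F d := isPure_of_mono hp ι
  obtain ⟨hpF, aF⟩ := sub_facts k hL hp ι hFc hF0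
  -- submodules of `F` do not have bigger reduced polynomial
  have sub2 : ∀ (G₀ : X.Modules) (κ₀ : G₀ ⟶ F), Mono κ₀ → Coh.IsCoh G₀ → ¬ IsZero G₀ →
      ¬ RedLT d (pol k X L F) (pol k X L G₀) := by
    intro G₀ κ₀ hκ₀ hG₀c hG₀0 hlt
    haveI := hκ₀
    obtain ⟨G₁, ι₁, j₀, hι₁, hG₁c, hG₁0, hj₀, hle₀, maxF⟩ :=
      exists_preceq_maximal k hL hFc hFp κ₀ hG₀c hG₀0
    haveI := hι₁
    obtain ⟨hpG₀, aG₀⟩ := sub_facts k hL hFp κ₀ hG₀c hG₀0
    obtain ⟨hpG₁, aG₁⟩ := sub_facts k hL hFp ι₁ hG₁c hG₁0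
    have hlt₁ : RedLT d (pol k X L F) (pol k X L G₁) :=
      redLT_of_redLT_of_redLE aF.le aG₀ aG₁ hlt hle₀
    haveI : Mono (ι₁ ≫ ι) := mono_comp _ _
    obtain ⟨G', ι', j', hG'm, hj', hle'⟩ := exists_maxl_above k hL hE hp (ι₁ ≫ ι) hG₁c hG₁0
    haveI := hG'm.1
    have hG'c := hG'm.2.1
    have hG'0 := hG'm.2.2.1
    obtain ⟨hpG', aG'⟩ := sub_facts k hL hp ι' hG'c hG'0
    have hlt' : RedLT d (pol k X L F) (pol k X L G') :=
      redLT_of_redLT_of_redLE aF.le aG₁ aG' hlt₁ hle'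
    by_cases hin : ∃ φ : G' ⟶ F, φ ≫ ι = ι'
    · obtain ⟨φ, hφ⟩ := hin
      haveI : Mono φ := by
        haveI : Mono (φ ≫ ι) := by rw [hφ]; infer_instance
        exact mono_of_mono φ ι
      have hjφ : j' ≫ φ = ι₁ := by
        rw [← cancel_mono ι, Category.assoc, hφ, hj']
      haveI : IsIso j' := maxF G' φ inferInstance hG'c j' hjφ hle'
      have hpeq : pol k X L G₁ = pol k X L G' := pol_eq_of_iso k X (asIso j') ⟨_, hpG₁⟩
      have h1 : alpha d (pol k X L F) ≤ alpha d (pol k X L G₁) := by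
        rw [hpeq]; exact hmin G' ι' hG'm
      have h2 : alpha d (pol k X L G₁) ≤ alpha d (pol k X L F) :=
        alpha_le_of_mono k hL ι₁ hG₁c hFc (dim_support_le_of_mono_pure hp ι hFc) hpG₁ hpF
      have hαeq : alpha d (pol k X L G₁) = alpha d (pol k X L F) := le_antisymm h2 h1
      have hCc : Coh.IsCoh (cokernel ι₁) :=
        Groth.Agent.Lib.helper7.CohKer.isCoh_cokernel hG₁c hFc ι₁
      have hpC := isHilbPoly_sub₃ k X hL.1 _
        (Groth.Agent.Lib.helper8.Dev.shortExact_cokernel ι₁) hG₁c hCc hpG₁ hpF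
      have aC : alpha d (pol k X L F - pol k X L G₁) = 0 := by rw [alpha_sub, hαeq, sub_self]
      have hle₁ : RedLE d (pol k X L G₁) (pol k X L G₁ + (pol k X L F - pol k X L G₁)) :=
        redLE_add_of_alpha_zero aG₁.le aC (evNonneg_of_isHilbPoly k X hL hCc hpC)
      have e : pol k X L G₁ + (pol k X L F - pol k X L G₁) = pol k X L F := by ring
      rw [e] at hle₁
      exact not_redLT_of_redLE hlt₁ hle₁
    · obtain ⟨hKc, hK0, hltK⟩ := inter_gt k hL hE hp hFm ι' hG'c hG'0 (redLE_of_redLT hlt') hin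
      have hcomm : ι₁ ≫ ι = j' ≫ ι' := hj'.symm
      let c : G₁ ⟶ interObj ι ι' := interLift ι ι' ι₁ j' hcomm
      have hc : c ≫ interToF ι ι' = ι₁ := interLift_toF ι ι' ι₁ j' hcomm
      obtain ⟨hpK, aK⟩ := sub_facts k hL hFp (interToF ι ι') hKc hK0
      have hltG₁K : RedLT d (pol k X L G₁) (pol k X L (interObj ι ι')) :=
        redLT_of_redLE_of_redLT aG₁ aG' aK.le hle' hltK
      haveI : IsIso c := maxF _ (interToF ι ι') inferInstance hKc c hc (redLE_of_redLT hltG₁K)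
      have hpeq : pol k X L G₁ = pol k X L (interObj ι ι') :=
        pol_eq_of_iso k X (asIso c) ⟨_, hpG₁⟩
      rw [hpeq] at hltG₁K
      exact not_redLT_self d _ hltG₁K
  -- the main claim
  have claim : ∀ (G : X.Modules) (κ : G ⟶ E), Mono κ → Coh.IsCoh G → ¬ IsZero G →
      RedLE d (pol k X L F) (pol k X L G) →
      (∃ φ : G ⟶ F, φ ≫ ι = κ) ∧ RedEq d (pol k X L G) (pol k X L F) := by
    intro G κ hκ hGc hG0 hle
    haveI := hκ
    obtain ⟨hpG, aG⟩ := sub_facts k hL hp κ hGc hG0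
    by_cases hin : ∃ φ : G ⟶ F, φ ≫ ι = κ
    · obtain ⟨φ, hφ⟩ := hin
      haveI : Mono φ := by
        haveI : Mono (φ ≫ ι) := by rw [hφ]; infer_instance
        exact mono_of_mono φ ι
      have := sub2 G φ inferInstance hGc hG0
      exact ⟨⟨φ, hφ⟩, redEq_symm (redEq_of_redLE_of_not_redLT hle this)⟩
    · exfalso
      obtain ⟨hKc, hK0, hltK⟩ := inter_gt k hL hE hp hFm κ hGc hG0 hle hin
      obtain ⟨hpK, aK⟩ := sub_facts k hL hFp (interToF ι κ) hKc hK0
      exact sub2 _ (interToF ι κ) inferInstance hKc hK0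
        (redLT_of_redLE_of_redLT aF aG aK.le hle hltK)
  refine ⟨F, ι, hFm.1, hFc, hF0, fun G κ hκ hGc hG0 pF' pG hpF' hpG => ?_⟩
  have e1 : pF' = pol k X L F := (pol_eq k X hpF').symm
  have e2 : pG = pol k X L G := (pol_eq k X hpG).symm
  subst e1 e2
  rcases redLE_or_redLT d (pol k X L F) (pol k X L G) with h | h
  · obtain ⟨hφ, hred⟩ := claim G κ hκ hGc hG0 h
    exact ⟨redLE_of_redEq hred, fun _ => hφ⟩
  · exact ⟨redLE_of_redLT h, fun hred => (not_redLT_of_redEq h hred).elim⟩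

end Groth.Agent.Lib.Lead.HilbPos
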