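import Mathlib
import Groth.Agent.Lib.Lead.HilbPos21

/-!
# Subobject quotients, preimage subobjects; properties of the maximal destabilizing submodule (lead)

* `quotMap G G'' h : G''/G ⟶ E/G` (a monomorphism) for subobjects `G ≤ G''` of `E`.
* `preimSub π μ`: the preimage of `μ : M ↪ Q'` under `π : E ⟶ Q'` as a subobject of `E`;
  `le_preimSub`, `cokernelPreimSubIso : (π⁻¹M)/G ≅ M`, `le_preimSub_of_factors`,
  `not_preimSub_le`, `cokernelPreimSubArrowIso : E/(π⁻¹M) ≅ Q'/M`.
* `isSemistable_of_isMaxDestab`, `isPure_cokernel_of_isMaxDestab`.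
-/

set_option autoImplicit false
set_option linter.unusedSectionVars false
set_option linter.style.haveILetI false
set_option backward.isDefEq.respectTransparency false
universe u

open CategoryTheory CategoryTheory.Limits AlgebraicGeometry Polynomial TopologicalSpace Topology
  Opposite

namespace Groth.Agent.Lib.Lead.HilbPos

open StabCat Scheme.Modules

section Abelian

variable {C : Type*} [Category C] [Abelian C] {E : C}

/-- `G''/G ⟶ E/G` -/
noncomputable def quotMap (G G'' : Subobject E) (h : G ≤ G'') :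
    cokernel (Subobject.ofLE G G'' h) ⟶ cokernel G.arrow :=
  cokernel.desc _ (G''.arrow ≫ cokernel.π G.arrow) (by
    rw [← Category.assoc, Subobject.ofLE_arrow, cokernel.condition])

theorem π_quotMap (G G'' : Subobject E) (h : G ≤ G'') :
    cokernel.π _ ≫ quotMap G G'' h = G''.arrow ≫ cokernel.π G.arrow :=
  cokernel.π_desc _ _ _

instance mono_quotMap (G G'' : Subobject E) (h : G ≤ G'') : Mono (quotMap G G'' h) := by
  have hz : Subobject.ofLE G G'' h ≫ G''.arrow ≫ cokernel.π G.arrow = 0 := by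
    rw [← Category.assoc, Subobject.ofLE_arrow, cokernel.condition]
  let S : ShortComplex C := ShortComplex.mk (Subobject.ofLE G G'' h)
    (G''.arrow ≫ cokernel.π G.arrow) hz
  have hk : IsLimit (KernelFork.ofι S.f S.zero) := by
    refine KernelFork.IsLimit.ofι _ _
      (fun {A} a ha => Abelian.monoLift G.arrow (a ≫ G''.arrow) (by
        rw [Category.assoc]; exact ha))
      (fun {A} a ha => ?_) (fun {A} a ha b hb => ?_)
    · rw [← cancel_mono G''.arrow, Category.assoc]
      show _ ≫ Subobject.ofLE G G'' h ≫ G''.arrow = _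
      rw [Subobject.ofLE_arrow, Abelian.monoLift_comp]
    · rw [← cancel_mono (Subobject.ofLE G G'' h)]
      rw [← cancel_mono G''.arrow, Category.assoc, Category.assoc, Subobject.ofLE_arrow,
        Abelian.monoLift_comp]
      rw [← hb, Category.assoc]
      show _ = b ≫ Subobject.ofLE G G'' h ≫ G''.arrow
      rw [Subobject.ofLE_arrow]
  exact (ShortComplex.exact_of_f_is_kernel S hk).mono_cokernelDesc

variable {Q' M : C}

/-- the preimage of `μ : M ↪ Q'` under `π : E ⟶ Q'`, as a subobject of `E` -/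
noncomputable def preimSub (π : E ⟶ Q') (μ : M ⟶ Q') : Subobject E := Subobject.mk (preimι π μ)

/-- `π⁻¹ M ≅ preim π μ` -/
noncomputable def preimSubIso (π : E ⟶ Q') (μ : M ⟶ Q') :
    ((preimSub π μ : Subobject E) : C) ≅ preim π μ := Subobject.underlyingIso (preimι π μ)

theorem preimSubIso_hom_ι (π : E ⟶ Q') (μ : M ⟶ Q') :
    (preimSubIso π μ).hom ≫ preimι π μ = (preimSub π μ).arrow :=
  Subobject.underlyingIso_hom_comp_eq_mk (preimι π μ)

variable (G : Subobject E) (μ : M ⟶ cokernel G.arrow) [Mono μ]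

/-- `G ⟶ π⁻¹ M` -/
noncomputable def toPreim : (G : C) ⟶ preim (cokernel.π G.arrow) μ :=
  (isoKernelCokernel G.arrow).hom ≫ kerToPreim (cokernel.π G.arrow) μ

theorem toPreim_ι : toPreim G μ ≫ preimι (cokernel.π G.arrow) μ = G.arrow := by
  unfold toPreim
  rw [Category.assoc, kerToPreim_ι, isoKernelCokernel_hom_ι]

theorem toPreim_to : toPreim G μ ≫ preimTo (cokernel.π G.arrow) μ = 0 := by
  unfold toPreim
  rw [Category.assoc, kerToPreim_to, Limits.comp_zero]

theorem shortExact_toPreim :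
    (ShortComplex.mk (toPreim G μ) (preimTo (cokernel.π G.arrow) μ) (toPreim_to G μ)).ShortExact := by
  have h1 := shortExact_preim (cokernel.π G.arrow) μ
  let e : ShortComplex.mk (toPreim G μ) (preimTo (cokernel.π G.arrow) μ) (toPreim_to G μ) ≅
      ShortComplex.mk (kerToPreim (cokernel.π G.arrow) μ) (preimTo (cokernel.π G.arrow) μ)
        (kerToPreim_to (cokernel.π G.arrow) μ) :=
    ShortComplex.isoMk (isoKernelCokernel G.arrow) (Iso.refl _) (Iso.refl _)
      (by simp [toPreim]) (by simp)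
  exact ShortComplex.shortExact_of_iso e.symm h1

theorem le_preimSub : G ≤ preimSub (cokernel.π G.arrow) μ :=
  Subobject.le_mk_of_comm (toPreim G μ) (toPreim_ι G μ)

theorem ofLE_preimSubIso :
    Subobject.ofLE G _ (le_preimSub G μ) ≫ (preimSubIso (cokernel.π G.arrow) μ).hom =
      toPreim G μ := by
  rw [← cancel_mono (preimι (cokernel.π G.arrow) μ), Category.assoc, preimSubIso_hom_ι,
    Subobject.ofLE_arrow, toPreim_ι]

/-- `(π⁻¹ M)/G ≅ M` -/
noncomputable def cokernelPreimSubIso :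
    cokernel (Subobject.ofLE G _ (le_preimSub G μ)) ≅ M :=
  (cokernelCompIsIso (Subobject.ofLE G _ (le_preimSub G μ))
      (preimSubIso (cokernel.π G.arrow) μ).hom).symm ≪≫
    cokernelIsoOfEq (ofLE_preimSubIso G μ) ≪≫
    IsColimit.coconePointUniqueUpToIso (colimit.isColimit _) (shortExact_toPreim G μ).gIsCokernel

/-- a subobject whose image in `E/G` lies in `M` is contained in `π⁻¹ M` -/
theorem le_preimSub_of_factors (G'' : Subobject E) {N : C} (p : (G'' : C) ⟶ N) (φ : N ⟶ M)
    (ν : N ⟶ cokernel G.arrow) (hν : p ≫ ν = G''.arrow ≫ cokernel.π G.arrow) (hφ : φ ≫ μ = ν) :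
    G'' ≤ preimSub (cokernel.π G.arrow) μ := by
  refine Subobject.le_mk_of_comm
    (preimLift (cokernel.π G.arrow) μ G''.arrow (p ≫ φ) ?_) (preimLift_ι _ _ _ _ _)
  rw [Category.assoc, hφ, hν]

/-- if `M ≠ 0` then `π⁻¹ M ≰ G` -/
theorem not_preimSub_le (hM : ¬ IsZero M) : ¬ preimSub (cokernel.π G.arrow) μ ≤ G := by
  intro hle
  apply hM
  have h1 : Subobject.ofMkLE (preimι (cokernel.π G.arrow) μ) G hle ≫ G.arrow =
      preimι (cokernel.π G.arrow) μ := Subobject.ofMkLE_arrow hle
  have h2 : preimι (cokernel.π G.arrow) μ ≫ cokernel.π G.arrow = 0 := by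
    rw [← h1, Category.assoc, cokernel.condition, Limits.comp_zero]
  have h3 : preimTo (cokernel.π G.arrow) μ = 0 := by
    rw [← cancel_mono μ, preimTo_comp, h2, Limits.zero_comp]
  exact isZero_of_epi_zero _ h3

/-- `E/(π⁻¹ M) ≅ (E/G)/M` -/
noncomputable def cokernelPreimSubArrowIso :
    cokernel (preimSub (cokernel.π G.arrow) μ).arrow ≅ cokernel μ :=
  haveI : Epi (cokernel.π G.arrow ≫ cokernel.π μ) := epi_comp _ _
  cokernelIsoOfEq (preimSubIso_hom_ι (cokernel.π G.arrow) μ).symm ≪≫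
    cokernelEpiComp _ _ ≪≫ cokernelKernelIso (cokernel.π G.arrow ≫ cokernel.π μ)

end Abelian

variable (k : Type u) [Field k] {X : Scheme.{u}} [X.Over (Spec (CommRingCat.of k))]
  [IsProper (X ↘ Spec (CommRingCat.of k))]

variable {L : X.Modules} (hL : CohB1.IsAmple L) {d : ℕ} {Q : X.Modules} (hQ : Coh.IsCoh Q)
  (hQ0 : ¬ IsZero Q) (hp : ShStab.IsPure X Q d) {M : X.Modules} {μ : M ⟶ Q}
  (hM : ShStab.IsMaxDestab k X L Q d M μ)

include hL hQ hp hM in
theorem isSemistable_of_isMaxDestab : ShStab.IsSemistable k X L M d := by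
  haveI := hM.1
  refine ⟨hM.2.1, hM.2.2.1, isPure_of_mono hp μ, ?_⟩
  intro N ν hν hN hN0 _ pN pM hpN hpM
  haveI := hν
  exact (hM.2.2.2 N (ν ≫ μ) (mono_comp _ _) hN hN0 pM pN hpM hpN).1

include hL hQ hQ0 hp hM in
/-- the quotient by the maximal destabilizing submodule is pure -/
theorem isPure_cokernel_of_isMaxDestab : ShStab.IsPure X (cokernel μ) d := by
  haveI := Groth.Agent.Lib.Lead.CurveEuler.isNoetherian k X
  haveI := hM.1
  have hMc := hM.2.1
  have hM0 := hM.2.2.1
  obtain ⟨M', μ', j, T, q, w, hμ', hM'c, hj, hTc, hTd, hSE, hpure⟩ :=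
    exists_saturation k X hQ hQ0 hp μ hMc
  haveI := hμ'
  haveI : Mono j := by
    haveI : Mono (j ≫ μ') := by rw [hj]; infer_instance
    exact mono_of_mono j μ'
  have hM'0 : ¬ IsZero M' := fun hz => hM0 (isZero_of_mono_of_isZero j hz)
  obtain ⟨hpM, aM⟩ := sub_facts k hL hp μ hMc hM0
  obtain ⟨hpM', aM'⟩ := sub_facts k hL hp μ' hM'c hM'0
  obtain ⟨h1, -, -⟩ := redLE_of_small_quotient k hL _ hSE hMc hTc hTd hpM hpM' aM.le
  obtain ⟨h2, h3⟩ := hM.2.2.2 M' μ' hμ' hM'c hM'0 _ _ hpM hpM'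
  obtain ⟨φ, hφ⟩ := h3 (redEq_of_redLE_of_redLE h2 h1)
  -- `j` is an isomorphism with inverse `φ`
  have hjφ : j ≫ φ = 𝟙 M := by
    rw [← cancel_mono μ, Category.assoc, hφ, hj, Category.id_comp]
  have hφj : φ ≫ j = 𝟙 M' := by
    rw [← cancel_mono μ', Category.assoc, hj, hφ, Category.id_comp]
  let e : M ≅ M' := ⟨j, φ, hjφ, hφj⟩
  have he : e.hom ≫ μ' = μ := hj
  haveI : IsIso e.hom := e.isIso_hom
  haveI : Epi e.hom := inferInstance
  let eQ : cokernel μ ≅ cokernel μ' := cokernelIsoOfEq he.symm ≪≫ cokernelEpiComp e.hom μ'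
  exact isPure_of_iso eQ.symm hpure

end Groth.Agent.Lib.Lead.HilbPos
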