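import Mathlib
import Groth.Agent.Lib.Lead.HilbPos22

/-!
# Existence of Harder–Narasimhan filtrations (lead)

`X` proper over a field `k`, `L` ample, `E` coherent, nonzero, pure of dimension `d`.
The filtration is built from the bottom: `G_{i+1}` is the preimage in `E` of the maximal
destabilizing submodule of `E/G_i`.

* `factorSnocCastSucc`, `factorSnocLast`: factors of `s.snoc G h`.
* `redLT_of_sum`: `p(M + R) < p(M)` implies `p(R) < p(M)`.
* `HNInv`: the invariant; `hnInv_step`; `exists_isHNFiltration`.
-/

set_option autoImplicit false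
set_option linter.unusedSectionVars false
set_option linter.style.haveILetI false
set_option backward.isDefEq.respectTransparency false
universe u

open CategoryTheory CategoryTheory.Limits AlgebraicGeometry Polynomial TopologicalSpace Topology
  Opposite

namespace Groth.Agent.Lib.Lead.HilbPos

open StabCat Scheme.Modules

section Abelian

variable {C : Type*} [Category C] [Abelian C] {E : C}

noncomputable def factorSnocCastSucc (s : LTSeries (Subobject E)) (G : Subobject E)
    (h : s.last < G) (j : Fin s.length) :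
    factor (s.snoc G h) (Fin.castSucc j) ≅ factor s j :=
  factorIso (s.snoc G h) (Fin.castSucc j) (A := s j.castSucc) (B := s j.succ)
    (by rw [RelSeries.snoc_castSucc])
    (by rw [← Fin.castSucc_succ, RelSeries.snoc_castSucc]) (le_of_lt (s.step j))

noncomputable def factorSnocLast (s : LTSeries (Subobject E)) (G : Subobject E)
    (h : s.last < G) :
    factor (s.snoc G h) (Fin.last s.length) ≅ cokernel (Subobject.ofLE s.last G h.le) :=
  factorIso (s.snoc G h) (Fin.last s.length) (A := s.last) (B := G)
    (by rw [RelSeries.snoc_castSucc]; rfl)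
    (by rw [Fin.succ_last]; exact RelSeries.last_snoc' _ _ _) h.le

/-- if `G''/G = 0` then `G'' ≤ G` -/
theorem le_of_isZero_cokernel_ofLE {G G'' : Subobject E} (h : G ≤ G'')
    (hz : IsZero (cokernel (Subobject.ofLE G G'' h))) : G'' ≤ G := by
  haveI : Epi (Subobject.ofLE G G'' h) := Preadditive.epi_of_isZero_cokernel _ hz
  haveI : IsIso (Subobject.ofLE G G'' h) := isIso_of_mono_of_epi _
  refine Subobject.le_of_comm (inv (Subobject.ofLE G G'' h)) ?_
  rw [IsIso.inv_comp_eq, Subobject.ofLE_arrow]

noncomputable def cokernelBotArrowIso : cokernel (⊥ : Subobject E).arrow ≅ E :=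
  cokernelIsoOfEq Subobject.bot_arrow ≪≫ cokernelZeroIsoTarget

end Abelian

section Poly

theorem redLT_of_sum {d : ℕ} {M R : ℚ[X]} (h : RedLT d (M + R) M) : RedLT d R M := by
  obtain ⟨N, hN⟩ := h
  refine ⟨N, fun m hm => ?_⟩
  have a := hN m hm
  simp only [eval_smul, smul_eq_mul, alpha_add, eval_add] at a ⊢
  nlinarith

end Poly

variable (k : Type u) [Field k] {X : Scheme.{u}} [X.Over (Spec (CommRingCat.of k))]
  [IsProper (X ↘ Spec (CommRingCat.of k))]

/-- the Hilbert polynomial of the underlying module of a subobject -/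
noncomputable abbrev spol (L : X.Modules) {E : X.Modules} (G : Subobject E) : ℚ[X] :=
  pol k X L ((G : Subobject E) : X.Modules)

/-- the invariant of the construction of the Harder–Narasimhan filtration -/
def HNInv (L : X.Modules) (d : ℕ) (E : X.Modules) (G : Subobject E) : Prop :=
  ∃ s : LTSeries (Subobject E), s.head = ⊥ ∧ s.last = G ∧
    (∀ i : Fin s.length, ShStab.IsSemistable k X L (factor s i) d) ∧
    (∀ (i j : Fin s.length), i.val + 1 = j.val → ∀ (p q : ℚ[X]),
      ShStab.IsHilbPoly k X L (factor s i) p → ShStab.IsHilbPoly k X L (factor s j) q →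
        RedLT d q p) ∧
    (∀ (i : Fin s.length), i.val + 1 = s.length → ∀ p : ℚ[X],
      ShStab.IsHilbPoly k X L (factor s i) p → ∀ G'' : Subobject E, G < G'' →
        Coh.IsCoh ((G'' : Subobject E) : X.Modules) → RedLT d (spol k L G'' - spol k L G) p)

variable {L : X.Modules} (hL : CohB1.IsAmple L) {d : ℕ} {E : X.Modules} (hE : Coh.IsCoh E)
  (hp : ShStab.IsPure X E d)

include hL hp in
theorem isHilbPoly_spol (G : Subobject E) (hG : Coh.IsCoh ((G : Subobject E) : X.Modules)) :
    ShStab.IsHilbPoly k X L ((G : Subobject E) : X.Modules) (spol k L G) :=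
  isHilbPoly_pol k X (exists_isHilbPoly_of_mono_pure k X hL.1 hp G.arrow hG)

include hL hp in
theorem isHilbPoly_quot {G G'' : Subobject E} (h : G ≤ G'')
    (hG : Coh.IsCoh ((G : Subobject E) : X.Modules))
    (hG'' : Coh.IsCoh ((G'' : Subobject E) : X.Modules)) :
    Coh.IsCoh (cokernel (Subobject.ofLE G G'' h)) ∧
      ShStab.IsHilbPoly k X L (cokernel (Subobject.ofLE G G'' h)) (spol k L G'' - spol k L G) := by
  haveI := Groth.Agent.Lib.Lead.CurveEuler.isNoetherian k X
  have hc : Coh.IsCoh (cokernel (Subobject.ofLE G G'' h)) :=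
    Groth.Agent.Lib.helper7.CohKer.isCoh_cokernel hG hG'' _
  exact ⟨hc, isHilbPoly_sub₃ k X hL.1 _
    (Groth.Agent.Lib.helper8.Dev.shortExact_cokernel (Subobject.ofLE G G'' h)) hG hc
    (isHilbPoly_spol k hL hp G hG) (isHilbPoly_spol k hL hp G'' hG'')⟩

include hL hE hp in
/-- one step of the construction -/
theorem hnInv_step (G : Subobject E) (hG : Coh.IsCoh ((G : Subobject E) : X.Modules))
    (hinv : HNInv k L d E G) (hQp : ShStab.IsPure X (cokernel G.arrow) d)
    (hQ0 : ¬ IsZero (cokernel G.arrow)) :
    ∃ G' : Subobject E, Coh.IsCoh ((G' : Subobject E) : X.Modules) ∧ HNInv k L d E G' ∧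
      ShStab.IsPure X (cokernel G'.arrow) d ∧
      alpha d (spol k L G) + 1 ≤ alpha d (spol k L G') := by
  haveI := Groth.Agent.Lib.Lead.CurveEuler.isNoetherian k X
  have hQc : Coh.IsCoh (cokernel G.arrow) :=
    Groth.Agent.Lib.helper7.CohKer.isCoh_cokernel hG hE G.arrow
  obtain ⟨M, μ, hM⟩ := exists_isMaxDestab k hL hQc hQp hQ0
  haveI := hM.1
  have hMc := hM.2.1
  have hM0 := hM.2.2.1
  have hMss : ShStab.IsSemistable k X L M d := isSemistable_of_isMaxDestab k hL hQc hQp hM
  obtain ⟨hpM, aM⟩ := sub_facts k hL hQp μ hMc hM0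
  set π := cokernel.π G.arrow with hπ
  set G' : Subobject E := preimSub π μ with hG'
  have hle : G ≤ G' := le_preimSub G μ
  have hlt : G < G' := lt_of_le_of_ne hle (fun h => not_preimSub_le G μ hM0 (le_of_eq h.symm))
  -- coherence of `G'`
  have hRc : Coh.IsCoh (cokernel μ) := Groth.Agent.Lib.helper7.CohKer.isCoh_cokernel hMc hQc μ
  have hPc : Coh.IsCoh (preim π μ) :=
    Groth.Agent.Lib.helper7.CohKer.isCoh_kernel hE hRc (π ≫ cokernel.π μ)
  have hG'c : Coh.IsCoh ((G' : Subobject E) : X.Modules) :=
    Groth.Agent.Lib.helper7.CohKer.isCoh_of_iso (preimSubIso π μ).symm hPc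
  -- the new factor
  let eM : cokernel (Subobject.ofLE G G' hle) ≅ M := cokernelPreimSubIso G μ
  obtain ⟨hNc, hpN⟩ := isHilbPoly_quot k hL hp hle hG hG'c
  have hpMeq : pol k X L M = spol k L G' - spol k L G :=
    isHilbPoly_unique k X hpM (isHilbPoly_of_iso k X eM hpN)
  -- integrality
  have hα1 : (1 : ℚ) ≤ alpha d (pol k X L M) := by
    obtain ⟨z, hz⟩ := alpha_int k X hL.1 hMc d (dim_support_le_of_mono_pure hQp μ hMc) hpM
    rw [hz] at aM ⊢
    have : (0 : ℤ) < z := by exact_mod_cast aM
    exact_mod_cast this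
  have hαstep : alpha d (spol k L G) + 1 ≤ alpha d (spol k L G') := by
    have := congrArg (alpha d) hpMeq
    rw [alpha_sub] at this
    linarith
  refine ⟨G', hG'c, ?_, isPure_of_iso (cokernelPreimSubArrowIso G μ).symm
    (isPure_cokernel_of_isMaxDestab k hL hQc hQ0 hQp hM), hαstep⟩
  -- the invariant
  obtain ⟨s, hs0, hs1, hsS, hsD, hsT⟩ := hinv
  have hrel : s.last < G' := by rw [hs1]; exact hlt
  -- the last factor of the new chain
  let eLast : factor (s.snoc G' hrel) (Fin.last s.length) ≅ M :=
    factorSnocLast s G' hrel ≪≫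
      (by
        have : s.last = G := hs1
        subst this
        exact eM)
  refine ⟨s.snoc G' hrel, ?_, RelSeries.last_snoc _ _ _, ?_, ?_, ?_⟩
  · rw [RelSeries.head_snoc]; exact hs0
  · -- semistable factors
    intro i
    have key : ∀ i : Fin (s.length + 1),
        ShStab.IsSemistable k X L (factor (s.snoc G' hrel) i) d := by
      intro i
      refine Fin.lastCases ?_ (fun j => ?_) i
      · exact isSemistable_of_iso k eLast.symm hMss
      · exact isSemistable_of_iso k (factorSnocCastSucc s G' hrel j).symm (hsS j)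
    exact key i
  · -- decreasing reduced polynomials
    intro i j
    have key : ∀ (i j : Fin (s.length + 1)), i.val + 1 = j.val → ∀ (p q : ℚ[X]),
        ShStab.IsHilbPoly k X L (factor (s.snoc G' hrel) i) p →
        ShStab.IsHilbPoly k X L (factor (s.snoc G' hrel) j) q → RedLT d q p := by
      intro i j hij p q hp' hq'
      have hi : i.val < s.length := by have := j.2; omega
      obtain ⟨i₀, rfl⟩ : ∃ i₀ : Fin s.length, i = Fin.castSucc i₀ := ⟨⟨i.val, hi⟩, Fin.ext rfl⟩
      have hp₀ : ShStab.IsHilbPoly k X L (factor s i₀) p :=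
        isHilbPoly_of_iso k X (factorSnocCastSucc s G' hrel i₀) hp'
      revert hij q
      refine Fin.lastCases ?_ (fun j₀ => ?_) j
      · intro q hq' hij
        have hq₀ : q = pol k X L M :=
          isHilbPoly_unique k X (isHilbPoly_of_iso k X eLast hq') hpM
        rw [hq₀, hpMeq]
        exact hsT i₀ (by simpa using hij) p hp₀ G' hlt hG'c
      · intro q hq' hij
        exact hsD i₀ j₀ (by simpa using hij) p q hp₀
          (isHilbPoly_of_iso k X (factorSnocCastSucc s G' hrel j₀) hq')
    exact key i j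
  · -- the top condition
    intro i
    have key : ∀ (i : Fin (s.length + 1)), i.val + 1 = s.length + 1 → ∀ p : ℚ[X],
        ShStab.IsHilbPoly k X L (factor (s.snoc G' hrel) i) p → ∀ G'' : Subobject E, G' < G'' →
        Coh.IsCoh ((G'' : Subobject E) : X.Modules) →
        RedLT d (spol k L G'' - spol k L G') p := by
      intro i hi p hp' G'' hG'' hG''c
      obtain rfl : i = Fin.last s.length := Fin.ext (by simpa using hi)
      have hp₀ : p = pol k X L M :=
        isHilbPoly_unique k X (isHilbPoly_of_iso k X eLast hp') hpM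
      rw [hp₀]
      -- the module `N = G''/G ⊆ Q`
      have hle'' : G ≤ G'' := hle.trans hG''.le
      obtain ⟨hN''c, hpN''⟩ := isHilbPoly_quot k hL hp hle'' hG hG''c
      have hN''0 : ¬ IsZero (cokernel (Subobject.ofLE G G'' hle'')) := fun hz =>
        absurd (le_of_isZero_cokernel_ofLE hle'' hz) (not_le_of_gt (lt_of_lt_of_le hlt hG''.le))
      obtain ⟨h1, h2⟩ := hM.2.2.2 _ (quotMap G G'' hle'') inferInstance hN''c hN''0 _ _ hpM hpN''
      have hne : ¬ RedEq d (spol k L G'' - spol k L G) (pol k X L M) := by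
        intro hred
        obtain ⟨φ, hφ⟩ := h2 hred
        have : G'' ≤ G' :=
          le_preimSub_of_factors G μ G'' (cokernel.π _) φ (quotMap G G'' hle'')
            (π_quotMap G G'' hle'') hφ
        exact absurd this (not_le_of_gt hG'')
      have hlt' : RedLT d (spol k L G'' - spol k L G) (pol k X L M) := by
        rcases redLE_or_redLT d (pol k X L M) (spol k L G'' - spol k L G) with h | h
        · exact absurd (redEq_of_redLE_of_redLE h1 h) hne
        · exact h
      have e : spol k L G'' - spol k L G = pol k X L M + (spol k L G'' - spol k L G') := by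
        rw [hpMeq]; ring
      rw [e] at hlt'
      exact redLT_of_sum hlt'
    exact key i

include hL hE hp in
/-- existence of Harder–Narasimhan filtrations -/
theorem exists_isHNFiltration (h0 : ¬ IsZero E) :
    ∃ s : LTSeries (Subobject E), ShStab.IsHNFiltration k X L E d s := by
  haveI := Groth.Agent.Lib.Lead.CurveEuler.isNoetherian k X
  obtain ⟨hpE, aE⟩ := sub_facts k hL hp (𝟙 E) hE h0
  have main : ∀ (n : ℕ) (G : Subobject E), Coh.IsCoh ((G : Subobject E) : X.Modules) →
      HNInv k L d E G → ShStab.IsPure X (cokernel G.arrow) d →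
      alpha d (pol k X L E) - alpha d (spol k L G) ≤ n →
      ∃ s : LTSeries (Subobject E), ShStab.IsHNFiltration k X L E d s := by
    intro n
    induction n with
    | zero =>
      intro G hG hinv hQp hn
      by_cases hQ0 : IsZero (cokernel G.arrow)
      · haveI : Epi G.arrow := Preadditive.epi_of_isZero_cokernel _ hQ0
        haveI : IsIso G.arrow := isIso_of_mono_of_epi _
        have hGtop : G = ⊤ := Subobject.eq_top_of_isIso_arrow G
        obtain ⟨s, hs0, hs1, hsS, hsD, -⟩ := hinv
        exact ⟨s, hs0, hs1.trans hGtop, hsS, hsD⟩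
      · exfalso
        obtain ⟨G', -, -, -, hstep⟩ := hnInv_step k hL hE hp G hG hinv hQp hQ0
        obtain ⟨G'', hG''c, hinv'', -, -⟩ := hnInv_step k hL hE hp G hG hinv hQp hQ0
        have hG'c : Coh.IsCoh ((G'' : Subobject E) : X.Modules) := hG''c
        have h1 : alpha d (spol k L G'') ≤ alpha d (pol k X L E) :=
          alpha_le_of_mono k hL G''.arrow hG''c hE
            (dim_support_le_of_mono_pure hp (𝟙 E) hE) (isHilbPoly_spol k hL hp G'' hG''c) hpE
        have hQc : Coh.IsCoh (cokernel G.arrow) :=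
          Groth.Agent.Lib.helper7.CohKer.isCoh_cokernel hG hE G.arrow
        have hpQ := isHilbPoly_sub₃ k X hL.1 _
          (Groth.Agent.Lib.helper8.Dev.shortExact_cokernel G.arrow) hG hQc
          (isHilbPoly_spol k hL hp G hG) hpE
        have aQ : 0 < alpha d (pol k X L E - spol k L G) :=
          alpha_pos_of_mono_pure k X hL hQp (𝟙 _) hQc hQ0 hpQ
        rw [alpha_sub] at aQ
        simp only [Nat.cast_zero] at hn
        linarith
    | succ n ih =>
      intro G hG hinv hQp hn
      by_cases hQ0 : IsZero (cokernel G.arrow)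
      · haveI : Epi G.arrow := Preadditive.epi_of_isZero_cokernel _ hQ0
        haveI : IsIso G.arrow := isIso_of_mono_of_epi _
        have hGtop : G = ⊤ := Subobject.eq_top_of_isIso_arrow G
        obtain ⟨s, hs0, hs1, hsS, hsD, -⟩ := hinv
        exact ⟨s, hs0, hs1.trans hGtop, hsS, hsD⟩
      · obtain ⟨G', hG'c, hinv', hQp', hstep⟩ := hnInv_step k hL hE hp G hG hinv hQp hQ0
        refine ih G' hG'c hinv' hQp' ?_
        push_cast at hn
        linarith
  -- start from `⊥`
  have hbot : IsZero (((⊥ : Subobject E) : Subobject E) : X.Modules) :=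
    (isZero_zero _).of_iso Subobject.botCoeIsoZero
  have hbotc : Coh.IsCoh (((⊥ : Subobject E) : Subobject E) : X.Modules) :=
    Groth.Agent.Lib.helper7.CohKer.isCoh_of_isZero hbot
  have hinv0 : HNInv k L d E ⊥ :=
    ⟨RelSeries.singleton _ ⊥, rfl, rfl, fun i => i.elim0, fun i => i.elim0, fun i => i.elim0⟩
  obtain ⟨n, hn⟩ := alpha_nat k hL hE hp (𝟙 E) hE h0
  have hpbot : spol k L (⊥ : Subobject E) = 0 := pol_eq k X (isHilbPoly_zero_of_isZero k X hbot)
  refine main n ⊥ hbotc hinv0 (isPure_of_iso cokernelBotArrowIso.symm hp) ?_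
  rw [hpbot, alpha_zero, sub_zero, hn]

end Groth.Agent.Lib.Lead.HilbPos
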