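import Mathlib
import Groth.Agent.Lib.Lead.HilbPos23

/-!
# Uniqueness of Harder–Narasimhan filtrations (lead)

* `redLT_of_lt_of_isHNWith`: strict decrease of the reduced polynomials along an HN chain.
* `hn_step_le`: the comparison step.
* `hn_unique`, `existsUnique_isHNFiltration`.
-/

set_option autoImplicit false
set_option linter.unusedSectionVars false
set_option linter.style.haveILetI false
set_option backward.isDefEq.respectTransparency false
universe u

open CategoryTheory CategoryTheory.Limits AlgebraicGeometry Polynomial TopologicalSpace Topology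
  Opposite

namespace Groth.Agent.Lib.Lead.HilbPos

open StabCat Scheme.Modules

section Chain

variable {C : Type*} [Category C] [Abelian C]

theorem redLT_of_lt_of_isHNWith {SS : C → Prop} {HP : C → ℚ[X] → Prop} {d : ℕ} {E : C}
    {s : LTSeries (Subobject E)} (hs : IsHNWith SS HP d E s) (P : Fin s.length → ℚ[X])
    (hP : ∀ a, HP (factor s a) (P a)) (hα : ∀ a, 0 < alpha d (P a)) (a b : Fin s.length)
    (hab : a < b) : RedLT d (P b) (P a) := by
  have ha1 : a.val + 1 < s.length := by have := b.2; have : a.val < b.val := hab; omega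
  let c : Fin s.length := ⟨a.val + 1, ha1⟩
  have h1 : RedLT d (P c) (P a) := hs.2.2.2 a c rfl _ _ (hP a) (hP c)
  have h2 : RedLE d (P b) (P c) :=
    redLE_of_le_of_isHNWith hs P hP hα c b (by show a.val + 1 ≤ b.val; have : a.val < b.val := hab; omega)
  exact redLT_of_redLE_of_redLT (hα b) (hα c) (hα a).le h2 h1

end Chain

variable (k : Type u) [Field k] {X : Scheme.{u}} [X.Over (Spec (CommRingCat.of k))]
  [IsProper (X ↘ Spec (CommRingCat.of k))]

variable {L : X.Modules} (hL : CohB1.IsAmple L) {d : ℕ} {E : X.Modules}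

include hL in
/-- the comparison step for two Harder–Narasimhan filtrations -/
theorem hn_step_le {s t : LTSeries (Subobject E)} (hs : ShStab.IsHNFiltration k X L E d s)
    (ht : ShStab.IsHNFiltration k X L E d t)
    (P : Fin s.length → ℚ[X]) (hP : ∀ a, ShStab.IsHilbPoly k X L (factor s a) (P a))
    (Q : Fin t.length → ℚ[X]) (hQ : ∀ a, ShStab.IsHilbPoly k X L (factor t a) (Q a))
    (i : Fin s.length) (i' : Fin t.length) (hii : i.val = i'.val)
    (heq : s i.castSucc = t i'.castSucc) (hle : RedLE d (P i) (Q i')) :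
    t i'.succ ≤ s i.succ ∧ RedLE d (Q i') (P i) := by
  classical
  have hsS : ∀ a, ShStab.IsSemistable k X L (factor s a) d := hs.2.2.1
  have htS : ∀ a, ShStab.IsSemistable k X L (factor t a) d := ht.2.2.1
  have aP : ∀ a, 0 < alpha d (P a) := fun a => alpha_pos_of_isSemistable k X hL (hsS a) (hP a)
  have aQ : ∀ a, 0 < alpha d (Q a) := fun a => alpha_pos_of_isSemistable k X hL (htS a) (hQ a)
  set B' : Subobject E := t i'.succ with hB'
  set A' : Subobject E := t i'.castSucc with hA'
  have hAB : A' < B' := t.step i'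
  -- the minimal `j` with `B' ≤ s j`
  let Pj : ℕ → Prop := fun j => ∃ h : j < s.length + 1, B' ≤ s ⟨j, h⟩
  have hex : ∃ j, Pj j := ⟨s.length, Nat.lt_succ_self _, by
    have : s ⟨s.length, Nat.lt_succ_self _⟩ = ⊤ := hs.2.1
    rw [this]; exact le_top⟩
  obtain ⟨hj₀lt, hj₀le⟩ := Nat.find_spec hex
  have hmono : Monotone s := (LTSeries.strictMono s).monotone
  have hj₀gt : i.val < Nat.find hex := by
    by_contra hcon
    rw [not_lt] at hcon
    have h1 : s ⟨Nat.find hex, hj₀lt⟩ ≤ s i.castSucc := hmono (by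
      show Nat.find hex ≤ i.val; exact hcon)
    have h2 : B' ≤ A' := by rw [← heq]; exact hj₀le.trans h1
    exact absurd hAB (not_lt_of_ge h2)
  -- `Nat.find hex = j'.val + 1`
  obtain ⟨m, hm⟩ : ∃ m, Nat.find hex = m + 1 := ⟨Nat.find hex - 1, by omega⟩
  have hmlt : m < s.length := by omega
  let j' : Fin s.length := ⟨m, hmlt⟩
  have hB'S : B' ≤ s j'.succ := by
    have : s ⟨Nat.find hex, hj₀lt⟩ = s j'.succ := by
      congr 1; exact Fin.ext hm
    rw [← this]; exact hj₀le
  have hB'S' : ¬ B' ≤ s j'.castSucc := by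
    intro hcon
    have : Pj m := ⟨by omega, hcon⟩
    exact Nat.find_min hex (by omega) this
  have hij' : i ≤ j' := by show i.val ≤ m; omega
  have hA'S : A' ≤ s j'.castSucc := by
    rw [← heq]; exact hmono (by show i.val ≤ m; omega)
  -- the map `B' ⟶ gr_{j'} s`
  set ι₀ := Subobject.ofLE (s j'.castSucc) (s j'.succ) (le_of_lt (s.step j')) with hι₀
  let f : (B' : X.Modules) ⟶ factor s j' := Subobject.ofLE B' (s j'.succ) hB'S ≫ cokernel.π ι₀
  have hf0 : f ≠ 0 := by
    intro hf
    apply hB'S'
    let l := Abelian.monoLift ι₀ (Subobject.ofLE B' (s j'.succ) hB'S) hf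
    have hl : l ≫ ι₀ = Subobject.ofLE B' (s j'.succ) hB'S := Abelian.monoLift_comp _ _ _
    refine Subobject.le_of_comm l ?_
    rw [← Subobject.ofLE_arrow (le_of_lt (s.step j')), ← Category.assoc, ← hι₀, hl,
      Subobject.ofLE_arrow]
  have hAf : Subobject.ofLE A' B' hAB.le ≫ f = 0 := by
    show Subobject.ofLE A' B' hAB.le ≫ Subobject.ofLE B' (s j'.succ) hB'S ≫ cokernel.π ι₀ = 0
    rw [← Category.assoc, Subobject.ofLE_comp_ofLE,
      ← Subobject.ofLE_comp_ofLE A' (s j'.castSucc) (s j'.succ) hA'S (le_of_lt (s.step j')),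
      Category.assoc, ← hι₀, cokernel.condition, Limits.comp_zero]
  let g : factor t i' ⟶ factor s j' := cokernel.desc _ f hAf
  have hg0 : g ≠ 0 := by
    intro hg
    apply hf0
    have : cokernel.π _ ≫ g = f := cokernel.π_desc _ f hAf
    rw [← this, hg, Limits.comp_zero]
  -- slope comparison
  have h1 : RedLE d (Q i') (P j') := by
    rcases redLE_or_redLT d (Q i') (P j') with h | h
    · exact h
    · exact absurd (hom_eq_zero_of_isSemistable_of_redLT k X hL (htS i') (hsS j') (hQ i') (hP j')
        h g) hg0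
  have h2 : RedLE d (P j') (P i) := redLE_of_le_of_isHNWith hs P hP aP i j' hij'
  have hji : j' = i := by
    by_contra hne
    have hlt : i < j' := lt_of_le_of_ne hij' (fun h => hne h.symm)
    have h3 : RedLT d (P j') (P i) := redLT_of_lt_of_isHNWith hs P hP aP i j' hlt
    have h4 : RedLT d (Q i') (P i) := redLT_of_redLE_of_redLT (aQ i') (aP j') (aP i).le h1 h3
    have h5 : RedLT d (Q i') (Q i') := redLT_of_redLT_of_redLE (aQ i').le (aP i) (aQ i') h4 hle
    exact not_redLT_self d _ h5
  rw [← hji]
  exact ⟨hB'S, h1⟩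

include hL in
theorem hn_unique {s t : LTSeries (Subobject E)} (hs : ShStab.IsHNFiltration k X L E d s)
    (ht : ShStab.IsHNFiltration k X L E d t) : s = t := by
  have hsS : ∀ a, ShStab.IsSemistable k X L (factor s a) d := hs.2.2.1
  have htS : ∀ a, ShStab.IsSemistable k X L (factor t a) d := ht.2.2.1
  choose P hP using fun a => exists_isHilbPoly_of_isSemistable k X hL.1 (hsS a)
  choose Q hQ using fun b => exists_isHilbPoly_of_isSemistable k X hL.1 (htS b)
  have key : ∀ (n : ℕ) (hn : n < s.length + 1) (hn' : n < t.length + 1),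
      s ⟨n, hn⟩ = t ⟨n, hn'⟩ := by
    intro n
    induction n with
    | zero =>
      intro hn hn'
      have h1 : s ⟨0, hn⟩ = ⊥ := hs.1
      have h2 : t ⟨0, hn'⟩ = ⊥ := ht.1
      rw [h1, h2]
    | succ n ih =>
      intro hn hn'
      have hn1 : n < s.length := by omega
      have hn1' : n < t.length := by omega
      let i : Fin s.length := ⟨n, hn1⟩
      let i' : Fin t.length := ⟨n, hn1'⟩
      have heq : s i.castSucc = t i'.castSucc := ih (by omega) (by omega)
      show s i.succ = t i'.succ
      rcases redLE_or_redLT d (P i) (Q i') with h | h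
      · obtain ⟨h1, h2⟩ := hn_step_le k hL hs ht P hP Q hQ i i' rfl heq h
        obtain ⟨h3, -⟩ := hn_step_le k hL ht hs Q hQ P hP i' i rfl heq.symm h2
        exact le_antisymm h3 h1
      · obtain ⟨h3, h4⟩ := hn_step_le k hL ht hs Q hQ P hP i' i rfl heq.symm (redLE_of_redLT h)
        obtain ⟨h1, -⟩ := hn_step_le k hL hs ht P hP Q hQ i i' rfl heq h4
        exact le_antisymm h3 h1
  have hlen : s.length = t.length := by
    rcases lt_trichotomy s.length t.length with h | h | h
    · exfalso
      have h1 : s ⟨s.length, Nat.lt_succ_self _⟩ = t ⟨s.length, by omega⟩ := key _ _ _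
      have h2 : s ⟨s.length, Nat.lt_succ_self _⟩ = ⊤ := hs.2.1
      have h3 : t ⟨s.length, by omega⟩ < t ⟨t.length, Nat.lt_succ_self _⟩ :=
        LTSeries.strictMono t (by show s.length < t.length; exact h)
      have h4 : t ⟨t.length, Nat.lt_succ_self _⟩ = ⊤ := ht.2.1
      rw [← h1, h2, h4] at h3
      exact lt_irrefl _ h3
    · exact h
    · exfalso
      have h1 : s ⟨t.length, by omega⟩ = t ⟨t.length, Nat.lt_succ_self _⟩ := key _ _ _
      have h2 : t ⟨t.length, Nat.lt_succ_self _⟩ = ⊤ := ht.2.1
      have h3 : s ⟨t.length, by omega⟩ < s ⟨s.length, Nat.lt_succ_self _⟩ :=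
        LTSeries.strictMono s (by show t.length < s.length; exact h)
      have h4 : s ⟨s.length, Nat.lt_succ_self _⟩ = ⊤ := hs.2.1
      rw [h1, h2, h4] at h3
      exact lt_irrefl _ h3
  refine RelSeries.ext hlen ?_
  funext x
  exact key x.val x.2 (by have := x.2; omega)

include hL in
theorem existsUnique_isHNFiltration (hE : Coh.IsCoh E) (h0 : ¬ IsZero E)
    (hp : ShStab.IsPure X E d) :
    ∃! s : LTSeries (Subobject E), ShStab.IsHNFiltration k X L E d s := by
  obtain ⟨s, hs⟩ := exists_isHNFiltration k hL hE hp h0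
  exact ⟨s, hs, fun t ht => hn_unique k hL ht hs⟩

end Groth.Agent.Lib.Lead.HilbPos
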