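import Mathlib
import Groth.Agent.Lib.Lead.HilbPos24
import Groth.Agent.Lib.Helper20.TwistEquivPn
import Groth.Agent.Lib.Lead.SerreVan
import Groth.Agent.Lib.Helper19.ProjSpaceProper
import Groth.Agent.Lib.Helper28.TwistPn
import Groth.Agent.Lib.Helper18.ProjBasic
import Groth.Prelude.Def_W4c2simpsonmod1HP

/-!
# Hilbert polynomials on projective space with integer twists; finite chains and `LTSeries`

* `wRedLE_iff`, `wRedLT_iff`: the comparisons `W4c2simpsonmod1.RedLE/RedLT` (quotients by the rank,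
  integer arguments) agree with `StabCat.RedLE/RedLT` for polynomials of positive rank.
* `isHilbPoly_of_int`, `int_of_isHilbPoly`: on `P^n_k`, `p` is the Hilbert polynomial of a coherent `F`
  with respect to `O(1)` iff `χ(F ⊗ O(m)) = p(m)` for every integer `m`.
* `exists_ltSeries_of_chain`: a finite nonempty chain in a partial order is the range of an `LTSeries`.
* `consecutive_iff`: consecutive members of the range of an `LTSeries`.
-/

set_option autoImplicit false
set_option backward.isDefEq.respectTransparency false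
universe u

open CategoryTheory CategoryTheory.Limits AlgebraicGeometry Polynomial StabCat

namespace Groth.Agent.Lib.Lead.HilbPos

section Num

theorem wRedLE_iff {d : ℕ} {ψ φ : ℚ[X]} (hψ : 0 < alpha d ψ) (hφ : 0 < alpha d φ) :
    W4c2simpsonmod1.RedLE d ψ φ ↔ RedLE d ψ φ := by
  have key : ∀ x : ℚ, (ψ.eval x / W4c2simpsonmod1.rankOf d ψ ≤
      φ.eval x / W4c2simpsonmod1.rankOf d φ) ↔
      ((alpha d φ • ψ).eval x ≤ (alpha d ψ • φ).eval x) := by
    intro x
    have h1 : W4c2simpsonmod1.rankOf d ψ = alpha d ψ := rfl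
    have h2 : W4c2simpsonmod1.rankOf d φ = alpha d φ := rfl
    rw [h1, h2, div_le_div_iff₀ hψ hφ, eval_smul, eval_smul, smul_eq_mul, smul_eq_mul,
      mul_comm (alpha d φ), mul_comm (alpha d ψ)]
  constructor
  · rintro ⟨N, hN⟩
    refine ⟨N.toNat, fun m hm => ?_⟩
    have := hN (m : ℤ) (by omega)
    rw [Int.cast_natCast] at this
    exact (key _).1 this
  · rintro ⟨N, hN⟩
    refine ⟨(N : ℤ), fun m hm => ?_⟩
    have hm0 : 0 ≤ m := le_trans (Int.natCast_nonneg N) hm
    have := hN m.toNat (by omega)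
    have hc : ((m.toNat : ℕ) : ℚ) = (m : ℚ) := by
      have h : ((m.toNat : ℕ) : ℤ) = m := Int.toNat_of_nonneg hm0
      exact_mod_cast congrArg (Int.cast : ℤ → ℚ) h
    rw [hc] at this
    exact (key _).2 this

theorem wRedLT_iff {d : ℕ} {ψ φ : ℚ[X]} (hψ : 0 < alpha d ψ) (hφ : 0 < alpha d φ) :
    W4c2simpsonmod1.RedLT d ψ φ ↔ RedLT d ψ φ := by
  have key : ∀ x : ℚ, (ψ.eval x / W4c2simpsonmod1.rankOf d ψ <
      φ.eval x / W4c2simpsonmod1.rankOf d φ) ↔
      ((alpha d φ • ψ).eval x < (alpha d ψ • φ).eval x) := by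
    intro x
    have h1 : W4c2simpsonmod1.rankOf d ψ = alpha d ψ := rfl
    have h2 : W4c2simpsonmod1.rankOf d φ = alpha d φ := rfl
    rw [h1, h2, div_lt_div_iff₀ hψ hφ, eval_smul, eval_smul, smul_eq_mul, smul_eq_mul,
      mul_comm (alpha d φ), mul_comm (alpha d ψ)]
  constructor
  · rintro ⟨N, hN⟩
    refine ⟨N.toNat, fun m hm => ?_⟩
    have := hN (m : ℤ) (by omega)
    rw [Int.cast_natCast] at this
    exact (key _).1 this
  · rintro ⟨N, hN⟩
    refine ⟨(N : ℤ), fun m hm => ?_⟩
    have hm0 : 0 ≤ m := le_trans (Int.natCast_nonneg N) hm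
    have := hN m.toNat (by omega)
    have hc : ((m.toNat : ℕ) : ℚ) = (m : ℚ) := by
      have h : ((m.toNat : ℕ) : ℤ) = m := Int.toNat_of_nonneg hm0
      exact_mod_cast congrArg (Int.cast : ℤ → ℚ) h
    rw [hc] at this
    exact (key _).2 this

end Num

section Pn

variable (n : ℕ) (k : Type u) [Field k]

open Groth.Agent.Lib.helper28 Groth.Agent.Lib.Helper20

instance isProper_projSpace :
    IsProper ((CohB1.ProjSpace n k) ↘ Spec (CommRingCat.of k)) :=
  Groth.Agent.Lib.helper19.ProjSpaceProper.proper_toSpec n k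

theorem isAmple_O1 : CohB1.IsAmple (Twist.twistProjSpace n k 1) := by
  have := TwistPn.isAmple n k 1 Nat.one_pos
  simpa using this

/-- `F(j) = F ⊗ O(1)^{⊗ j} ≅ F ⊗ O(j)` -/
noncomputable def twistNatIso (F : (CohB1.ProjSpace n k).Modules) (j : ℕ) :
    ShStab.twist (CohB1.ProjSpace n k) (Twist.twistProjSpace n k 1) F j ≅
      CohB1.tensorMod F (Twist.twistProjSpace n k (j : ℤ)) :=
  Groth.Agent.Lib.Lead.ModTensor.tensorIso (Iso.refl F) (TwistPn.powIso n k j).symm

theorem isHilbPoly_of_int {F : (CohB1.ProjSpace n k).Modules} {p : ℚ[X]}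
    (h : ∀ m : ℤ, (Curv2.euler k (CohB1.ProjSpace n k)
      (CohB1.tensorMod F (Twist.twistProjSpace n k m)) : ℚ) = p.eval (m : ℚ)) :
    ShStab.IsHilbPoly k (CohB1.ProjSpace n k) (Twist.twistProjSpace n k 1) F p := by
  intro j
  have := h (j : ℤ)
  rw [Int.cast_natCast] at this
  rw [← this, Groth.Agent.Lib.Lead.CurveEuler.euler_eq_of_iso k (CohB1.ProjSpace n k)
    (twistNatIso n k F j)]

theorem exists_isHilbPoly_pn {F : (CohB1.ProjSpace n k).Modules} (hF : Coh.IsCoh F) :
    ∃ p : ℚ[X], ShStab.IsHilbPoly k (CohB1.ProjSpace n k) (Twist.twistProjSpace n k 1) F p := by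
  have hd : topologicalKrullDim (CohB1.support F) ≤ ((n : ℕ) : WithBot ℕ∞) := by
    refine le_trans (topologicalKrullDim_subspace_le _ _) ?_
    rw [Groth.Agent.Lib.Helper18.ProjBasic.topologicalKrullDim_projSpace n k]
  obtain ⟨p, hp, -⟩ := exists_isHilbPoly k (CohB1.ProjSpace n k) (isAmple_O1 n k).1 hF n hd
  exact ⟨p, hp⟩

theorem int_of_isHilbPoly {F : (CohB1.ProjSpace n k).Modules} (hF : Coh.IsCoh F) {p : ℚ[X]}
    (hp : ShStab.IsHilbPoly k (CohB1.ProjSpace n k) (Twist.twistProjSpace n k 1) F p) (m : ℤ) :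
    (Curv2.euler k (CohB1.ProjSpace n k)
      (CohB1.tensorMod F (Twist.twistProjSpace n k m)) : ℚ) = p.eval (m : ℚ) := by
  obtain ⟨N, hN⟩ : ∃ N : ℕ, 0 ≤ m + N := ⟨(-m).toNat, by omega⟩
  have hF'c : Coh.IsCoh (CohB1.tensorMod F (Twist.twistProjSpace n k (-(N : ℤ)))) :=
    Groth.Agent.Lib.Lead.SerreVan.isCoh_twist n k hF _
  obtain ⟨p', hp'⟩ := exists_isHilbPoly_pn n k hF'c
  have h1 : ∀ j : ℕ, (Curv2.euler k (CohB1.ProjSpace n k)
      (CohB1.tensorMod F (Twist.twistProjSpace n k (-(N : ℤ) + (j : ℤ)))) : ℚ) =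
        p'.eval (j : ℚ) := by
    intro j
    rw [← hp' j]
    rw [Groth.Agent.Lib.Lead.CurveEuler.euler_eq_of_iso k (CohB1.ProjSpace n k)
      (twistNatIso n k _ j ≪≫ TwistEquivPn.twistTwistIso n k F (-(N : ℤ)) (j : ℤ))]
  have h2 : p = p'.comp (X + C (N : ℚ)) := by
    apply eq_of_eval_nat_eq
    intro i
    rw [eval_comp, eval_add, eval_X, eval_C]
    have h3 := h1 (N + i)
    have hi : (-(N : ℤ) + ((N + i : ℕ) : ℤ)) = (i : ℤ) := by push_cast; ring
    rw [hi] at h3
    have h4 := hp i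
    rw [Groth.Agent.Lib.Lead.CurveEuler.euler_eq_of_iso k (CohB1.ProjSpace n k)
      (twistNatIso n k F i)] at h4
    rw [← h4, h3]
    push_cast
    ring_nf
  have hm : (-(N : ℤ) + (((m + N).toNat : ℕ) : ℤ)) = m := by omega
  have h5 := h1 (m + N).toNat
  rw [hm] at h5
  rw [h5, h2, eval_comp, eval_add, eval_X, eval_C]
  congr 1
  have h6 : (((m + N).toNat : ℕ) : ℤ) = m + N := Int.toNat_of_nonneg hN
  have h7 := congrArg (Int.cast : ℤ → ℚ) h6
  push_cast at h7
  linarith

theorem isHilbPoly_iff_int {F : (CohB1.ProjSpace n k).Modules} (hF : Coh.IsCoh F) {p : ℚ[X]} :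
    ShStab.IsHilbPoly k (CohB1.ProjSpace n k) (Twist.twistProjSpace n k 1) F p ↔
      ∀ m : ℤ, (Curv2.euler k (CohB1.ProjSpace n k)
        (CohB1.tensorMod F (Twist.twistProjSpace n k m)) : ℚ) = p.eval (m : ℚ) :=
  ⟨fun h => int_of_isHilbPoly n k hF h, isHilbPoly_of_int n k⟩

end Pn

section Chain

variable {α : Type*} [PartialOrder α]

/-- a finite nonempty chain is the range of a strictly increasing series -/
theorem exists_ltSeries_of_chain (C : Finset α) (hne : C.Nonempty)
    (hC : IsChain (fun a b : α => a ≤ b) (↑C : Set α)) :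
    ∃ s : LTSeries α, ∀ x, x ∈ C ↔ ∃ i, s i = x := by
  classical
  induction' hcard : C.card using Nat.strong_induction_on with c ih generalizing C
  obtain ⟨M, hM, hmax⟩ := C.exists_maximal hne
  have hge : ∀ x ∈ C, x ≤ M := by
    intro x hx
    rcases eq_or_ne x M with h | h
    · exact h.le
    · rcases hC hx hM h with h' | h'
      · exact h'
      · exact hmax hx h'
  by_cases h1 : (C.erase M).Nonempty
  · have hch : IsChain (fun a b : α => a ≤ b) (↑(C.erase M) : Set α) :=
      hC.mono (fun x hx => Finset.mem_of_mem_erase (Finset.mem_coe.1 hx))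
    have hlt : (C.erase M).card < c := by
      rw [← hcard]; exact Finset.card_erase_lt_of_mem hM
    obtain ⟨s', hs'⟩ := ih _ hlt (C.erase M) h1 hch rfl
    have hlast : s'.last < M := by
      have hmem : s'.last ∈ C.erase M := (hs' _).2 ⟨_, rfl⟩
      exact lt_of_le_of_ne (hge _ (Finset.mem_of_mem_erase hmem)) (Finset.ne_of_mem_erase hmem)
    refine ⟨s'.snoc M hlast, fun x => ?_⟩
    have hmem : x ∈ s'.snoc M hlast ↔ x ∈ s' ∨ x = M := RelSeries.mem_snoc
    constructor
    · intro hx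
      have : x ∈ s'.snoc M hlast := by
        rw [hmem]
        by_cases hxM : x = M
        · exact Or.inr hxM
        · exact Or.inl ((hs' x).1 (Finset.mem_erase.2 ⟨hxM, hx⟩))
      exact this
    · intro hx
      have : x ∈ s'.snoc M hlast := hx
      rw [hmem] at this
      rcases this with h | h
      · exact Finset.mem_of_mem_erase ((hs' x).2 h)
      · rw [h]; exact hM
  · refine ⟨RelSeries.singleton _ M, fun x => ?_⟩
    constructor
    · intro hx
      have : x = M := by
        by_contra hxM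
        exact h1 ⟨x, Finset.mem_erase.2 ⟨hxM, hx⟩⟩
      exact ⟨0, this.symm⟩
    · rintro ⟨i, rfl⟩
      exact hM

theorem ltSeries_strictMono (s : LTSeries α) : StrictMono s.toFun := s.strictMono

/-- consecutive members of the range of an `LTSeries` -/
theorem exists_consecutive (s : LTSeries α) {A B : α} (hA : ∃ i, s i = A) (hB : ∃ i, s i = B)
    (hAB : A < B) (hno : ∀ D, (∃ i, s i = D) → ¬ (A < D ∧ D < B)) :
    ∃ i : Fin s.length, s i.castSucc = A ∧ s i.succ = B := by
  obtain ⟨a, rfl⟩ := hA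
  obtain ⟨b, rfl⟩ := hB
  have hab : a < b := s.strictMono.lt_iff_lt.1 hAB
  have hb : a.val + 1 = b.val := by
    by_contra hne
    have hlt : a.val + 1 < b.val := lt_of_le_of_ne hab (by simpa using hne)
    have hc : a.val + 1 < s.length + 1 := lt_trans hlt b.2
    refine hno (s ⟨a.val + 1, hc⟩) ⟨_, rfl⟩ ⟨?_, ?_⟩
    · exact s.strictMono (by simp [Fin.lt_def])
    · exact s.strictMono (by simp [Fin.lt_def]; exact hlt)
  have ha : a.val < s.length := by have := b.2; omega
  refine ⟨⟨a.val, ha⟩, ?_, ?_⟩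
  · congr 1
  · congr 1
    exact Fin.ext (by simp [hb])

theorem no_between_consecutive (s : LTSeries α) (i : Fin s.length) (D : α) (hD : ∃ j, s j = D) :
    ¬ (s i.castSucc < D ∧ D < s i.succ) := by
  obtain ⟨j, rfl⟩ := hD
  rintro ⟨h1, h2⟩
  have h1' := s.strictMono.lt_iff_lt.1 h1
  have h2' := s.strictMono.lt_iff_lt.1 h2
  simp [Fin.lt_def] at h1' h2'
  omega

end Chain

end Groth.Agent.Lib.Lead.HilbPos
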