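import Mathlib
import Groth.Agent.Lib.Helper3.DimIneqSch

/-!
# Closed points of locally Noetherian schemes (lead)

* `no_chain_of_forall_mem` (algebra): in a Noetherian domain in which some `f ≠ 0` lies in every nonzero prime
  there is no chain of primes `0 < q < q'`.
* `no_chain_of_forall_mem'`: the same relative to a prime `P₁` of a Noetherian ring.
* `exists_closed_specialization`: **every point of a locally Noetherian scheme specializes to a closed point**.
-/

set_option autoImplicit false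
set_option backward.isDefEq.respectTransparency false
set_option linter.style.haveILetI false
set_option linter.unusedSectionVars false
universe u

open CategoryTheory AlgebraicGeometry TopologicalSpace

namespace Groth.Agent.Lib.Lead.ClosedPt

section Algebra

theorem no_chain_of_forall_mem {R : Type*} [CommRing R] [IsDomain R] [IsNoetherianRing R] (f : R)
    (hf : f ≠ 0) (h : ∀ q : Ideal R, q.IsPrime → q ≠ ⊥ → f ∈ q) (q q' : Ideal R) [q.IsPrime]
    [q'.IsPrime] (hq : q ≠ ⊥) (hqq' : q < q') : False := by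
  classical
  have hfq : f ∈ q := h q inferInstance hq
  have hspanq : Ideal.span {f} ≤ q := (Ideal.span_singleton_le_iff_mem _).2 hfq
  have hfin := Ideal.finite_minimalPrimes_of_isNoetherianRing R (Ideal.span {f})
  -- `q'` is not contained in the union of the minimal primes over `(f)`
  have h1 : ¬ ((q' : Set R) ⊆ ⋃ P ∈ (↑hfin.toFinset : Set (Ideal R)), (P : Set R)) := by
    rw [Ideal.subset_union_prime (f := fun P : Ideal R => P) ⊥ ⊥
      (fun P hP _ _ => (hfin.mem_toFinset.1 hP).1.1)]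
    rintro ⟨P, hP, hq'P⟩
    have hPmin := hfin.mem_toFinset.1 hP
    have : P ≤ q := hPmin.2 ⟨inferInstance, hspanq⟩ (hqq'.le.trans hq'P)
    exact absurd (hq'P.trans this) (not_le_of_gt hqq')
  obtain ⟨g, hgq', hg⟩ := Set.not_subset.1 h1
  have hgP : ∀ P ∈ (Ideal.span {f}).minimalPrimes, g ∉ P := by
    intro P hP hgP
    exact hg (Set.mem_biUnion (hfin.mem_toFinset.2 hP) hgP)
  obtain ⟨P₀, hP₀, hP₀q⟩ := Ideal.exists_minimalPrimes_le hspanq
  have hg0 : g ≠ 0 := fun h0 => hgP P₀ hP₀ (h0 ▸ P₀.zero_mem)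
  have hspang : Ideal.span {g} ≤ q' := (Ideal.span_singleton_le_iff_mem _).2 hgq'
  obtain ⟨P, hP, hPq'⟩ := Ideal.exists_minimalPrimes_le hspang
  haveI : P.IsPrime := hP.1.1
  have hgmemP : g ∈ P := hP.1.2 (Ideal.mem_span_singleton_self g)
  have hPbot : P ≠ ⊥ := fun hb => hg0 (by rw [hb] at hgmemP; exact hgmemP)
  have hfP : f ∈ P := h P inferInstance hPbot
  obtain ⟨Pi, hPi, hPiP⟩ := Ideal.exists_minimalPrimes_le
    ((Ideal.span_singleton_le_iff_mem _).2 hfP : Ideal.span {f} ≤ P)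
  haveI : Pi.IsPrime := hPi.1.1
  have hfPi : f ∈ Pi := hPi.1.2 (Ideal.mem_span_singleton_self f)
  have hPibot : (⊥ : Ideal R) < Pi := bot_lt_iff_ne_bot.2 fun hb => hf (by rw [hb] at hfPi; exact hfPi)
  have hht : P.height ≤ 1 := Ideal.height_le_one_of_isPrincipal_of_mem_minimalPrimes _ P hP
  rcases eq_or_lt_of_le hPiP with heq | hlt
  · exact hgP Pi hPi (heq ▸ hgmemP)
  · have h2 := Ideal.height_add_one_le_of_lt_of_isPrime hPibot
    have h3 := Ideal.height_add_one_le_of_lt_of_isPrime hlt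
    have h4 : (1 : ℕ∞) + 1 ≤ 1 := by
      calc (1 : ℕ∞) + 1 ≤ Pi.height + 1 := by
            gcongr
            calc (1 : ℕ∞) = 0 + 1 := by simp
              _ ≤ (⊥ : Ideal R).height + 1 := by gcongr; exact bot_le
              _ ≤ Pi.height := h2
        _ ≤ P.height := h3
        _ ≤ 1 := hht
    exact absurd h4 (by decide)

theorem no_chain_of_forall_mem' {B : Type*} [CommRing B] [IsNoetherianRing B] (P₁ : Ideal B)
    [P₁.IsPrime] (f : B) (hf : f ∉ P₁)
    (h : ∀ Q : Ideal B, Q.IsPrime → P₁ < Q → f ∈ Q) (Q Q' : Ideal B) [Q.IsPrime] [Q'.IsPrime]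
    (hQ : P₁ < Q) (hQQ' : Q < Q') : False := by
  let mk := Ideal.Quotient.mk P₁
  have hmk : Function.Surjective mk := Ideal.Quotient.mk_surjective
  have hker : RingHom.ker mk = P₁ := Ideal.mk_ker
  have hcm : ∀ I : Ideal B, P₁ ≤ I → (I.map mk).comap mk = I := by
    intro I hI
    rw [Ideal.comap_map_of_surjective mk hmk, ← RingHom.ker_eq_comap_bot, hker]
    exact sup_eq_left.2 hI
  haveI : (Q.map mk).IsPrime := Ideal.map_isPrime_of_surjective hmk (by rw [hker]; exact hQ.le)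
  haveI : (Q'.map mk).IsPrime :=
    Ideal.map_isPrime_of_surjective hmk (by rw [hker]; exact (hQ.trans hQQ').le)
  refine no_chain_of_forall_mem (R := B ⧸ P₁) (mk f) ?_ ?_ (Q.map mk) (Q'.map mk) ?_ ?_
  · intro h0
    exact hf (Ideal.Quotient.eq_zero_iff_mem.1 h0)
  · intro q hq hqbot
    haveI := hq
    have h1 : P₁ ≤ q.comap mk := by
      intro b hb
      rw [Ideal.mem_comap, Ideal.Quotient.eq_zero_iff_mem.2 hb]
      exact q.zero_mem
    have h2 : P₁ ≠ q.comap mk := by
      intro he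
      apply hqbot
      rw [← Ideal.map_comap_of_surjective mk hmk q, ← he]
      exact Ideal.map_quotient_self P₁
    exact h (q.comap mk) (Ideal.comap_isPrime mk q) (lt_of_le_of_ne h1 h2)
  · intro hb
    have := hcm Q hQ.le
    rw [hb, ← RingHom.ker_eq_comap_bot, hker] at this
    exact absurd this hQ.ne
  · refine lt_of_le_of_ne (Ideal.map_mono hQQ'.le) fun he => ?_
    have h1 := hcm Q hQ.le
    rw [he, hcm Q' (hQ.trans hQQ').le] at h1
    exact absurd h1.symm hQQ'.ne

end Algebra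

section Scheme

open Groth.Agent.Lib.helper3.DimIneq

variable {X : Scheme.{u}}

theorem mem_basicOpen_iff_not_mem_primeIdealOf {U : X.Opens} (hU : IsAffineOpen U) (f : Γ(X, U))
    (x : X) (hx : x ∈ U) :
    x ∈ X.basicOpen f ↔ f ∉ (hU.primeIdealOf ⟨x, hx⟩).asIdeal := by
  letI := TopCat.Presheaf.algebra_section_stalk X.presheaf (⟨x, hx⟩ : U)
  haveI : IsLocalization.AtPrime (X.presheaf.stalk x) (hU.primeIdealOf ⟨x, hx⟩).asIdeal :=
    hU.isLocalization_stalk ⟨x, hx⟩
  rw [X.mem_basicOpen f x hx]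
  exact IsLocalization.AtPrime.isUnit_to_map_iff (X.presheaf.stalk x)
    (hU.primeIdealOf ⟨x, hx⟩).asIdeal f

theorem eq_of_primeIdealOf_eq {U : X.Opens} (hU : IsAffineOpen U) (a b : X) (ha : a ∈ U)
    (hb : b ∈ U)
    (h : (hU.primeIdealOf ⟨a, ha⟩).asIdeal = (hU.primeIdealOf ⟨b, hb⟩).asIdeal) : a = b :=
  (((specializes_iff_primeIdealOf_le hU a b ha hb).2 h.le).antisymm
    ((specializes_iff_primeIdealOf_le hU b a hb ha).2 h.ge)).eq

/-- **Every point of a locally Noetherian scheme specializes to a closed point.** -/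
theorem exists_closed_specialization [IsLocallyNoetherian X] (x : X) :
    ∃ z : X, x ⤳ z ∧ IsClosed ({z} : Set X) := by
  obtain ⟨U, hU, hxU, -⟩ := Opens.isBasis_iff_nbhd.mp X.isBasis_affineOpens (Opens.mem_top x)
  haveI : CompactSpace U := isCompact_iff_compactSpace.1 hU.isCompact
  obtain ⟨x₁', hx₁mem, hx₁cl⟩ := IsClosed.exists_closed_singleton (X := U)
    (S := closure {⟨x, hxU⟩}) isClosed_closure ⟨_, subset_closure rfl⟩
  have hxx₁ : x ⤳ x₁'.1 := by
    have h1 : (⟨x, hxU⟩ : U) ⤳ x₁' := specializes_iff_mem_closure.2 hx₁mem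
    exact h1.map continuous_subtype_val
  have hx₁U : ∀ w ∈ U, x₁'.1 ⤳ w → w = x₁'.1 := by
    intro w hw hsp
    have h1 : (x₁' : U) ⤳ ⟨w, hw⟩ := (subtype_specializes_iff _ _).2 hsp
    have h2 : (⟨w, hw⟩ : U) ∈ closure {x₁'} := specializes_iff_mem_closure.1 h1
    rw [hx₁cl.closure_eq] at h2
    exact congrArg Subtype.val h2
  by_cases hcl : IsClosed ({x₁'.1} : Set X)
  · exact ⟨x₁'.1, hxx₁, hcl⟩
  obtain ⟨y, hy, hyne⟩ : ∃ y, x₁'.1 ⤳ y ∧ y ≠ x₁'.1 := by
    by_contra hcon
    push Not at hcon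
    apply hcl
    have h1 : closure ({x₁'.1} : Set X) = {x₁'.1} :=
      Set.eq_of_subset_of_subset (fun y hy => hcon y (specializes_iff_mem_closure.2 hy))
        subset_closure
    rw [← h1]
    exact isClosed_closure
  refine ⟨y, hxx₁.trans hy, ?_⟩
  rw [← closure_subset_iff_isClosed]
  intro y' hy'
  have hyy' : y ⤳ y' := specializes_iff_mem_closure.2 hy'
  by_contra hne
  have hne' : y' ≠ y := hne
  obtain ⟨V, hV, hy'V, -⟩ := Opens.isBasis_iff_nbhd.mp X.isBasis_affineOpens (Opens.mem_top y')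
  have hyV : y ∈ V := hyy'.mem_open V.isOpen hy'V
  have hx₁V : x₁'.1 ∈ V := hy.mem_open V.isOpen hyV
  haveI : IsNoetherianRing Γ(X, V) := IsLocallyNoetherian.component_noetherian ⟨V, hV⟩
  obtain ⟨f, hfle, hx₁f⟩ := hV.exists_basicOpen_le (V := U ⊓ V) ⟨x₁'.1, ⟨x₁'.2, hx₁V⟩⟩ hx₁V
  refine no_chain_of_forall_mem' (hV.primeIdealOf ⟨x₁'.1, hx₁V⟩).asIdeal f ?_ ?_
    (hV.primeIdealOf ⟨y, hyV⟩).asIdeal (hV.primeIdealOf ⟨y', hy'V⟩).asIdeal ?_ ?_
  · exact (mem_basicOpen_iff_not_mem_primeIdealOf hV f _ hx₁V).1 hx₁f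
  · intro Q hQ hlt
    haveI := hQ
    obtain ⟨w, hwV, hw⟩ := exists_point_of_prime hV Q
    by_contra hfQ
    have hwf : w ∈ X.basicOpen f :=
      (mem_basicOpen_iff_not_mem_primeIdealOf hV f w hwV).2 (hw ▸ hfQ)
    have hwU : w ∈ U := (hfle hwf).1
    have hsp : x₁'.1 ⤳ w :=
      (specializes_iff_primeIdealOf_le hV _ w hx₁V hwV).2 (hw ▸ hlt.le)
    have hwx := hx₁U w hwU hsp
    apply hlt.ne
    rw [← hw]
    congr 2
    exact Subtype.ext hwx.symm
  · refine lt_of_le_of_ne ((specializes_iff_primeIdealOf_le hV _ y hx₁V hyV).1 hy) fun he => ?_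
    exact hyne (eq_of_primeIdealOf_eq hV _ _ hx₁V hyV he).symm
  · refine lt_of_le_of_ne ((specializes_iff_primeIdealOf_le hV y y' hyV hy'V).1 hyy') fun he => ?_
    exact hne' (eq_of_primeIdealOf_eq hV _ _ hyV hy'V he).symm

end Scheme

end Groth.Agent.Lib.Lead.ClosedPt
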