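import Mathlib
import Groth.Prelude.Def_RefHull
import Groth.Agent.Lib.Helper26.ReflexiveLoc2
import Groth.Agent.Lib.Lead.ClosedPt
import Groth.Agent.Lib.Lead.RefHull5

/-!
# Reflexivity of stalks generizes (lead)

* `isReflexive_of_torsion` (algebra): if kernel and cokernel of `M → M**` are `T`-torsion then `T⁻¹M` is reflexive.
* `isReflexiveAt_of_specializes`: for coherent `F` on a locally Noetherian scheme and `x ⤳ z`,
  `F_z` reflexive ⇒ `F_x` reflexive.
* `isReflexive_tfae`: reflexive ⇔ all stalks reflexive ⇔ stalks at closed points reflexive.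
-/

set_option autoImplicit false
set_option backward.isDefEq.respectTransparency false
set_option linter.style.haveILetI false
set_option linter.unusedSectionVars false
universe u

open CategoryTheory CategoryTheory.Limits AlgebraicGeometry TopologicalSpace Opposite

namespace Groth.Agent.Lib.Lead.RH

open RefHull Groth.Agent.Lib.helper16.CohStalk Groth.Agent.Lib.helper16.CohFinite
open Groth.Agent.Lib.helper26.ReflexiveLoc

section Algebra

variable {R : Type u} [CommRing R] [IsNoetherianRing R] (T : Submonoid R)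
  (Rₜ : Type u) [CommRing Rₜ] [Algebra R Rₜ] [IsLocalization T Rₜ]
  {M : Type u} [AddCommGroup M] [Module R M] [Module.Finite R M]
  {M' : Type u} [AddCommGroup M'] [Module R M'] [Module Rₜ M'] [IsScalarTower R Rₜ M']

theorem isReflexive_of_torsion (f : M →ₗ[R] M') [IsLocalizedModule T f]
    (h1 : ∀ m : M, Module.Dual.eval R M m = 0 → ∃ t ∈ T, t • m = 0)
    (h2 : ∀ φ : Module.Dual R (Module.Dual R M),
      ∃ t ∈ T, t • φ ∈ LinearMap.range (Module.Dual.eval R M)) :
    Module.IsReflexive Rₜ M' := by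
  constructor
  constructor
  · rw [injective_iff_map_eq_zero]
    intro y hy
    obtain ⟨⟨m, s⟩, hms⟩ := IsLocalizedModule.surj T f y
    rw [Submonoid.smul_def] at hms
    have h3 : D2 T Rₜ f (Module.Dual.eval R M m) = D2 T Rₜ f 0 := by
      rw [D2_eval, ← hms, LinearMap.map_smul_of_tower, hy, smul_zero, map_zero]
    obtain ⟨t, ht⟩ := IsLocalizedModule.exists_of_eq (S := T) (f := D2 T Rₜ f) h3
    rw [Submonoid.smul_def, Submonoid.smul_def, smul_zero, ← map_smul] at ht
    obtain ⟨t', ht'T, ht'⟩ := h1 _ ht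
    have h4 : t' • (t : R) • (s : R) • y = 0 := by
      rw [hms, ← map_smul, ← map_smul, ht', map_zero]
    have h5 : (t : R) • (s : R) • y = 0 := by
      apply IsLocalizedModule.smul_injective f ⟨t', ht'T⟩
      change (⟨t', ht'T⟩ : T) • _ = (⟨t', ht'T⟩ : T) • (0 : M')
      rw [smul_zero, Submonoid.smul_def]
      exact h4
    have h6 : (s : R) • y = 0 := by
      apply IsLocalizedModule.smul_injective f t
      change t • ((s : R) • y) = t • 0
      rw [smul_zero, Submonoid.smul_def]
      exact h5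
    apply IsLocalizedModule.smul_injective f s
    change s • y = s • 0
    rw [smul_zero, Submonoid.smul_def]
    exact h6
  · intro ψ
    obtain ⟨⟨φ, s⟩, hφ⟩ := IsLocalizedModule.surj T (D2 T Rₜ f) ψ
    rw [Submonoid.smul_def] at hφ
    obtain ⟨t, htT, m, hm⟩ := h2 φ
    have h3 : Module.Dual.eval Rₜ M' (f m) = (t * (s : R)) • ψ := by
      rw [← D2_eval T Rₜ f, hm, map_smul, ← hφ, mul_smul]
    refine ⟨IsLocalizedModule.mk' f m (⟨t, htT⟩ * s), ?_⟩
    apply IsLocalizedModule.smul_injective (D2 T Rₜ f) (⟨t, htT⟩ * s)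
    change (⟨t, htT⟩ * s : T) • _ = (⟨t, htT⟩ * s : T) • ψ
    rw [Submonoid.smul_def, Submonoid.smul_def, ← LinearMap.map_smul_of_tower,
      ← Submonoid.smul_def, IsLocalizedModule.mk'_cancel', h3]
    rfl

end Algebra

variable {X : Scheme.{u}} (F : X.Modules)

open Groth.Agent.Lib.helper3.DimIneq in
/-- reflexivity of stalks of a coherent module is stable under generization -/
theorem isReflexiveAt_of_specializes [IsLocallyNoetherian X] (hF : Coh.IsCoh F) {x z : X}
    (h : x ⤳ z) (hz : IsReflexiveAt F z) : IsReflexiveAt F x := by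
  haveI : F.IsQuasicoherent := hF.1
  obtain ⟨U, hU, hzU, -⟩ := Opens.isBasis_iff_nbhd.mp X.isBasis_affineOpens (Opens.mem_top z)
  have hxU : x ∈ U := h.mem_open U.isOpen hzU
  haveI : IsNoetherianRing Γ(X, U) := IsLocallyNoetherian.component_noetherian ⟨U, hU⟩
  haveI : Module.Finite Γ(X, U) Γ(F, U) := finite_sections_of_isCoh F hF hU
  have hle := (specializes_iff_primeIdealOf_le hU x z hxU hzU).1 h
  -- data at `z`
  letI := TopCat.Presheaf.algebra_section_stalk X.presheaf (⟨z, hzU⟩ : U)
  letI := modStalk F z hzU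
  haveI := isScalarTower_stalk F z hzU
  haveI : IsLocalization.AtPrime (X.presheaf.stalk z) (hU.primeIdealOf ⟨z, hzU⟩).asIdeal :=
    hU.isLocalization_stalk ⟨z, hzU⟩
  haveI := isLocalizedModule_stalk F hU z hzU
  haveI : Module.IsReflexive (X.presheaf.stalk z) (F.presheaf.stalk z) := hz
  have h1 := exists_smul_eq_zero_of_eval_eq_zero (hU.primeIdealOf ⟨z, hzU⟩).asIdeal.primeCompl
    (X.presheaf.stalk z) (germLin F z hzU)
  have h2 := exists_smul_mem_range_eval (hU.primeIdealOf ⟨z, hzU⟩).asIdeal.primeCompl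
    (X.presheaf.stalk z) (germLin F z hzU)
  have hT : (hU.primeIdealOf ⟨z, hzU⟩).asIdeal.primeCompl ≤
      (hU.primeIdealOf ⟨x, hxU⟩).asIdeal.primeCompl := fun a ha hax => ha (hle hax)
  -- data at `x`
  letI := TopCat.Presheaf.algebra_section_stalk X.presheaf (⟨x, hxU⟩ : U)
  letI := modStalk F x hxU
  haveI := isScalarTower_stalk F x hxU
  haveI : IsLocalization.AtPrime (X.presheaf.stalk x) (hU.primeIdealOf ⟨x, hxU⟩).asIdeal :=
    hU.isLocalization_stalk ⟨x, hxU⟩
  haveI := isLocalizedModule_stalk F hU x hxU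
  exact isReflexive_of_torsion (hU.primeIdealOf ⟨x, hxU⟩).asIdeal.primeCompl
    (X.presheaf.stalk x) (germLin F x hxU)
    (fun m hm => by
      obtain ⟨t, ht, htm⟩ := h1 m hm
      exact ⟨t, hT ht, htm⟩)
    (fun φ => by
      obtain ⟨t, ht, htm⟩ := h2 φ
      exact ⟨t, hT ht, htm⟩)

/-- **Reflexive ⇔ all stalks reflexive ⇔ stalks at closed points reflexive** (coherent `F` on a
locally Noetherian scheme). -/
theorem isReflexive_tfae [IsLocallyNoetherian X] (hF : Coh.IsCoh F) :
    [RefHull.IsReflexive F, ∀ x : X, RefHull.IsReflexiveAt F x,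
      ∀ x : X, IsClosed ({x} : Set X) → RefHull.IsReflexiveAt F x].TFAE := by
  tfae_have 1 ↔ 2 := isReflexive_iff_forall_isReflexiveAt F hF
  tfae_have 2 → 3 := fun h x _ => h x
  tfae_have 3 → 2 := by
    intro h x
    obtain ⟨z, hxz, hz⟩ := Groth.Agent.Lib.Lead.ClosedPt.exists_closed_specialization x
    exact isReflexiveAt_of_specializes F hF hxz (h z hz)
  tfae_finish

end Groth.Agent.Lib.Lead.RH
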