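import Mathlib
import Groth.Prelude.Def_RefHull
import Groth.Agent.Lib.Helper26.ReflexiveCrit3
import Groth.Agent.Lib.Helper26.DepthLoc3
import Groth.Agent.Lib.Lead.RefHull6

/-!
# Reflexivity of stalks from "reflexive or depth ≥ 2" at all generizations (lead)

* `isReflexiveAt_of_forall_or_depth`: on an integral locally Noetherian scheme, if every stalk of the coherent
  module `F` is reflexive or of depth `≥ 2`, then every stalk is reflexive.
-/

set_option autoImplicit false
set_option backward.isDefEq.respectTransparency false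
set_option linter.style.haveILetI false
set_option linter.unusedSectionVars false
universe u

open CategoryTheory CategoryTheory.Limits AlgebraicGeometry TopologicalSpace Opposite

namespace Groth.Agent.Lib.Lead.RH

open RefHull Groth.Agent.Lib.helper16.CohStalk Groth.Agent.Lib.helper16.CohFinite
open Groth.Agent.Lib.helper26.ReflexiveLoc Groth.Agent.Lib.helper3.DimIneq

variable {X : Scheme.{u}} (F : X.Modules)

theorem isReflexiveAt_of_forall_or_depth [IsIntegral X] [IsLocallyNoetherian X] (hF : Coh.IsCoh F)
    (h : ∀ y : X, IsReflexiveAt F y ∨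
      (2 : ℕ∞) ≤ LocCoh.depth (X.presheaf.stalk y) (F.presheaf.stalk y)) (x : X) :
    IsReflexiveAt F x := by
  haveI : F.IsQuasicoherent := hF.1
  obtain ⟨W, hW, hxW, -⟩ := Opens.isBasis_iff_nbhd.mp X.isBasis_affineOpens (Opens.mem_top x)
  haveI : Nonempty W := ⟨⟨x, hxW⟩⟩
  haveI : IsNoetherianRing Γ(X, W) := IsLocallyNoetherian.component_noetherian ⟨W, hW⟩
  haveI : Module.Finite Γ(X, W) Γ(F, W) := finite_sections_of_isCoh F hF hW
  haveI : IsDomain Γ(X, W) := inferInstance
  have hM : Module.IsReflexive Γ(X, W) Γ(F, W) := by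
    apply Groth.Agent.Lib.helper26.Depth.isReflexive_of_forall_localization_or_depth
    intro p hp
    obtain ⟨y, hyW, hy⟩ := exists_point_of_prime hW p
    subst hy
    letI := TopCat.Presheaf.algebra_section_stalk X.presheaf (⟨y, hyW⟩ : W)
    letI := modStalk F y hyW
    haveI := isScalarTower_stalk F y hyW
    haveI : IsLocalization.AtPrime (X.presheaf.stalk y) (hW.primeIdealOf ⟨y, hyW⟩).asIdeal :=
      hW.isLocalization_stalk ⟨y, hyW⟩
    haveI := isLocalizedModule_stalk F hW y hyW
    rcases h y with h1 | h1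
    · left
      haveI : Module.IsReflexive (X.presheaf.stalk y) (F.presheaf.stalk y) := h1
      exact isReflexive_of_torsion (hW.primeIdealOf ⟨y, hyW⟩).asIdeal.primeCompl
        (Localization.AtPrime (hW.primeIdealOf ⟨y, hyW⟩).asIdeal)
        (LocalizedModule.mkLinearMap (hW.primeIdealOf ⟨y, hyW⟩).asIdeal.primeCompl Γ(F, W))
        (exists_smul_eq_zero_of_eval_eq_zero (hW.primeIdealOf ⟨y, hyW⟩).asIdeal.primeCompl
          (X.presheaf.stalk y) (germLin F y hyW))
        (exists_smul_mem_range_eval (hW.primeIdealOf ⟨y, hyW⟩).asIdeal.primeCompl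
          (X.presheaf.stalk y) (germLin F y hyW))
    · right
      rw [← Groth.Agent.Lib.helper26.Depth.depth_eq_of_isLocalizedModule
        (hW.primeIdealOf ⟨y, hyW⟩).asIdeal Γ(F, W) (X.presheaf.stalk y) (F.presheaf.stalk y)
        (germLin F y hyW)]
      exact h1
  letI := TopCat.Presheaf.algebra_section_stalk X.presheaf (⟨x, hxW⟩ : W)
  letI := modStalk F x hxW
  haveI := isScalarTower_stalk F x hxW
  haveI : IsLocalization.AtPrime (X.presheaf.stalk x) (hW.primeIdealOf ⟨x, hxW⟩).asIdeal :=
    hW.isLocalization_stalk ⟨x, hxW⟩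
  haveI := isLocalizedModule_stalk F hW x hxW
  exact isReflexive_of_isLocalizedModule (hW.primeIdealOf ⟨x, hxW⟩).asIdeal.primeCompl
    (X.presheaf.stalk x) (germLin F x hxW)

end Groth.Agent.Lib.Lead.RH
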