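import Mathlib
import Groth.Prelude.Def_RefHull
import Groth.Agent.Lib.Helper2.Hartogs6
import Groth.Agent.Lib.Helper2.ZPt10
import Groth.Agent.Lib.Helper26.Depth7
import Groth.Agent.Lib.Lead.RefHull7

/-!
# Reflexive modules, depth and extension of sections (lead)

* `isPrincipalIdealRing_of_normal_dim_le_one`, `isPrincipalIdealRing_of_regular_dim_le_one`.
* `free_of_torsionFree_of_pid`, `isReflexiveAt_of_free`.
* `bijective_res_of_forall_affine`, `bijective_res_pair_of_depth`: Hartogs for a pair of opens `V ≤ U`.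
* `depth_ge_two_of_normal`: extension of sections across points of dimension `≥ 2` ⇒ depth `≥ 2` there.
-/

set_option autoImplicit false
set_option backward.isDefEq.respectTransparency false
set_option linter.style.haveILetI false
set_option linter.unusedSectionVars false
set_option linter.overlappingInstances false
universe u

open CategoryTheory CategoryTheory.Limits AlgebraicGeometry TopologicalSpace Opposite

namespace Groth.Agent.Lib.Lead.RH

open RefHull Groth.Agent.Lib.helper16.CohStalk Groth.Agent.Lib.helper16.CohFinite IsLocalRing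

section Algebra

variable (B : Type u) [CommRing B] [IsNoetherianRing B] [IsLocalRing B] [IsDomain B]

theorem isPrincipalIdealRing_of_maximalIdeal_eq_bot (hm : maximalIdeal B = ⊥) :
    IsPrincipalIdealRing B := by
  refine ⟨fun I => ?_⟩
  by_cases hI : I = ⊤
  · rw [hI]; exact top_isPrincipal
  · have : I = ⊥ := le_bot_iff.1 (hm ▸ le_maximalIdeal hI)
    rw [this]; exact bot_isPrincipal

theorem isPrincipalIdealRing_of_normal_dim_le_one [IsIntegrallyClosed B]
    (hd : ringKrullDim B ≤ 1) : IsPrincipalIdealRing B := by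
  by_cases hm : maximalIdeal B = ⊥
  · exact isPrincipalIdealRing_of_maximalIdeal_eq_bot B hm
  · have hnf : ¬ IsField B := fun hf => hm (IsLocalRing.isField_iff_maximalIdeal_eq.mp hf)
    haveI : IsDiscreteValuationRing B := by
      apply ((IsDiscreteValuationRing.TFAE B hnf).out 0 3).mpr
      refine ⟨inferInstance, maximalIdeal B, ⟨hm, inferInstance⟩, ?_⟩
      rintro P ⟨hP0, hPp⟩
      by_contra hne
      haveI := hPp
      have hlt : P < maximalIdeal B := lt_of_le_of_ne (le_maximalIdeal hPp.ne_top) hne
      have h1 : 1 ≤ P.height := by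
        rw [Order.one_le_iff_pos, pos_iff_ne_zero, Ne, Ideal.height_eq_zero_iff_eq_bot]
        exact hP0
      have h2 : P.height < (maximalIdeal B).height := Ideal.height_strict_mono_of_isPrime hlt
      have h3 : ((maximalIdeal B).height : WithBot ℕ∞) ≤ 1 := by
        rw [IsLocalRing.maximalIdeal_height_eq_ringKrullDim]; exact hd
      have h4 : (maximalIdeal B).height ≤ 1 := by exact_mod_cast h3
      exact absurd (lt_of_le_of_lt h1 (lt_of_lt_of_le h2 h4)) (lt_irrefl _)
    infer_instance

theorem isPrincipalIdealRing_of_regular_dim_le_one [IsRegularLocalRing B]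
    (hd : ringKrullDim B ≤ 1) : IsPrincipalIdealRing B := by
  by_cases hm : maximalIdeal B = ⊥
  · exact isPrincipalIdealRing_of_maximalIdeal_eq_bot B hm
  · have hnf : ¬ IsField B := fun hf => hm (IsLocalRing.isField_iff_maximalIdeal_eq.mp hf)
    haveI : IsDiscreteValuationRing B := by
      apply ((IsDiscreteValuationRing.TFAE B hnf).out 0 4).mpr
      have h1 : ((maximalIdeal B).spanFinrank : WithBot ℕ∞) ≤ 1 := by
        rw [IsRegularLocalRing.spanFinrank_maximalIdeal]; exact hd
      have h2 : (maximalIdeal B).spanFinrank ≤ 1 := by exact_mod_cast h1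
      obtain ⟨s, hscard, hsspan⟩ := Submodule.FG.exists_span_finset_card_eq_spanFinrank
        (IsNoetherian.noetherian (maximalIdeal B))
      rw [← hscard] at h2
      rcases Finset.card_le_one_iff_subset_singleton.1 h2 with ⟨t, ht⟩
      refine ⟨t, ?_⟩
      apply le_antisymm
      · rw [← hsspan]
        exact Submodule.span_mono (by exact_mod_cast ht)
      · rcases Finset.subset_singleton_iff.1 ht with h0 | h0
        · exfalso
          apply hm
          rw [← hsspan, h0]
          simp
        · rw [← hsspan, h0]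
          simp
    infer_instance

variable {B}

theorem free_of_torsionFree_of_pid [IsPrincipalIdealRing B] (M : Type u) [AddCommGroup M]
    [Module B M] [Module.Finite B M] [Module.IsTorsionFree B M] : Module.Free B M := by
  haveI : NoZeroSMulDivisors B M := ⟨fun {r m} h => by
    by_cases hr : r = 0
    · exact Or.inl hr
    · right
      have hreg : IsRegular r := IsRegular.of_ne_zero hr
      have := (Module.IsTorsionFree.isSMulRegular hreg : IsSMulRegular M r)
      exact this (by change r • m = r • 0; rw [h, smul_zero])⟩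
  exact Module.free_of_finite_type_torsion_free'

theorem withBot_enat_le_one_of_not_two_le (a : WithBot ℕ∞) (h : ¬ (2 : WithBot ℕ∞) ≤ a) : a ≤ 1 := by
  induction a using WithBot.recBotCoe with
  | bot => exact bot_le
  | coe a =>
    induction a using ENat.recTopCoe with
    | top => exact absurd le_top h
    | coe n =>
      have h' : ¬ (2 : ℕ) ≤ n := fun hn => h (by
        change ((2 : ℕ∞) : WithBot ℕ∞) ≤ ((n : ℕ∞) : WithBot ℕ∞)
        exact WithBot.coe_le_coe.2 (by exact_mod_cast hn))
      have h1 : n ≤ 1 := by omega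
      change ((n : ℕ∞) : WithBot ℕ∞) ≤ ((1 : ℕ∞) : WithBot ℕ∞)
      exact WithBot.coe_le_coe.2 (by exact_mod_cast h1)

end Algebra

variable {X : Scheme.{u}} (F : X.Modules)

theorem isReflexiveAt_of_free (x : X) [Module.Free (X.presheaf.stalk x) (F.presheaf.stalk x)]
    [Module.Finite (X.presheaf.stalk x) (F.presheaf.stalk x)] : IsReflexiveAt F x :=
  inferInstanceAs (Module.IsReflexive (X.presheaf.stalk x) (F.presheaf.stalk x))

theorem res_res {U V W : X.Opens} (h1 : V ≤ U) (h2 : W ≤ V) (s : Γ(F, U)) :
    F.presheaf.map (homOfLE h2).op (F.presheaf.map (homOfLE h1).op s) =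
      F.presheaf.map (homOfLE (h2.trans h1)).op s := by
  rw [← ConcreteCategory.comp_apply, ← Functor.map_comp]
  rfl

/-- if `F(W) → F(W ∩ V)` is bijective for all affine opens `W ≤ U`, then `F(U) → F(V)` is bijective -/
theorem bijective_res_of_forall_affine {U V : X.Opens} (hVU : V ≤ U)
    (h : ∀ W : X.Opens, IsAffineOpen W → W ≤ U →
      Function.Bijective (F.presheaf.map (homOfLE (inf_le_left : W ⊓ V ≤ W)).op)) :
    Function.Bijective (F.presheaf.map (homOfLE hVU).op) := by
  constructor
  · intro s t hst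
    refine section_ext' F _ _ fun y hy => ?_
    obtain ⟨W, hW, hyW, hWU⟩ := Opens.isBasis_iff_nbhd.mp X.isBasis_affineOpens hy
    have h1 : F.presheaf.map (homOfLE hWU).op s = F.presheaf.map (homOfLE hWU).op t := by
      apply (h W hW hWU).1
      rw [res_res, res_res]
      have e := congrArg (F.presheaf.map (homOfLE (inf_le_right : W ⊓ V ≤ V)).op) hst
      rw [res_res, res_res] at e
      exact e
    have h2 := congrArg (F.presheaf.germ W y hyW) h1
    rwa [TopCat.Presheaf.germ_res_apply, TopCat.Presheaf.germ_res_apply] at h2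
  · intro t
    have hex : ∀ y : U, ∃ (W : X.Opens) (_ : IsAffineOpen W) (_ : y.1 ∈ W) (_ : W ≤ U)
        (s : Γ(F, W)), F.presheaf.map (homOfLE (inf_le_left : W ⊓ V ≤ W)).op s =
          F.presheaf.map (homOfLE (inf_le_right : W ⊓ V ≤ V)).op t := by
      intro y
      obtain ⟨W, hW, hyW, hWU⟩ := Opens.isBasis_iff_nbhd.mp X.isBasis_affineOpens y.2
      obtain ⟨s, hs⟩ := (h W hW hWU).2 (F.presheaf.map (homOfLE inf_le_right).op t)
      exact ⟨W, hW, hyW, hWU, s, hs⟩
    choose W hW hyW hWU s hs using hex
    have hcov : U ≤ ⨆ y : U, W y := fun y hy => Opens.mem_iSup.2 ⟨⟨y, hy⟩, hyW ⟨y, hy⟩⟩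
    have key : ∀ (w : U) (W' : X.Opens) (hle : W' ≤ W w),
        F.presheaf.map (homOfLE (inf_le_left : W' ⊓ V ≤ W')).op
          (F.presheaf.map (homOfLE hle).op (s w)) =
        F.presheaf.map (homOfLE (inf_le_right : W' ⊓ V ≤ V)).op t := by
      intro w W' hle
      have e := congrArg
        (F.presheaf.map (homOfLE (inf_le_inf_right V hle : W' ⊓ V ≤ W w ⊓ V)).op) (hs w)
      rw [res_res, res_res] at e
      rw [res_res]
      exact e
    have hcompat : TopCat.Presheaf.IsCompatible F.presheaf W s := by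
      intro y z
      refine section_ext' F _ _ fun p hp => ?_
      obtain ⟨W', hW', hpW', hW'le⟩ := Opens.isBasis_iff_nbhd.mp X.isBasis_affineOpens hp
      have hW'U : W' ≤ U := hW'le.trans (inf_le_left.trans (hWU y))
      have h1 : F.presheaf.map (homOfLE (hW'le.trans inf_le_left)).op (s y) =
          F.presheaf.map (homOfLE (hW'le.trans inf_le_right)).op (s z) := by
        apply (h W' hW' hW'U).1
        rw [key y, key z]
      have h2 := congrArg (F.presheaf.germ W' p hpW') h1
      rw [TopCat.Presheaf.germ_res_apply, TopCat.Presheaf.germ_res_apply] at h2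
      rw [TopCat.Presheaf.germ_res_apply, TopCat.Presheaf.germ_res_apply]
      exact h2
    obtain ⟨S, hS, -⟩ := TopCat.Sheaf.existsUnique_gluing' ⟨F.presheaf, F.isSheaf⟩ W U
      (fun y => homOfLE (hWU y)) hcov s hcompat
    refine ⟨S, ?_⟩
    refine section_ext' F _ _ fun p hp => ?_
    have hpU : p ∈ U := hVU hp
    have h2 : F.presheaf.map (homOfLE (hWU ⟨p, hpU⟩)).op S = s ⟨p, hpU⟩ := hS ⟨p, hpU⟩
    have h3 := congrArg (F.presheaf.germ (W ⟨p, hpU⟩ ⊓ V) p ⟨hyW ⟨p, hpU⟩, hp⟩) (hs ⟨p, hpU⟩)
    rw [TopCat.Presheaf.germ_res_apply, TopCat.Presheaf.germ_res_apply] at h3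
    rw [TopCat.Presheaf.germ_res_apply, ← h3, ← h2, TopCat.Presheaf.germ_res_apply]

/-- **Hartogs for a pair of opens**: depth `≥ 2` at the points of `U ∖ V` ⇒ `F(U) → F(V)` bijective. -/
theorem bijective_res_pair_of_depth [IsLocallyNoetherian X] (hF : Coh.IsCoh F) {U V : X.Opens}
    (hVU : V ≤ U)
    (hdepth : ∀ x : X, x ∈ U → x ∉ V →
      (2 : ℕ∞) ≤ LocCoh.depth (X.presheaf.stalk x) (F.presheaf.stalk x)) :
    Function.Bijective (F.presheaf.map (homOfLE hVU).op) := by
  haveI : F.IsQuasicoherent := hF.1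
  refine bijective_res_of_forall_affine F hVU fun W hW hWU => ?_
  haveI : IsNoetherianRing Γ(X, W) := IsLocallyNoetherian.component_noetherian ⟨W, hW⟩
  have hfin : Module.Finite Γ(X, W) Γ(F, W) := finite_sections_of_isCoh F hF hW
  exact Groth.Agent.Lib.helper2.Hartogs.bijective_res_of_depth F hW hfin (W ⊓ V) inf_le_left
    fun x hxW hx => hdepth x (hWU hxW) fun hxV => hx ⟨hxW, hxV⟩

/-- extension of sections across the points of dimension `≥ 2` forces depth `≥ 2` there -/
theorem depth_ge_two_of_normal [IsLocallyNoetherian X] (hF : Coh.IsCoh F)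
    (hn : ∀ (U V : X.Opens) (hVU : V ≤ U),
      (∀ x : X, x ∈ U → x ∉ V → (2 : WithBot ℕ∞) ≤ ringKrullDim (X.presheaf.stalk x)) →
        Function.Bijective (F.presheaf.map (homOfLE hVU).op))
    (y : X) (hy : (2 : WithBot ℕ∞) ≤ ringKrullDim (X.presheaf.stalk y)) :
    (2 : ℕ∞) ≤ LocCoh.depth (X.presheaf.stalk y) (F.presheaf.stalk y) := by
  let Uy : X.Opens := ⟨(closure ({y} : Set X))ᶜ, isClosed_closure.isOpen_compl⟩
  refine Groth.Agent.Lib.helper2.Hartogs.depth_ge_two_of_bijective_res F hF Uy (fun V => ?_) y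
    (fun h => h (subset_closure rfl))
  refine hn V (V ⊓ Uy) inf_le_left fun x hxV hx => ?_
  have hxcl : x ∈ closure ({y} : Set X) := by
    by_contra hcon
    exact hx ⟨hxV, hcon⟩
  have hsp : y ⤳ x := specializes_iff_mem_closure.2 hxcl
  exact Groth.Agent.Lib.helper2.ZPt.stableUnderSpecialization_dimGe (X := X) 2 hsp hy

end Groth.Agent.Lib.Lead.RH
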