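import Mathlib
import Groth.Prelude.Def_RefHull
import Groth.Agent.Lib.Helper25.FlatClass
import Groth.Agent.Lib.Helper21.SyzygyFLF
import Groth.Agent.Lib.Helper16.QCohPullback2
import Groth.Agent.Lib.Helper7.CohKer
import Groth.Agent.Lib.Helper24.SerreNormal4
import Groth.Agent.Lib.Lead.RefHull8

/-!
# The free locus of a coherent module and restriction to opens (lead)

* `free_of_semilinear`: freeness transfers along semilinear equivalences over ring isomorphisms.
* `free_stalk_restrict_iff`: `(F|_U)_y` is free iff `F_y` is free.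
* `isOpen_freeLocus`: the locus where the stalks of a coherent module are free is open.
* `isCoh_restrict'`, `isFinLocFree_restrict_of_le_freeLocus`.
-/

set_option autoImplicit false
set_option backward.isDefEq.respectTransparency false
set_option linter.style.haveILetI false
set_option linter.unusedSectionVars false
universe u

open CategoryTheory CategoryTheory.Limits AlgebraicGeometry TopologicalSpace Opposite

namespace Groth.Agent.Lib.Lead.RH

open RefHull Groth.Agent.Lib.helper16.CohStalk Groth.Agent.Lib.helper16.CohFinite IsLocalRing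
open Groth.Agent.Lib.helper25.FlatClass Scheme.Modules

section Transfer

theorem free_of_semilinear {R R' M M' : Type*} [CommRing R] [CommRing R'] [AddCommGroup M]
    [AddCommGroup M'] [Module R M] [Module R' M'] (σ : R' ≃+* R) (e : M' ≃+ M)
    (he : ∀ (r : R') (m : M'), e (r • m) = σ r • e m) [Module.Free R M] : Module.Free R' M' := by
  letI : Module R' M := Module.compHom M (σ : R' →+* R)
  let b := Module.Free.chooseBasis R M
  have b' : Module.Basis (Module.Free.ChooseBasisIndex R M) R' M :=
    b.mapCoeffs σ.symm (fun c x => by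
      change σ (σ.symm c) • x = c • x
      rw [σ.apply_symm_apply])
  haveI : Module.Free R' M := Module.Free.of_basis b'
  let eL : M' ≃ₗ[R'] M := { e with map_smul' := fun r m => he r m }
  exact Module.Free.of_equiv eL.symm

end Transfer

variable {X : Scheme.{u}} (F : X.Modules)

/-- the ring isomorphism `O_{U,y} ≃ O_{X,y}` -/
noncomputable def resRingEquiv (U : X.Opens) (y : (U : Scheme.{u})) :
    (U : Scheme.{u}).presheaf.stalk y ≃+* X.presheaf.stalk (U.ι y) :=
  RingEquiv.ofBijective (resRing U y) (resRing_bijective U y)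

/-- the additive isomorphism `(F|_U)_y ≃ F_y` -/
noncomputable def resStalkEquiv (U : X.Opens) (y : (U : Scheme.{u})) :
    (F.restrict U.ι).presheaf.stalk y ≃+ F.presheaf.stalk (U.ι y) :=
  AddEquiv.ofBijective (resStalk F U y) (resStalk_bijective F U y)

theorem free_stalk_restrict_iff (U : X.Opens) (y : (U : Scheme.{u})) :
    Module.Free ((U : Scheme.{u}).presheaf.stalk y) ((F.restrict U.ι).presheaf.stalk y) ↔
      Module.Free (X.presheaf.stalk (U.ι y)) (F.presheaf.stalk (U.ι y)) := by
  constructor
  · intro h
    refine free_of_semilinear (resRingEquiv U y).symm (resStalkEquiv F U y).symm fun r m => ?_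
    apply (resStalkEquiv F U y).injective
    rw [AddEquiv.apply_symm_apply]
    have h1 := resStalk_smul F U y ((resRingEquiv U y).symm r) ((resStalkEquiv F U y).symm m)
    have h2 : resRing U y ((resRingEquiv U y).symm r) = r := (resRingEquiv U y).apply_symm_apply r
    have h3 : resStalk F U y ((resStalkEquiv F U y).symm m) = m :=
      (resStalkEquiv F U y).apply_symm_apply m
    rw [h2, h3] at h1
    exact h1.symm
  · intro h
    exact free_of_semilinear (resRingEquiv U y) (resStalkEquiv F U y)
      fun r m => resStalk_smul F U y r m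

/-- the locus where the stalks are free -/
def freeLocus : Set X := {x | Module.Free (X.presheaf.stalk x) (F.presheaf.stalk x)}

theorem free_stalk_of_free_sections [F.IsQuasicoherent] {U : X.Opens} (hU : IsAffineOpen U) {n : ℕ}
    (e : Γ(F, U) ≃ₗ[Γ(X, U)] (Fin n → Γ(X, U))) (y : X) (hy : y ∈ U) :
    Module.Free (X.presheaf.stalk y) (F.presheaf.stalk y) := by
  haveI : Module.Free Γ(X, U) Γ(F, U) := Module.Free.of_equiv e.symm
  letI := TopCat.Presheaf.algebra_section_stalk X.presheaf (⟨y, hy⟩ : U)
  letI := modStalk F y hy
  haveI := isScalarTower_stalk F y hy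
  haveI : IsLocalization.AtPrime (X.presheaf.stalk y) (hU.primeIdealOf ⟨y, hy⟩).asIdeal :=
    hU.isLocalization_stalk ⟨y, hy⟩
  haveI := isLocalizedModule_stalk F hU y hy
  exact Module.free_of_isLocalizedModule (hU.primeIdealOf ⟨y, hy⟩).asIdeal.primeCompl
    (germLin F y hy)

theorem isOpen_freeLocus [IsLocallyNoetherian X] (hF : Coh.IsCoh F) : IsOpen (freeLocus F) := by
  haveI : F.IsQuasicoherent := hF.1
  rw [isOpen_iff_forall_mem_open]
  intro x hx
  obtain ⟨W, hW, hxW, -⟩ := Opens.isBasis_iff_nbhd.mp X.isBasis_affineOpens (Opens.mem_top x)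
  haveI : IsNoetherianRing Γ(X, W) := IsLocallyNoetherian.component_noetherian ⟨W, hW⟩
  haveI : Module.Finite Γ(X, W) Γ(F, W) := finite_sections_of_isCoh F hF hW
  haveI : Module.FinitePresentation Γ(X, W) Γ(F, W) := Module.finitePresentation_of_finite _ _
  obtain ⟨f, n, hxf, ⟨e⟩⟩ :=
    Groth.Agent.Lib.helper16.FLF.exists_basicOpen_free_sections F hW x hxW hx
  exact ⟨X.basicOpen f, fun y hy => free_stalk_of_free_sections F (hW.basicOpen f) e y hy,
    (X.basicOpen f).isOpen, hxf⟩

/-- the restriction of a coherent module to an open is coherent -/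
theorem isCoh_restrict' (hF : Coh.IsCoh F) (U : X.Opens) : Coh.IsCoh (F.restrict U.ι) := by
  have hq : F.IsQuasicoherent := hF.1
  refine ⟨inferInstance, ?_⟩
  have h1 := Groth.Agent.Lib.helper16.QCohPullback2.isFiniteType_pullback U.ι F hF.2
  exact Groth.Agent.Lib.helper7.CohKer.isFiniteType_of_epi
    ((restrictFunctorIsoPullback U.ι).inv.app F) h1

/-- a coherent module is finite locally free on any open contained in its free locus -/
theorem isFinLocFree_restrict_of_le_freeLocus [IsLocallyNoetherian X] (hF : Coh.IsCoh F)
    (U : X.Opens) (hU : (U : Set X) ⊆ freeLocus F) : FlatMod.IsFinLocFree (F.restrict U.ι) := by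
  refine Groth.Agent.Lib.helper21.SyzygyFLF.isFinLocFree_of_free_stalks _ (isCoh_restrict' F hF U)
    fun y => ?_
  rw [free_stalk_restrict_iff]
  exact hU y.2

/-- stalks of a module which is finite locally free on `U` are free at the points of `U` -/
theorem free_stalk_of_isFinLocFree_restrict (U : X.Opens)
    (h : FlatMod.IsFinLocFree (F.restrict U.ι)) (y : X) (hy : y ∈ U) :
    Module.Free (X.presheaf.stalk y) (F.presheaf.stalk y) := by
  have h1 := (Groth.Agent.Lib.helper16.FLF.free_stalk_of_isFinLocFree _ h ⟨y, hy⟩).1
  rw [free_stalk_restrict_iff] at h1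
  exact h1

end Groth.Agent.Lib.Lead.RH
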