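import Mathlib

/-!
# Reflexive modules of rank one over a factorial domain are free (lead)

* `exists_mul_of_gcd_eq_one`: if `J` is generated by finitely many elements with gcd `1`, every linear
  functional on `J` is a homothety.
* `one_mem_of_isReflexive`: such a `J`, if reflexive, is the unit ideal.
* `free_ideal_of_isReflexive`: a nonzero finitely generated reflexive ideal of a factorial domain is free.
* `free_of_isReflexive_of_finrank_eq_one`: a finite reflexive module of rank one over a Noetherian
  factorial domain is free.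
* `finrank_eq_of_semilinear`: the rank is invariant under semilinear isomorphisms.
-/

set_option autoImplicit false
set_option linter.style.haveILetI false
set_option linter.unusedSectionVars false

namespace Groth.Agent.Lib.Lead.RefRank

section gcd

variable {A : Type*} [CommRing A] [IsDomain A] [NormalizedGCDMonoid A]

theorem exists_ne_zero_of_gcd_eq_one (s : Finset A) (hs : s.gcd id = 1) : ∃ k ∈ s, k ≠ 0 := by
  by_contra hcon
  push Not at hcon
  have : s.gcd id = 0 := Finset.gcd_eq_zero_iff.2 (fun x hx => hcon x hx)
  rw [hs] at this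
  exact one_ne_zero this

/-- every linear functional on an ideal generated by elements with gcd `1` is a homothety -/
theorem exists_mul_of_gcd_eq_one (s : Finset A) (hs : s.gcd id = 1)
    (ψ : (Ideal.span (s : Set A)) →ₗ[A] A) :
    ∃ c : A, ∀ j : Ideal.span (s : Set A), ψ j = c * j := by
  classical
  have hmem : ∀ b ∈ s, b ∈ Ideal.span (s : Set A) := fun b hb => Ideal.subset_span hb
  obtain ⟨k, hk, hk0⟩ := exists_ne_zero_of_gcd_eq_one s hs
  have hcomm : ∀ b (hb : b ∈ s) b₂ (hb₂ : b₂ ∈ s),
      b₂ * ψ ⟨b, hmem b hb⟩ = b * ψ ⟨b₂, hmem b₂ hb₂⟩ := by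
    intro b hb b₂ hb₂
    have h1 : (b₂ • (⟨b, hmem b hb⟩ : Ideal.span (s : Set A))) =
        b • (⟨b₂, hmem b₂ hb₂⟩ : Ideal.span (s : Set A)) := by
      apply Subtype.ext
      change b₂ * b = b * b₂
      ring
    have h2 := congrArg ψ h1
    rw [map_smul, map_smul, smul_eq_mul, smul_eq_mul] at h2
    exact h2
  have hdvd : k ∣ ψ ⟨k, hmem k hk⟩ := by
    have h1 : k ∣ s.gcd (fun b => ψ ⟨k, hmem k hk⟩ * id b) := by
      apply Finset.dvd_gcd
      intro b hb
      rw [id, mul_comm, hcomm k hk b hb]
      exact Dvd.intro _ rfl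
    have h2 := Finset.gcd_mul_left' s id (ψ ⟨k, hmem k hk⟩)
    rw [hs, mul_one] at h2
    exact h1.trans h2.dvd
  obtain ⟨c, hc⟩ := hdvd
  have hgen : ∀ b (hb : b ∈ s), ψ ⟨b, hmem b hb⟩ = c * b := by
    intro b hb
    have h3 := hcomm b hb k hk
    apply mul_left_cancel₀ hk0
    rw [h3, hc]
    ring
  have hψ : ψ = c • (Ideal.span (s : Set A)).subtype := by
    apply LinearMap.ext_on (Submodule.span_span_coe_preimage (R := A) (s := (s : Set A)))
    rintro ⟨j, hj⟩ hjs
    have hjs' : j ∈ s := hjs
    rw [hgen j hjs']
    rfl
  refine ⟨c, fun j => ?_⟩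
  rw [hψ]
  rfl

/-- a reflexive ideal generated by elements with gcd `1` is the unit ideal -/
theorem one_mem_of_isReflexive (s : Finset A) (hs : s.gcd id = 1)
    [Module.IsReflexive A (Ideal.span (s : Set A))] : (1 : A) ∈ Ideal.span (s : Set A) := by
  classical
  obtain ⟨k, hk, hk0⟩ := exists_ne_zero_of_gcd_eq_one s hs
  let T : A →ₗ[A] Module.Dual A (Ideal.span (s : Set A)) :=
    LinearMap.toSpanSingleton A _ (Ideal.span (s : Set A)).subtype
  have hT : Function.Bijective T := by
    constructor
    · rw [injective_iff_map_eq_zero]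
      intro c hc
      have h1 := LinearMap.congr_fun hc ⟨k, Ideal.subset_span hk⟩
      have h2 : c * k = 0 := h1
      exact (mul_eq_zero.1 h2).resolve_right hk0
    · intro ψ
      obtain ⟨c, hc⟩ := exists_mul_of_gcd_eq_one s hs ψ
      refine ⟨c, ?_⟩
      ext j
      rw [hc j]
      rfl
  let e := LinearEquiv.ofBijective T hT
  let Ψ : Module.Dual A (Module.Dual A (Ideal.span (s : Set A))) := e.symm.toLinearMap
  obtain ⟨j, hj⟩ := (Module.bijective_dual_eval A (Ideal.span (s : Set A))).2 Ψ
  have h1 : (Ideal.span (s : Set A)).subtype j = Ψ (Ideal.span (s : Set A)).subtype := by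
    rw [← hj]; rfl
  have h2 : Ψ (Ideal.span (s : Set A)).subtype = 1 := by
    have h3 : (Ideal.span (s : Set A)).subtype = e 1 := by
      change _ = (1 : A) • (Ideal.span (s : Set A)).subtype
      rw [one_smul]
    change e.symm (Ideal.span (s : Set A)).subtype = 1
    rw [h3, LinearEquiv.symm_apply_apply]
  have h4 : (j : A) = 1 := by rw [← h2, ← h1]; rfl
  rw [← h4]; exact j.2

/-- a nonzero finitely generated reflexive ideal of a GCD domain is free -/
theorem free_ideal_of_isReflexive (I : Ideal A) (hfg : I.FG) (hI : I ≠ ⊥)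
    [Module.IsReflexive A I] : Module.Free A I := by
  classical
  obtain ⟨s, rfl⟩ := hfg
  have hsne : s.Nonempty := by
    by_contra h
    rw [Finset.not_nonempty_iff_eq_empty] at h
    subst h
    exact hI (by simp)
  obtain ⟨f, hf, hf1⟩ := Finset.extract_gcd (id : A → A) hsne
  have hg0 : s.gcd id ≠ 0 := by
    intro h0
    rw [Finset.gcd_eq_zero_iff] at h0
    apply hI
    rw [Submodule.span_eq_bot]
    exact fun x hx => h0 x hx
  have ht : (s.image f).gcd id = 1 := by
    rw [Finset.gcd_image]; exact hf1
  let m : A →ₗ[A] A := LinearMap.mulLeft A (s.gcd id)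
  have hm : Function.Injective m := fun a b h => mul_left_cancel₀ hg0 h
  have hmap : Submodule.map m (Ideal.span ((s.image f : Finset A) : Set A)) =
      Ideal.span (s : Set A) := by
    rw [Ideal.span, Submodule.map_span]
    congr 1
    ext x
    constructor
    · rintro ⟨y, hy, rfl⟩
      rw [Finset.mem_coe, Finset.mem_image] at hy
      obtain ⟨b, hb, rfl⟩ := hy
      have : m (f b) = b := (hf b hb).symm
      rw [this]; exact hb
    · intro hx
      exact ⟨f x, Finset.mem_coe.2 (Finset.mem_image_of_mem f hx), (hf x hx).symm⟩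
  let e : Ideal.span ((s.image f : Finset A) : Set A) ≃ₗ[A] Ideal.span (s : Set A) :=
    (Submodule.equivMapOfInjective m hm _).trans (LinearEquiv.ofEq _ _ hmap)
  haveI : Module.IsReflexive A (Ideal.span ((s.image f : Finset A) : Set A)) :=
    Module.equiv e.symm
  have h1 := one_mem_of_isReflexive (s.image f) ht
  have htop : Ideal.span ((s.image f : Finset A) : Set A) = ⊤ := (Ideal.eq_top_iff_one _).2 h1
  have e2 : A ≃ₗ[A] Ideal.span (s : Set A) :=
    ((LinearEquiv.ofEq _ _ htop).trans Submodule.topEquiv).symm.trans e
  exact Module.Free.of_equiv e2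

end gcd

section ufd

variable {A : Type*} [CommRing A] [IsDomain A] [UniqueFactorizationMonoid A] [IsNoetherianRing A]

/-- a finite reflexive module of rank one over a Noetherian factorial domain is free -/
theorem free_of_isReflexive_of_finrank_eq_one (N : Type*) [AddCommGroup N] [Module A N]
    [Module.Finite A N] [Module.IsReflexive A N] (h1 : Module.finrank A N = 1) :
    Module.Free A N := by
  classical
  letI : StrongNormalizationMonoid A := UniqueFactorizationMonoid.strongNormalizationMonoid
  letI : NormalizedGCDMonoid A := UniqueFactorizationMonoid.toNormalizedGCDMonoid A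
  obtain ⟨φ, hφ⟩ : ∃ φ : Module.Dual A N, φ ≠ 0 := by
    by_contra hcon
    push Not at hcon
    haveI : Subsingleton (Module.Dual A N) := ⟨fun a b => by rw [hcon a, hcon b]⟩
    haveI : Subsingleton (Module.Dual A (Module.Dual A N)) := inferInstance
    haveI : Subsingleton N := (Module.evalEquiv A N).toEquiv.subsingleton
    have : Module.finrank A N = 0 := Module.finrank_zero_of_subsingleton
    omega
  obtain ⟨n₀, hn₀⟩ : ∃ n₀, φ n₀ ≠ 0 := by
    by_contra hcon
    push Not at hcon
    exact hφ (LinearMap.ext hcon)
  have hinj : Function.Injective φ := by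
    rw [injective_iff_map_eq_zero]
    intro x hx
    by_contra hx0
    have hli : LinearIndependent A ![x, n₀] := by
      rw [LinearIndependent.pair_iff]
      intro a b hab
      have h2 := congrArg φ hab
      simp only [map_add, map_smul, hx, mul_zero, zero_add, map_zero, smul_eq_mul] at h2
      have hb : b = 0 := (mul_eq_zero.1 h2).resolve_right hn₀
      subst hb
      rw [zero_smul, add_zero] at hab
      refine ⟨?_, rfl⟩
      by_contra ha
      have hreg : IsRegular a := IsRegular.of_ne_zero ha
      have := (Module.IsTorsionFree.isSMulRegular hreg : IsSMulRegular N a)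
      exact hx0 (this (by change a • x = a • 0; rw [hab, smul_zero]))
    have h3 := hli.fintype_card_le_finrank
    rw [h1] at h3
    simp at h3
  let e : N ≃ₗ[A] LinearMap.range φ := LinearEquiv.ofInjective φ hinj
  haveI : Module.IsReflexive A (LinearMap.range φ) := Module.equiv e
  have hne : LinearMap.range φ ≠ ⊥ := by
    intro h
    apply hn₀
    have h4 : φ n₀ ∈ LinearMap.range φ := ⟨n₀, rfl⟩
    rw [h] at h4
    simpa using h4
  haveI : Module.Free A (LinearMap.range φ) :=
    free_ideal_of_isReflexive (LinearMap.range φ : Ideal A) (IsNoetherian.noetherian _) hne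
  exact Module.Free.of_equiv e.symm

end ufd

/-- the rank is invariant under semilinear isomorphisms -/
theorem finrank_eq_of_semilinear {R R' M M' : Type*} [CommRing R] [CommRing R'] [AddCommGroup M]
    [AddCommGroup M'] [Module R M] [Module R' M'] (σ : R' ≃+* R) (e : M' ≃+ M)
    (he : ∀ (r : R') (m : M'), e (r • m) = σ r • e m) :
    Module.finrank R' M' = Module.finrank R M := by
  have h := lift_rank_eq_of_equiv_equiv (fun r => σ r) e σ.bijective he
  unfold Module.finrank
  have h2 := congrArg Cardinal.toNat h
  simpa using h2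

end Groth.Agent.Lib.Lead.RefRank
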