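import Mathlib
import Groth.Agent.Lib.Lead.RefRank1
import Groth.Agent.Lib.Lead.RefHull9
import Groth.Agent.Lib.Helper16.FLF5
import Groth.Agent.S2821

/-!
# Reflexive sheaves of rank one on regular schemes are invertible (lead)

* `finrank_stalk_eq_sections`: on an integral scheme the rank of the stalk of a quasi-coherent module at
  `x ∈ W` (`W` affine) equals the rank of `Γ(F, W)` over `Γ(X, W)`.
* `finrank_stalk_restrict`: the rank of the stalk of `F|_U` equals the rank of the stalk of `F`.
* `finrank_stalk_eq_one_of_genInvertible`: generically invertible ⇒ all stalks have rank one.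
* `isInvertible_of_free_stalks_of_genInvertible`: coherent, all stalks free, generically invertible ⇒ invertible.
* `isInvertible_of_isReflexive_of_regular`: reflexive of rank one on a regular integral scheme ⇒ invertible.
-/

set_option autoImplicit false
set_option backward.isDefEq.respectTransparency false
set_option linter.style.haveILetI false
set_option linter.unusedSectionVars false
universe u

open CategoryTheory CategoryTheory.Limits AlgebraicGeometry TopologicalSpace Opposite

namespace Groth.Agent.Lib.Lead.RefRank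

open RefHull Groth.Agent.Lib.helper16.CohStalk Groth.Agent.Lib.helper16.CohFinite
open Groth.Agent.Lib.helper25.FlatClass Groth.Agent.Lib.Lead.RH

variable {X : Scheme.{u}} (F : X.Modules)

theorem finrank_stalk_eq_sections [IsIntegral X] [F.IsQuasicoherent] {W : X.Opens}
    (hW : IsAffineOpen W) (x : X) (hxW : x ∈ W) :
    Module.finrank (X.presheaf.stalk x) (F.presheaf.stalk x) =
      Module.finrank Γ(X, W) Γ(F, W) := by
  haveI : Nonempty W := ⟨⟨x, hxW⟩⟩
  haveI : IsDomain Γ(X, W) := inferInstance
  letI := TopCat.Presheaf.algebra_section_stalk X.presheaf (⟨x, hxW⟩ : W)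
  letI := modStalk F x hxW
  haveI := isScalarTower_stalk F x hxW
  haveI : IsLocalization.AtPrime (X.presheaf.stalk x) (hW.primeIdealOf ⟨x, hxW⟩).asIdeal :=
    hW.isLocalization_stalk ⟨x, hxW⟩
  haveI := isLocalizedModule_stalk F hW x hxW
  have hp : (hW.primeIdealOf ⟨x, hxW⟩).asIdeal.primeCompl ≤ nonZeroDivisors Γ(X, W) :=
    Ideal.primeCompl_le_nonZeroDivisors _
  rw [IsLocalization.finrank_eq (X.presheaf.stalk x)
    (hW.primeIdealOf ⟨x, hxW⟩).asIdeal.primeCompl hp,
    IsLocalizedModule.finrank_eq (hW.primeIdealOf ⟨x, hxW⟩).asIdeal.primeCompl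
      (germLin F x hxW) hp]

theorem finrank_stalk_restrict (U : X.Opens) (y : (U : Scheme.{u})) :
    Module.finrank ((U : Scheme.{u}).presheaf.stalk y) ((F.restrict U.ι).presheaf.stalk y) =
      Module.finrank (X.presheaf.stalk (U.ι y)) (F.presheaf.stalk (U.ι y)) :=
  finrank_eq_of_semilinear (resRingEquiv U y) (resStalkEquiv F U y)
    fun r m => resStalk_smul F U y r m

theorem finrank_stalk_eq_one_of_genInvertible [IsIntegral X] [F.IsQuasicoherent]
    (hrk : GenInvertible F) (x : X) :
    Module.finrank (X.presheaf.stalk x) (F.presheaf.stalk x) = 1 := by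
  obtain ⟨U, hUd, hinv⟩ := hrk
  obtain ⟨W, hW, hxW, -⟩ := Opens.isBasis_iff_nbhd.mp X.isBasis_affineOpens (Opens.mem_top x)
  obtain ⟨y, hyW, hyU⟩ := hUd.inter_open_nonempty (W : Set X) W.2 ⟨x, hxW⟩
  rw [finrank_stalk_eq_sections F hW x hxW, ← finrank_stalk_eq_sections F hW y hyW]
  have h1 := Groth.Agent.Lib.helper16.FLF.finrank_stalk_of_isFinLocFreeOfRank _
    ((Groth.Agent.Lib.helper16.FLF.isInvertible_iff_isFinLocFreeOfRank_one _).1 hinv) ⟨y, hyU⟩
  rw [finrank_stalk_restrict] at h1
  exact h1

theorem isInvertible_of_free_stalks_of_genInvertible [IsIntegral X] [IsLocallyNoetherian X]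
    (hF : Coh.IsCoh F) (hrk : GenInvertible F)
    (hfree : ∀ x : X, Module.Free (X.presheaf.stalk x) (F.presheaf.stalk x)) :
    PicF.IsInvertible F := by
  haveI : F.IsQuasicoherent := hF.1
  rw [Groth.Agent.Lib.helper16.FLF.isInvertible_iff_isFinLocFreeOfRank_one]
  rw [Groth.Agent.Lib.helper16.FLF.isFinLocFreeOfRank_iff_finrank_stalk F
    (Groth.Agent.Lib.helper21.SyzygyFLF.isFinLocFree_of_free_stalks F hF hfree)]
  exact finrank_stalk_eq_one_of_genInvertible F hrk

theorem isInvertible_of_isReflexive_of_regular [IsIntegral X] [IsLocallyNoetherian X]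
    (hreg : ∀ x : X, IsRegularLocalRing (X.presheaf.stalk x)) (hF : Coh.IsCoh F)
    (hrefl : RefHull.IsReflexive F) (hrk : GenInvertible F) : PicF.IsInvertible F := by
  haveI : F.IsQuasicoherent := hF.1
  refine isInvertible_of_free_stalks_of_genInvertible F hF hrk fun x => ?_
  haveI := hreg x
  obtain ⟨hd, hufd⟩ := Groth.Agent.S2821.result (X.presheaf.stalk x)
  haveI := hd
  haveI := hufd
  haveI : Module.IsReflexive (X.presheaf.stalk x) (F.presheaf.stalk x) :=
    (Groth.Agent.Lib.Lead.RH.isReflexive_iff_forall_isReflexiveAt F hF).1 hrefl x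
  haveI := finite_stalk_of_isCoh F hF x
  exact free_of_isReflexive_of_finrank_eq_one (F.presheaf.stalk x)
    (finrank_stalk_eq_one_of_genInvertible F hrk x)

end Groth.Agent.Lib.Lead.RefRank
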