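import Mathlib
import Groth.Prelude.Def_Pic13
import Groth.Agent.Lib.Lead.EulerLC3
import Groth.Agent.Lib.Helper18.NilThickScheme
import Groth.Agent.Lib.Helper5.OverField
import Groth.Agent.Lib.Helper21.InvFibre
import Groth.Agent.Lib.Helper16.FLF5
import Groth.Agent.Lib.Helper16.FLF3
import Groth.Agent.Lib.Helper11.InvMod
import Groth.Agent.Lib.Helper12.PullAmple
import Groth.Agent.Lib.Lead.CurveEuler
import Groth.Agent.Lib.Helper9.CurveDegAdd

/-! # Algebraic (τ-) equivalence to zero implies numerical equivalence to zero (lead)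

* `isPullback_sliceAt`: the slice square `Y = (Y ×_k T) ×_T Spec k` at a `k`-point of `T`.
* `euler_fibreMod_eq`: for an invertible module `N` on `Y ×_k T`, `Y` proper over the field `k`, `T` (pre)connected,
  the Euler characteristics of the fibres `N_t`, `N_{t₀}` at any two `k`-points agree (via `EulerLC`).
* `prodMap`, `sliceAt_prodMap`, `fibreModRestrictIso`: restriction of a family along `i : Y ⟶ X`.
* `curveDeg_eq_zero_of_isAlgEquivZero_pow`: if `L^{⊗ n}` (`n > 0`) is algebraically equivalent to zero on the proper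
  `k`-scheme `X`, then `L` has `Pic13.curveDeg` zero on every integral closed curve of `X`. -/

set_option autoImplicit false
set_option linter.style.haveILetI false
universe u
open CategoryTheory CategoryTheory.Limits AlgebraicGeometry TopologicalSpace

namespace Groth.Agent.Lib.Lead.AlgEqNum

variable (k : Type u) [Field k]

section slice

variable (Y : Scheme.{u}) [Y.Over (Spec (CommRingCat.of k))]
  {T : Scheme.{u}} (q : T ⟶ Spec (CommRingCat.of k))

/-- the slice square: `Y = (Y ×_k T) ×_T Spec k` along a `k`-point `t` of `T`. -/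
theorem isPullback_sliceAt (t : Spec (CommRingCat.of k) ⟶ T) (ht : t ≫ q = 𝟙 _) :
    IsPullback (Pic13.sliceAt k Y q t ht) (Y ↘ Spec (CommRingCat.of k))
      (pullback.snd (Y ↘ Spec (CommRingCat.of k)) q) t := by
  have hcomm : Pic13.sliceAt k Y q t ht ≫ pullback.snd (Y ↘ Spec (CommRingCat.of k)) q =
      (Y ↘ Spec (CommRingCat.of k)) ≫ t := by
    unfold Pic13.sliceAt
    exact pullback.lift_snd _ _ _
  have hfst : Pic13.sliceAt k Y q t ht ≫ pullback.fst (Y ↘ Spec (CommRingCat.of k)) q = 𝟙 Y := by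
    unfold Pic13.sliceAt
    exact pullback.lift_fst _ _ _
  refine IsPullback.of_right ?_ hcomm (IsPullback.of_hasPullback (Y ↘ Spec (CommRingCat.of k)) q)
  rw [hfst, ht]
  exact IsPullback.of_horiz_isIso ⟨by simp⟩

variable [IsProper (Y ↘ Spec (CommRingCat.of k))]

/-- **Invariance of the Euler characteristic in a connected family of invertible modules** on a proper
`k`-scheme, along `k`-points of the base. -/
theorem euler_fibreMod_eq [PreconnectedSpace T] (N : (Pic13.prodK k Y q).Modules)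
    (hN : PicF.IsInvertible N) (t t₀ : Spec (CommRingCat.of k) ⟶ T) (ht : t ≫ q = 𝟙 _)
    (ht₀ : t₀ ≫ q = 𝟙 _) :
    Curv2.euler k Y (Pic13.fibreMod k Y q t ht N) = Curv2.euler k Y (Pic13.fibreMod k Y q t₀ ht₀ N) := by
  let g : Pic13.prodK k Y q ⟶ T := pullback.snd (Y ↘ Spec (CommRingCat.of k)) q
  haveI : IsProper g := by dsimp only [g]; infer_instance
  haveI : LocallyOfFinitePresentation (Y ↘ Spec (CommRingCat.of k)) :=
    Groth.Agent.Lib.Helper18.NilThick.locallyOfFinitePresentation_of_isLocallyNoetherian _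
  haveI : LocallyOfFinitePresentation g := by dsimp only [g]; infer_instance
  haveI : Flat (Y ↘ Spec (CommRingCat.of k)) := Groth.Agent.Lib.helper5.OverField.flat_of_field _
  haveI : Flat g := by dsimp only [g]; infer_instance
  have hflf : FlatMod.IsFinLocFree N := Groth.Agent.Lib.helper16.FLF.isFinLocFree_of_isInvertible hN
  have hfl : FlatMod.IsFlatOver g N :=
    Groth.Agent.Lib.helper21.InvFibre.isFlatOver_of_isFinLocFree g N hflf
  have hFP : CohB1.IsFP N := Groth.Agent.Lib.helper16.FLF.isFinitePresentation_of_isFinLocFree _ hflf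
  exact Groth.Agent.Lib.Lead.EulerLC.euler_eq_of_preconnected g N hFP hfl
    k t (Pic13.sliceAt k Y q t ht) (isPullback_sliceAt k Y q t ht) _ (Iso.refl _)
    k t₀ (Pic13.sliceAt k Y q t₀ ht₀) (isPullback_sliceAt k Y q t₀ ht₀) _ (Iso.refl _)

end slice

section restrict

variable (X : Scheme.{u}) [X.Over (Spec (CommRingCat.of k))]
  (Y : Scheme.{u}) [Y.Over (Spec (CommRingCat.of k))] (i : Y ⟶ X)
  (hi : i ≫ (X ↘ Spec (CommRingCat.of k)) = (Y ↘ Spec (CommRingCat.of k)))
  {T : Scheme.{u}} (q : T ⟶ Spec (CommRingCat.of k))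

/-- `Y ×_k T ⟶ X ×_k T` induced by `i : Y ⟶ X` -/
noncomputable def prodMap : Pic13.prodK k Y q ⟶ Pic13.prodK k X q :=
  pullback.map _ _ _ _ i (𝟙 T) (𝟙 _) (by rw [Category.comp_id, hi]) (by simp)

theorem sliceAt_prodMap (t : Spec (CommRingCat.of k) ⟶ T) (ht : t ≫ q = 𝟙 _) :
    Pic13.sliceAt k Y q t ht ≫ prodMap k X Y i hi q = i ≫ Pic13.sliceAt k X q t ht := by
  unfold Pic13.sliceAt prodMap
  apply pullback.hom_ext
  · simp only [Category.assoc, pullback.map, pullback.lift_fst, pullback.lift_fst_assoc,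
      Category.id_comp, Category.comp_id]
  · simp only [Category.assoc, pullback.lift_snd, pullback.map, Category.comp_id]
    rw [← hi, Category.assoc]

/-- restriction of a family commutes with taking fibres -/
noncomputable def fibreModRestrictIso (M : (Pic13.prodK k X q).Modules)
    (t : Spec (CommRingCat.of k) ⟶ T) (ht : t ≫ q = 𝟙 _) :
    Pic13.fibreMod k Y q t ht ((Scheme.Modules.pullback (prodMap k X Y i hi q)).obj M) ≅
      (Scheme.Modules.pullback i).obj (Pic13.fibreMod k X q t ht M) :=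
  ((Scheme.Modules.pullbackComp (Pic13.sliceAt k Y q t ht) (prodMap k X Y i hi q)).app M) ≪≫
    ((Scheme.Modules.pullbackCongr (sliceAt_prodMap k X Y i hi q t ht)).app M) ≪≫
    ((Scheme.Modules.pullbackComp i (Pic13.sliceAt k X q t ht)).app M).symm

end restrict

section main

open Groth.Agent.Lib.helper11.InvMod Groth.Agent.Lib.helper12.PullAmple
  Groth.Agent.Lib.Lead.CurveEuler Groth.Agent.Lib.helper9.CurveDegAdd Groth.Agent.Lib.Lead.EulerLC

/-- **A power algebraically equivalent to zero has degree zero on every integral closed curve.** -/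
theorem curveDeg_eq_zero_of_isAlgEquivZero_pow (X : Scheme.{u}) [X.Over (Spec (CommRingCat.of k))]
    [IsProper (X ↘ Spec (CommRingCat.of k))] (L : X.Modules) (hL : PicF.IsInvertible L)
    (n : ℕ) (hn : 0 < n) (h : Pic13.IsAlgEquivZero k X (CohB1.tensorPow L n))
    (Y : Scheme.{u}) (i : Y ⟶ X) [IsClosedImmersion i] (hY : IsIntegral Y)
    (hdim : topologicalKrullDim Y = 1) :
    Pic13.curveDeg k (i ≫ (X ↘ Spec (CommRingCat.of k))) ((Scheme.Modules.pullback i).obj L) = 0 := by
  obtain ⟨T, q, hconn, hlft, hqc, M, hM, t, t₀, ht, ht₀, ⟨e⟩, ⟨e₀⟩⟩ := h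
  letI : Y.Over (Spec (CommRingCat.of k)) := ⟨i ≫ (X ↘ Spec (CommRingCat.of k))⟩
  have hi : i ≫ (X ↘ Spec (CommRingCat.of k)) = (Y ↘ Spec (CommRingCat.of k)) := rfl
  haveI : IsProper (Y ↘ Spec (CommRingCat.of k)) := by rw [← hi]; infer_instance
  haveI := hY
  let N := (Scheme.Modules.pullback (prodMap k X Y i hi q)).obj M
  have hN : PicF.IsInvertible N := isInvertible_pullback _ hM
  have h1 := euler_fibreMod_eq k Y q N hN t t₀ ht ht₀
  let Li := (Scheme.Modules.pullback i).obj L
  have hLi : PicF.IsInvertible Li := isInvertible_pullback i hL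
  let E1 : Pic13.fibreMod k Y q t ht N ≅ CohB1.tensorPow Li n :=
    fibreModRestrictIso k X Y i hi q M t ht ≪≫ (Scheme.Modules.pullback i).mapIso e ≪≫
      pullTensorPowIso i hL n
  let E0 : Pic13.fibreMod k Y q t₀ ht₀ N ≅ Coh.structureModule Y :=
    fibreModRestrictIso k X Y i hi q M t₀ ht₀ ≪≫ (Scheme.Modules.pullback i).mapIso e₀ ≪≫
      pullbackUnitIso i
  rw [euler_eq_of_iso k Y E1, euler_eq_of_iso k Y E0] at h1
  have hdim' : topologicalKrullDim Y ≤ 1 := hdim.le
  have h2 := deg_tensorPow k Y hdim' hLi n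
  have h3 : Curv2.deg k Y (CohB1.tensorPow Li n) 1 = 0 := by
    unfold Curv2.deg
    rw [h1]
    simp
  rw [h3] at h2
  have h4 : Curv2.deg k Y Li 1 = 0 := by
    have hn' : (n : ℤ) ≠ 0 := by exact_mod_cast hn.ne'
    rcases mul_eq_zero.1 h2.symm with h | h
    · exact absurd h hn'
    · exact h
  have hq1 : Coh.IsQCoh Li := (Groth.Agent.Lib.helper21.InvFibre.isCoh_of_isInvertible hLi).1
  have hq0 : Coh.IsQCoh (Coh.structureModule Y) := inferInstance
  have hv : ∀ (F : Y.Modules), Coh.IsQCoh F → ∀ j : ℕ, 1 < j → Subsingleton (Coh.HH Y F j) := by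
    intro F hF j hj
    obtain ⟨m, rfl⟩ : ∃ m, j = m + 2 := ⟨j - 2, by omega⟩
    exact subsingleton_HH k Y hdim' F hF m
  unfold Pic13.curveDeg
  change FGA.eulerCharLE k Y Li 1 - FGA.eulerCharLE k Y (Coh.structureModule Y) 1 = 0
  rw [eulerCharLE_eq_euler k Y Li 1 (hv Li hq1), eulerCharLE_eq_euler k Y _ 1 (hv _ hq0)]
  unfold Curv2.deg at h4
  simpa using h4

end main

end Groth.Agent.Lib.Lead.AlgEqNum
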