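import Mathlib
import Groth.Agent.Lib.Lead.HilbFin3

/-! # Euler characteristics at field-valued points without flatness (lead)

* `euler_eq_fiber_of_point`: `f : X ⟶ S` proper, `G` f.p. on `X`, `b : Spec K ⟶ S` a field-valued point and
  `T = X ×_S Spec K` any fibre product: `χ_K(T, G_T) = χ_{κ(s)}(X_s, G|_{X_s})` for `s = b(pt)` (no flatness of `G` over
  `S`; proof: `EulerLC.euler_eq_eulerChar_of_point` over the base `Spec κ(s)`, where everything is flat). -/

set_option autoImplicit false
set_option linter.style.haveILetI false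
set_option linter.unusedSectionVars false
universe u
open CategoryTheory CategoryTheory.Limits AlgebraicGeometry TopologicalSpace Polynomial

namespace Groth.Agent.Lib.Lead.HilbFin

open Groth.Agent.Lib.Lead.ModTensor Groth.Agent.Lib.helper12.PullTensor
  Groth.Agent.Lib.helper12.PullAmple Groth.Agent.Lib.helper12.TensorInv
  Groth.Agent.Lib.Lead.CurveEuler Groth.Agent.Lib.helper11.InvMod Groth.Agent.Lib.Lead.EulerLC

section point

variable {X S : Scheme.{u}} (f : X ⟶ S) [IsProper f]

/-- **The Euler characteristic of the base change of a f.p. module to a field-valued point is the Euler characteristic of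
its restriction to the fibre at the image point** (no flatness over `S` needed). -/
theorem euler_eq_fiber_of_point (G : X.Modules) (hG : CohB1.IsFP G) (K : Type u) [Field K]
    (b : Spec (CommRingCat.of K) ⟶ S)
    {T : Scheme.{u}} (o : T ⟶ Spec (CommRingCat.of K)) (t : T ⟶ X)
    (hT : IsPullback t o f b) (G₁ : T.Modules) (e₁ : G₁ ≅ (Scheme.Modules.pullback t).obj G) :
    @Curv2.euler K _ T ⟨o⟩ G₁ =
      @Curv2.euler (S.residueField (b (IsLocalRing.closedPoint K))) _
        (f.fiber (b (IsLocalRing.closedPoint K)))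
        ⟨f.fiberToSpecResidueField (b (IsLocalRing.closedPoint K))⟩
        ((Scheme.Modules.pullback (f.fiberι (b (IsLocalRing.closedPoint K)))).obj G) := by
  set s : S := b (IsLocalRing.closedPoint K) with hs
  letI i₁ : T.Over (Spec (CommRingCat.of K)) := ⟨o⟩
  let κ : Type u := S.residueField s
  let o₂ : f.fiber s ⟶ Spec (CommRingCat.of κ) := f.fiberToSpecResidueField s
  letI i₂ : (f.fiber s).Over (Spec (CommRingCat.of κ)) := ⟨o₂⟩
  haveI : IsProper o₂ := inferInstanceAs (IsProper (pullback.snd f (S.fromSpecResidueField s)))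
  haveI : LocallyOfFinitePresentation o₂ :=
    Groth.Agent.Lib.Helper18.NilThick.locallyOfFinitePresentation_of_isLocallyNoetherian _
  let F₂ := (Scheme.Modules.pullback (f.fiberι s)).obj G
  have hF₂ : CohB1.IsFP F₂ :=
    Groth.Agent.Lib.helper16.QCohPullback2.isFinitePresentation_pullback (f.fiberι s) G hG
  have hfl : FlatMod.IsFlatOver o₂ F₂ := Groth.Agent.Lib.Lead.AlgEqTensor.isFlatOver_field κ o₂ F₂
  let c : Spec (CommRingCat.of K) ⟶ Spec (CommRingCat.of κ) :=
    Spec.map (Scheme.descResidueField (Scheme.stalkClosedPointTo b))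
  have hc : c ≫ S.fromSpecResidueField s = b :=
    Scheme.descResidueField_stalkClosedPointTo_fromSpecResidueField K S b
  let θ : T ⟶ f.fiber s := pullback.lift t (o ≫ c) (by rw [hT.w, Category.assoc, hc])
  have hθ₁ : θ ≫ f.fiberι s = t := pullback.lift_fst _ _ _
  have hθ₂ : θ ≫ o₂ = o ≫ c := pullback.lift_snd _ _ _
  have sq₁ : IsPullback θ (T ↘ Spec (CommRingCat.of K)) o₂ c := by
    refine IsPullback.of_right ?_ hθ₂ (IsPullback.of_hasPullback f (S.fromSpecResidueField s))
    rw [show θ ≫ pullback.fst f (S.fromSpecResidueField s) = t from hθ₁, hc]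
    exact hT
  have sq₂ : IsPullback (𝟙 (f.fiber s)) ((f.fiber s) ↘ Spec (CommRingCat.of κ)) o₂ (𝟙 _) :=
    IsPullback.of_horiz_isIso ⟨by rw [Category.comp_id, Category.id_comp]; rfl⟩
  have a₁ := euler_eq_eulerChar_of_point o₂ F₂ hF₂ hfl K c θ sq₁ G₁
    (e₁ ≪≫ (Scheme.Modules.pullbackCongr hθ₁.symm).app G ≪≫
      ((Scheme.Modules.pullbackComp θ (f.fiberι s)).app G).symm)
  have a₂ := euler_eq_eulerChar_of_point o₂ F₂ hF₂ hfl κ (𝟙 _) (𝟙 (f.fiber s)) sq₂ F₂
    (((Scheme.Modules.pullbackId (f.fiber s)).app F₂).symm)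
  have hpt : c.base (⊥ : PrimeSpectrum K) =
      (𝟙 (Spec (CommRingCat.of κ)) : _ ⟶ _).base (⊥ : PrimeSpectrum κ) :=
    Subsingleton.elim (α := PrimeSpectrum κ) _ _
  rw [hpt] at a₁
  exact a₁.trans a₂.symm

end point

end Groth.Agent.Lib.Lead.HilbFin
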