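import Mathlib
import Groth.Prelude.Def_Pic13
import Groth.Prelude.Def_FGA
import Groth.Agent.Lib.Lead.HilbFin4
import Groth.Agent.Lib.Lead.AlgEqNum
import Groth.Agent.Lib.Lead.ProperDim
import Groth.Agent.Lib.Lead.SerreFin
import Groth.Agent.Lib.Helper20.BoundedEpi
import Groth.Agent.Lib.Helper20.MumfordUnif4
import Groth.Agent.Lib.Helper20.PushReg
import Groth.Agent.Lib.Helper20.BoundedPn
import Groth.Agent.Lib.Helper28.TwistPn
import Groth.Agent.Lib.Helper11.AmpleInv
import Groth.Agent.Lib.Helper12.TensorInv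
import Groth.Agent.Lib.Lead.RankAdd

/-! # Bounded families on a closed subscheme of `P^n_k`: finitely many Hilbert polynomials and uniform regularity (lead)

* `twistFamPn n k : ZFam (P^n_k)`: the Serre twists as a `ℤ`-family.
* `exists_finite_polys_of_isBounded`: a bounded family (`Pic13.IsBounded`) on a proper `k`-scheme has only finitely
  many Hilbert polynomials with respect to any `ℤ`-family of invertible twists.
* `main`: for `X ⊆ P^n_k` closed (`k` algebraically closed, used only for `Infinite k`), a bounded family of coherent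
  modules is uniformly `m`-regular and has finitely many Hilbert polynomials (uses helper20's `exists_epi_of_isBounded`
  and `exists_regular_kernel`).
-/

set_option autoImplicit false
set_option linter.style.haveILetI false
set_option linter.unusedSectionVars false
universe u
open CategoryTheory CategoryTheory.Limits AlgebraicGeometry Polynomial

namespace Groth.Agent.Lib.Lead.BddHilb

open Groth.Agent.Lib.Lead.HilbFin Groth.Agent.Lib.Lead.ModTensor
  Groth.Agent.Lib.helper12.PullTensor Groth.Agent.Lib.helper11.InvMod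
  Groth.Agent.Lib.Lead.CurveEuler Groth.Agent.Lib.helper28

/-- the Serre twists on `P^n_k` -/
noncomputable def twistFamPn (n : ℕ) (k : Type u) [Field k] : ZFam (CohB1.ProjSpace n k) where
  T m := Twist.twistProjSpace n k m
  inv m := TwistPn.isInvertible n k m
  mul a b := ⟨TwistPn.tensorIso n k a b⟩
  zero := ⟨(TwistPn.zeroIso n k).symm⟩

section bdd

variable (k : Type u) [Field k] (X : Scheme.{u}) [X.Over (Spec (CommRingCat.of k))]
  [IsProper (X ↘ Spec (CommRingCat.of k))]

/-- **a bounded family has only finitely many Hilbert polynomials** (with respect to any `ℤ`-family of twists) -/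
theorem exists_finite_polys_of_isBounded (Z : ZFam X) (P : X.Modules → Prop)
    (hb : Pic13.IsBounded k X P) :
    ∃ I : Set ℚ[X], I.Finite ∧ ∀ L, P L → ∃ φ ∈ I, ∀ d : ℤ,
      (Curv2.euler k X (CohB1.tensorMod L (Z.T d)) : ℚ) = φ.eval (d : ℚ) := by
  obtain ⟨T, q, hlft, hqc, F, hF, hall⟩ := hb
  let pX := X ↘ Spec (CommRingCat.of k)
  let f : Pic13.prodK k X q ⟶ T := pullback.snd pX q
  let pr : Pic13.prodK k X q ⟶ X := pullback.fst pX q
  haveI : IsProper f := by dsimp only [f, pX]; infer_instance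
  haveI : CompactSpace T := QuasiCompact.compactSpace_of_compactSpace q
  haveI : IsLocallyNoetherian T := LocallyOfFiniteType.isLocallyNoetherian q
  haveI : LocallyOfFinitePresentation f :=
    Groth.Agent.Lib.Helper18.NilThick.locallyOfFinitePresentation_of_isLocallyNoetherian _
  haveI : IsLocallyNoetherian (Pic13.prodK k X q) := LocallyOfFiniteType.isLocallyNoetherian f
  have hFP : CohB1.IsFP F := Groth.Agent.Lib.helper16.CohFinite.isFinitePresentation_of_isCoh F hF
  haveI : F.IsQuasicoherent := hF.1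
  obtain ⟨I, hI, h⟩ := exists_finite_polys f (Z.pull pr) F hFP
  refine ⟨I, hI, fun L hL => ?_⟩
  obtain ⟨t, ht, ⟨e⟩⟩ := hall L hL
  obtain ⟨φ, hφ, hφe⟩ := h (t (IsLocalRing.closedPoint k))
  refine ⟨φ, hφ, fun d => ?_⟩
  rw [← hφe d]
  congr 1
  have hsl : Pic13.sliceAt k X q t ht ≫ pr = 𝟙 X := by
    unfold Pic13.sliceAt
    exact pullback.lift_fst _ _ _
  have hFPd : CohB1.IsFP (CohB1.tensorMod F ((Z.pull pr).T d)) :=
    Groth.Agent.Lib.Lead.SnapperLC.isFP_tensorMod_of_isInvertible F _ hFP ((Z.pull pr).inv d)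
  exact euler_eq_fiber_of_point f _ hFPd k t (X ↘ Spec (CommRingCat.of k))
    (Pic13.sliceAt k X q t ht) (Groth.Agent.Lib.Lead.AlgEqNum.isPullback_sliceAt k X q t ht) _
    (tensorIso e.symm
        (((Scheme.Modules.pullbackId X).app (Z.T d)).symm ≪≫
          (Scheme.Modules.pullbackCongr hsl.symm).app (Z.T d) ≪≫
          ((Scheme.Modules.pullbackComp (Pic13.sliceAt k X q t ht) pr).app (Z.T d)).symm) ≪≫
      (pullTensorIso (Pic13.sliceAt k X q t ht) F _ ((Z.pull pr).inv d)).symm)

end bdd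


section main

variable (k : Type u) [Field k] [IsAlgClosed k] {n : ℕ} {X : Scheme.{u}}
  [X.Over (Spec (CommRingCat.of k))]
  (i : X ⟶ CohB1.ProjSpace n k) [IsClosedImmersion i]
  (hi : i ≫ CohB1.ProjSpace.toSpec n k = X ↘ Spec (CommRingCat.of k))

include hi in
theorem main (P : X.Modules → Prop) (hP : ∀ F, P F → Coh.IsCoh F)
    (hb : Pic13.IsBounded k X P) :
    (∃ m : ℤ, ∀ F, P F → Pic13.IsMRegular k i F m) ∧
      ∃ s : Finset (Polynomial ℚ), ∀ F, P F → ∃ φ ∈ s, ∀ d : ℤ,
        (FGA.eulerCharLE k X (Pic13.twistOn k i F d) n : ℚ) = φ.eval (d : ℚ) := by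
  classical
  haveI : Infinite k := IsAlgClosed.instInfinite
  haveI : IsProper (CohB1.ProjSpace n k ↘ Spec (CommRingCat.of k)) :=
    Groth.Agent.Lib.helper19.ProjSpaceProper.proper_toSpec n k
  haveI : IsProper (X ↘ Spec (CommRingCat.of k)) := by
    rw [← hi]
    haveI : IsProper (CohB1.ProjSpace.toSpec n k) :=
      Groth.Agent.Lib.helper19.ProjSpaceProper.proper_toSpec n k
    infer_instance
  obtain ⟨I, hI, hpoly⟩ := exists_finite_polys_of_isBounded k X ((twistFamPn n k).pull i) P hb
  have hpoly' : ∀ F, P F → ∃ φ ∈ I, ∀ d : ℤ,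
      (Curv2.euler k X (Pic13.twistOn k i F d) : ℚ) = φ.eval (d : ℚ) := hpoly
  refine ⟨?_, hI.toFinset, fun F hF => ?_⟩
  · -- uniform regularity
    obtain ⟨N, m, hepi⟩ := Groth.Agent.Lib.Helper20.BoundedEpi.exists_epi_of_isBounded k i hi P hb
    set E : X.Modules :=
      ∐ fun _ : Fin m => Pic13.twistOn k i (Coh.structureModule X) (-(N : ℤ)) with hE
    have hEcoh : Coh.IsCoh E :=
      Groth.Agent.Lib.Lead.RankAdd.isCoh_of_isFinLocFree
        (Groth.Agent.Lib.helper11.AmpleInv.isFinLocFree_sigma_of_isInvertible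
          (Groth.Agent.Lib.helper12.TensorInv.isInvertible_tensorMod
            (isInvertible_structureModule X) (((twistFamPn n k).pull i).inv _)) m)
    choose m₀ hm₀0 hm₀ using fun φ : ℚ[X] =>
      Groth.Agent.Lib.Helper20.MumfordUnif.exists_regular_kernel i hi E hEcoh φ
    obtain ⟨M₀, hM₀⟩ := (hI.image m₀).bddAbove
    refine ⟨M₀ + n, fun F hF => ?_⟩
    have hFc := hP F hF
    obtain ⟨φ, hφ, hφe⟩ := hpoly' F hF
    obtain ⟨p, hp⟩ := hepi F hF
    have h2 := (hm₀ φ F p hFc hp (fun d => by exact_mod_cast hφe (d : ℤ))).2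
    refine Groth.Agent.Lib.helper20.PushReg.regular_of_push i hFc ?_
    intro q hq1 hqn
    refine h2 _ ?_ q hq1
    have : m₀ φ ≤ M₀ := hM₀ ⟨φ, hφ, rfl⟩
    have hqn' : (q : ℤ) ≤ n := by exact_mod_cast hqn
    linarith
  · obtain ⟨φ, hφ, hφe⟩ := hpoly' F hF
    refine ⟨φ, hI.mem_toFinset.2 hφ, fun d => ?_⟩
    rw [← hφe d]
    haveI : F.IsQuasicoherent := (hP F hF).1
    haveI : (Pic13.twistOn k i F d).IsQuasicoherent :=
      Groth.Agent.Lib.Lead.ProjectiveVan.isQuasicoherent_twistOn i F d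
    rw [Groth.Agent.Lib.Helper20.BoundedPn.eulerCharLE_eq i (Pic13.twistOn k i F d)]

end main

end Groth.Agent.Lib.Lead.BddHilb
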