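import Mathlib
import Groth.Prelude.Def_Pic13
import Groth.Prelude.Def_FGA
import Groth.Agent.Lib.Lead.BddHilb
import Groth.Agent.Lib.Helper14.PicCls2
import Groth.Agent.Lib.Helper12.TensorInvLocal
import Groth.Agent.Lib.Helper2.TensorQCoh
import Groth.Agent.Lib.Helper7.SnapperSplit

/-! # Intersection numbers of a bounded family (lead)

* `zfamOfUnit u : ZFam X`: the `ℤ`-family of powers of a unit `u` of helper14's monoid `Cls X` of isomorphism classes of
  modules; `unitOfIso e` for `e : L ⊗ L' ≅ O`; `cls_zfamOfUnit`, `cls_zfamOfUnit_nat`, `cls_zfamOfUnit_neg_nat`.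
* `exists_poly_int_le`: Snapper's polynomial `m ↦ χ(G ⊗ T m)` (all integers `m`) has degree `≤ dim`.
* `isCoh_tensorPow`, `isBounded_tensorPow`: tensor powers of a bounded family (`Pic13.IsBounded`) form a bounded family.
* `finite_polys`: finitely many polynomials of degree `≤ r` with values at `0..r` in given finite sets.
* `main`: for a bounded family `P` on a proper `k`-scheme of dimension `≤ r`, the numbers
  `FGA.intNum k X r M O_X`, `M i ∈ {L', H'}` (`L'` inverse to a member of `P`, `H'` a fixed module with a tensor inverse), are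
  bounded in absolute value.
-/

set_option autoImplicit false
set_option linter.style.haveILetI false
set_option linter.unusedSectionVars false
universe u
open CategoryTheory CategoryTheory.Limits AlgebraicGeometry Polynomial

namespace Groth.Agent.Lib.Lead.BddInt

open Groth.Agent.Lib.Lead.HilbFin Groth.Agent.Lib.Lead.ModTensor
  Groth.Agent.Lib.Lead.CurveEuler Groth.Agent.Lib.Helper14.PicCls

section zfam

variable {X : Scheme.{u}}

/-- the `ℤ`-family of powers of a unit class of modules -/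
noncomputable def zfamOfUnit (u : (Cls X)ˣ) : ZFam X where
  T d := (cls_surjective ((u ^ d : (Cls X)ˣ) : Cls X)).choose
  inv d := by
    have h1 := (cls_surjective ((u ^ d : (Cls X)ˣ) : Cls X)).choose_spec
    have h2 := (cls_surjective ((u ^ (-d) : (Cls X)ˣ) : Cls X)).choose_spec
    have h3 : cls (CohB1.tensorMod (cls_surjective ((u ^ d : (Cls X)ˣ) : Cls X)).choose
        (cls_surjective ((u ^ (-d) : (Cls X)ˣ) : Cls X)).choose) = cls (Coh.structureModule X) := by
      rw [cls_tensor, h1, h2, ← Units.val_mul, ← zpow_add, add_neg_cancel, zpow_zero]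
      rfl
    obtain ⟨e⟩ := cls_eq_iff.1 h3
    exact Groth.Agent.Lib.helper12.TensorInvLocal.isInvertible_of_tensor_iso _ _ e
  mul a b := by
    have h1 := (cls_surjective ((u ^ a : (Cls X)ˣ) : Cls X)).choose_spec
    have h2 := (cls_surjective ((u ^ b : (Cls X)ˣ) : Cls X)).choose_spec
    have h3 := (cls_surjective ((u ^ (a + b) : (Cls X)ˣ) : Cls X)).choose_spec
    apply cls_eq_iff.1
    rw [cls_tensor, h1, h2, h3, ← Units.val_mul, ← zpow_add]
  zero := by
    have h1 := (cls_surjective ((u ^ (0 : ℤ) : (Cls X)ˣ) : Cls X)).choose_spec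
    apply cls_eq_iff.1
    rw [h1, zpow_zero]
    rfl

theorem cls_zfamOfUnit (u : (Cls X)ˣ) (d : ℤ) :
    cls ((zfamOfUnit u).T d) = ((u ^ d : (Cls X)ˣ) : Cls X) :=
  (cls_surjective ((u ^ d : (Cls X)ˣ) : Cls X)).choose_spec

theorem cls_zfamOfUnit_nat (u : (Cls X)ˣ) (d : ℕ) :
    cls ((zfamOfUnit u).T (d : ℤ)) = (u : Cls X) ^ d := by
  rw [cls_zfamOfUnit, zpow_natCast, Units.val_pow_eq_pow_val]

theorem cls_zfamOfUnit_neg_nat (u : (Cls X)ˣ) (d : ℕ) :
    cls ((zfamOfUnit u).T (-(d : ℤ))) = ((u⁻¹ : (Cls X)ˣ) : Cls X) ^ d := by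
  rw [cls_zfamOfUnit, zpow_neg, zpow_natCast, ← inv_pow, Units.val_pow_eq_pow_val]

/-- the unit class of a module with a tensor inverse -/
noncomputable def unitOfIso {L L' : X.Modules}
    (e : CohB1.tensorMod L L' ≅ Coh.structureModule X) : (Cls X)ˣ where
  val := cls L
  inv := cls L'
  val_inv := cls_eq_of_iso e
  inv_val := by rw [mul_comm]; exact cls_eq_of_iso e

end zfam

section poly

variable (k : Type u) [Field k] (Y : Scheme.{u}) [Y.Over (Spec (CommRingCat.of k))]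
  [IsProper (Y ↘ Spec (CommRingCat.of k))]

theorem euler_eq_of_cls_eq {A B : Y.Modules} (h : cls A = cls B) :
    Curv2.euler k Y A = Curv2.euler k Y B := by
  obtain ⟨e⟩ := cls_eq_iff.1 h
  exact euler_eq_of_iso k Y e

/-- Snapper with degree bound, for all integers -/
theorem exists_poly_int_le (Z : ZFam Y) (G : Y.Modules) (hG : Coh.IsCoh G) (d : ℕ)
    (hd : topologicalKrullDim Y ≤ ((d : ℕ) : WithBot ℕ∞)) :
    ∃ p : ℚ[X], p.natDegree ≤ d ∧ ∀ m : ℤ,
      (Curv2.euler k Y (CohB1.tensorMod G (Z.T m)) : ℚ) = p.eval (m : ℚ) := by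
  obtain ⟨p, hp⟩ := exists_poly_int k Y Z G hG
  have hsupp : topologicalKrullDim (CohB1.support G) ≤ ((d : ℕ) : WithBot ℕ∞) :=
    (topologicalKrullDim_subspace_le _ _).trans hd
  obtain ⟨q, hq, hdeg⟩ := Groth.Agent.Lib.Lead.HilbPos.exists_isHilbPoly k Y (Z.inv 1) hG d hsupp
  have hpq : p = q := by
    apply Groth.Agent.Lib.Lead.HilbPos.eq_of_eval_nat_eq
    intro i
    have h1 := hp (i : ℤ)
    rw [Int.cast_natCast] at h1
    rw [← h1, ← hq i]
    obtain ⟨e⟩ := Z.nonempty_powIso i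
    congr 1
    exact euler_eq_of_iso k Y (tensorIso (Iso.refl G) e)
  exact ⟨p, hpq ▸ hdeg, hp⟩

end poly

section bdd

variable (k : Type u) [Field k] (X : Scheme.{u}) [X.Over (Spec (CommRingCat.of k))]

theorem isCoh_tensorPow {Y : Scheme.{u}} {F : Y.Modules} (hF : Coh.IsCoh F) :
    ∀ j : ℕ, Coh.IsCoh (CohB1.tensorPow F j)
  | 0 => Groth.Agent.Lib.helper11.AmpleInv.isCoh_structureModule Y
  | j + 1 => by
    have ih := isCoh_tensorPow hF j
    haveI := ih.1
    haveI := hF.1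
    exact ⟨Groth.Agent.Lib.helper2.TensorQCoh.isQuasicoherent_tensorMod _ _,
      Groth.Agent.Lib.helper2.TensorQCoh.isFiniteType_tensorMod _ _ ih.2 hF.2⟩

/-- tensor powers of a bounded family form a bounded family -/
theorem isBounded_tensorPow (P : X.Modules → Prop) (hb : Pic13.IsBounded k X P) (j : ℕ) :
    Pic13.IsBounded k X (fun M => ∃ L, P L ∧ Nonempty (M ≅ CohB1.tensorPow L j)) := by
  obtain ⟨T, q, hlft, hqc, F, hF, hall⟩ := hb
  refine ⟨T, q, hlft, hqc, CohB1.tensorPow F j, isCoh_tensorPow hF j, ?_⟩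
  rintro M ⟨L, hL, ⟨e⟩⟩
  obtain ⟨t, ht, ⟨i⟩⟩ := hall L hL
  refine ⟨t, ht, ?_⟩
  apply cls_eq_iff.1
  have h1 : cls (Pic13.fibreMod k X q t ht (CohB1.tensorPow F j)) =
      pull (Pic13.sliceAt k X q t ht) (cls (CohB1.tensorPow F j)) := rfl
  have h2 : cls L = pull (Pic13.sliceAt k X q t ht) (cls F) := (cls_eq_of_iso i).symm
  rw [h1, cls_tensorPow, map_pow, ← h2, ← cls_tensorPow]
  exact (cls_eq_of_iso e).symm

end bdd


section main

/-- polynomials of bounded degree with prescribed finite sets of values at `0, …, r` form a finite set -/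
theorem finite_polys (r : ℕ) (V : ℕ → Set ℚ) (hV : ∀ j, (V j).Finite) :
    {Q : ℚ[X] | Q.natDegree ≤ r ∧ ∀ j : ℕ, j ≤ r → Q.eval (j : ℚ) ∈ V j}.Finite := by
  classical
  let Φ : ℚ[X] → (Fin (r + 1) → ℚ) := fun Q j => Q.eval (((j : ℕ) : ℚ))
  have hfin : (Set.univ.pi fun j : Fin (r + 1) => V j).Finite :=
    Set.Finite.pi (ι := Fin (r + 1)) (t := fun j : Fin (r + 1) => V j) (fun j => hV j)
  refine Set.Finite.of_finite_image (f := Φ) (hfin.subset ?_) ?_
  · rintro _ ⟨Q, ⟨-, hQ⟩, rfl⟩ j -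
    exact hQ j (Nat.lt_succ_iff.1 j.2)
  · intro Q₁ h₁ Q₂ h₂ h
    let S : Finset ℚ := (Finset.range (r + 1)).image (fun j : ℕ => (j : ℚ))
    have hcard : S.card = r + 1 := by
      rw [Finset.card_image_of_injective _ Nat.cast_injective, Finset.card_range]
    have hd : ∀ Q : ℚ[X], Q.natDegree ≤ r → Q.degree < (S.card : WithBot ℕ) := by
      intro Q hQ
      rw [hcard]
      exact Polynomial.degree_le_natDegree.trans_lt (by exact_mod_cast Nat.lt_succ_of_le hQ)
    refine Polynomial.eq_of_degrees_lt_of_eval_finset_eq S (hd _ h₁.1) (hd _ h₂.1) ?_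
    intro x hx
    obtain ⟨j, hj, rfl⟩ := Finset.mem_image.1 hx
    exact congrFun h ⟨j, Finset.mem_range.1 hj⟩

variable (k : Type u) [Field k] (X : Scheme.{u}) [X.Over (Spec (CommRingCat.of k))]
  [IsProper (X ↘ Spec (CommRingCat.of k))]

theorem cls_tensorList_of_mem {A B : X.Modules} :
    ∀ l : List X.Modules, (∀ x ∈ l, x = A ∨ x = B) →
      ∃ a b : ℕ, a + b = l.length ∧ cls (FGA.tensorList l) = cls A ^ a * cls B ^ b
  | [], _ => ⟨0, 0, rfl, by simp [FGA.tensorList, cls_unit]⟩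
  | x :: l, h => by
    obtain ⟨a, b, hab, hc⟩ := cls_tensorList_of_mem l (fun y hy => h y (List.mem_cons_of_mem _ hy))
    have hx : cls (FGA.tensorList (x :: l)) = cls x * cls (FGA.tensorList l) := rfl
    rcases h x (List.mem_cons_self) with rfl | rfl
    · exact ⟨a + 1, b, by simp [← hab]; omega, by rw [hx, hc, pow_succ']; exact (mul_assoc _ _ _).symm⟩
    · refine ⟨a, b + 1, by simp [← hab]; omega, ?_⟩
      rw [hx, hc, pow_succ']
      exact mul_left_comm _ _ _

/-- **intersection numbers of the inverses of the members of a bounded family with a fixed invertible module take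
boundedly many values** -/
theorem main (r : ℕ) (hdim : topologicalKrullDim X ≤ ((r : ℕ) : WithBot ℕ∞)) (H H' : X.Modules)
    (hHH' : Nonempty (CohB1.tensorMod H H' ≅ Coh.structureModule X))
    (P : X.Modules → Prop) (hb : Pic13.IsBounded k X P) :
    ∃ B : ℤ, ∀ L L' : X.Modules, P L → Nonempty (CohB1.tensorMod L L' ≅ Coh.structureModule X) →
      ∀ M : Fin r → X.Modules, (∀ i, M i = L' ∨ M i = H') →
        |FGA.intNum k X r M (Coh.structureModule X)| ≤ B := by
  classical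
  obtain ⟨eH⟩ := hHH'
  let uH : (Cls X)ˣ := (unitOfIso eH)⁻¹
  have huH : (uH : Cls X) = cls H' := rfl
  let ZH := zfamOfUnit uH
  have hZH : ∀ b : ℕ, cls (ZH.T (b : ℤ)) = cls H' ^ b := fun b => cls_zfamOfUnit_nat uH b
  have hI : ∀ j : ℕ, ∃ I : Set ℚ[X], I.Finite ∧ ∀ M,
      (∃ L, P L ∧ Nonempty (M ≅ CohB1.tensorPow L j)) → ∃ φ ∈ I, ∀ d : ℤ,
        (Curv2.euler k X (CohB1.tensorMod M (ZH.T d)) : ℚ) = φ.eval (d : ℚ) := fun j =>
    Groth.Agent.Lib.Lead.BddHilb.exists_finite_polys_of_isBounded k X ZH _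
      (isBounded_tensorPow k X P hb j)
  choose I hIfin hI using hI
  let V : ℕ → ℕ → Set ℚ := fun b j => (fun φ : ℚ[X] => φ.eval (b : ℚ)) '' I j
  have hVfin : ∀ b j, (V b j).Finite := fun b j => (hIfin j).image _
  let S : ℕ → Set ℚ[X] := fun b =>
    {Q | Q.natDegree ≤ r ∧ ∀ j : ℕ, j ≤ r → Q.eval (j : ℚ) ∈ V b j}
  have hSfin : ∀ b, (S b).Finite := fun b => finite_polys r (V b) (hVfin b)
  let W : Set ℚ := ⋃ a ∈ Finset.range (r + 1), ⋃ b ∈ Finset.range (r + 1),
    (fun Q : ℚ[X] => Q.eval (-(a : ℚ))) '' S b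
  have hWfin : W.Finite :=
    Set.Finite.biUnion (Finset.finite_toSet _) fun a _ =>
      Set.Finite.biUnion (Finset.finite_toSet _) fun b _ => (hSfin b).image _
  obtain ⟨C, hC⟩ : ∃ C : ℤ, ∀ w ∈ W, |w| ≤ (C : ℚ) := by
    obtain ⟨C, hC⟩ := (hWfin.image (fun w => |w|)).bddAbove
    exact ⟨⌈C⌉, fun w hw => (hC ⟨w, hw, rfl⟩).trans (Int.le_ceil C)⟩
  refine ⟨(Finset.univ : Finset (Finset (Fin r))).card * C, fun L L' hL hLL' M hM => ?_⟩
  obtain ⟨eL⟩ := hLL'
  let uL : (Cls X)ˣ := unitOfIso eL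
  have huL : (uL : Cls X) = cls L := rfl
  have huL' : ((uL⁻¹ : (Cls X)ˣ) : Cls X) = cls L' := rfl
  let ZL := zfamOfUnit uL
  -- the key claim
  have key : ∀ l : List X.Modules, (∀ x ∈ l, x = L' ∨ x = H') → l.length ≤ r →
      ((Curv2.euler k X (CohB1.tensorMod (FGA.tensorList l) (Coh.structureModule X)) : ℤ) : ℚ) ∈ W := by
    intro l hl hlen
    obtain ⟨a, b, hab, hc⟩ := cls_tensorList_of_mem X l hl
    have ha : a ≤ r := by omega
    have hbr : b ≤ r := by omega
    have hGcoh : Coh.IsCoh (ZH.T (b : ℤ)) :=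
      Groth.Agent.Lib.Lead.CurveInv.isCoh_of_isInvertible X (ZH.inv b)
    obtain ⟨Q, hdeg, hQ⟩ := exists_poly_int_le k X ZL (ZH.T (b : ℤ)) hGcoh r hdim
    have hQS : Q ∈ S b := by
      refine ⟨hdeg, fun j _ => ?_⟩
      obtain ⟨φ, hφ, hφe⟩ := hI j (CohB1.tensorPow L j) ⟨L, hL, ⟨Iso.refl _⟩⟩
      refine ⟨φ, hφ, ?_⟩
      have h1 := hQ (j : ℤ)
      rw [Int.cast_natCast] at h1
      have h2 := hφe (b : ℤ)
      rw [Int.cast_natCast] at h2
      show φ.eval (b : ℚ) = Q.eval (j : ℚ)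
      rw [← h1, ← h2]
      congr 1
      apply euler_eq_of_cls_eq
      rw [cls_tensor, cls_tensor, cls_tensorPow, cls_zfamOfUnit_nat uL, cls_zfamOfUnit_nat uH, huL, mul_comm]
    simp only [W, Set.mem_iUnion]
    refine ⟨a, Finset.mem_range.2 (Nat.lt_succ_of_le ha), b,
      Finset.mem_range.2 (Nat.lt_succ_of_le hbr), Q, hQS, ?_⟩
    have h1 := hQ (-(a : ℤ))
    rw [Int.cast_neg, Int.cast_natCast] at h1
    show Q.eval (-(a : ℚ)) = _
    rw [← h1]
    congr 1
    apply euler_eq_of_cls_eq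
    rw [cls_tensor, cls_tensor, cls_zfamOfUnit_neg_nat, huL', hZH, hc, cls_unit, mul_one, mul_comm]
  -- the bound
  unfold FGA.intNum
  refine (Finset.abs_sum_le_sum_abs _ _).trans ?_
  rw [← nsmul_eq_mul, ← Finset.sum_const]
  refine Finset.sum_le_sum fun J _ => ?_
  rw [abs_mul, abs_pow, abs_neg, abs_one, one_pow, one_mul,
    Groth.Agent.Lib.helper7.SnapperSplit.eulerCharLE_eq k X r hdim]
  have hmem := key ((J.sort (· ≤ ·)).map M)
    (fun x hx => by
      obtain ⟨i, -, rfl⟩ := List.mem_map.1 hx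
      exact hM i)
    (by
      rw [List.length_map, Finset.length_sort]
      exact (Finset.card_le_univ J).trans (by simp))
  have := hC _ hmem
  exact_mod_cast this

end main

end Groth.Agent.Lib.Lead.BddInt
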