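import Mathlib

/-!
# From openness upstairs to openness on the base for closed maps (lead)

`isOpen_setOf_forall_fiber`: for a morphism `f : X ⟶ Y` that is a closed map (e.g. `f` proper) and a property `Q y x'`
of points `x'` of the scheme-theoretic fibres `f.fiber y`, if the set of `x : X` with `Q (f x) (f.asFiber x)` is open
in `X`, then the set of `y : Y` such that `Q y x'` holds at every point of the fibre over `y` is open in `Y`
(it is the complement of the image of a closed set).
-/

set_option autoImplicit false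
set_option backward.isDefEq.respectTransparency false
universe u

open CategoryTheory CategoryTheory.Limits AlgebraicGeometry

namespace Groth.Agent.Lib.Lead.FibrewiseOpen

variable {X Y : Scheme.{u}} (f : X ⟶ Y)

theorem asFiber_fiberι (y : Y) (x' : f.fiber y) (h : f (f.fiberι y x') = y) :
    ∀ (Q : ∀ y : Y, f.fiber y → Prop), Q (f (f.fiberι y x')) (f.asFiber (f.fiberι y x')) ↔ Q y x' := by
  intro Q
  have key : ∀ (y₀ : Y) (x : X) (hx : f x = y₀),
      Q (f x) (f.asFiber x) ↔ Q y₀ ((f.fiberHomeo y₀).symm ⟨x, hx⟩) := by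
    intro y₀ x hx
    subst hx
    rfl
  rw [key y (f.fiberι y x') h]
  have e : (f.fiberHomeo y).symm ⟨f.fiberι y x', h⟩ = x' := by
    have : (⟨f.fiberι y x', h⟩ : f ⁻¹' {y}) = f.fiberHomeo y x' := Subtype.ext rfl
    rw [this, Homeomorph.symm_apply_apply]
  rw [e]

theorem setOf_forall_fiber_eq (Q : ∀ y : Y, f.fiber y → Prop) :
    {y : Y | ∀ x' : f.fiber y, Q y x'} = (f '' {x : X | Q (f x) (f.asFiber x)}ᶜ)ᶜ := by
  ext y
  simp only [Set.mem_compl_iff, Set.mem_image, not_exists, not_and]
  constructor
  · intro h x hx hxy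
    subst hxy
    exact hx (h _)
  · intro h x'
    have hx : f (f.fiberι y x') = y := by
      have : f.fiberι y x' ∈ Set.range (f.fiberι y) := ⟨x', rfl⟩
      rw [f.range_fiberι y] at this
      exact this
    by_contra hq
    exact h (f.fiberι y x') (fun hq' => hq ((asFiber_fiberι f y x' hx Q).mp hq')) hx

theorem isOpen_setOf_forall_fiber (hf : IsClosedMap f) (Q : ∀ y : Y, f.fiber y → Prop)
    (hQ : IsOpen {x : X | Q (f x) (f.asFiber x)}) :
    IsOpen {y : Y | ∀ x' : f.fiber y, Q y x'} := by
  rw [setOf_forall_fiber_eq f Q, isOpen_compl_iff]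
  exact hf _ (isClosed_compl_iff.mpr hQ)

end Groth.Agent.Lib.Lead.FibrewiseOpen
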