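import Mathlib
import Groth.Agent.Lib.Lead.GenDegOne

set_option autoImplicit false
set_option backward.isDefEq.respectTransparency false
set_option backward.isDefEq.respectTransparency.types false

universe u

/-! Graded rings generated in degrees zero and one: a graded homomorphism onto the degree-one
part is onto every positive degree. -/

namespace Groth.Agent.Lib.Lead.GenDegOne

open scoped HomogeneousIdeal

variable {A σ : Type u} [CommRing A] [SetLike σ A] [AddSubgroupClass σ A]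
  {𝒜 : ℕ → σ} [GradedRing 𝒜]

/-- The degree-one part as a module over the degree-zero part. -/
def degOne (𝒜 : ℕ → σ) [GradedRing 𝒜] : Submodule (𝒜 0) A where
  carrier := (𝒜 1 : Set A)
  add_mem' := fun ha hb => add_mem ha hb
  zero_mem' := zero_mem _
  smul_mem' := fun r x hx => by
    have h : (r : A) * x ∈ 𝒜 (0 + 1) := SetLike.mul_mem_graded r.2 hx
    rw [zero_add] at h
    rw [Algebra.smul_def]
    exact h

theorem mem_degOne {x : A} : x ∈ degOne 𝒜 ↔ x ∈ 𝒜 1 := Iff.rfl

/-- In a graded ring generated in degrees `0` and `1`, the part of degree `k` lies in the `k`-th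
power of the degree-one part. -/
theorem mem_degOne_pow (hgen : Subring.closure ((𝒜 0 : Set A) ∪ (𝒜 1 : Set A)) = ⊤) :
    ∀ k, ∀ a ∈ 𝒜 k, a ∈ degOne 𝒜 ^ k := by
  refine gen_induction hgen (fun k a => a ∈ degOne 𝒜 ^ k) ?_ ?_ ?_ ?_ ?_ ?_
  · intro a ha
    rw [Submodule.pow_zero, Submodule.mem_one]
    exact ⟨⟨a, ha⟩, rfl⟩
  · intro a ha
    rw [Submodule.pow_one]
    exact ha
  · intro i j a b _ _ hPa hPb
    rcases Nat.eq_zero_or_pos j with hj | hj
    · subst hj
      rw [Submodule.pow_zero, Submodule.mem_one] at hPb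
      obtain ⟨r, rfl⟩ := hPb
      rw [add_zero, mul_comm, ← Algebra.smul_def]
      exact Submodule.smul_mem _ r hPa
    · rw [Submodule.pow_add _ (by omega)]
      exact Submodule.mul_mem_mul hPa hPb
  · intro k
    exact zero_mem _
  · intro k a b _ _ hPa hPb
    exact add_mem hPa hPb
  · intro k a _ hPa
    exact neg_mem hPa

variable {B τ : Type u} [CommRing B] [SetLike τ B] [AddSubgroupClass τ B]
  {𝒯 : ℕ → τ} [GradedRing 𝒯]

/-- A graded homomorphism onto the degree-one part of a graded ring generated in degrees `0` and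
`1` is onto every part of positive degree. -/
theorem surjOn_of_surjOn_one (ψ : 𝒯 →+*ᵍ 𝒜)
    (hgen : Subring.closure ((𝒜 0 : Set A) ∪ (𝒜 1 : Set A)) = ⊤)
    (h1 : ∀ b ∈ 𝒜 1, ∃ a ∈ 𝒯 1, ψ a = b) :
    ∀ k, 1 ≤ k → ∀ b ∈ 𝒜 k, ∃ a ∈ 𝒯 k, ψ a = b := by
  have key : ∀ (n : ℕ) (x : A) (hx : x ∈ degOne 𝒜 ^ n),
      (n = 0 → x ∈ 𝒜 0) ∧ (1 ≤ n → ∃ a ∈ 𝒯 n, ψ a = x) := by
    intro n x hx
    induction hx using Submodule.pow_induction_on_left' with
    | algebraMap r => exact ⟨fun _ => r.2, fun h => absurd h (by omega)⟩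
    | add x y i hx hy ihx ihy =>
      refine ⟨fun h => add_mem (ihx.1 h) (ihy.1 h), fun h => ?_⟩
      obtain ⟨a, ha, rfl⟩ := ihx.2 h
      obtain ⟨b, hb, rfl⟩ := ihy.2 h
      exact ⟨a + b, add_mem ha hb, map_add _ _ _⟩
    | mem_mul m hm i x hx ih =>
      refine ⟨fun h => absurd h (Nat.succ_ne_zero i), fun _ => ?_⟩
      have hm1 : m ∈ 𝒜 1 := hm
      rcases Nat.eq_zero_or_pos i with hi | hi
      · subst hi
        have hx0 : x ∈ 𝒜 0 := ih.1 rfl
        have hmx : m * x ∈ 𝒜 (1 + 0) := SetLike.mul_mem_graded hm1 hx0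
        exact h1 _ hmx
      · obtain ⟨a, ha, rfl⟩ := ih.2 hi
        obtain ⟨a₁, ha₁, rfl⟩ := h1 m hm1
        refine ⟨a₁ * a, ?_, map_mul _ _ _⟩
        have := SetLike.mul_mem_graded ha₁ ha
        rwa [add_comm] at this
  intro k hk b hb
  exact (key k b (mem_degOne_pow hgen k b hb)).2 hk

end Groth.Agent.Lib.Lead.GenDegOne
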