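import Mathlib
import Groth.Agent.Lib.Helper7.AbCube

/-!
# `[n]^*L` on an abelian variety (lead; S1844)

* `isInvertible_tensorPow`, `mk_tensorPow : mk (L^{⊗n}) = (mk L)^n` in helper7's Picard group.
* `T n = ∑_{i<n} i` (triangular numbers), `T_succ`, `T_eq : T n = n(n-1)/2`.
* `rec_solve`: in a commutative group, `φ 0 = 1`, `φ 1 = ℓ`, `φ(n+1)² ℓ m = φ(n+2) φ(n)` ⇒ `φ n = ℓ^{T(n+1)} m^{T n}`.
* `P_pow`: `[n]^*ℓ = ℓ^{n(n+1)/2} · ([-1]^*ℓ)^{n(n-1)/2}` in `Pic A` for an abelian variety `A` over a field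
  (from helper7's `AbCube.cube_relation`); `main` = S1844.
-/

set_option autoImplicit false
set_option linter.style.haveILetI false
universe u
open CategoryTheory CategoryTheory.Limits AlgebraicGeometry

namespace Groth.Agent.Lib.Lead.AbMulN

open Groth.Agent.Lib.helper7.PicGrp Groth.Agent.Lib.helper7.AbCube

section Pic

variable {X : Scheme.{u}}

theorem isInvertible_tensorPow {L : X.Modules} (hL : PicF.IsInvertible L) (n : ℕ) :
    PicF.IsInvertible (CohB1.tensorPow L n) := by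
  induction n with
  | zero => exact Groth.Agent.Lib.helper11.InvMod.isInvertible_structureModule X
  | succ n ih => exact Groth.Agent.Lib.helper12.TensorInv.isInvertible_tensorMod ih hL

theorem mk_tensorPow {L : X.Modules} (hL : PicF.IsInvertible L) (n : ℕ) :
    mk (CohB1.tensorPow L n) (isInvertible_tensorPow hL n) = (mk L hL) ^ n := by
  induction n with
  | zero => rw [pow_zero]; rfl
  | succ n ih => rw [pow_succ, ← ih]; rfl

end Pic

/-- triangular numbers -/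
def T (n : ℕ) : ℕ := ∑ i ∈ Finset.range n, i

theorem T_succ (n : ℕ) : T (n + 1) = T n + n := Finset.sum_range_succ _ _

theorem T_eq (n : ℕ) : T n = n * (n - 1) / 2 := Finset.sum_range_id n

/-- a two-step recursion in a commutative group -/
theorem rec_solve {G : Type*} [CommGroup G] (ℓ m : G) (φ : ℕ → G) (h0 : φ 0 = 1) (h1 : φ 1 = ℓ)
    (hrec : ∀ n, φ (n + 1) * φ (n + 1) * ℓ * m = φ (n + 2) * φ n) (n : ℕ) :
    φ n = ℓ ^ T (n + 1) * m ^ T n := by
  have key : ∀ n, φ n = ℓ ^ T (n + 1) * m ^ T n ∧ φ (n + 1) = ℓ ^ T (n + 2) * m ^ T (n + 1) := by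
    intro n
    induction n with
    | zero =>
      refine ⟨?_, ?_⟩
      · simp [T, h0]
      · simp [T, h1, Finset.sum_range_succ]
    | succ n ih =>
      refine ⟨ih.2, ?_⟩
      have h := hrec n
      rw [ih.1, ih.2] at h
      have e1 : T (n + 1 + 2) + T (n + 1) = T (n + 2) + T (n + 2) + 1 := by
        have a := T_succ (n + 2); have b := T_succ (n + 1)
        rw [show n + 1 + 2 = n + 2 + 1 from rfl, a, b]; ring
      have e2 : T (n + 1 + 1) + T n = T (n + 1) + T (n + 1) + 1 := by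
        have a := T_succ (n + 1); have b := T_succ n
        rw [a, b]; ring
      have : φ (n + 2) * (ℓ ^ T (n + 1) * m ^ T n) =
          (ℓ ^ T (n + 1 + 2) * m ^ T (n + 1 + 1)) * (ℓ ^ T (n + 1) * m ^ T n) := by
        rw [← h, mul_mul_mul_comm (ℓ ^ T (n + 1 + 2)), ← pow_add, ← pow_add, e1, e2]
        simp only [pow_add, pow_one]
        ac_rfl
      exact mul_right_cancel this
  exact (key n).1

section Ab

open MonoidalCategory CartesianMonoidalCategory MonObj GrpObj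

variable {K : Type u} [Field K] {A : Over (Spec (CommRingCat.of K))} [GrpObj A]
  [IsProper A.hom] [GeometricallyIntegral A.hom]

/-- `[n]^*ℓ = ℓ^{T(n+1)} · ([-1]^*ℓ)^{T n}` -/
theorem P_pow (ℓ : Pic A.left) (n : ℕ) :
    P ℓ (𝟙 A ^ n) = ℓ ^ T (n + 1) * (P ℓ ((𝟙 A)⁻¹)) ^ T n := by
  have hid : P ℓ (𝟙 A) = ℓ := map_id ℓ
  refine rec_solve ℓ (P ℓ ((𝟙 A)⁻¹)) (fun n => P ℓ (𝟙 A ^ n)) ?_ ?_ ?_ n
  · show P ℓ (𝟙 A ^ 0) = 1
    rw [pow_zero]; exact P_one ℓ
  · show P ℓ (𝟙 A ^ 1) = ℓ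
    rw [pow_one]; exact hid
  · intro n
    show P ℓ (𝟙 A ^ (n + 1)) * P ℓ (𝟙 A ^ (n + 1)) * ℓ * P ℓ ((𝟙 A)⁻¹) =
      P ℓ (𝟙 A ^ (n + 2)) * P ℓ (𝟙 A ^ n)
    have h := cube_relation ℓ (𝟙 A ^ (n + 1)) (𝟙 A) ((𝟙 A)⁻¹)
    rw [_root_.mul_inv_cancel_right, _root_.mul_inv_cancel (𝟙 A), P_one, _root_.mul_one, ← pow_succ, hid] at h
    have h2 : 𝟙 A ^ (n + 1) * (𝟙 A)⁻¹ = 𝟙 A ^ n := by rw [pow_succ, _root_.mul_inv_cancel_right]
    rw [h2] at h
    exact h

/-- **S1844** -/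
theorem main (L : A.left.Modules) (hL : PicF.IsInvertible L) (n : ℕ) :
    Nonempty ((Scheme.Modules.pullback (𝟙 A ^ n).left).obj L ≅
      CohB1.tensorMod (CohB1.tensorPow L (n * (n + 1) / 2))
        (CohB1.tensorPow ((Scheme.Modules.pullback ((𝟙 A)⁻¹).left).obj L) (n * (n - 1) / 2))) := by
  have h := P_pow (mk L hL) n
  have hM : PicF.IsInvertible ((Scheme.Modules.pullback ((𝟙 A)⁻¹).left).obj L) :=
    Groth.Agent.Lib.helper11.InvMod.isInvertible_pullback _ hL
  have e1 : T (n + 1) = n * (n + 1) / 2 := by rw [T_eq, Nat.add_sub_cancel, _root_.mul_comm]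
  rw [e1, T_eq n] at h
  have key : mk ((Scheme.Modules.pullback (𝟙 A ^ n).left).obj L)
      (Groth.Agent.Lib.helper11.InvMod.isInvertible_pullback _ hL) =
      mk (CohB1.tensorMod (CohB1.tensorPow L (n * (n + 1) / 2))
        (CohB1.tensorPow ((Scheme.Modules.pullback ((𝟙 A)⁻¹).left).obj L) (n * (n - 1) / 2)))
        (Groth.Agent.Lib.helper12.TensorInv.isInvertible_tensorMod
          (isInvertible_tensorPow hL _) (isInvertible_tensorPow hM _)) := by
    rw [← mk_mul_mk (isInvertible_tensorPow hL _) (isInvertible_tensorPow hM _), mk_tensorPow, mk_tensorPow]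
    exact h
  exact (mk_eq_mk_iff _ _).1 key

end Ab

end Groth.Agent.Lib.Lead.AbMulN
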