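import Mathlib
import Groth.Agent.Lib.Helper2.Hartogs4
import Groth.Agent.Lib.Helper13.FFLF2
import Groth.Agent.Lib.Helper24.SerreNormal4

/-!
# Hartogs extension for flat quasi-coherent modules (lead)

* `isWeaklyRegular_of_flat`: a weakly regular sequence on `A` is weakly regular on every flat `A`-module.
* `bijective_toOpenₗ_of_flat`: `A` Noetherian, `J` an ideal with `depth A_p ≥ 2` on `V(J)`, `M` flat:
  `M → Γ(D(J), M~)` is bijective.
* `bijective_res_of_flat`: sheaf form on an affine open of a scheme.
* `isIso_resPushUnit_of_flat`: on a locally Noetherian scheme, for `A` flat quasi-coherent and `U` an open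
  outside of which the local rings have depth `≥ 2`, the unit `A ⟶ j_* j^* A` is an isomorphism.
* `isIso_resPushUnit_of_flat_of_normal`: the normal case, `U` containing the points of codimension `≤ 1`.
-/

set_option autoImplicit false
set_option backward.isDefEq.respectTransparency false
set_option linter.style.haveILetI false
set_option linter.unusedSectionVars false
universe u

open AlgebraicGeometry StructureSheaf TopologicalSpace CategoryTheory Opposite ZClos RingTheory.Sequence LocCoh
open Groth.Agent.Lib.helper16.CohFinite Groth.Agent.Lib.helper26.Depth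
  Groth.Agent.Lib.helper2.PureClosed Groth.Agent.Lib.helper2.Hartogs Groth.Agent.Lib.helper2
  Groth.Agent.Lib.helper7

namespace Groth.Agent.Lib.Lead.FlatHartogs

section Algebra

variable {A : Type u} [CommRing A]

/-- a weakly regular sequence on the ring is weakly regular on every flat module -/
theorem isWeaklyRegular_of_flat (M : Type u) [AddCommGroup M] [Module A M] [Module.Flat A M]
    {rs : List A} (h : IsWeaklyRegular A rs) : IsWeaklyRegular M rs :=
  ((TensorProduct.lid A M).isWeaklyRegular_congr rs).mp h.isWeaklyRegular_rTensor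

variable [IsNoetherianRing A]

/-- **Hartogs for flat modules, algebraic form.** -/
theorem bijective_toOpenₗ_of_flat (J : Ideal A) (M : Type u) [AddCommGroup M] [Module A M]
    [Module.Flat A M]
    (h : ∀ p : PrimeSpectrum A, p ∈ PrimeSpectrum.zeroLocus (J : Set A) →
      (2 : ℕ∞) ≤ LocCoh.depth (Localization.AtPrime p.asIdeal)
        (LocalizedModule p.asIdeal.primeCompl A)) :
    Function.Bijective (toOpenₗ A M (EGA4.openCompl A J)) := by
  have h2 : (2 : ℕ∞) ≤ idealDepth J A := by
    rw [idealDepth_eq_iInf_depth_localization]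
    exact le_iInf₂ fun p hp => h p (by rw [PrimeSpectrum.mem_zeroLocus]; exact hp)
  by_cases hJM : J • (⊤ : Submodule A A) = ⊤
  · have h1 : (1 : A) ∈ J := by
      have e : J • (⊤ : Submodule A A) = J := by
        rw [smul_eq_mul]; exact Ideal.mul_top J
      rw [e] at hJM
      rw [hJM]; trivial
    refine bijective_toOpenₗ_of_regular J 1 1 h1 h1 ?_ ?_
    · intro a b hab
      simpa using hab
    · intro m _
      exact ⟨m, (one_smul _ _).symm⟩
  · obtain ⟨rs, hlen, hmem, hreg⟩ := exists_isWeaklyRegular_of_le hJM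
      (n := 2) (by exact_mod_cast h2)
    match rs, hlen with
    | [x, y], _ =>
      have hregM := isWeaklyRegular_of_flat M hreg
      rw [isWeaklyRegular_cons_iff] at hregM
      obtain ⟨hxreg, hreg'⟩ := hregM
      have hyreg := (isWeaklyRegular_singleton_iff _ y).mp hreg'
      exact bijective_toOpenₗ_of_regular J x y (hmem x (by simp)) (hmem y (by simp)) hxreg
        (quot_elementwise M x y hyreg)

end Algebra

section Sheaf

variable {X : Scheme.{u}} (F : X.Modules) {V : X.Opens} (hV : IsAffineOpen V)

include hV in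
/-- **Hartogs for flat quasi-coherent modules on an affine open**, hypothesis on localizations of
`Γ(X,V)`. -/
theorem bijective_res_of_flat' [F.IsQuasicoherent] [IsNoetherianRing Γ(X, V)]
    (hflat : Module.Flat Γ(X, V) Γ(F, V)) (W : X.Opens) (hW : W ≤ V)
    (hdepth : ∀ q : PrimeSpectrum Γ(X, V), hV.fromSpec q ∉ W →
      (2 : ℕ∞) ≤ LocCoh.depth (Localization.AtPrime q.asIdeal)
        (LocalizedModule q.asIdeal.primeCompl Γ(X, V))) :
    Function.Bijective (F.presheaf.map (homOfLE hW).op) := by
  let W' : (Spec Γ(X, V)).Opens := hV.fromSpec ⁻¹ᵁ W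
  let J : Ideal Γ(X, V) := PrimeSpectrum.vanishingIdeal ((W'.carrier : Set (PrimeSpectrum Γ(X, V)))ᶜ)
  have hJW : EGA4.openCompl Γ(X, V) J = W' := openCompl_vanishingIdeal W'
  haveI : Module.Flat Γ(X, V) (gam (GG F hV)) := Module.Flat.of_linearEquiv (secEquiv F hV).symm
  have h1 : Function.Bijective (toOpenₗ Γ(X, V) (gam (GG F hV)) (EGA4.openCompl Γ(X, V) J)) := by
    refine bijective_toOpenₗ_of_flat J _ (fun q hq => hdepth q ?_)
    intro hqW
    have h2 : q ∈ EGA4.openCompl Γ(X, V) J := by rw [hJW]; exact hqW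
    exact h2 hq
  rw [hJW] at h1
  have h2 := (bijective_res_iff (GG F hV) W').mpr h1
  have e1 : hV.fromSpec ''ᵁ ⊤ = V := image_top_eq hV
  have e2 : hV.fromSpec ''ᵁ W' = W := by
    rw [Scheme.Hom.image_preimage_eq_opensRange_inf, hV.opensRange_fromSpec]
    exact inf_eq_right.mpr hW
  exact (ZClosLib.res_bij_iff_of_eq₂ F e1 e2
    (homOfLE (Scheme.Hom.image_mono hV.fromSpec le_top)) (homOfLE hW)).mp h2

/-- depth of `Γ(X,V)` localized at `q` versus depth of the stalk -/
theorem depth_localized_sections [IsNoetherianRing Γ(X, V)] (q : PrimeSpectrum Γ(X, V)) :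
    LocCoh.depth (Localization.AtPrime q.asIdeal)
        (LocalizedModule q.asIdeal.primeCompl Γ(X, V)) =
      LocCoh.depth (X.presheaf.stalk (hV.fromSpec q)) (X.presheaf.stalk (hV.fromSpec q)) := by
  rw [← depth_gam_unit hV q]
  let e : Γ(X, V) ≃ₗ[Γ(X, V)] gam (GG (Coh.structureModule X) hV) :=
    (unitSecEquiv V).trans (secEquiv (Coh.structureModule X) hV)
  unfold LocCoh.depth
  exact idealDepth_congr (localizedEquiv q.asIdeal e)

include hV in
/-- **Hartogs for flat quasi-coherent modules on an affine open**: depth of the local rings `≥ 2` on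
`V ∖ W`. -/
theorem bijective_res_of_flat [F.IsQuasicoherent] [IsNoetherianRing Γ(X, V)]
    (hflat : Module.Flat Γ(X, V) Γ(F, V)) (W : X.Opens) (hW : W ≤ V)
    (hdepth : ∀ x : X, x ∈ V → x ∉ W →
      (2 : ℕ∞) ≤ LocCoh.depth (X.presheaf.stalk x) (X.presheaf.stalk x)) :
    Function.Bijective (F.presheaf.map (homOfLE hW).op) := by
  refine bijective_res_of_flat' F hV hflat W hW (fun q hqW => ?_)
  rw [depth_localized_sections hV q]
  exact hdepth _ (mem_range_fromSpec hV q) hqW

end Sheaf

section Global

variable {X : Scheme.{u}} [IsLocallyNoetherian X]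

/-- **Hartogs for flat quasi-coherent modules**: if the local rings of `X` have depth `≥ 2` outside the
open `U`, then `A ⟶ j_* j^* A` is an isomorphism for every flat quasi-coherent `A`. -/
theorem isIso_resPushUnit_of_flat (A : X.Modules) [A.IsQuasicoherent] (hA : FlatMod.IsFlat A)
    (U : X.Opens)
    (hdepth : ∀ x : X, x ∉ U →
      (2 : ℕ∞) ≤ LocCoh.depth (X.presheaf.stalk x) (X.presheaf.stalk x)) :
    IsIso ((resPushUnit U).app A) := by
  apply ModSec.isIso_of_bijective_affine
  intro V
  rw [resPushUnit_app_app]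
  haveI : IsNoetherianRing Γ(X, V.1) := IsLocallyNoetherian.component_noetherian V
  have hflat : Module.Flat Γ(X, V.1) Γ(A, V.1) :=
    Groth.Agent.Lib.helper13.FFLF.flat_sections A hA V.2
  refine bijective_res_of_flat A V.2 hflat _ (U.ι.image_preimage_le V.1) (fun x hxV hx => ?_)
  apply hdepth
  intro hxU
  exact hx ((ZClosLib.mem_im_iff U V.1 _).mpr ⟨hxU, hxV⟩)

/-- depth `≥ 2` at the points of dimension `≥ 2` of a normal locally Noetherian scheme -/
theorem two_le_depth_of_normal (hX : Pi1.IsNormalScheme X) (x : X)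
    (hx : ¬ ringKrullDim (X.presheaf.stalk x) ≤ 1) :
    (2 : ℕ∞) ≤ LocCoh.depth (X.presheaf.stalk x) (X.presheaf.stalk x) := by
  haveI : IsDomain (X.presheaf.stalk x) := (hX x).1
  haveI : IsIntegrallyClosed (X.presheaf.stalk x) := (hX x).2
  haveI : IsNoetherianRing (X.presheaf.stalk x) := inferInstance
  have h := Groth.Agent.Lib.Helper24.SerreNormal.sk_two_of_normal (X.presheaf.stalk x)
  have h2 : (2 : WithBot ℕ∞) ≤ ringKrullDim (X.presheaf.stalk x) := by
    rw [not_le] at hx
    have : ringKrullDim (X.presheaf.stalk x) ≠ ⊥ := fun h0 => by rw [h0] at hx; exact not_lt_bot hx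
    obtain ⟨d, hd⟩ := WithBot.ne_bot_iff_exists.mp this
    rw [← hd] at hx ⊢
    have hx' : (1 : ℕ∞) < d := by exact_mod_cast hx
    have h3 : (2 : ℕ∞) ≤ d := by
      have := Order.add_one_le_of_lt hx'
      simpa [one_add_one_eq_two] using this
    exact WithBot.coe_le_coe.mpr h3
  rw [min_eq_left h2] at h
  exact WithBot.coe_le_coe.mp h

/-- **Hartogs for flat quasi-coherent modules on a normal locally Noetherian scheme.** -/
theorem isIso_resPushUnit_of_flat_of_normal (hX : Pi1.IsNormalScheme X) (A : X.Modules)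
    [A.IsQuasicoherent] (hA : FlatMod.IsFlat A) (U : X.Opens)
    (hU : ∀ s : X, ringKrullDim (X.presheaf.stalk s) ≤ 1 → s ∈ U) :
    IsIso ((resPushUnit U).app A) :=
  isIso_resPushUnit_of_flat A hA U fun x hx => two_le_depth_of_normal hX x fun h => hx (hU x h)

end Global

end Groth.Agent.Lib.Lead.FlatHartogs
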