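import Mathlib

/-!
# `AdjoinRoot` commutes with localization (lead, for helper24)

`isLocalization_adjoinRoot_map`: if `A = M⁻¹B` and `P : B[X]` is monic, then `A[X]/(P)` is the localization of
`B[X]/(P)` at the image of `M` (through `AdjoinRoot.map`). Proof: power bases + localization of free modules.
-/

set_option autoImplicit false
set_option linter.style.haveILetI false
universe u

open Polynomial

namespace Groth.Agent.Lib.Lead.AdjoinRootLoc

variable {B A : Type u} [CommRing B] [CommRing A] [Algebra B A]

/-- localization onto the zero ring -/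
theorem isLocalization_of_subsingleton {R S : Type*} [CommRing R] [CommRing S] [Algebra R S]
    [Subsingleton S] (N : Submonoid R) (h0 : (0 : R) ∈ N) : IsLocalization N S where
  map_units y := isUnit_of_subsingleton _
  surj z := ⟨(0, ⟨0, h0⟩), Subsingleton.elim _ _⟩
  exists_of_eq {x y} _ := ⟨⟨0, h0⟩, by simp⟩

theorem isLocalization_adjoinRoot_map (M : Submonoid B) [IsLocalization M A] (P : B[X]) (hP : P.Monic) :
    letI := (AdjoinRoot.map (algebraMap B A) P (P.map (algebraMap B A)) dvd_rfl).toAlgebra
    IsLocalization (M.map (AdjoinRoot.of P)) (AdjoinRoot (P.map (algebraMap B A))) := by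
  letI alg := (AdjoinRoot.map (algebraMap B A) P (P.map (algebraMap B A)) dvd_rfl).toAlgebra
  show IsLocalization (M.map (AdjoinRoot.of P)) (AdjoinRoot (P.map (algebraMap B A)))
  haveI tower : IsScalarTower B (AdjoinRoot P) (AdjoinRoot (P.map (algebraMap B A))) :=
    IsScalarTower.of_algebraMap_eq (fun b => by
      change AdjoinRoot.of _ (algebraMap B A b) = AdjoinRoot.map _ _ _ _ (AdjoinRoot.of P b)
      rw [AdjoinRoot.map_of])
  rcases subsingleton_or_nontrivial A with hA | hA
  · haveI : Subsingleton (AdjoinRoot (P.map (algebraMap B A))) := by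
      refine ⟨fun x y => ?_⟩
      have h1 : (1 : AdjoinRoot (P.map (algebraMap B A))) = 0 := by
        rw [← map_one (AdjoinRoot.of _), ← map_zero (AdjoinRoot.of _)]
        exact congrArg _ (Subsingleton.elim _ _)
      rw [← one_mul x, ← one_mul y, h1, zero_mul, zero_mul]
    have h0 : (0 : B) ∈ M := by
      obtain ⟨m, hm⟩ := (IsLocalization.map_eq_zero_iff M A (1 : B)).mp (Subsingleton.elim _ _)
      have : (m : B) = 0 := by simpa using hm
      exact this ▸ m.2
    exact isLocalization_of_subsingleton _ ⟨0, h0, map_zero _⟩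
  · have hP' : (P.map (algebraMap B A)).Monic := hP.map _
    have hdeg : (P.map (algebraMap B A)).natDegree = P.natDegree := hP.natDegree_map _
    let b : Module.Basis (Fin P.natDegree) B (AdjoinRoot P) := AdjoinRoot.powerBasisAux' hP
    have hb : ∀ i, b i = (AdjoinRoot.root P) ^ (i : ℕ) := fun i =>
      (AdjoinRoot.powerBasis' hP).basis_eq_pow i
    let b₀ : Module.Basis (Fin (P.map (algebraMap B A)).natDegree) A (AdjoinRoot (P.map (algebraMap B A))) :=
      AdjoinRoot.powerBasisAux' hP'
    have hb₀ : ∀ i, b₀ i = (AdjoinRoot.root (P.map (algebraMap B A))) ^ (i : ℕ) := fun i =>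
      (AdjoinRoot.powerBasis' hP').basis_eq_pow i
    let b' : Module.Basis (Fin P.natDegree) A (AdjoinRoot (P.map (algebraMap B A))) :=
      b₀.reindex (finCongr hdeg)
    have hb' : ∀ i, b' i = (AdjoinRoot.root (P.map (algebraMap B A))) ^ (i : ℕ) := fun i => by
      rw [Module.Basis.reindex_apply, hb₀]
      rfl
    let g : AdjoinRoot P →ₗ[B] AdjoinRoot (P.map (algebraMap B A)) :=
      (b'.repr.symm.restrictScalars B).toLinearMap ∘ₗ
        (Finsupp.mapRange.linearMap (α := Fin P.natDegree) (Algebra.linearMap B A)) ∘ₗ b.repr.toLinearMap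
    have hg : g = (IsScalarTower.toAlgHom B (AdjoinRoot P) (AdjoinRoot (P.map (algebraMap B A)))).toLinearMap := by
      refine b.ext fun i => ?_
      have h1 : g (b i) = b'.repr.symm (Finsupp.mapRange (Algebra.linearMap B A) (map_zero _) (b.repr (b i))) := rfl
      rw [h1, Module.Basis.repr_self, Finsupp.mapRange_single, Module.Basis.repr_symm_apply]
      have h2 : (Algebra.linearMap B A) 1 = 1 := map_one (algebraMap B A)
      rw [h2, Finsupp.linearCombination_single, one_smul, hb', hb]
      change _ = AdjoinRoot.map (algebraMap B A) P (P.map (algebraMap B A)) dvd_rfl (AdjoinRoot.root P ^ (i : ℕ))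
      rw [map_pow, AdjoinRoot.map_root]
    have key : IsLocalizedModule M g := by
      show IsLocalizedModule M ((b'.repr.symm.restrictScalars B).toLinearMap ∘ₗ
        ((Finsupp.mapRange.linearMap (α := Fin P.natDegree) (Algebra.linearMap B A)) ∘ₗ b.repr.toLinearMap))
      infer_instance
    rw [hg] at key
    exact isLocalizedModule_iff_isLocalization.mp key

end Groth.Agent.Lib.Lead.AdjoinRootLoc
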