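import Mathlib
import Groth.Prelude.Def_Pic13
import Groth.Agent.Lib.Lead.AlgEqTensor
import Groth.Agent.Lib.Helper12.InvDual2

/-! # Closure properties of algebraic / τ-equivalence to zero (lead)

* `isAlgEquivZero_of_iso`, `isAlgEquivZero_tensorPow` (family `M^{⊗m}`), `isAlgEquivZero_inverse` (family `M^∨`).
* `isTauEquivZero_tensorPow`, `isTauEquivZero_inverse`.
* `eulerCharLE_eq_of_iso`, `eulerCharLE_twist_eq`: `χ(A^m ⊗ B^n) = χ(B^n)` for `A` τ-equivalent to zero, `B` invertible.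
* `eulerCharLE_twists_eq`: the four equalities of S4305. -/

set_option autoImplicit false
set_option linter.style.haveILetI false
set_option linter.unusedSectionVars false
universe u
open CategoryTheory CategoryTheory.Limits AlgebraicGeometry TopologicalSpace

namespace Groth.Agent.Lib.Lead.AlgEqClosure

open Groth.Agent.Lib.helper11.InvMod Groth.Agent.Lib.Lead.ModTensor
  Groth.Agent.Lib.helper12.PullTensor Groth.Agent.Lib.helper12.PullAmple
  Groth.Agent.Lib.helper12.TensorInv Groth.Agent.Lib.Lead.EulerLC Groth.Agent.Lib.Lead.CurveEuler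

variable (k : Type u) [Field k] (X : Scheme.{u}) [X.Over (Spec (CommRingCat.of k))]

theorem isAlgEquivZero_of_iso {L L' : X.Modules} (e : L ≅ L') (h : Pic13.IsAlgEquivZero k X L) :
    Pic13.IsAlgEquivZero k X L' := by
  obtain ⟨T, q, hconn, hlft, hqc, M, hM, t, t₀, ht, ht₀, ⟨e₁⟩, ⟨e₀⟩⟩ := h
  exact ⟨T, q, hconn, hlft, hqc, M, hM, t, t₀, ht, ht₀, ⟨e₁ ≪≫ e⟩, ⟨e₀⟩⟩

/-- powers of a module algebraically equivalent to zero are algebraically equivalent to zero -/
theorem isAlgEquivZero_tensorPow {N : X.Modules} (h : Pic13.IsAlgEquivZero k X N) (m : ℕ) :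
    Pic13.IsAlgEquivZero k X (CohB1.tensorPow N m) := by
  obtain ⟨T, q, hconn, hlft, hqc, M, hM, t, t₀, ht, ht₀, ⟨e₁⟩, ⟨e₀⟩⟩ := h
  refine ⟨T, q, hconn, hlft, hqc, CohB1.tensorPow M m, isInvertible_tensorPow hM m, t, t₀, ht, ht₀,
    ⟨?_⟩, ⟨?_⟩⟩
  · exact pullTensorPowIso (Pic13.sliceAt k X q t ht) hM m ≪≫ tensorPowIso e₁ m
  · exact pullTensorPowIso (Pic13.sliceAt k X q t₀ ht₀) hM m ≪≫ tensorPowIso e₀ m ≪≫
      tensorPowUnit m

/-- an inverse of a module algebraically equivalent to zero is algebraically equivalent to zero -/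
theorem isAlgEquivZero_inverse {N N' : X.Modules} (h : Pic13.IsAlgEquivZero k X N)
    (hinv : ClSub.IsInverseOf N N') : Pic13.IsAlgEquivZero k X N' := by
  obtain ⟨T, q, hconn, hlft, hqc, M, hM, t, t₀, ht, ht₀, ⟨e₁⟩, ⟨e₀⟩⟩ := h
  obtain ⟨M', hM', ⟨eM⟩, -⟩ := Groth.Agent.Lib.helper12.InvDual.exists_inverse hM
  have key : ∀ (t : Spec (CommRingCat.of k) ⟶ T) (ht : t ≫ q = 𝟙 _),
      ClSub.IsInverseOf (Pic13.fibreMod k X q t ht M) (Pic13.fibreMod k X q t ht M') := by
    intro t ht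
    exact ⟨(pullTensorIso (Pic13.sliceAt k X q t ht) M M' hM').symm ≪≫
      (Scheme.Modules.pullback (Pic13.sliceAt k X q t ht)).mapIso eM ≪≫ pullbackUnitIso _⟩
  refine ⟨T, q, hconn, hlft, hqc, M', hM', t, t₀, ht, ht₀, ?_, ?_⟩
  · exact isInverseOf_unique (isInverseOf_of_iso e₁ (Iso.refl _) (key t ht)) hinv
  · exact isInverseOf_unique (isInverseOf_of_iso e₀ (Iso.refl _) (key t₀ ht₀))
      ⟨leftUnitor _⟩

theorem isTauEquivZero_tensorPow {L : X.Modules} (h : Pic13.IsTauEquivZero k X L) (m : ℕ) :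
    Pic13.IsTauEquivZero k X (CohB1.tensorPow L m) := by
  obtain ⟨n, hn, hN⟩ := h
  refine ⟨n, hn, ?_⟩
  have h1 := isAlgEquivZero_tensorPow k X hN m
  refine isAlgEquivZero_of_iso k X ?_ h1
  exact tensorPowMul L n m ≪≫ eqToIso (by rw [mul_comm]) ≪≫ (tensorPowMul L m n).symm

theorem isTauEquivZero_inverse {L L' : X.Modules} (h : Pic13.IsTauEquivZero k X L)
    (hinv : ClSub.IsInverseOf L L') : Pic13.IsTauEquivZero k X L' := by
  obtain ⟨n, hn, hN⟩ := h
  exact ⟨n, hn, isAlgEquivZero_inverse k X hN (isInverseOf_tensorPow hinv n)⟩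

section twists

variable [IsProper (X ↘ Spec (CommRingCat.of k))] (d : ℕ) (hd : topologicalKrullDim X ≤ d)

include hd in
theorem eulerCharLE_eq_of_iso {F G : X.Modules} (e : F ≅ G) :
    FGA.eulerCharLE k X F d = FGA.eulerCharLE k X G d := by
  rw [eulerCharLE_eq_euler k X _ d
      (fun i hi => Groth.Agent.Lib.Lead.ProperDim.subsingleton_HH k X d hd _ i hi),
    eulerCharLE_eq_euler k X _ d
      (fun i hi => Groth.Agent.Lib.Lead.ProperDim.subsingleton_HH k X d hd _ i hi)]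
  exact euler_eq_of_iso k X e

include hd in
theorem eulerCharLE_twist_eq {A B : X.Modules} (hA : PicF.IsInvertible A)
    (hτ : Pic13.IsTauEquivZero k X A) (hB : PicF.IsInvertible B) (m n : ℕ) :
    FGA.eulerCharLE k X (CohB1.tensorMod (CohB1.tensorPow A m) (CohB1.tensorPow B n)) d =
      FGA.eulerCharLE k X (CohB1.tensorPow B n) d := by
  have h := Groth.Agent.Lib.Lead.AlgEqTensor.eulerCharLE_tensor_eq_of_isTauEquivZero k X d hd
    (CohB1.tensorPow A m) (isInvertible_tensorPow hA m) (isTauEquivZero_tensorPow k X hτ m)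
    (CohB1.tensorPow B n)
    (Groth.Agent.Lib.helper21.InvFibre.isCoh_of_isInvertible (isInvertible_tensorPow hB n))
  rw [← h]
  exact eulerCharLE_eq_of_iso k X d hd (braid _ _)

include hd in
/-- the four equalities of S4305 -/
theorem eulerCharLE_twists_eq (H H' L L' : X.Modules) (hH : PicF.IsInvertible H)
    (hL : PicF.IsInvertible L)
    (hHH' : Nonempty (CohB1.tensorMod H H' ≅ Coh.structureModule X))
    (hLL' : Nonempty (CohB1.tensorMod L L' ≅ Coh.structureModule X))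
    (hτ : Pic13.IsTauEquivZero k X L) (m n : ℕ) :
    FGA.eulerCharLE k X (CohB1.tensorMod (CohB1.tensorPow L m) (CohB1.tensorPow H n)) d =
        FGA.eulerCharLE k X (CohB1.tensorPow H n) d ∧
      FGA.eulerCharLE k X (CohB1.tensorMod (CohB1.tensorPow L m) (CohB1.tensorPow H' n)) d =
        FGA.eulerCharLE k X (CohB1.tensorPow H' n) d ∧
      FGA.eulerCharLE k X (CohB1.tensorMod (CohB1.tensorPow L' m) (CohB1.tensorPow H n)) d =
        FGA.eulerCharLE k X (CohB1.tensorPow H n) d ∧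
      FGA.eulerCharLE k X (CohB1.tensorMod (CohB1.tensorPow L' m) (CohB1.tensorPow H' n)) d =
        FGA.eulerCharLE k X (CohB1.tensorPow H' n) d := by
  obtain ⟨eH⟩ := hHH'
  obtain ⟨eL⟩ := hLL'
  have hH' : PicF.IsInvertible H' :=
    Groth.Agent.Lib.helper12.TensorInvLocal.isInvertible_of_tensor_iso H' H (braid _ _ ≪≫ eH)
  have hL' : PicF.IsInvertible L' :=
    Groth.Agent.Lib.helper12.TensorInvLocal.isInvertible_of_tensor_iso L' L (braid _ _ ≪≫ eL)
  have hτ' : Pic13.IsTauEquivZero k X L' := isTauEquivZero_inverse k X hτ ⟨eL⟩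
  exact ⟨eulerCharLE_twist_eq k X d hd hL hτ hH m n, eulerCharLE_twist_eq k X d hd hL hτ hH' m n,
    eulerCharLE_twist_eq k X d hd hL' hτ' hH m n, eulerCharLE_twist_eq k X d hd hL' hτ' hH' m n⟩

end twists

end Groth.Agent.Lib.Lead.AlgEqClosure
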