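import Mathlib

/-!
# Ample families on locally factorial schemes, part 1: an algebraic Hartogs lemma (lead)

* `mem_range_of_forall_pow_mul_mem`: `A` a Noetherian domain inside a domain `K`, `ι : M → A` linear with nonzero image
  `𝔞`, such that every linear form on `M` is a multiple of `ι`.  If `b ∈ K` satisfies `f^n b ∈ A` for every `f ∈ 𝔞`
  (some `n`), then `b ∈ A`.
-/

set_option autoImplicit false
set_option linter.style.haveILetI false
set_option linter.unusedSectionVars false

namespace Groth.Agent.Lib.Lead.AmpFam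

/-- if every linear form on a nonzero ideal `𝔞 = ι(M)` of a Noetherian domain `A` is a homothety, then an element `b`
of an overdomain with `f^n b ∈ A` for all `f ∈ 𝔞` lies in `A` -/
theorem mem_range_of_forall_pow_mul_mem {A K M : Type*} [CommRing A] [IsDomain A]
    [IsNoetherianRing A] [CommRing K] [IsDomain K] [Algebra A K]
    (hinj : Function.Injective (algebraMap A K)) [AddCommGroup M] [Module A M] (ι : M →ₗ[A] A)
    (hne : ∃ m, ι m ≠ 0)
    (H : ∀ φ : M →ₗ[A] A, ∃ r : A, φ = r • ι)
    (b : K) (hb : ∀ m : M, ∃ (n : ℕ) (a : A), algebraMap A K (ι m) ^ n * b = algebraMap A K a) :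
    ∃ a : A, algebraMap A K a = b := by
  classical
  let J : Ideal A :=
    { carrier := {c | ∃ a : A, algebraMap A K c * b = algebraMap A K a}
      zero_mem' := ⟨0, by simp⟩
      add_mem' := by
        rintro c c' ⟨a, ha⟩ ⟨a', ha'⟩
        exact ⟨a + a', by rw [map_add, add_mul, ha, ha', map_add]⟩
      smul_mem' := by
        rintro d c ⟨a, ha⟩
        exact ⟨d * a, by rw [smul_eq_mul, map_mul, mul_assoc, ha, map_mul]⟩ }
  have hJ : ∀ c : A, c ∈ J ↔ ∃ a : A, algebraMap A K c * b = algebraMap A K a := fun c => Iff.rfl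
  let 𝔞 : Ideal A := LinearMap.range ι
  have h𝔞 : ∀ m : M, ι m ∈ 𝔞 := fun m => ⟨m, rfl⟩
  have hrad : 𝔞 ≤ J.radical := by
    rintro _ ⟨m, rfl⟩
    obtain ⟨n, a, ha⟩ := hb m
    exact ⟨n, (hJ _).2 ⟨a, by rw [map_pow]; exact ha⟩⟩
  obtain ⟨N, hN⟩ := Ideal.exists_pow_le_of_le_radical_of_fg hrad (IsNoetherian.noetherian 𝔞)
  have step : ∀ k : ℕ, 𝔞 ^ (k + 1) ≤ J → 𝔞 ^ k ≤ J := by
    intro k hk c hc
    have hmem : ∀ m : M, c * ι m ∈ J := fun m => hk (by
      rw [pow_succ]
      exact Ideal.mul_mem_mul hc (h𝔞 m))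
    -- the linear form `m ↦ c ι(m) b`
    let ψ : M →ₗ[A] K :=
      { toFun := fun m => algebraMap A K (c * ι m) * b
        map_add' := fun m m' => by rw [map_add, mul_add, map_add, add_mul]
        map_smul' := fun d m => by
          rw [map_smul, smul_eq_mul, RingHom.id_apply, Algebra.smul_def]
          simp only [map_mul]
          ring }
    have hψ : ∀ m, ψ m ∈ LinearMap.range (Algebra.linearMap A K) := by
      intro m
      obtain ⟨a, ha⟩ := (hJ _).1 (hmem m)
      exact ⟨a, ha.symm⟩
    let E := LinearEquiv.ofInjective (Algebra.linearMap A K) hinj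
    let φ : M →ₗ[A] A := E.symm.toLinearMap.comp (ψ.codRestrict _ hψ)
    have hφ : ∀ m, algebraMap A K (φ m) = ψ m := by
      intro m
      have h1 : E (φ m) = ψ.codRestrict _ hψ m := E.apply_symm_apply _
      exact congrArg Subtype.val h1
    obtain ⟨r, hr⟩ := H φ
    obtain ⟨m₀, hm₀⟩ := hne
    have h1 : algebraMap A K (c * ι m₀) * b = algebraMap A K (r * ι m₀) := by
      have h2 := hφ m₀
      rw [hr] at h2
      exact h2.symm
    have h3 : algebraMap A K (ι m₀) ≠ 0 := fun h0 => hm₀ (hinj (by rw [h0, map_zero]))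
    rw [hJ]
    refine ⟨r, ?_⟩
    have h4 : algebraMap A K (ι m₀) * (algebraMap A K c * b) =
        algebraMap A K (ι m₀) * algebraMap A K r := by
      rw [map_mul, map_mul] at h1
      calc _ = algebraMap A K c * algebraMap A K (ι m₀) * b := by ring
        _ = algebraMap A K r * algebraMap A K (ι m₀) := h1
        _ = _ := by ring
    exact mul_left_cancel₀ h3 h4
  have htop : ∀ k : ℕ, 𝔞 ^ k ≤ J → (1 : A) ∈ J := by
    intro k
    induction k with
    | zero =>
      intro h
      exact h (by rw [pow_zero, Ideal.one_eq_top]; trivial)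
    | succ k ih => exact fun h => ih (step k h)
  obtain ⟨a, ha⟩ := (hJ 1).1 (htop N hN)
  exact ⟨a, by rw [← ha, map_one, one_mul]⟩

end Groth.Agent.Lib.Lead.AmpFam
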