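import Mathlib
import Groth.Prelude.Def_RefHull
import Groth.Agent.Lib.Lead.RefHull3

/-!
# Functoriality of the sheaf Hom `RefHull.homSh` in the first variable (lead)

* `stalkMapₗ_id`, `stalkMapₗ_comp`.
* `homShMap φ G : 𝓗om(F', G) ⟶ 𝓗om(F, G)` for `φ : F ⟶ F'` (precomposition on stalk maps), `homShMap_id`,
  `homShMap_comp`; `homShCongr e G : 𝓗om(F, G) ≅ 𝓗om(F', G)` for `e : F ≅ F'`, `ddualCongr e : F^** ≅ F'^**`.
* `hom_ext_sections`: morphisms of `O_X`-modules agreeing on all sections are equal.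
-/

set_option autoImplicit false
set_option backward.isDefEq.respectTransparency false
set_option linter.style.haveILetI false
set_option linter.unusedSectionVars false
universe u

open CategoryTheory CategoryTheory.Limits AlgebraicGeometry TopologicalSpace Opposite

noncomputable section

namespace Groth.Agent.Lib.Lead.RefGrp

open RefHull Groth.Agent.Lib.Lead.RH

variable {X : Scheme.{u}}

theorem stalkMapₗ_id (F : X.Modules) (x : X) : stalkMapₗ (𝟙 F) x = LinearMap.id := by
  refine LinearMap.ext fun v => ?_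
  obtain ⟨U, hx, m, rfl⟩ := TopCat.Presheaf.exists_germ_eq F.presheaf v
  rw [stalkMapₗ_germ]
  rfl

theorem stalkMapₗ_comp {F G H : X.Modules} (φ : F ⟶ G) (ψ : G ⟶ H) (x : X) :
    stalkMapₗ (φ ≫ ψ) x = (stalkMapₗ ψ x).comp (stalkMapₗ φ x) := by
  refine LinearMap.ext fun v => ?_
  obtain ⟨U, hx, m, rfl⟩ := TopCat.Presheaf.exists_germ_eq F.presheaf v
  rw [LinearMap.comp_apply, stalkMapₗ_germ, stalkMapₗ_germ, stalkMapₗ_germ]
  rfl

/-- precomposition on sections of the sheaf Hom -/
def homShMapFun {F F' : X.Modules} (φ : F ⟶ F') (G : X.Modules) (U : X.Opens) :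
    Γ(homSh F' G, U) →+ Γ(homSh F G, U) where
  toFun g := ⟨fun x => (g.1 x).comp (stalkMapₗ φ x.1), fun V i m x => by
    obtain ⟨W, hW, j, n, w⟩ := isLocSect_of_mem g V i (φ.app V m) x
    refine ⟨W, hW, j, n, fun y => ?_⟩
    rw [LinearMap.comp_apply, stalkMapₗ_germ]
    exact w y⟩
  map_zero' := Subtype.ext <| funext fun x => by
    change (0 : StalkHom F' G x.1).comp _ = 0
    rw [LinearMap.zero_comp]
  map_add' g g' := Subtype.ext <| funext fun x => by
    change (g.1 x + g'.1 x).comp _ = (g.1 x).comp _ + (g'.1 x).comp _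
    rw [LinearMap.add_comp]

theorem homShMapFun_apply {F F' : X.Modules} (φ : F ⟶ F') (G : X.Modules) {U : X.Opens}
    (g : Γ(homSh F' G, U)) (x : U) :
    (homShMapFun φ G U g).1 x = (g.1 x).comp (stalkMapₗ φ x.1) := rfl

/-- `𝓗om(φ, G) : 𝓗om(F', G) ⟶ 𝓗om(F, G)` -/
def homShMap {F F' : X.Modules} (φ : F ⟶ F') (G : X.Modules) : homSh F' G ⟶ homSh F G :=
  ⟨PresheafOfModules.homMk
    { app := fun U => AddCommGrpCat.ofHom (homShMapFun φ G U.unop)
      naturality := fun {U V} i => by
        ext g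
        exact Subtype.ext (funext fun x => rfl) }
    (fun U r g => Subtype.ext <| funext fun x => by
      change (X.presheaf.germ U.unop x.1 x.2 r • g.1 x).comp (stalkMapₗ φ x.1) =
        X.presheaf.germ U.unop x.1 x.2 r • (g.1 x).comp (stalkMapₗ φ x.1)
      rw [LinearMap.smul_comp])⟩

theorem homShMap_app_apply {F F' : X.Modules} (φ : F ⟶ F') (G : X.Modules) {U : X.Opens}
    (g : Γ(homSh F' G, U)) (x : U) :
    ((homShMap φ G).app U g).1 x = (g.1 x).comp (stalkMapₗ φ x.1) := rfl

theorem hom_ext_sections {A B : X.Modules} {f g : A ⟶ B}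
    (h : ∀ (U : X.Opens) (a : Γ(A, U)), f.app U a = g.app U a) : f = g := by
  apply Scheme.Modules.hom_ext
  intro U
  ext a
  exact h U a

theorem homShMap_id (F G : X.Modules) : homShMap (𝟙 F) G = 𝟙 _ := by
  refine hom_ext_sections fun U g => Subtype.ext (funext fun x => ?_)
  rw [homShMap_app_apply, stalkMapₗ_id]
  rfl

theorem homShMap_comp {F F' F'' : X.Modules} (φ : F ⟶ F') (ψ : F' ⟶ F'') (G : X.Modules) :
    homShMap (φ ≫ ψ) G = homShMap ψ G ≫ homShMap φ G := by
  refine hom_ext_sections fun U g => Subtype.ext (funext fun x => ?_)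
  rw [homShMap_app_apply, stalkMapₗ_comp]
  rfl

/-- the sheaf Hom is functorial in isomorphisms of the first variable -/
def homShCongr {F F' : X.Modules} (e : F ≅ F') (G : X.Modules) : homSh F G ≅ homSh F' G where
  hom := homShMap e.inv G
  inv := homShMap e.hom G
  hom_inv_id := by rw [← homShMap_comp, e.hom_inv_id, homShMap_id]
  inv_hom_id := by rw [← homShMap_comp, e.inv_hom_id, homShMap_id]

/-- the double dual is functorial in isomorphisms -/
def ddualCongr {F F' : X.Modules} (e : F ≅ F') : ddual F ≅ ddual F' :=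
  homShCongr (homShCongr e (Coh.structureModule X)) (Coh.structureModule X)

end Groth.Agent.Lib.Lead.RefGrp

end
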