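import Groth.Agent.Lib.Lead.RefExt
import Groth.Agent.Lib.Lead.FlatHartogs
import Groth.Agent.Lib.Helper16.SecOrd5

/-!
# Points where a module is free of rank one (lead)

* `IsR1At M x`: `M_x` is free of rank one over `O_{X,x}`; stable under `⊗` (`isR1At_tensor`), duals
  (`isR1At_dual`, `isR1At_ddual`, coherent modules on a locally Noetherian scheme), holds for `O_X` (`isR1At_unit`),
  implies reflexivity of the stalk.
* `isR1At_of_mem_freeLocus`: a coherent generically invertible module on an integral scheme is free of rank one at the points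
  of its free locus.
* `mem_freeLocus_of_dim_le_one`: on a normal integral locally Noetherian scheme a coherent reflexive module is free at the points
  of codimension `≤ 1`; `two_le_depth_of_not_mem`: off the free locus the local rings have depth `≥ 2`.
-/

set_option autoImplicit false
set_option backward.isDefEq.respectTransparency false
set_option linter.style.haveILetI false
set_option linter.unusedSectionVars false
universe u

open CategoryTheory CategoryTheory.Limits AlgebraicGeometry TopologicalSpace Opposite MonoidalCategory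

noncomputable section

namespace Groth.Agent.Lib.Lead.RefGrp

open RefHull Groth.Agent.Lib.Lead.RH
open Groth.Agent.Lib.helper16.SecOrd

variable {X : Scheme.{u}}

/-- the stalk of `M` at `x` is free of rank one -/
def IsR1At (M : X.Modules) (x : X) : Prop :=
  Module.Free (X.presheaf.stalk x) (M.presheaf.stalk x) ∧
    Module.finrank (X.presheaf.stalk x) (M.presheaf.stalk x) = 1

theorem IsR1At.finite {M : X.Modules} {x : X} (h : IsR1At M x) :
    Module.Finite (X.presheaf.stalk x) (M.presheaf.stalk x) := by
  haveI := h.1
  exact Module.finite_of_finrank_pos (by rw [h.2]; exact Nat.one_pos)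

theorem IsR1At.isReflexiveAt {M : X.Modules} {x : X} (h : IsR1At M x) : IsReflexiveAt M x := by
  haveI := h.1
  haveI := h.finite
  exact isReflexiveAt_of_free M x

theorem IsR1At.of_linearEquiv {M N : X.Modules} {x : X} (h : IsR1At M x)
    (e : M.presheaf.stalk x ≃ₗ[X.presheaf.stalk x] N.presheaf.stalk x) : IsR1At N x := by
  haveI := h.1
  exact ⟨Module.Free.of_equiv e, e.finrank_eq.symm.trans h.2⟩

theorem isR1At_tensor {M N : X.Modules} {x : X} (hM : IsR1At M x) (hN : IsR1At N x) :
    IsR1At (CohB1.tensorMod M N) x := by
  haveI := hM.1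
  haveI := hN.1
  haveI := hM.finite
  haveI := hN.finite
  refine ⟨Module.Free.of_equiv (tensorStalkEquiv M N x).symm, ?_⟩
  rw [(tensorStalkEquiv M N x).finrank_eq, Module.finrank_tensorProduct, hM.2, hN.2]

theorem isR1At_unit (x : X) : IsR1At (Coh.structureModule X) x := by
  obtain ⟨e⟩ := exists_stalkUnitEquiv (X := X) x
  exact ⟨Module.Free.of_equiv e.symm, e.finrank_eq.trans (Module.finrank_self _)⟩

theorem isR1At_dual [IsLocallyNoetherian X] {M : X.Modules} (hM : Coh.IsCoh M) {x : X}
    (h : IsR1At M x) : IsR1At (dual M) x := by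
  haveI := h.1
  haveI := h.finite
  obtain ⟨e⟩ := exists_stalkUnitEquiv (X := X) x
  haveI : Module.Free (X.presheaf.stalk x) ((Coh.structureModule X).presheaf.stalk x) :=
    Module.Free.of_equiv e.symm
  let E : (dual M).presheaf.stalk x ≃ₗ[X.presheaf.stalk x] (StalkHom M (Coh.structureModule X) x) :=
    LinearEquiv.ofBijective (evalStalk M (Coh.structureModule X) x)
      (evalStalk_bijective M (Coh.structureModule X)
        (Groth.Agent.Lib.helper16.CohFinite.isFinitePresentation_of_isCoh M hM) x)
  refine ⟨Module.Free.of_equiv E.symm, ?_⟩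
  rw [E.finrank_eq, Module.finrank_linearMap, h.2, e.finrank_eq, Module.finrank_self]

theorem isR1At_ddual [IsLocallyNoetherian X] {M : X.Modules} (hM : Coh.IsCoh M) {x : X}
    (h : IsR1At M x) : IsR1At (ddual M) x :=
  isR1At_dual (dual_isCoh M hM) (isR1At_dual hM h)

section Normal

variable [IsIntegral X] [IsLocallyNoetherian X]

theorem isR1At_of_mem_freeLocus (F : X.Modules) (hF : Coh.IsCoh F) (hrk : GenInvertible F) {x : X}
    (hx : x ∈ freeLocus F) : IsR1At F x :=
  haveI : F.IsQuasicoherent := hF.1
  ⟨hx, Groth.Agent.Lib.Lead.RefRank.finrank_stalk_eq_one_of_genInvertible F hrk x⟩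

theorem mem_freeLocus_of_dim_le_one (hX : Pi1.IsNormalScheme X) (F : X.Modules) (hF : Coh.IsCoh F)
    (hrefl : RefHull.IsReflexive F) (x : X) (hx : ringKrullDim (X.presheaf.stalk x) ≤ 1) :
    x ∈ freeLocus F := by
  have hstalk := (isReflexive_iff_forall_isReflexiveAt F hF).1 hrefl x
  haveI : IsDomain (X.presheaf.stalk x) := (hX x).1
  haveI : IsIntegrallyClosed (X.presheaf.stalk x) := (hX x).2
  haveI : Module.IsReflexive (X.presheaf.stalk x) (F.presheaf.stalk x) := hstalk
  haveI := Groth.Agent.Lib.helper16.CohStalk.finite_stalk_of_isCoh F hF x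
  haveI : IsPrincipalIdealRing (X.presheaf.stalk x) :=
    isPrincipalIdealRing_of_normal_dim_le_one _ hx
  exact free_of_torsionFree_of_pid (B := X.presheaf.stalk x) (F.presheaf.stalk x)

/-- the complement of the free locus of a reflexive module on a normal scheme consists of points of
depth at least two -/
theorem two_le_depth_of_not_mem (hX : Pi1.IsNormalScheme X) (F : X.Modules) (hF : Coh.IsCoh F)
    (hrefl : RefHull.IsReflexive F) (x : X) (hx : x ∉ freeLocus F) :
    (2 : ℕ∞) ≤ LocCoh.depth (X.presheaf.stalk x) (X.presheaf.stalk x) :=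
  Groth.Agent.Lib.Lead.FlatHartogs.two_le_depth_of_normal hX x fun h =>
    hx (mem_freeLocus_of_dim_le_one hX F hF hrefl x h)

end Normal

end Groth.Agent.Lib.Lead.RefGrp
end
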