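import Mathlib
import Groth.Agent.Lib.Helper26.ReflexiveLoc2

/-!
# Duals and Hom into reflexive modules over a Noetherian domain (lead)

* `isReflexive_dual_of_finite`: the dual of a finite module over a Noetherian domain is reflexive.
* `isReflexive_linearMap`: `Hom(M, N)` is reflexive for `M`, `N` finite and `N` reflexive.
-/

set_option autoImplicit false
set_option backward.isDefEq.respectTransparency false
set_option linter.style.haveILetI false
set_option linter.unusedSectionVars false
universe u

namespace Groth.Agent.Lib.Lead.ReflHom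

open Module Groth.Agent.Lib.helper26.ReflexiveLoc

variable {R : Type u} [CommRing R] [IsDomain R] [IsNoetherianRing R]

/-- the cokernel of `P → P**` is torsion -/
theorem exists_smul_mem_range_eval' (P : Type u) [AddCommGroup P] [Module R P] [Module.Finite R P]
    (φ : Dual R (Dual R P)) : ∃ s : R, s ≠ 0 ∧ s • φ ∈ LinearMap.range (Dual.eval R P) := by
  haveI : Module.Finite (FractionRing R) (LocalizedModule (nonZeroDivisors R) P) :=
    Module.Finite.of_isLocalizedModule (nonZeroDivisors R)
      (LocalizedModule.mkLinearMap (nonZeroDivisors R) P)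
  obtain ⟨s, hs, h⟩ := exists_smul_mem_range_eval (nonZeroDivisors R) (FractionRing R)
    (LocalizedModule.mkLinearMap (nonZeroDivisors R) P) φ
  exact ⟨s, nonZeroDivisors.ne_zero hs, h⟩

/-- **The dual of a finite module over a Noetherian domain is reflexive.** -/
theorem isReflexive_dual_of_finite (P : Type u) [AddCommGroup P] [Module R P] [Module.Finite R P] :
    Module.IsReflexive R (Dual R P) := by
  have hzero : ∀ ζ : Dual R (Dual R (Dual R P)), (∀ p : P, ζ (Dual.eval R P p) = 0) → ζ = 0 := by
    intro ζ hζ
    refine LinearMap.ext fun φ => ?_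
    obtain ⟨s, hs, p, hp⟩ := exists_smul_mem_range_eval' P φ
    have h1 : s • ζ φ = 0 := by
      rw [← map_smul, ← hp, hζ]
    rw [LinearMap.zero_apply]
    exact (smul_eq_zero.1 h1).resolve_left hs
  refine ⟨⟨?_, ?_⟩⟩
  · rw [injective_iff_map_eq_zero]
    intro θ hθ
    refine LinearMap.ext fun p => ?_
    have := LinearMap.congr_fun hθ (Dual.eval R P p)
    simpa using this
  · intro ξ
    refine ⟨ξ ∘ₗ Dual.eval R P, ?_⟩
    have h1 : ξ - Dual.eval R (Dual R P) (ξ ∘ₗ Dual.eval R P) = 0 := by
      apply hzero
      intro p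
      simp
    exact (sub_eq_zero.1 h1).symm

/-- **`Hom(M, N)` is reflexive** for finite `M`, `N` over a Noetherian domain with `N` reflexive. -/
theorem isReflexive_linearMap (M N : Type u) [AddCommGroup M] [Module R M] [AddCommGroup N]
    [Module R N] [Module.Finite R M] [Module.Finite R N] [Module.IsReflexive R N] :
    Module.IsReflexive R (M →ₗ[R] N) := by
  haveI := isReflexive_dual_of_finite (R := R) (TensorProduct R M (Dual R N))
  let e1 : (M →ₗ[R] N) ≃ₗ[R] (M →ₗ[R] Dual R (Dual R N)) :=
    LinearEquiv.congrRight (Module.evalEquiv R N)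
  let e2 : (M →ₗ[R] Dual R N →ₗ[R] R) ≃ₗ[R] Dual R (TensorProduct R M (Dual R N)) :=
    TensorProduct.lift.equiv (RingHom.id R) M (Dual R N) R
  exact Module.equiv (e1.trans e2).symm

end Groth.Agent.Lib.Lead.ReflHom
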