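import Mathlib
import Groth.Prelude.Def_RefHull
import Groth.Prelude.Def_Pic
import Groth.Agent.Lib.Lead.RefGrp1
import Groth.Agent.Lib.Lead.RefGrp3
import Groth.Agent.Lib.Lead.RefRank2
import Groth.Agent.Lib.Lead.ReflHom
import Groth.Agent.Lib.Helper21.SyzygyFLF
import Groth.Agent.Lib.Helper11.IsoLocus

/-!
# Extending invertible modules, part 1: stalks of biproducts, `IsR1At`, vanishing of stalks (lead)

* `stalkMapₗ_add`; `bijective_stalkMapₗ_fst`, `bijective_stalkMapₗ_snd`: the projections of `A ⊞ B` are bijective on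
  the stalk at `x` when the other summand has zero stalk at `x`.
* `isR1At_of_iso`, `isR1At_restrict_iff`, `isR1At_of_isInvertible`, `isInvertible_of_forall_isR1At`: a coherent
  module on a locally Noetherian scheme all of whose stalks are free of rank one is invertible.
* `subsingleton_stalk_of_sections`, `subsingleton_stalk_pushforward` (the stalk of `j_* M`, `j : V → X` open, vanishes
  at points with a neighbourhood disjoint from `V`), `injective_stalkMapₗ_of_mono`, `subsingleton_stalk_of_mono`.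
-/

set_option autoImplicit false
set_option backward.isDefEq.respectTransparency false
set_option linter.style.haveILetI false
set_option linter.unusedSectionVars false
universe u

open CategoryTheory CategoryTheory.Limits AlgebraicGeometry TopologicalSpace Opposite

noncomputable section

namespace Groth.Agent.Lib.Lead.InvExt

open RefHull Groth.Agent.Lib.Lead.RH Groth.Agent.Lib.Lead.RefGrp Groth.Agent.Lib.Lead.RefExt
  Groth.Agent.Lib.Lead.RefRank
open Groth.Agent.Lib.helper16.CohStalk Groth.Agent.Lib.helper16.CohFinite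
open Scheme.Modules

variable {X : Scheme.{u}}

/-! ### additivity of stalk maps, stalks of biproducts -/

theorem stalkMapₗ_add {F G : X.Modules} (φ ψ : F ⟶ G) (x : X) :
    stalkMapₗ (φ + ψ) x = stalkMapₗ φ x + stalkMapₗ ψ x := by
  refine LinearMap.ext fun v => ?_
  obtain ⟨U, hx, m, rfl⟩ := TopCat.Presheaf.exists_germ_eq F.presheaf v
  rw [LinearMap.add_apply, stalkMapₗ_germ, stalkMapₗ_germ, stalkMapₗ_germ, ← map_add]
  rfl

theorem bijective_stalkMapₗ_fst (A B : X.Modules) (x : X) [Subsingleton (B.presheaf.stalk x)] :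
    Function.Bijective (stalkMapₗ (biprod.fst : A ⊞ B ⟶ A) x) := by
  have h1 : (stalkMapₗ (biprod.fst : A ⊞ B ⟶ A) x).comp
      (stalkMapₗ (biprod.inl : A ⟶ A ⊞ B) x) = LinearMap.id := by
    rw [← stalkMapₗ_comp, biprod.inl_fst, stalkMapₗ_id]
  have h2 : (stalkMapₗ (biprod.inl : A ⟶ A ⊞ B) x).comp
      (stalkMapₗ (biprod.fst : A ⊞ B ⟶ A) x) = LinearMap.id := by
    have h3 : stalkMapₗ (biprod.snd : A ⊞ B ⟶ B) x = 0 :=
      LinearMap.ext fun v => Subsingleton.elim _ _
    have h4 : stalkMapₗ ((biprod.fst : A ⊞ B ⟶ A) ≫ biprod.inl + biprod.snd ≫ biprod.inr) x =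
        stalkMapₗ (𝟙 (A ⊞ B)) x := by rw [biprod.total]
    rw [stalkMapₗ_add, stalkMapₗ_comp, stalkMapₗ_comp, h3, LinearMap.comp_zero, add_zero,
      stalkMapₗ_id] at h4
    exact h4
  exact ⟨Function.LeftInverse.injective (g := stalkMapₗ (biprod.inl : A ⟶ A ⊞ B) x)
      fun v => LinearMap.congr_fun h2 v,
    Function.RightInverse.surjective (g := stalkMapₗ (biprod.inl : A ⟶ A ⊞ B) x)
      fun v => LinearMap.congr_fun h1 v⟩

theorem bijective_stalkMapₗ_snd (A B : X.Modules) (x : X) [Subsingleton (A.presheaf.stalk x)] :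
    Function.Bijective (stalkMapₗ (biprod.snd : A ⊞ B ⟶ B) x) := by
  have h1 : (stalkMapₗ (biprod.snd : A ⊞ B ⟶ B) x).comp
      (stalkMapₗ (biprod.inr : B ⟶ A ⊞ B) x) = LinearMap.id := by
    rw [← stalkMapₗ_comp, biprod.inr_snd, stalkMapₗ_id]
  have h2 : (stalkMapₗ (biprod.inr : B ⟶ A ⊞ B) x).comp
      (stalkMapₗ (biprod.snd : A ⊞ B ⟶ B) x) = LinearMap.id := by
    have h3 : stalkMapₗ (biprod.fst : A ⊞ B ⟶ A) x = 0 :=
      LinearMap.ext fun v => Subsingleton.elim _ _
    have h4 : stalkMapₗ ((biprod.fst : A ⊞ B ⟶ A) ≫ biprod.inl + biprod.snd ≫ biprod.inr) x =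
        stalkMapₗ (𝟙 (A ⊞ B)) x := by rw [biprod.total]
    rw [stalkMapₗ_add, stalkMapₗ_comp, stalkMapₗ_comp, h3, LinearMap.comp_zero, zero_add,
      stalkMapₗ_id] at h4
    exact h4
  exact ⟨Function.LeftInverse.injective (g := stalkMapₗ (biprod.inr : B ⟶ A ⊞ B) x)
      fun v => LinearMap.congr_fun h2 v,
    Function.RightInverse.surjective (g := stalkMapₗ (biprod.inr : B ⟶ A ⊞ B) x)
      fun v => LinearMap.congr_fun h1 v⟩

/-! ### `IsR1At` -/

theorem isR1At_of_iso {A B : X.Modules} (e : A ≅ B) {x : X} (h : IsR1At A x) : IsR1At B x :=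
  h.of_linearEquiv (LinearEquiv.ofBijective (stalkMapₗ e.hom x)
    (bijective_stalkMapₗ_of_isIso e.hom x))

theorem isR1At_restrict_iff (F : X.Modules) (U : X.Opens) (y : (U : Scheme.{u})) :
    IsR1At (F.restrict U.ι) y ↔ IsR1At F (U.ι y) := by
  unfold IsR1At
  rw [free_stalk_restrict_iff, finrank_stalk_restrict]

theorem isR1At_of_isInvertible {L : X.Modules} (hL : PicF.IsInvertible L) (x : X) : IsR1At L x := by
  have h1 := (Groth.Agent.Lib.helper16.FLF.isInvertible_iff_isFinLocFreeOfRank_one L).1 hL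
  exact ⟨(Groth.Agent.Lib.helper16.FLF.free_stalk_of_isFinLocFree L
      (Groth.Agent.Lib.helper16.FLF.isFinLocFree_of_isFinLocFreeOfRank h1) x).1,
    Groth.Agent.Lib.helper16.FLF.finrank_stalk_of_isFinLocFreeOfRank L h1 x⟩

theorem isInvertible_of_forall_isR1At [IsLocallyNoetherian X] (F : X.Modules) (hF : Coh.IsCoh F)
    (h : ∀ x : X, IsR1At F x) : PicF.IsInvertible F := by
  rw [Groth.Agent.Lib.helper16.FLF.isInvertible_iff_isFinLocFreeOfRank_one]
  rw [Groth.Agent.Lib.helper16.FLF.isFinLocFreeOfRank_iff_finrank_stalk F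
    (Groth.Agent.Lib.helper21.SyzygyFLF.isFinLocFree_of_free_stalks F hF fun x => (h x).1)]
  exact fun x => (h x).2

/-! ### vanishing of stalks -/

theorem subsingleton_stalk_of_sections (M : X.Modules) (x : X) (W : X.Opens) (hxW : x ∈ W)
    (h : ∀ W' : X.Opens, W' ≤ W → Subsingleton Γ(M, W')) : Subsingleton (M.presheaf.stalk x) := by
  refine ⟨fun a b => ?_⟩
  obtain ⟨U₁, h₁, s, rfl⟩ := TopCat.Presheaf.exists_germ_eq M.presheaf a
  obtain ⟨U₂, h₂, t, rfl⟩ := TopCat.Presheaf.exists_germ_eq M.presheaf b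
  rw [← TopCat.Presheaf.germ_res_apply M.presheaf
      (homOfLE (inf_le_left.trans inf_le_left : U₁ ⊓ U₂ ⊓ W ≤ U₁)) x ⟨⟨h₁, h₂⟩, hxW⟩ s,
    ← TopCat.Presheaf.germ_res_apply M.presheaf
      (homOfLE (inf_le_left.trans inf_le_right : U₁ ⊓ U₂ ⊓ W ≤ U₂)) x ⟨⟨h₁, h₂⟩, hxW⟩ t]
  haveI := h (U₁ ⊓ U₂ ⊓ W) inf_le_right
  congr 1
  exact Subsingleton.elim _ _

theorem subsingleton_stalk_pushforward (V : X.Opens) (M : (V : Scheme.{u}).Modules) (x : X)
    (W : X.Opens) (hxW : x ∈ W) (hWV : ∀ y ∈ W, y ∉ V) :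
    Subsingleton (((pushforward V.ι).obj M).presheaf.stalk x) := by
  refine subsingleton_stalk_of_sections _ x W hxW fun W' hW' => ⟨fun a b => ?_⟩
  exact section_ext' M (V := V.ι ⁻¹ᵁ W') a b fun y hy => absurd y.2 (hWV _ (hW' hy))

theorem injective_app_of_mono {M N : X.Modules} (φ : M ⟶ N) [Mono φ] (U : X.Opens) :
    Function.Injective (φ.app U).hom := by
  have h1 : Mono ((Scheme.Modules.toPresheaf X).map φ) := inferInstance
  have h2 : Mono (((Scheme.Modules.toPresheaf X).map φ).app (Opposite.op U)) :=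
    (NatTrans.mono_iff_mono_app _).1 h1 _
  exact (AddCommGrpCat.mono_iff_injective _).1 h2

theorem injective_stalkMapₗ_of_mono {M N : X.Modules} (φ : M ⟶ N) [Mono φ] (x : X) :
    Function.Injective (stalkMapₗ φ x) :=
  TopCat.Presheaf.stalkFunctor_map_injective_of_app_injective
    (f := φ.mapPresheaf) (fun U => injective_app_of_mono φ U) x

theorem subsingleton_stalk_of_mono {M N : X.Modules} (φ : M ⟶ N) [Mono φ] (x : X)
    [Subsingleton (N.presheaf.stalk x)] : Subsingleton (M.presheaf.stalk x) :=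
  (injective_stalkMapₗ_of_mono φ x).subsingleton

end Groth.Agent.Lib.Lead.InvExt
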