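import Mathlib
import Groth.Agent.Lib.Lead.InvExt1
import Groth.Agent.Lib.Helper12.WNorm3

/-!
# Extending invertible modules, part 2: double duals at factorial points (lead)

* `dualStalkEquiv`, `subsingleton_stalk_dual`, `subsingleton_stalk_ddual`, `isReflexive_stalk_ddual` (the stalk of a
  double dual of a coherent module at a point whose local ring is a domain is reflexive).
* `finrank_stalk_eq_sections'`: rank of a stalk = rank of the sections over an affine open whose ring is a domain.
* `subset_closure_of_isDomain`: an affine open with a domain of sections which meets `U` lies in the closure of `U`.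
* `isR1At_ddual_of_ufd`: if `G` is free of rank one at the points of `U`, then `G^**` is free of rank one at every
  point of the closure of `U` whose local ring is factorial, and such a point has a neighbourhood inside the closure.
-/

set_option autoImplicit false
set_option backward.isDefEq.respectTransparency false
set_option linter.style.haveILetI false
set_option linter.unusedSectionVars false
universe u

open CategoryTheory CategoryTheory.Limits AlgebraicGeometry TopologicalSpace Opposite

noncomputable section

namespace Groth.Agent.Lib.Lead.InvExt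

open RefHull Groth.Agent.Lib.Lead.RH Groth.Agent.Lib.Lead.RefGrp Groth.Agent.Lib.Lead.RefExt
  Groth.Agent.Lib.Lead.RefRank
open Groth.Agent.Lib.helper16.CohStalk Groth.Agent.Lib.helper16.CohFinite
open Scheme.Modules

variable {X : Scheme.{u}}

/-! ### stalks of duals -/

/-- the stalk of the dual of a coherent module, as a module of linear maps -/
def dualStalkEquiv [IsLocallyNoetherian X] {M : X.Modules} (hM : Coh.IsCoh M) (x : X) :
    (dual M).presheaf.stalk x ≃ₗ[X.presheaf.stalk x] (StalkHom M (Coh.structureModule X) x) :=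
  LinearEquiv.ofBijective (evalStalk M (Coh.structureModule X) x)
    (evalStalk_bijective M (Coh.structureModule X)
      (Groth.Agent.Lib.helper16.CohFinite.isFinitePresentation_of_isCoh M hM) x)

theorem subsingleton_stalk_dual [IsLocallyNoetherian X] {M : X.Modules} (hM : Coh.IsCoh M) (x : X)
    [Subsingleton (M.presheaf.stalk x)] : Subsingleton ((dual M).presheaf.stalk x) := by
  haveI : Subsingleton (StalkHom M (Coh.structureModule X) x) :=
    ⟨fun f g => LinearMap.ext fun v => by rw [Subsingleton.elim v 0, map_zero, map_zero]⟩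
  exact (dualStalkEquiv hM x).injective.subsingleton

theorem subsingleton_stalk_ddual [IsLocallyNoetherian X] {M : X.Modules} (hM : Coh.IsCoh M) (x : X)
    [Subsingleton (M.presheaf.stalk x)] : Subsingleton ((ddual M).presheaf.stalk x) := by
  haveI := subsingleton_stalk_dual hM x
  exact subsingleton_stalk_dual (dual_isCoh M hM) x

/-- the stalks of a double dual at points whose local ring is a domain are reflexive -/
theorem isReflexive_stalk_ddual [IsLocallyNoetherian X] {M : X.Modules} (hM : Coh.IsCoh M) (x : X)
    [IsDomain (X.presheaf.stalk x)] :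
    Module.IsReflexive (X.presheaf.stalk x) ((ddual M).presheaf.stalk x) := by
  obtain ⟨e⟩ := exists_stalkUnitEquiv (X := X) x
  haveI := finite_stalk_of_isCoh (dual M) (dual_isCoh M hM) x
  haveI : Module.Finite (X.presheaf.stalk x) ((Coh.structureModule X).presheaf.stalk x) :=
    Module.Finite.equiv e.symm
  haveI : Module.IsReflexive (X.presheaf.stalk x) ((Coh.structureModule X).presheaf.stalk x) :=
    Module.equiv e.symm
  haveI := Groth.Agent.Lib.Lead.ReflHom.isReflexive_linearMap (R := X.presheaf.stalk x)
    ((dual M).presheaf.stalk x) ((Coh.structureModule X).presheaf.stalk x)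
  exact Module.equiv (dualStalkEquiv (dual_isCoh M hM) x).symm

/-! ### ranks of stalks over an affine open with a domain of sections -/

theorem finrank_stalk_eq_sections' (F : X.Modules) [F.IsQuasicoherent] {W : X.Opens}
    (hW : IsAffineOpen W) [IsDomain Γ(X, W)] (x : X) (hxW : x ∈ W) :
    Module.finrank (X.presheaf.stalk x) (F.presheaf.stalk x) =
      Module.finrank Γ(X, W) Γ(F, W) := by
  letI := TopCat.Presheaf.algebra_section_stalk X.presheaf (⟨x, hxW⟩ : W)
  letI := modStalk F x hxW
  haveI := isScalarTower_stalk F x hxW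
  haveI : IsLocalization.AtPrime (X.presheaf.stalk x) (hW.primeIdealOf ⟨x, hxW⟩).asIdeal :=
    hW.isLocalization_stalk ⟨x, hxW⟩
  haveI := isLocalizedModule_stalk F hW x hxW
  have hp : (hW.primeIdealOf ⟨x, hxW⟩).asIdeal.primeCompl ≤ nonZeroDivisors Γ(X, W) :=
    Ideal.primeCompl_le_nonZeroDivisors _
  rw [IsLocalization.finrank_eq (X.presheaf.stalk x)
    (hW.primeIdealOf ⟨x, hxW⟩).asIdeal.primeCompl hp,
    IsLocalizedModule.finrank_eq (hW.primeIdealOf ⟨x, hxW⟩).asIdeal.primeCompl
      (germLin F x hxW) hp]

/-! ### an affine open with a domain of sections meeting `U` lies in the closure of `U` -/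

theorem subset_closure_of_isDomain {W U : X.Opens} (hW : IsAffineOpen W) [IsDomain Γ(X, W)]
    (y : X) (hyW : y ∈ W) (hyU : y ∈ U) : (W : Set X) ⊆ closure (U : Set X) := by
  intro z hz
  let η : X := hW.fromSpec (⟨⊥, Ideal.isPrime_bot⟩ : PrimeSpectrum Γ(X, W))
  have hsp : ∀ w (hw : w ∈ W), η ⤳ w := by
    intro w hw
    have h1 : (⟨⊥, Ideal.isPrime_bot⟩ : PrimeSpectrum Γ(X, W)) ⤳ hW.primeIdealOf ⟨w, hw⟩ :=
      (PrimeSpectrum.le_iff_specializes _ _).1 bot_le
    have h2 := h1.map hW.fromSpec.continuous
    rw [hW.fromSpec_primeIdealOf ⟨w, hw⟩] at h2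
    exact h2
  have hηU : η ∈ U := (hsp y hyW).mem_open U.isOpen hyU
  exact closure_mono (Set.singleton_subset_iff.2 hηU) ((hsp z hz).mem_closure)

/-! ### the double dual is free of rank one at factorial points in the closure of the invertible locus -/

theorem isR1At_ddual_of_ufd [IsLocallyNoetherian X] {G : X.Modules} (hG : Coh.IsCoh G) (U : X.Opens)
    (hU : ∀ y ∈ U, IsR1At G y) (x : X) (hx : x ∈ closure (U : Set X))
    [IsDomain (X.presheaf.stalk x)] [UniqueFactorizationMonoid (X.presheaf.stalk x)] :
    IsR1At (ddual G) x ∧ ∃ W : X.Opens, x ∈ W ∧ (W : Set X) ⊆ closure (U : Set X) := by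
  obtain ⟨W, -, hW, hxW, hdom⟩ := Groth.Agent.Lib.Helper12.WNorm.exists_isDomain_nbhd x ⊤ trivial
  haveI := hdom
  obtain ⟨y, hyW, hyU⟩ := mem_closure_iff.1 hx (W : Set X) W.isOpen hxW
  have hN : Coh.IsCoh (ddual G) := ddual_isCoh G hG
  haveI : (ddual G).IsQuasicoherent := hN.1
  have hy : IsR1At (ddual G) y := isR1At_ddual hG (hU y hyU)
  have hrk : Module.finrank (X.presheaf.stalk x) ((ddual G).presheaf.stalk x) = 1 := by
    rw [finrank_stalk_eq_sections' (ddual G) hW x hxW, ← finrank_stalk_eq_sections' (ddual G) hW y hyW]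
    exact hy.2
  haveI := isReflexive_stalk_ddual hG x
  haveI := finite_stalk_of_isCoh (ddual G) hN x
  exact ⟨⟨free_of_isReflexive_of_finrank_eq_one ((ddual G).presheaf.stalk x) hrk, hrk⟩,
    W, hxW, subset_closure_of_isDomain hW y hyW hyU⟩

end Groth.Agent.Lib.Lead.InvExt
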