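import Mathlib
import Groth.Agent.Lib.Lead.InvExt2
import Groth.Agent.Lib.Helper16.FLF7
import Groth.Agent.Lib.Helper16.QCAlg2
import Groth.Agent.Lib.Helper7.QCohPushQC
import Groth.Agent.S2250

/-!
# Extending invertible modules, part 3: extension across factorial points (lead)

`exists_invertible_extension` (S0234): on a locally Noetherian scheme an invertible module on an open `U` extends to an
invertible module on `X` if the local rings at the points outside `U` are factorial.  Construction: `G ⊆ j_* L` a
coherent extension of `L` (S2250), `B ⊆ j'_* O_V` a coherent extension of `O_V` for `V` the complement of the closure of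
`U`; the extension is `G^** ⊞ B`.  No gluing is needed: `G^**` is free of rank one at the points of the closure of `U`
(reflexive modules of rank one over a factorial Noetherian domain are free) and vanishes on `V`, `B` is `O_V` on `V`
and vanishes near the closure of `U`.
-/

set_option autoImplicit false
set_option backward.isDefEq.respectTransparency false
set_option linter.style.haveILetI false
set_option linter.unusedSectionVars false
universe u

open CategoryTheory CategoryTheory.Limits AlgebraicGeometry TopologicalSpace Opposite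

noncomputable section

namespace Groth.Agent.Lib.Lead.InvExt

open RefHull Groth.Agent.Lib.Lead.RH Groth.Agent.Lib.Lead.RefGrp Groth.Agent.Lib.Lead.RefExt
  Groth.Agent.Lib.Lead.RefRank
open Groth.Agent.Lib.helper16.CohStalk Groth.Agent.Lib.helper16.CohFinite
open Scheme.Modules

/-- **Extension of invertible modules across factorial points** -/
theorem exists_invertible_extension (X : Scheme.{u}) [IsLocallyNoetherian X] (U : X.Opens)
    (L : (U : Scheme.{u}).Modules) (hL : PicF.IsInvertible L)
    (hufd : ∀ x : X, x ∉ U → UniqueFactorizationMonoid (X.presheaf.stalk x)) :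
    ∃ L' : X.Modules, PicF.IsInvertible L' ∧ Nonempty (L'.restrict U.ι ≅ L) := by
  have hXn : ∀ x : X, ∃ V : X.Opens, x ∈ V ∧ TopologicalSpace.NoetherianSpace (V : Set X) := by
    intro x
    obtain ⟨W, hW, hxW, -⟩ := Opens.isBasis_iff_nbhd.mp X.isBasis_affineOpens (Opens.mem_top x)
    haveI : IsNoetherianRing Γ(X, W) := IsLocallyNoetherian.component_noetherian ⟨W, hW⟩
    exact ⟨W, hxW, noetherianSpace_of_isAffineOpen W hW⟩
  -- `L` is coherent
  have hLflf := Groth.Agent.Lib.helper16.FLF.isFinLocFree_of_isFinLocFreeOfRank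
    ((Groth.Agent.Lib.helper16.FLF.isInvertible_iff_isFinLocFreeOfRank_one L).1 hL)
  haveI : L.IsQuasicoherent := Groth.Agent.Lib.helper16.FLF.isQuasicoherent_of_isFinLocFree L hLflf
  have hLft : CohB1.IsFT L := Groth.Agent.Lib.helper16.FLF.isFiniteType_of_isFinLocFree L hLflf
  -- a coherent submodule `G` of `j_* L` extending `L`
  let A : X.Modules := (pushforward U.ι).obj L
  haveI : A.IsQuasicoherent :=
    Groth.Agent.Lib.helper7.QCohPushQC.isQuasicoherent_pushforward U.ι L
  let i : L ⟶ A.restrict U.ι := inv ((restrictAdjunction U.ι).counit.app L)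
  obtain ⟨G, i', e, hmono, hGq, hGft, -⟩ := Groth.Agent.S2250.result hXn U A L i hLft
  haveI := hmono
  have hG : Coh.IsCoh G := ⟨hGq, hGft⟩
  -- the complement `V` of the closure of `U`, and a coherent submodule `B` of `j_* O_V` extending `O_V`
  let V : X.Opens := ⟨(closure (U : Set X))ᶜ, isClosed_closure.isOpen_compl⟩
  let OV : (V : Scheme.{u}).Modules := Coh.structureModule (V : Scheme.{u})
  have hOV : Coh.IsCoh OV := isCoh_structureModule' _
  haveI : OV.IsQuasicoherent := hOV.1
  let A' : X.Modules := (pushforward V.ι).obj OV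
  haveI : A'.IsQuasicoherent :=
    Groth.Agent.Lib.helper7.QCohPushQC.isQuasicoherent_pushforward V.ι OV
  let j : OV ⟶ A'.restrict V.ι := inv ((restrictAdjunction V.ι).counit.app OV)
  obtain ⟨B, j', eB, hmonoB, hBq, hBft, -⟩ := Groth.Agent.S2250.result hXn V A' OV j hOV.2
  haveI := hmonoB
  have hB : Coh.IsCoh B := ⟨hBq, hBft⟩
  have hN : Coh.IsCoh (ddual G) := ddual_isCoh G hG
  -- `G` is free of rank one on `U`, `B` on `V`
  have hGU : ∀ y ∈ U, IsR1At G y := by
    intro y hy
    have h1 : IsR1At (G.restrict U.ι) ⟨y, hy⟩ :=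
      isR1At_of_iso e.symm (isR1At_of_isInvertible hL ⟨y, hy⟩)
    exact (isR1At_restrict_iff G U ⟨y, hy⟩).1 h1
  have hBV : ∀ y ∈ V, IsR1At B y := by
    intro y hy
    have h1 : IsR1At (B.restrict V.ι) ⟨y, hy⟩ := isR1At_of_iso eB.symm (isR1At_unit (X := (V : Scheme.{u})) ⟨y, hy⟩)
    exact (isR1At_restrict_iff B V ⟨y, hy⟩).1 h1
  -- vanishing of stalks
  have hGV : ∀ y ∈ V, Subsingleton (G.presheaf.stalk y) := by
    intro y hy
    haveI : Subsingleton (A.presheaf.stalk y) :=
      subsingleton_stalk_pushforward U L y V hy (fun z hz hzU => hz (subset_closure hzU))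
    exact subsingleton_stalk_of_mono i' y
  have hBW : ∀ (y : X) (W : X.Opens), y ∈ W → (W : Set X) ⊆ closure (U : Set X) →
      Subsingleton (B.presheaf.stalk y) := by
    intro y W hyW hW
    haveI : Subsingleton (A'.presheaf.stalk y) :=
      subsingleton_stalk_pushforward V OV y W hyW (fun z hz hzV => hzV (hW hz))
    exact subsingleton_stalk_of_mono j' y
  -- the three kinds of points
  have key : ∀ x : X, (IsR1At (ddual G) x ∧ Subsingleton (B.presheaf.stalk x)) ∨
      (Subsingleton ((ddual G).presheaf.stalk x) ∧ IsR1At B x) := by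
    intro x
    by_cases hxU : x ∈ U
    · exact Or.inl ⟨isR1At_ddual hG (hGU x hxU), hBW x U hxU subset_closure⟩
    · by_cases hxc : x ∈ closure (U : Set X)
      · haveI := hufd x hxU
        haveI : IsDomain (X.presheaf.stalk x) :=
          (isDomain_iff_cancelMulZero_and_nontrivial _).2 ⟨inferInstance, inferInstance⟩
        obtain ⟨h1, W, hxW, hW⟩ := isR1At_ddual_of_ufd hG U hGU x hxc
        exact Or.inl ⟨h1, hBW x W hxW hW⟩
      · have hxV : x ∈ V := hxc
        haveI := hGV x hxV
        exact Or.inr ⟨subsingleton_stalk_ddual hG x, hBV x hxV⟩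
  haveI : (ddual G).IsQuasicoherent := hN.1
  haveI : B.IsQuasicoherent := hB.1
  refine ⟨ddual G ⊞ B, ?_, ?_⟩
  · have hNB := Groth.Agent.Lib.helper16.Satur.isFT_biprod (ddual G) B hN.2 hB.2
    refine isInvertible_of_forall_isR1At (ddual G ⊞ B) ⟨hNB.1, hNB.2⟩ fun x => ?_
    rcases key x with ⟨h1, h2⟩ | ⟨h1, h2⟩
    · haveI := h2
      exact h1.of_linearEquiv
        (LinearEquiv.ofBijective _ (bijective_stalkMapₗ_fst (ddual G) B x)).symm
    · haveI := h1
      exact h2.of_linearEquiv
        (LinearEquiv.ofBijective _ (bijective_stalkMapₗ_snd (ddual G) B x)).symm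
  · have h1 : IsIso ((restrictFunctor U.ι).map (biprod.fst : ddual G ⊞ B ⟶ ddual G)) := by
      rw [Groth.Agent.Lib.helper11.IsoLocus.isIso_restrict_iff_stalk]
      intro x hx
      haveI := hBW x U hx subset_closure
      rw [ConcreteCategory.isIso_iff_bijective]
      exact bijective_stalkMapₗ_fst (ddual G) B x
    haveI := isIso_restrict_bidualMap G hG U (fun x hx => (hGU x hx).isReflexiveAt)
    exact ⟨asIso ((restrictFunctor U.ι).map (biprod.fst : ddual G ⊞ B ⟶ ddual G)) ≪≫
      (asIso ((restrictFunctor U.ι).map (bidualMap G))).symm ≪≫ e⟩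

end Groth.Agent.Lib.Lead.InvExt
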