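import Mathlib
import Groth.Agent.Lib.Lead.RefRank2
import Groth.Agent.S16081
import Groth.Agent.S2252
import Groth.Agent.Lib.Helper11.IsoLocus
import Groth.Agent.Lib.Helper2.Hartogs3

/-!
# Reflexive sheaves: restriction to opens, extension from opens (lead)

* `isReflexive_of_semilinear`: reflexivity of modules transfers along semilinear isomorphisms.
* `isReflexiveAt_restrict_iff`: `(F|_U)_y` is reflexive iff `F_y` is.
* `bijective_stalkMapₗ_of_isIso`, `isReflexiveAt_of_iso`.
* `isReflexive_structureModule`, `isReflexive_ddual`.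
* `isIso_restrict_bidualMap`: `F → F^**` is an isomorphism over an open on which the stalks of `F` are reflexive.
* `isIso_unit_of_reflexive_of_depth`: Hartogs for modules with reflexive stalks across points of depth `≥ 2`.
* `exists_reflexive_extension`: a coherent module on an open `U` with reflexive stalks is the restriction of a
  coherent reflexive module on `X` (integral, locally Noetherian).
-/

set_option autoImplicit false
set_option backward.isDefEq.respectTransparency false
set_option linter.style.haveILetI false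
set_option linter.unusedSectionVars false
universe u

open CategoryTheory CategoryTheory.Limits AlgebraicGeometry TopologicalSpace Opposite

namespace Groth.Agent.Lib.Lead.RefExt

open RefHull Groth.Agent.Lib.Lead.RH Groth.Agent.Lib.helper11.IsoLocus Scheme.Modules
open Groth.Agent.Lib.helper25.FlatClass

theorem isReflexive_of_semilinear {R R' M M' : Type*} [CommRing R] [CommRing R'] [AddCommGroup M]
    [AddCommGroup M'] [Module R M] [Module R' M'] (σ : R' ≃+* R) (e : M' ≃+ M)
    (he : ∀ (r : R') (m : M'), e (r • m) = σ r • e m) [Module.IsReflexive R M] :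
    Module.IsReflexive R' M' := by
  have he' : ∀ (r : R) (m : M), e.symm (r • m) = σ.symm r • e.symm m := by
    intro r m
    apply e.injective
    rw [he, AddEquiv.apply_symm_apply, AddEquiv.apply_symm_apply, RingEquiv.apply_symm_apply]
  let D : Module.Dual R M → Module.Dual R' M' := fun φ =>
    { toFun := fun m' => σ.symm (φ (e m'))
      map_add' := fun a b => by rw [map_add, map_add, map_add]
      map_smul' := fun r m => by
        rw [he, _root_.map_smul, smul_eq_mul, map_mul, RingEquiv.symm_apply_apply, RingHom.id_apply,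
          smul_eq_mul] }
  let Dinv : Module.Dual R' M' → Module.Dual R M := fun ψ =>
    { toFun := fun m => σ (ψ (e.symm m))
      map_add' := fun a b => by rw [map_add, map_add, map_add]
      map_smul' := fun r m => by
        rw [he', _root_.map_smul, smul_eq_mul, map_mul, RingEquiv.apply_symm_apply, RingHom.id_apply,
          smul_eq_mul] }
  have hD1 : ∀ ψ, D (Dinv ψ) = ψ := fun ψ => LinearMap.ext fun m' => by
    change σ.symm (σ (ψ (e.symm (e m')))) = ψ m'
    rw [RingEquiv.symm_apply_apply, AddEquiv.symm_apply_apply]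
  have hDadd : ∀ φ₁ φ₂, D (φ₁ + φ₂) = D φ₁ + D φ₂ := fun φ₁ φ₂ => LinearMap.ext fun m' => by
    change σ.symm ((φ₁ + φ₂) (e m')) = σ.symm (φ₁ (e m')) + σ.symm (φ₂ (e m'))
    rw [LinearMap.add_apply, map_add]
  have hDsmul : ∀ (r : R) φ, D (r • φ) = σ.symm r • D φ := fun r φ => LinearMap.ext fun m' => by
    change σ.symm ((r • φ) (e m')) = σ.symm r * σ.symm (φ (e m'))
    rw [LinearMap.smul_apply, smul_eq_mul, map_mul]
  refine ⟨⟨fun a b hab => ?_, fun Ψ => ?_⟩⟩
  · apply e.injective
    apply (Module.bijective_dual_eval R M).1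
    refine LinearMap.ext fun φ => ?_
    have h1 := LinearMap.congr_fun hab (D φ)
    have h2 : σ.symm (φ (e a)) = σ.symm (φ (e b)) := h1
    exact σ.symm.injective h2
  · let Φ : Module.Dual R (Module.Dual R M) :=
      { toFun := fun φ => σ (Ψ (D φ))
        map_add' := fun a b => by rw [hDadd, map_add, map_add]
        map_smul' := fun r φ => by
          rw [hDsmul, _root_.map_smul, smul_eq_mul, map_mul, RingEquiv.apply_symm_apply, RingHom.id_apply,
            smul_eq_mul] }
    obtain ⟨m, hm⟩ := (Module.bijective_dual_eval R M).2 Φ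
    refine ⟨e.symm m, LinearMap.ext fun ψ => ?_⟩
    have h1 := LinearMap.congr_fun hm (Dinv ψ)
    have h2 : σ (ψ (e.symm m)) = σ (Ψ (D (Dinv ψ))) := h1
    rw [hD1] at h2
    exact σ.injective h2

variable {X : Scheme.{u}} (F : X.Modules)

theorem isReflexiveAt_restrict_iff (U : X.Opens) (y : (U : Scheme.{u})) :
    Module.IsReflexive ((U : Scheme.{u}).presheaf.stalk y) ((F.restrict U.ι).presheaf.stalk y) ↔
      Module.IsReflexive (X.presheaf.stalk (U.ι y)) (F.presheaf.stalk (U.ι y)) := by
  constructor
  · intro h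
    refine isReflexive_of_semilinear (resRingEquiv U y).symm (resStalkEquiv F U y).symm fun r m => ?_
    apply (resStalkEquiv F U y).injective
    rw [AddEquiv.apply_symm_apply]
    have h1 := resStalk_smul F U y ((resRingEquiv U y).symm r) ((resStalkEquiv F U y).symm m)
    have h2 : resRing U y ((resRingEquiv U y).symm r) = r := (resRingEquiv U y).apply_symm_apply r
    have h3 : resStalk F U y ((resStalkEquiv F U y).symm m) = m :=
      (resStalkEquiv F U y).apply_symm_apply m
    rw [h2, h3] at h1
    exact h1.symm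
  · intro h
    exact isReflexive_of_semilinear (resRingEquiv U y) (resStalkEquiv F U y)
      fun r m => resStalk_smul F U y r m

theorem bijective_stalkMapₗ_of_isIso {A B : X.Modules} (φ : A ⟶ B) [IsIso φ] (x : X) :
    Function.Bijective (stalkMapₗ φ x) := by
  have h : IsIso (stalkMap φ x) := inferInstance
  rw [ConcreteCategory.isIso_iff_bijective] at h
  exact h

theorem isReflexiveAt_of_iso {A B : X.Modules} (e : A ≅ B) (x : X) (h : IsReflexiveAt A x) :
    IsReflexiveAt B x := by
  haveI : Module.IsReflexive (X.presheaf.stalk x) (A.presheaf.stalk x) := h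
  exact Module.equiv (LinearEquiv.ofBijective (stalkMapₗ e.hom x) (bijective_stalkMapₗ_of_isIso e.hom x))

section Noeth

variable [IsLocallyNoetherian X]

theorem isReflexive_structureModule (X : Scheme.{u}) [IsLocallyNoetherian X] :
    RefHull.IsReflexive (Coh.structureModule X) := by
  rw [isReflexive_iff_forall_isReflexiveAt _ (isCoh_structureModule' X)]
  intro x
  obtain ⟨e⟩ := exists_stalkUnitEquiv (X := X) x
  exact Module.equiv e.symm

theorem isReflexive_ddual [IsIntegral X] (hF : Coh.IsCoh F) : RefHull.IsReflexive (RefHull.ddual F) :=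
  Groth.Agent.S16081.result X (RefHull.dual F) (Coh.structureModule X) (dual_isCoh F hF)
    (isCoh_structureModule' X) (isReflexive_structureModule X)

theorem isIso_restrict_bidualMap (hF : Coh.IsCoh F) (U : X.Opens)
    (h : ∀ x ∈ U, IsReflexiveAt F x) :
    IsIso ((restrictFunctor U.ι).map (RefHull.bidualMap F)) := by
  rw [isIso_restrict_iff_stalk]
  intro x hx
  have hb := (bijective_stalkMapₗ_bidualMap_iff F hF x).2 (h x hx)
  rw [ConcreteCategory.isIso_iff_bijective]
  exact hb

/-- Hartogs: a coherent module with reflexive stalks extends uniquely across points where `O_X` has depth `≥ 2` -/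
theorem isIso_unit_of_reflexive_of_depth (hF : Coh.IsCoh F) (U : X.Opens)
    (hU : ∀ x : X, x ∉ U → (2 : ℕ∞) ≤ LocCoh.depth (X.presheaf.stalk x) (X.presheaf.stalk x))
    (hr : ∀ x : X, Module.IsReflexive (X.presheaf.stalk x) (F.presheaf.stalk x)) :
    IsIso ((Scheme.Modules.restrictAdjunction U.ι).unit.app F) := by
  refine Groth.Agent.Lib.helper2.Hartogs.isIso_resPushUnit_of_depth F hF U fun x hx => ?_
  haveI := hr x
  haveI := Groth.Agent.Lib.helper16.CohStalk.finite_stalk_of_isCoh F hF x
  exact (Groth.Agent.Lib.helper26.Depth.reflexive_depth_Sk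
    (IsLocalRing.maximalIdeal (X.presheaf.stalk x)) (F.presheaf.stalk x)).2.1 (hU x hx)

/-- a coherent module on an open with reflexive stalks extends to a coherent reflexive module -/
theorem exists_reflexive_extension [IsIntegral X] (U : X.Opens) (G : (U : Scheme.{u}).Modules)
    (hG : Coh.IsCoh G)
    (hGr : ∀ x : (U : Scheme.{u}),
      Module.IsReflexive ((U : Scheme.{u}).presheaf.stalk x) (G.presheaf.stalk x)) :
    ∃ L : X.Modules, Coh.IsCoh L ∧ RefHull.IsReflexive L ∧ Nonempty (L.restrict U.ι ≅ G) := by
  have hXn : ∀ x : X, ∃ V : X.Opens, x ∈ V ∧ TopologicalSpace.NoetherianSpace (V : Set X) := by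
    intro x
    obtain ⟨W, hW, hxW, -⟩ := Opens.isBasis_iff_nbhd.mp X.isBasis_affineOpens (Opens.mem_top x)
    haveI : IsNoetherianRing Γ(X, W) := IsLocallyNoetherian.component_noetherian ⟨W, hW⟩
    exact ⟨W, hxW, noetherianSpace_of_isAffineOpen W hW⟩
  haveI : Coh.IsQCoh G := hG.1
  obtain ⟨G', hq, hft, ⟨e₀⟩⟩ := Groth.Agent.S2252.result hXn U G hG.2
  have hG' : Coh.IsCoh G' := ⟨hq, hft⟩
  have hG'U : ∀ x ∈ U, IsReflexiveAt G' x := by
    intro x hx
    have h1 : Module.IsReflexive ((U : Scheme.{u}).presheaf.stalk ⟨x, hx⟩)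
        ((G'.restrict U.ι).presheaf.stalk ⟨x, hx⟩) :=
      isReflexiveAt_of_iso e₀.symm ⟨x, hx⟩ (hGr ⟨x, hx⟩)
    exact (isReflexiveAt_restrict_iff G' U ⟨x, hx⟩).1 h1
  haveI := isIso_restrict_bidualMap G' hG' U hG'U
  let e₁ : G'.restrict U.ι ≅ (RefHull.ddual G').restrict U.ι :=
    asIso ((restrictFunctor U.ι).map (RefHull.bidualMap G'))
  exact ⟨RefHull.ddual G', ddual_isCoh G' hG', isReflexive_ddual G' hG', ⟨e₁.symm ≪≫ e₀⟩⟩

end Noeth

end Groth.Agent.Lib.Lead.RefExt
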