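import Groth.Agent.Lib.Lead.RefWeil3
import Groth.Agent.Lib.Lead.RefExt

/-!
# Every Weil divisor is the divisor of a rational section of a rank one reflexive module (lead)

`X` normal, integral, locally Noetherian, `D` a Weil divisor.
* `app_map_apply`, `iso_hom_inv_app_apply`, `transport_smul`: bookkeeping for an isomorphism `L|_U ≅ N|_U`.
* `genSec`, `genSec_rel`, `span_germ_genSec`: the local generators of an extension `L` of `O_X(D)|_U` (`U` the principal locus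
  of `D`) attached to local equations of `D`, their transition functions and the fact that they generate the stalks.
* `exists_ref1_of_divisor`: there are a rank one coherent reflexive `F` and `0 ≠ s ∈ F_η` with `ord_{x,F}(s) = D x` at all
  codimension one points (`F` = the reflexive extension of the invertible module `O_X(D)|_U`).
-/

set_option autoImplicit false
set_option backward.isDefEq.respectTransparency false
set_option linter.style.haveILetI false
set_option linter.unusedSectionVars false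
universe u

open CategoryTheory CategoryTheory.Limits AlgebraicGeometry TopologicalSpace Opposite

noncomputable section

namespace Groth.Agent.Lib.Lead.RefWeil

open RefHull Groth.Agent.Lib.Lead.RH Groth.Agent.Lib.Lead.RefGrp Groth.Agent.Lib.helper16.SecOrd
open Groth.Agent.Lib.Lead.RefDivOrd Groth.Agent.Lib.helper2.CDivLib Scheme.Modules

variable {X : Scheme.{u}}

theorem app_map_apply {M N : X.Modules} (φ : M ⟶ N) {U V : X.Opens} (i : V ⟶ U) (t : Γ(M, U)) :
    (φ.app V).hom (M.presheaf.map i.op t) = N.presheaf.map i.op ((φ.app U).hom t) :=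
  congrFun (congrArg (fun g => (AddCommGrpCat.Hom.hom g : _ → _))
    (φ.mapPresheaf.naturality i.op)) t

theorem iso_hom_inv_app_apply {M N : X.Modules} (e : M ≅ N) (U : X.Opens) (t : Γ(M, U)) :
    (e.inv.app U).hom ((e.hom.app U).hom t) = t := by
  have h1 : e.hom.app U ≫ e.inv.app U = 𝟙 _ := by
    rw [← Hom.comp_app, e.hom_inv_id]
    rfl
  exact congrFun (congrArg (fun g => (AddCommGrpCat.Hom.hom g : _ → _)) h1) t

/-- transport of a relation `t = r • b|_W` along an isomorphism of the restrictions to an open -/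
theorem transport_smul {M N : X.Modules} (U : X.Opens) (e : M.restrict U.ι ≅ N.restrict U.ι)
    {V W : (U : Scheme.{u}).Opens} (i : W ⟶ V) (b : Γ(N, U.ι ''ᵁ V)) (t : Γ(N, U.ι ''ᵁ W))
    (r : Γ(X, U.ι ''ᵁ W))
    (ht : t = r • N.presheaf.map (U.ι.opensFunctor.map i).op b) :
    ((e.inv.app W).hom (t : Γ(N.restrict U.ι, W)) : Γ(M, U.ι ''ᵁ W)) =
      r • M.presheaf.map (U.ι.opensFunctor.map i).op
        ((e.inv.app V).hom (b : Γ(N.restrict U.ι, V)) : Γ(M, U.ι ''ᵁ V)) := by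
  subst ht
  have h1 : ((r • N.presheaf.map (U.ι.opensFunctor.map i).op b : Γ(N, U.ι ''ᵁ W)) :
      Γ(N.restrict U.ι, W)) =
      ((U.ι.appIso W).hom r) • ((N.restrict U.ι).presheaf.map i.op (b : Γ(N.restrict U.ι, V))) := by
    change _ = ((U.ι.appIso W).inv ((U.ι.appIso W).hom r)) •
      (N.presheaf.map (U.ι.opensFunctor.map i).op b : Γ(N, U.ι ''ᵁ W))
    rw [Iso.hom_inv_id_apply]
  rw [h1, Hom.app_smul, app_map_apply]
  change ((U.ι.appIso W).inv ((U.ι.appIso W).hom r)) •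
      (M.presheaf.map (U.ι.opensFunctor.map i).op _ : Γ(M, U.ι ''ᵁ W)) = _
  rw [Iso.hom_inv_id_apply]

section Transport

variable [IsIntegral X] [IsLocallyNoetherian X] (hX : Pi1.IsNormalScheme X) (D : X → ℤ)
  (U : X.Opens) (L : X.Modules) (e : L.restrict U.ι ≅ (ordSh hX D).restrict U.ι)

/-- the local generator of `L` attached to a local equation `h` of `D` on `U.ι ''ᵁ V` -/
def genSec (V : (U : Scheme.{u}).Opens) (h : X.functionField) (h0 : h ≠ 0)
    (hD : IsDivOn D h (U.ι ''ᵁ V)) : Γ(L, U.ι ''ᵁ V) :=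
  (e.inv.app V).hom (mkSec hX D h⁻¹ (ordCond_inv D h h0 hD) : Γ((ordSh hX D).restrict U.ι, V))

theorem eq_smul_of_forall {W W' : X.Opens} (i : W' ⟶ W) (h : X.functionField) (h0 : h ≠ 0)
    (hD : IsDivOn D h W) (t : Γ(ordSh hX D, W')) (r : Γ(X, W'))
    (hr : ∀ z : W', t.1 z =
      algebraMap (X.presheaf.stalk z.1) X.functionField (X.presheaf.germ W' z.1 z.2 r) * h⁻¹) :
    t = r • (ordSh hX D).presheaf.map i.op (mkSec hX D h⁻¹ (ordCond_inv D h h0 hD)) := by
  refine sec_ext hX D fun z => ?_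
  rw [ordSh_smul_apply, ordSh_map_apply, mkSec_apply]
  exact hr z

theorem genSec_rel {V W : (U : Scheme.{u}).Opens} (i : W ⟶ V) (h : X.functionField) (h0 : h ≠ 0)
    (hD : IsDivOn D h (U.ι ''ᵁ V)) (h' : X.functionField) (h0' : h' ≠ 0)
    (hD' : IsDivOn D h' (U.ι ''ᵁ W)) :
    ∃ r : Γ(X, U.ι ''ᵁ W), (∀ (z : X) (hz : z ∈ U.ι ''ᵁ W),
        algebraMap (X.presheaf.stalk z) X.functionField (X.presheaf.germ (U.ι ''ᵁ W) z hz r) =
          h'⁻¹ * h) ∧
      genSec hX D U L e W h' h0' hD' =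
        r • L.presheaf.map (U.ι.opensFunctor.map i).op (genSec hX D U L e V h h0 hD) := by
  obtain ⟨r, hr⟩ := exists_eq_smul hX D h h0 (hD.mono (U.ι.image_mono i.le))
    (mkSec hX D h'⁻¹ (ordCond_inv D h' h0' hD'))
  refine ⟨r, fun z hz => ?_, ?_⟩
  · have h1 := hr ⟨z, hz⟩
    rw [mkSec_apply] at h1
    rw [h1, mul_assoc, inv_mul_cancel₀ h0, mul_one]
  · exact transport_smul U e i _ _ r
      (eq_smul_of_forall hX D (U.ι.opensFunctor.map i) h h0 hD _ r hr)

theorem span_germ_genSec (V : (U : Scheme.{u}).Opens) (h : X.functionField) (h0 : h ≠ 0)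
    (hD : IsDivOn D h (U.ι ''ᵁ V)) (x : X) (hx : x ∈ U.ι ''ᵁ V) :
    Submodule.span (X.presheaf.stalk x)
      {L.presheaf.germ (U.ι ''ᵁ V) x hx (genSec hX D U L e V h h0 hD)} = ⊤ := by
  rw [eq_top_iff]
  intro m _
  obtain ⟨O, hxO, m', rfl⟩ := TopCat.Presheaf.exists_germ_eq L.presheaf m
  have hx' := hx
  obtain ⟨y, hyV, hyx'⟩ := hx'
  have hyx : U.ι y = x := hyx'
  let W : (U : Scheme.{u}).Opens := U.ι ⁻¹ᵁ O ⊓ V
  let i : W ⟶ V := homOfLE inf_le_right
  have hWO : U.ι ''ᵁ W ≤ O := (U.ι.image_mono inf_le_left).trans (U.ι.image_preimage_le O)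
  have hyO : y ∈ U.ι ⁻¹ᵁ O := by
    change U.ι y ∈ O
    rw [hyx]
    exact hxO
  have hxW : x ∈ U.ι ''ᵁ W := ⟨y, ⟨hyO, hyV⟩, hyx⟩
  let m'' : Γ(L, U.ι ''ᵁ W) := L.presheaf.map (homOfLE hWO).op m'
  let t : Γ(ordSh hX D, U.ι ''ᵁ W) := (e.hom.app W).hom (m'' : Γ(L.restrict U.ι, W))
  obtain ⟨r, hr⟩ := exists_eq_smul hX D h h0 (hD.mono (U.ι.image_mono i.le)) t
  have h1 := transport_smul U e i _ t r
    (eq_smul_of_forall hX D (U.ι.opensFunctor.map i) h h0 hD t r hr)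
  have h2 : ((e.inv.app W).hom (t : Γ((ordSh hX D).restrict U.ι, W)) : Γ(L, U.ι ''ᵁ W)) = m'' :=
    iso_hom_inv_app_apply e W _
  rw [h2] at h1
  have h3 : L.presheaf.germ O x hxO m' = L.presheaf.germ (U.ι ''ᵁ W) x hxW m'' :=
    (TopCat.Presheaf.germ_res_apply L.presheaf (homOfLE hWO) x hxW m').symm
  rw [h3, h1, Mero.germ_smul, TopCat.Presheaf.germ_res_apply]
  exact Submodule.smul_mem _ _ (Submodule.subset_span rfl)

end Transport

section Main

variable [IsIntegral X] [IsLocallyNoetherian X]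

open Groth.Agent.Lib.helper11.InvMod Groth.Agent.Lib.helper16.FLF Groth.Agent.Lib.Lead.RefExt in
/-- every Weil divisor on a normal integral locally Noetherian scheme is the divisor of a rational section of a rank one
reflexive module -/
theorem exists_ref1_of_divisor (hX : Pi1.IsNormalScheme X) (D : AlgebraicCycle X ℤ) :
    ∃ (F : X.Modules) (_ : RefHull.IsRef1 F) (s : Cyc.secFibre F (genericPoint X)), s ≠ 0 ∧
      ∀ (x : X), Order.coheight x = 1 →
        D x = Cyc.secOrdAt F (genericPoint X) x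
          ((genericPoint_spec X).specializes (Set.mem_univ x)) s := by
  classical
  set U : X.Opens := prinLocus (⇑D) with hUdef
  set N : X.Modules := ordSh hX (⇑D) with hNdef
  have hinv : PicF.IsInvertible (N.restrict U.ι) := by
    intro y
    obtain ⟨V, h, hxV, h0, hD⟩ := (mem_prinLocus_iff (⇑D) y.1).1 y.2
    exact ⟨U.ι ⁻¹ᵁ V, hxV, IsTrivOn.restrict U.ι (isTrivOn_ordSh hX (⇑D) h h0 hD)⟩
  have hfl := isFinLocFree_of_isInvertible hinv
  have hcoh : Coh.IsCoh (N.restrict U.ι) :=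
    ⟨isQuasicoherent_of_isFinLocFree _ hfl, isFiniteType_of_isFinLocFree _ hfl⟩
  have hrefl : ∀ y : (U : Scheme.{u}),
      Module.IsReflexive ((U : Scheme.{u}).presheaf.stalk y) ((N.restrict U.ι).presheaf.stalk y) := by
    intro y
    obtain ⟨h1, h2⟩ := free_stalk_of_isFinLocFree _ hfl y
    haveI := h1
    haveI := h2
    infer_instance
  obtain ⟨L, hLc, hLr, ⟨e⟩⟩ := exists_reflexive_extension U (N.restrict U.ι) hcoh hrefl
  have hη1 : Order.coheight (genericPoint X) ≤ 1 := by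
    rw [coheight_genericPoint]
    exact zero_le_one
  have hηU : genericPoint X ∈ U := mem_prinLocus hX D _ hη1
  have hdense : Dense (U : Set X) := U.isOpen.dense ⟨_, hηU⟩
  have hL : IsRef1 L := ⟨hLc, hLr, U, hdense, isInvertible_of_iso e.symm hinv⟩
  have data : ∀ x : X, Order.coheight x ≤ 1 → ∃ (V' : X.Opens) (h : X.functionField) (_ : h ≠ 0),
      x ∈ U ∧ x ∈ V' ∧ IsDivOn (⇑D) h V' := by
    intro x hx
    have hxU : x ∈ U := mem_prinLocus hX D x hx
    obtain ⟨V, h, hxV, h0, hD⟩ := (mem_prinLocus_iff (⇑D) x).1 hxU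
    exact ⟨V, h, h0, hxU, hxV, hD⟩
  obtain ⟨V₁', h₁, h₁0, -, hηV₁', hD₁'⟩ := data (genericPoint X) hη1
  set V₁ : (U : Scheme.{u}).Opens := U.ι ⁻¹ᵁ V₁' with hV₁
  have hD₁ : IsDivOn (⇑D) h₁ (U.ι ''ᵁ V₁) := hD₁'.mono (U.ι.image_preimage_le V₁')
  have hη₁ : genericPoint X ∈ U.ι ''ᵁ V₁ := ⟨⟨genericPoint X, hηU⟩, hηV₁', rfl⟩
  set a₁ := genSec hX (⇑D) U L e V₁ h₁ h₁0 hD₁ with ha₁
  let s' : L.presheaf.stalk (genericPoint X) :=
    (h₁ : X.presheaf.stalk (genericPoint X)) • L.presheaf.germ (U.ι ''ᵁ V₁) (genericPoint X) hη₁ a₁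
  have rη := isR1At_of_dim_le_one hX L hL _ dim_genericPoint_le_one
  have hspan₁ := span_germ_genSec hX (⇑D) U L e V₁ h₁ h₁0 hD₁ (genericPoint X) hη₁
  have hs : (Submodule.Quotient.mk s' : Cyc.secFibre L (genericPoint X)) ≠ 0 := by
    intro h0
    have h1 : (h₁ : X.presheaf.stalk (genericPoint X)) •
        (Submodule.Quotient.mk (L.presheaf.germ (U.ι ''ᵁ V₁) (genericPoint X) hη₁ a₁) :
          Cyc.secFibre L (genericPoint X)) = 0 := h0
    exact mk_ne_zero_of_span rη _ hspan₁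
      ((isUnit_of_ne_zero_functionField (h₁ : X.presheaf.stalk (genericPoint X)) h₁0).smul_eq_zero.1 h1)
  refine ⟨L, hL, Submodule.Quotient.mk s', hs, fun x hx => ?_⟩
  obtain ⟨V₂', h₂, h₂0, hxU, hxV₂', hD₂'⟩ := data x hx.le
  set V₂ : (U : Scheme.{u}).Opens := U.ι ⁻¹ᵁ V₂' with hV₂
  have hD₂ : IsDivOn (⇑D) h₂ (U.ι ''ᵁ V₂) := hD₂'.mono (U.ι.image_preimage_le V₂')
  have hx₂ : x ∈ U.ι ''ᵁ V₂ := ⟨⟨x, hxU⟩, hxV₂', rfl⟩
  set a₂ := genSec hX (⇑D) U L e V₂ h₂ h₂0 hD₂ with ha₂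
  let W : (U : Scheme.{u}).Opens := V₁ ⊓ V₂
  let i₁ : W ⟶ V₁ := homOfLE inf_le_left
  let i₂ : W ⟶ V₂ := homOfLE inf_le_right
  have hDW : IsDivOn (⇑D) h₂ (U.ι ''ᵁ W) := hD₂.mono (U.ι.image_mono inf_le_right)
  have hηW : genericPoint X ∈ U.ι ''ᵁ W :=
    ⟨⟨genericPoint X, hηU⟩, ⟨hηV₁', generic_mem V₂' x hxV₂'⟩, rfl⟩
  obtain ⟨r, hr, hrel⟩ := genSec_rel hX (⇑D) U L e i₁ h₁ h₁0 hD₁ h₂ h₂0 hDW
  have hnat : genSec hX (⇑D) U L e W h₂ h₂0 hDW =
      L.presheaf.map (U.ι.opensFunctor.map i₂).op a₂ :=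
    app_map_apply e.inv i₂ (mkSec hX (⇑D) h₂⁻¹ (ordCond_inv (⇑D) h₂ h₂0 hD₂))
  have hgr : X.presheaf.germ (U.ι ''ᵁ W) (genericPoint X) hηW r = h₂⁻¹ * h₁ := by
    exact (@Scheme.algebraMap_germ_eq_germToFunctionField X _ (U.ι ''ᵁ W) ⟨⟨_, hηW⟩⟩ _ hηW r).symm.trans
      (hr _ hηW)
  have key : s' = (h₂ : X.presheaf.stalk (genericPoint X)) •
      L.presheaf.germ (U.ι ''ᵁ V₂) (genericPoint X) (genericPoint_mem hx₂) a₂ := by
    have g1 := congrArg (L.presheaf.germ (U.ι ''ᵁ W) (genericPoint X) hηW) (hnat.symm.trans hrel)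
    rw [TopCat.Presheaf.germ_res_apply, Mero.germ_smul, TopCat.Presheaf.germ_res_apply, hgr] at g1
    rw [g1, smul_smul]
    have h3 : (h₂ : X.functionField) * (h₂⁻¹ * h₁) = h₁ := by
      rw [← mul_assoc, mul_inv_cancel₀ h₂0, one_mul]
    change (h₁ : X.presheaf.stalk (genericPoint X)) • _ = _
    congr 1
    exact h3.symm
  rw [secOrdAt_eq_ord L x hx _ hx₂ a₂ (span_germ_genSec hX (⇑D) U L e V₂ h₂ h₂0 hD₂ x hx₂) s' hs
    (h₂ : X.presheaf.stalk (genericPoint X)) key]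
  exact hD₂ x hx₂ hx

end Main

end Groth.Agent.Lib.Lead.RefWeil
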