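import Mathlib
import Groth.Agent.Lib.Lead.RefWeil4
import Groth.Agent.Lib.Lead.RefRank2
import Groth.Agent.Lib.Lead.InvExt1
import Groth.Agent.Lib.Helper2.CDivLib10

/-!
# Locally factorial schemes: codimension one cycles are divisors of rational sections of invertible modules (lead)

`X` normal, integral, locally Noetherian.
* `ufm_of_valid`: `O_{X,x}` is factorial when every codimension one generization `z` of `x` has a rational function of
  order one at `z` and zero at the other codimension one generizations of `x` (refactoring of helper2's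
  `ufm_of_prime_cycles`).
* `ufm_of_cycles_sections`: if every codimension one cycle is `div_L(s)` with `L` invertible, local rings are factorial.
* `isInvertible_of_isRef1_of_ufd`: rank one reflexive on a locally factorial scheme is invertible.
* `exists_invertible_of_cycle`, `forall_cycle_iff_ufd` (S5105).
-/

set_option autoImplicit false
set_option backward.isDefEq.respectTransparency false
set_option linter.style.haveILetI false
set_option linter.unusedSectionVars false
universe u

open CategoryTheory CategoryTheory.Limits AlgebraicGeometry TopologicalSpace Opposite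

noncomputable section

namespace Groth.Agent.Lib.Lead.LocFact

open RefHull Groth.Agent.Lib.Lead.RH Groth.Agent.Lib.Lead.RefGrp Groth.Agent.Lib.helper16.SecOrd
open Groth.Agent.Lib.Lead.RefDivOrd Groth.Agent.Lib.helper2.CDivLib Groth.Agent.Lib.Lead.RefWeil
open Groth.Agent.Lib.Lead.RefRank Groth.Agent.Lib.Lead.InvExt
open Groth.Agent.Lib.helper16.CohStalk Groth.Agent.Lib.helper16.CohFinite

variable {X : Scheme.{u}} [IsIntegral X] [IsLocallyNoetherian X]

/-- the local ring at `x` of a normal scheme is factorial as soon as every codimension one point `z` generizing `x`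
has a rational function of order one at `z` and order zero at the other codimension one generizations of `x` -/
theorem ufm_of_valid (hX : Pi1.IsNormalScheme X) (x : X)
    (H : ∀ z : X, z ⤳ x → Order.coheight z = 1 → ∃ f : X.functionField, f ≠ 0 ∧
      Scheme.ord f z = 1 ∧
        ∀ x' : X, x' ⤳ x → Order.coheight x' = 1 → x' ≠ z → Scheme.ord f x' = 0) :
    UniqueFactorizationMonoid (X.presheaf.stalk x) := by
  haveI : IsDomain (X.presheaf.stalk x) := (hX x).1
  have hinj := IsFractionRing.injective (X.presheaf.stalk x) X.functionField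
  rw [UniqueFactorizationMonoid.iff_exists_prime_mem_of_isPrime]
  intro P hP0 hPprime
  obtain ⟨y, hy, rfl⟩ := exists_qOf_eq x P
  obtain ⟨a, haP, ha0⟩ := Submodule.exists_mem_ne_zero_of_ne_bot hP0
  have hg : (algebraMap (X.presheaf.stalk x) X.functionField a)⁻¹ ∉ Ox y :=
    (mem_qOf_iff hy a ha0).mp haP
  obtain ⟨_, ⟨V, hV', rfl⟩, hyV, -⟩ :=
    X.isBasis_affineOpens.exists_subset_of_mem_open (Set.mem_univ y) isOpen_univ
  have hV : IsAffineOpen V := hV'
  obtain ⟨z, -, hzy, hgz, hdepth, -⟩ := exists_depth_one_generization hV y hyV _ hg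
  have hzco : Order.coheight z = 1 := (isDVR_of_depth_eq_one hX z hdepth).2
  have hz : z ⤳ x := hzy.trans hy
  have hle : qOf x z hz ≤ qOf x y hy := by
    intro b hb
    by_cases hb0 : b = 0
    · rw [hb0]; exact Ideal.zero_mem _
    · rw [mem_qOf_iff hy b hb0]
      intro hmem
      exact (mem_qOf_iff hz b hb0).mp hb (Ox_mono hzy hmem)
  obtain ⟨f, hf0, hordz, hord⟩ := H z hz hzco
  have hfx : f ∈ Ox x := by
    apply mem_Ox_of_forall_coheight_one hX
    intro x' hx' hco
    rw [← ord_nonneg_iff hX x' hco _ hf0]
    by_cases hx'z : x' = z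
    · rw [hx'z, hordz]; norm_num
    · rw [hord x' hx' hco hx'z]
  obtain ⟨π, hπ⟩ := hfx
  have hπ0 : π ≠ 0 := by
    rintro rfl
    exact hf0 (by rw [← hπ, map_zero])
  have hπz : π ∈ qOf x z hz := by
    rw [mem_qOf_iff hz π hπ0, hπ]
    exact ((one_le_ord_iff hX z hzco _ hf0).mp (by rw [hordz])).2
  have hspan : Ideal.span {π} = qOf x z hz := by
    apply le_antisymm
    · rw [Ideal.span_singleton_le_iff_mem]; exact hπz
    · intro b hb
      by_cases hb0 : b = 0
      · rw [hb0]; exact Ideal.zero_mem _
      have hbK : algebraMap (X.presheaf.stalk x) X.functionField b ≠ 0 := by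
        rw [Ne, map_eq_zero_iff _ hinj]; exact hb0
      have hh0 : algebraMap (X.presheaf.stalk x) X.functionField b * f⁻¹ ≠ 0 :=
        mul_ne_zero hbK (inv_ne_zero hf0)
      have hh : algebraMap (X.presheaf.stalk x) X.functionField b * f⁻¹ ∈ Ox x := by
        apply mem_Ox_of_forall_coheight_one hX
        intro x' hx' hco
        rw [← ord_nonneg_iff hX x' hco _ hh0, ord_div' x' _ _ hbK hf0]
        have hbx' : algebraMap (X.presheaf.stalk x) X.functionField b ∈ Ox x' :=
          Ox_mono hx' ⟨b, rfl⟩
        by_cases hx'z : x' = z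
        · subst hx'z
          have h1 : 1 ≤ Scheme.ord (algebraMap (X.presheaf.stalk x) X.functionField b) x' :=
            (one_le_ord_iff hX x' hco _ hbK).mpr ⟨hbx', (mem_qOf_iff hz b hb0).mp hb⟩
          rw [hordz]
          omega
        · have h1 : 0 ≤ Scheme.ord (algebraMap (X.presheaf.stalk x) X.functionField b) x' :=
            (ord_nonneg_iff hX x' hco _ hbK).mpr hbx'
          rw [hord x' hx' hco hx'z]
          omega
      obtain ⟨c, hc⟩ := hh
      rw [Ideal.mem_span_singleton]
      refine ⟨c, ?_⟩
      apply hinj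
      rw [map_mul, hc, hπ, mul_comm, mul_assoc, inv_mul_cancel₀ hf0, mul_one]
  have hprime : (Ideal.span {π}).IsPrime := by rw [hspan]; infer_instance
  exact ⟨π, hle hπz, (Ideal.span_singleton_prime hπ0).mp hprime⟩

/-- if every codimension one cycle is the divisor of a rational section of an invertible module, the local rings are
factorial -/
theorem ufm_of_cycles_sections (hX : Pi1.IsNormalScheme X)
    (H : ∀ Z : X → ℤ, (∀ x : X, Order.coheight x ≠ 1 → Z x = 0) →
        (∀ x : X, ∃ W : X.Opens, x ∈ W ∧ {z : X | z ∈ W ∧ Z z ≠ 0}.Finite) →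
        ∃ (L : X.Modules) (_ : PicF.IsInvertible L) (s : Cyc.secFibre L (genericPoint X)), s ≠ 0 ∧
          ∀ x : X, Order.coheight x = 1 →
            Cyc.secOrdAt L (genericPoint X) x (genericPoint_specializes x) s = Z x) (x : X) :
    UniqueFactorizationMonoid (X.presheaf.stalk x) := by
  classical
  refine ufm_of_valid hX x fun z hz hzco => ?_
  obtain ⟨L, hL, s, hs, hord⟩ := H (fun y => if y = z then 1 else 0)
    (fun y hy => if_neg (by rintro rfl; exact hy hzco))
    (fun y => ⟨⊤, trivial, (Set.finite_singleton z).subset (by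
      rintro w ⟨-, hw⟩
      by_contra hne
      exact hw (if_neg hne))⟩)
  have hfl := Groth.Agent.Lib.helper16.FLF.isFinLocFree_of_isInvertible hL
  have hcoh : Coh.IsCoh L :=
    ⟨Groth.Agent.Lib.helper16.FLF.isQuasicoherent_of_isFinLocFree _ hfl,
      Groth.Agent.Lib.helper16.FLF.isFiniteType_of_isFinLocFree _ hfl⟩
  have hr1 : IsR1At L x := isR1At_of_isInvertible hL x
  obtain ⟨U, hxU, a, ha⟩ := exists_spread_gen L hcoh x hr1
  have hηU : genericPoint X ∈ U := genericPoint_mem hxU
  obtain ⟨s', rfl⟩ := Submodule.Quotient.mk_surjective _ s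
  obtain ⟨φ, hφ⟩ : ∃ φ : X.presheaf.stalk (genericPoint X),
      φ • (L.presheaf.germ U (genericPoint X) hηU).hom a = s' :=
    Submodule.mem_span_singleton.1 (ha (genericPoint X) hηU ▸ Submodule.mem_top)
  have hφ0 : φ ≠ 0 := by
    rintro rfl
    apply hs
    rw [← hφ, zero_smul]
    rfl
  have key : ∀ x' : X, x' ⤳ x → Order.coheight x' = 1 →
      Scheme.ord (φ : X.functionField) x' = if x' = z then 1 else 0 := by
    intro x' hx' hco
    have hx'U : x' ∈ U := hx'.mem_open U.2 hxU
    have h1 := secOrdAt_eq_ord L x' hco (genericPoint_specializes x') hx'U a (ha x' hx'U) s' hs φ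
      hφ.symm
    rw [← h1]
    exact hord x' hco
  refine ⟨(φ : X.functionField), hφ0, ?_, fun x' hx' hco hne => ?_⟩
  · rw [key z hz hzco, if_pos rfl]
  · rw [key x' hx' hco, if_neg hne]

/-- a rank one reflexive module on a locally factorial integral scheme is invertible -/
theorem isInvertible_of_isRef1_of_ufd
    (hufd : ∀ x : X, UniqueFactorizationMonoid (X.presheaf.stalk x)) (F : X.Modules)
    (hF : RefHull.IsRef1 F) : PicF.IsInvertible F := by
  obtain ⟨hc, hrefl, hrk⟩ := hF
  haveI : F.IsQuasicoherent := hc.1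
  refine isInvertible_of_free_stalks_of_genInvertible F hc hrk fun x => ?_
  haveI := hufd x
  haveI : Module.IsReflexive (X.presheaf.stalk x) (F.presheaf.stalk x) :=
    (Groth.Agent.Lib.Lead.RH.isReflexive_iff_forall_isReflexiveAt F hc).1 hrefl x
  haveI := finite_stalk_of_isCoh F hc x
  exact free_of_isReflexive_of_finrank_eq_one (F.presheaf.stalk x)
    (finrank_stalk_eq_one_of_genInvertible F hrk x)

/-- on a normal locally factorial scheme every codimension one cycle is the divisor of a rational section of an
invertible module -/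
theorem exists_invertible_of_cycle (hX : Pi1.IsNormalScheme X)
    (hufd : ∀ x : X, UniqueFactorizationMonoid (X.presheaf.stalk x))
    (Z : X → ℤ) (_hZ : ∀ x : X, Order.coheight x ≠ 1 → Z x = 0)
    (hfin : ∀ x : X, ∃ W : X.Opens, x ∈ W ∧ {z : X | z ∈ W ∧ Z z ≠ 0}.Finite) :
    ∃ (L : X.Modules) (_ : PicF.IsInvertible L) (s : Cyc.secFibre L (genericPoint X)), s ≠ 0 ∧
      ∀ x : X, Order.coheight x = 1 →
        Cyc.secOrdAt L (genericPoint X) x (genericPoint_specializes x) s = Z x := by
  let D : AlgebraicCycle X ℤ :=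
    { toFun := Z
      supportWithinDomain' := fun _ _ => trivial
      supportLocallyFiniteWithinDomain' := fun z _ => by
        obtain ⟨W, hzW, hW⟩ := hfin z
        exact ⟨W, W.2.mem_nhds hzW, hW.subset fun w hw => ⟨hw.1, hw.2⟩⟩ }
  obtain ⟨F, hF, s, hs, hord⟩ := exists_ref1_of_divisor hX D
  exact ⟨F, isInvertible_of_isRef1_of_ufd hufd F hF, s, hs, fun x hx => (hord x hx).symm⟩

theorem forall_cycle_iff_ufd (hX : Pi1.IsNormalScheme X) :
    (∀ Z : X → ℤ, (∀ x : X, Order.coheight x ≠ 1 → Z x = 0) →
        (∀ x : X, ∃ W : X.Opens, x ∈ W ∧ {z : X | z ∈ W ∧ Z z ≠ 0}.Finite) →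
        ∃ (L : X.Modules) (_ : PicF.IsInvertible L) (s : Cyc.secFibre L (genericPoint X)), s ≠ 0 ∧
          ∀ x : X, Order.coheight x = 1 →
            Cyc.secOrdAt L (genericPoint X) x (genericPoint_specializes x) s = Z x) ↔
      ∀ x : X, UniqueFactorizationMonoid (X.presheaf.stalk x) :=
  ⟨fun H x => ufm_of_cycles_sections hX H x,
    fun hufd Z hZ hfin => exists_invertible_of_cycle hX hufd Z hZ hfin⟩

end Groth.Agent.Lib.Lead.LocFact
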