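import Groth.Agent.Lib.Lead.RefHull5
import Groth.Agent.Lib.Helper12.PullTensor
import Groth.Agent.Lib.Helper12.TensorSec
import Groth.Agent.Lib.Helper16.SecOrd5

/-!
# The evaluation map `𝓗om(F, G) ⊗ F ⟶ G` for the concrete sheaf Hom `RefHull.homSh` (lead)

* `evPre F G`, `ev F G : CohB1.tensorMod (homSh F G) F ⟶ G` with the section formula `ev_tmul : ev (g ⊗ m) = g(m)`
  (`appSec`).
* `bijective_of_cyclic`, `span_dual_gen` (algebra).
* `bijective_stalkMapₗ_ev`: for coherent `F` on a locally Noetherian scheme, `F^* ⊗ F ⟶ O_X` is bijective on the stalk at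
  every point where `F_x` is free of rank one.
-/

set_option autoImplicit false
set_option backward.isDefEq.respectTransparency false
set_option linter.style.haveILetI false
set_option linter.unusedSectionVars false
universe u

open CategoryTheory CategoryTheory.Limits AlgebraicGeometry TopologicalSpace Opposite MonoidalCategory

noncomputable section

namespace Groth.Agent.Lib.Lead.RefGrp

open RefHull Groth.Agent.Lib.Lead.RH
open Groth.Agent.Lib.helper12.TensorRestrict Groth.Agent.Lib.helper12.TensorSec
open Groth.Agent.Lib.helper12.PullTensor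

variable {X : Scheme.{u}}

/-- presheaf-level evaluation `𝓗om(F, G)(V) ⊗ F(V) → G(V)` -/
def evPre (F G : X.Modules) : CohB1.tensorPre (homSh F G) F ⟶ CohB1.toPMod G where
  app V := ModuleCat.MonoidalCategory.tensorLift
    (M₁ := (CohB1.toPMod (homSh F G)).obj V) (M₂ := (CohB1.toPMod F).obj V)
    (M₃ := (CohB1.toPMod G).obj V)
    (fun g m => (appSec F G (V := V.unop) g m : Γ(G, V.unop)))
    (fun g g' m => congrArg (fun φ => φ m) ((appHom F G V.unop).map_add g g'))
    (fun a g m => congrArg (fun φ => φ m) ((appHom F G V.unop).map_smul a g))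
    (fun g m m' => (appLin F G (V := V.unop) g).map_add m m')
    (fun a g m => (appLin F G (V := V.unop) g).map_smul a m)
  naturality {V V'} i := by
    apply ModuleCat.MonoidalCategory.tensor_ext
    intro a b
    exact appSec_res F G i.unop a b

/-- the evaluation map `𝓗om(F, G) ⊗ F ⟶ G` -/
def ev (F G : X.Modules) : CohB1.tensorMod (homSh F G) F ⟶ G :=
  ((adj X).homEquiv _ _).symm (evPre F G)

theorem toSheafify_ev (F G : X.Modules) :
    toSheafify (CohB1.tensorPre (homSh F G) F : X.PresheafOfModules) ≫ (ev F G).val = evPre F G := by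
  have h1 : (adj X).homEquiv _ _ (ev F G) = evPre F G := Equiv.apply_symm_apply _ _
  rw [Adjunction.homEquiv_unit] at h1
  exact h1

/-- section formula: `ev (g ⊗ m) = g(m)` -/
theorem ev_tmul (F G : X.Modules) (U : X.Opens) (g : (homSh F G).val.obj (op U))
    (m : F.val.obj (op U)) :
    ((ev F G).val.app (op U)).hom (SecTwist.tmul (homSh F G) F U g m) = appSec F G (V := U) g m :=
  congrArg (fun φ => (PresheafOfModules.Hom.app φ (op U)).hom
    (g ⊗ₜ m : ↥((CohB1.tensorPre (homSh F G) F).obj (op U)))) (toSheafify_ev F G)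

section Algebra

variable {R : Type*} [CommRing R]

/-- a linear map out of a cyclic module sending the generator to a basis vector of a free module of
rank one is bijective -/
theorem bijective_of_cyclic {T P : Type*} [AddCommGroup T] [Module R T] [AddCommGroup P] [Module R P]
    (f : T →ₗ[R] P) (τ : T) (hτ : Submodule.span R {τ} = ⊤) (e : P ≃ₗ[R] R) (h1 : e (f τ) = 1) :
    Function.Bijective f := by
  constructor
  · rw [injective_iff_map_eq_zero]
    intro t ht
    obtain ⟨r, rfl⟩ : ∃ r : R, r • τ = t :=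
      Submodule.mem_span_singleton.1 (by rw [hτ]; exact Submodule.mem_top)
    have h2 : e (f (r • τ)) = r := by rw [map_smul, map_smul, h1, smul_eq_mul, mul_one]
    rw [ht, map_zero] at h2
    rw [← h2, zero_smul]
  · intro p
    refine ⟨e p • τ, ?_⟩
    apply e.injective
    rw [map_smul, map_smul, h1, smul_eq_mul, mul_one]

/-- the dual basis vector generates `Hom(M, P)` for `M`, `P` free of rank one -/
theorem span_dual_gen {M P D : Type*} [AddCommGroup M] [Module R M] [AddCommGroup P] [Module R P]
    [AddCommGroup D] [Module R D] (b : Module.Basis (Fin 1) R M) (e : P ≃ₗ[R] R)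
    (E : D ≃ₗ[R] (M →ₗ[R] P)) (θ₀ : D) (h0 : E θ₀ (b 0) = e.symm 1) :
    Submodule.span R {θ₀} = ⊤ := by
  rw [eq_top_iff]
  intro θ _
  rw [Submodule.mem_span_singleton]
  refine ⟨e (E θ (b 0)), ?_⟩
  apply E.injective
  apply b.ext
  intro i
  have hi : i = 0 := Subsingleton.elim _ _
  subst hi
  rw [map_smul, LinearMap.smul_apply, h0, ← map_smul, smul_eq_mul, mul_one, e.symm_apply_apply]

end Algebra

open Groth.Agent.Lib.helper16.SecOrd in
/-- the evaluation map `F^* ⊗ F ⟶ O` is bijective on the stalk at a point where `F_x` is free of rank one -/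
theorem bijective_stalkMapₗ_ev [IsLocallyNoetherian X] (F : X.Modules) (hF : Coh.IsCoh F) (x : X)
    (hfree : Module.Free (X.presheaf.stalk x) (F.presheaf.stalk x))
    (hrk : Module.finrank (X.presheaf.stalk x) (F.presheaf.stalk x) = 1) :
    Function.Bijective (stalkMapₗ (ev F (Coh.structureModule X)) x) := by
  classical
  haveI := hfree
  let b : Module.Basis (Fin 1) (X.presheaf.stalk x) (F.presheaf.stalk x) :=
    Module.basisUnique (Fin 1) hrk
  obtain ⟨e⟩ := exists_stalkUnitEquiv (X := X) x
  let E : (dual F).presheaf.stalk x ≃ₗ[X.presheaf.stalk x] (StalkHom F (Coh.structureModule X) x) :=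
    LinearEquiv.ofBijective (evalStalk F (Coh.structureModule X) x)
      (evalStalk_bijective F (Coh.structureModule X) (Groth.Agent.Lib.helper16.CohFinite.isFinitePresentation_of_isCoh F hF) x)
  let φ₀ : StalkHom F (Coh.structureModule X) x :=
    b.constr (X.presheaf.stalk x) (fun _ => e.symm 1)
  let θ₀ := E.symm φ₀
  have h0 : E θ₀ (b 0) = e.symm 1 := by
    rw [E.apply_symm_apply]
    exact b.constr_basis _ _ 0
  have hθ : Submodule.span (X.presheaf.stalk x) {θ₀} = ⊤ := span_dual_gen b e E θ₀ h0
  have hm : Submodule.span (X.presheaf.stalk x) {b 0} = ⊤ := by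
    have h1 := b.span_eq
    have h2 : Set.range b = {b 0} := by
      ext v
      constructor
      · rintro ⟨i, rfl⟩
        have hi : i = 0 := Subsingleton.elim _ _
        rw [hi]; exact rfl
      · rintro rfl
        exact ⟨0, rfl⟩
    rw [h2] at h1
    exact h1
  obtain ⟨U₁, hx₁, g₁, hg₁⟩ := TopCat.Presheaf.exists_germ_eq (dual F).presheaf θ₀
  obtain ⟨U₂, hx₂, m₂, hm₂⟩ := TopCat.Presheaf.exists_germ_eq F.presheaf (b 0)
  let U : X.Opens := U₁ ⊓ U₂
  have hx : x ∈ U := ⟨hx₁, hx₂⟩
  let g : Γ(dual F, U) := (dual F).presheaf.map (homOfLE (inf_le_left : U₁ ⊓ U₂ ≤ U₁)).op g₁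
  let m : Γ(F, U) := F.presheaf.map (homOfLE (inf_le_right : U₁ ⊓ U₂ ≤ U₂)).op m₂
  have hg : (dual F).presheaf.germ U x hx g = θ₀ := by
    rw [← hg₁]
    exact TopCat.Presheaf.germ_res_apply _ _ _ _ _
  have hm' : F.presheaf.germ U x hx m = b 0 := by
    rw [← hm₂]
    exact TopCat.Presheaf.germ_res_apply _ _ _ _ _
  have hτ := span_germ_tmul (dual F) F x hx g m (by rw [hg]; exact hθ) (by rw [hm']; exact hm)
  refine bijective_of_cyclic (stalkMapₗ (ev F (Coh.structureModule X)) x) _ hτ e ?_
  rw [stalkMapₗ_germ]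
  have h3 : (ev F (Coh.structureModule X)).app U (SecTwist.tmul (dual F) F U g m) =
      appSec F (Coh.structureModule X) g m := ev_tmul F (Coh.structureModule X) U g m
  rw [h3, germ_appSec, ← evalStalk_germ F (Coh.structureModule X) x hx g, hg, hm']
  change e (E θ₀ (b 0)) = 1
  rw [h0, e.apply_symm_apply]

end Groth.Agent.Lib.Lead.RefGrp
end
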