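import Groth.Agent.Lib.Lead.RefGrp1
import Groth.Agent.Lib.Lead.RefGrp2
import Groth.Agent.Lib.Lead.RefGrp3
import Groth.Agent.Lib.Lead.ModTensor
import Groth.Agent.Lib.Helper12.PullTensor
import Groth.Agent.Lib.Helper18.DegCalc

/-!
# The reflexive tensor product of rank one reflexive modules on a normal scheme (lead)

`X` integral, locally Noetherian (and normal where stated).
* `le_isoLocus_of_bijective`, `le_isoLocus_comp`, `le_isoLocus_tensorMap_left/right`, `le_isoLocus_bidualMap`.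
* `nonempty_iso_of_restrict_iso`: coherent reflexive modules isomorphic on an open whose complement consists of points of
  depth `≥ 2` are isomorphic (Hartogs).
* `genInvertible_of_isR1At`, `dense_freeLocus`, `flOpens`.
* `isRef1_unit`, `isRef1_dual`, `isRef1_ddualTensor`: `O_X`, `F^*`, `(F ⊗ G)^**` are rank one coherent reflexive.
* `nonempty_assoc_iso`: `((F ⊗ G)^** ⊗ H)^** ≅ (F ⊗ (G ⊗ H)^**)^**`; `nonempty_inv_iso`: `(F^* ⊗ F)^** ≅ O_X`.
-/

set_option autoImplicit false
set_option backward.isDefEq.respectTransparency false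
set_option linter.style.haveILetI false
set_option linter.unusedSectionVars false
universe u

open CategoryTheory CategoryTheory.Limits AlgebraicGeometry TopologicalSpace Opposite MonoidalCategory

noncomputable section

namespace Groth.Agent.Lib.Lead.RefGrp

open RefHull Groth.Agent.Lib.Lead.RH Groth.Agent.Lib.Lead.RefExt
open Groth.Agent.Lib.helper11.IsoLocus Groth.Agent.Lib.Lead.ModTensor
open Groth.Agent.Lib.helper12.PullTensor Scheme.Modules
open Groth.Agent.Lib.Helper18.DegCalc (isCoh_tensorMod)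

variable {X : Scheme.{u}}

theorem le_isoLocus_of_bijective {A B : X.Modules} (φ : A ⟶ B) (U : X.Opens)
    (h : ∀ x ∈ U, Function.Bijective (stalkMapₗ φ x)) : U ≤ isoLocus φ := by
  rw [le_isoLocus_iff, isIso_restrict_iff_stalk]
  intro x hx
  rw [ConcreteCategory.isIso_iff_bijective]
  exact h x hx

theorem le_isoLocus_comp {A B C : X.Modules} (φ : A ⟶ B) (ψ : B ⟶ C) (U : X.Opens)
    (h1 : U ≤ isoLocus φ) (h2 : U ≤ isoLocus ψ) : U ≤ isoLocus (φ ≫ ψ) := by
  rw [le_isoLocus_iff] at h1 h2 ⊢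
  rw [Functor.map_comp]
  infer_instance

theorem le_isoLocus_tensorMap_left {A B : X.Modules} (φ : A ⟶ B) (C : X.Modules) (U : X.Opens)
    (h : U ≤ isoLocus φ) : U ≤ isoLocus (tensorMap φ (𝟙 C)) := by
  refine le_trans ?_ (isoLocus_inf_le_tensorMap φ (𝟙 C))
  rw [isoLocus_id]
  exact le_inf h le_top

theorem le_isoLocus_tensorMap_right (C : X.Modules) {A B : X.Modules} (φ : A ⟶ B) (U : X.Opens)
    (h : U ≤ isoLocus φ) : U ≤ isoLocus (tensorMap (𝟙 C) φ) := by
  refine le_trans ?_ (isoLocus_inf_le_tensorMap (𝟙 C) φ)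
  rw [isoLocus_id]
  exact le_inf le_top h

section Noeth

variable [IsIntegral X] [IsLocallyNoetherian X]

theorem le_isoLocus_bidualMap (M : X.Modules) (hM : Coh.IsCoh M) (U : X.Opens)
    (h : ∀ x ∈ U, IsR1At M x) : U ≤ isoLocus (bidualMap M) := by
  rw [le_isoLocus_iff]
  exact isIso_restrict_bidualMap M hM U fun x hx => (h x hx).isReflexiveAt

/-- two coherent reflexive modules which are isomorphic on an open whose complement consists of points
of depth at least two are isomorphic -/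
theorem nonempty_iso_of_restrict_iso (A B : X.Modules) (hA : Coh.IsCoh A) (hB : Coh.IsCoh B)
    (hAr : RefHull.IsReflexive A) (hBr : RefHull.IsReflexive B) (U : X.Opens)
    (hU : ∀ x : X, x ∉ U → (2 : ℕ∞) ≤ LocCoh.depth (X.presheaf.stalk x) (X.presheaf.stalk x))
    (e : (restrictFunctor U.ι).obj A ≅ (restrictFunctor U.ι).obj B) : Nonempty (A ≅ B) := by
  haveI := isIso_unit_of_reflexive_of_depth A hA U hU
    ((isReflexive_iff_forall_isReflexiveAt A hA).1 hAr)
  haveI := isIso_unit_of_reflexive_of_depth B hB U hU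
    ((isReflexive_iff_forall_isReflexiveAt B hB).1 hBr)
  exact ⟨asIso ((restrictAdjunction U.ι).unit.app A) ≪≫ (pushforward U.ι).mapIso e ≪≫
    (asIso ((restrictAdjunction U.ι).unit.app B)).symm⟩

theorem genInvertible_of_isR1At (M : X.Modules) (hM : Coh.IsCoh M) (U : X.Opens)
    (hd : Dense (U : Set X)) (h : ∀ x ∈ U, IsR1At M x) : GenInvertible M := by
  refine ⟨U, hd, ?_⟩
  rw [Groth.Agent.Lib.helper16.FLF.isInvertible_iff_isFinLocFreeOfRank_one]
  have hflf := isFinLocFree_restrict_of_le_freeLocus M hM U (fun x hx => (h x hx).1)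
  rw [Groth.Agent.Lib.helper16.FLF.isFinLocFreeOfRank_iff_finrank_stalk _ hflf]
  intro y
  rw [Groth.Agent.Lib.Lead.RefRank.finrank_stalk_restrict]
  exact (h _ y.2).2

theorem dense_freeLocus (F : X.Modules) (hrk : GenInvertible F) : Dense (freeLocus F) := by
  obtain ⟨U, hUd, hinv⟩ := hrk
  refine hUd.mono fun x hx => ?_
  have h1 := (Groth.Agent.Lib.helper16.FLF.isInvertible_iff_isFinLocFreeOfRank_one _).1 hinv
  exact free_stalk_of_isFinLocFree_restrict F U
    (Groth.Agent.Lib.helper16.FLF.isFinLocFree_of_isFinLocFreeOfRank h1) x hx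

/-- the free locus as an open -/
def flOpens (F : X.Modules) (hF : Coh.IsCoh F) : X.Opens := ⟨freeLocus F, isOpen_freeLocus F hF⟩

theorem isRef1_unit : IsRef1 (Coh.structureModule X) :=
  ⟨isCoh_structureModule' X, isReflexive_structureModule X,
    genInvertible_of_isR1At _ (isCoh_structureModule' X) ⊤ (by simp)
      (fun x _ => isR1At_unit x)⟩

theorem isRef1_dual (F : X.Modules) (hF : IsRef1 F) : IsRef1 (dual F) := by
  obtain ⟨hc, hr, hg⟩ := hF
  refine ⟨dual_isCoh F hc, ?_, ?_⟩
  · exact Groth.Agent.S16081.result X F (Coh.structureModule X) hc (isCoh_structureModule' X)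
      (isReflexive_structureModule X)
  · exact genInvertible_of_isR1At _ (dual_isCoh F hc) (flOpens F hc) (dense_freeLocus F hg)
      fun x hx => isR1At_dual hc (isR1At_of_mem_freeLocus F hc hg hx)

theorem isRef1_ddualTensor (F G : X.Modules) (hF : IsRef1 F) (hG : IsRef1 G) :
    IsRef1 (ddual (CohB1.tensorMod F G)) := by
  obtain ⟨hFc, hFr, hFg⟩ := hF
  obtain ⟨hGc, hGr, hGg⟩ := hG
  have hc := isCoh_tensorMod hFc hGc
  refine ⟨ddual_isCoh _ hc, isReflexive_ddual _ hc, ?_⟩
  refine genInvertible_of_isR1At _ (ddual_isCoh _ hc) (flOpens F hFc ⊓ flOpens G hGc) ?_ ?_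
  · exact (dense_freeLocus F hFg).inter_of_isOpen_left (dense_freeLocus G hGg)
      (isOpen_freeLocus F hFc)
  · rintro x ⟨hxF, hxG⟩
    exact isR1At_ddual hc (isR1At_tensor (isR1At_of_mem_freeLocus F hFc hFg hxF)
      (isR1At_of_mem_freeLocus G hGc hGg hxG))

/-- associativity of the reflexive tensor product -/
theorem nonempty_assoc_iso (hX : Pi1.IsNormalScheme X) (F G H : X.Modules) (hF : IsRef1 F)
    (hG : IsRef1 G) (hH : IsRef1 H) :
    Nonempty (ddual (CohB1.tensorMod (ddual (CohB1.tensorMod F G)) H) ≅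
      ddual (CohB1.tensorMod F (ddual (CohB1.tensorMod G H)))) := by
  obtain ⟨hFc, hFr, hFg⟩ := hF
  obtain ⟨hGc, hGr, hGg⟩ := hG
  obtain ⟨hHc, hHr, hHg⟩ := hH
  let U : X.Opens := flOpens F hFc ⊓ flOpens G hGc ⊓ flOpens H hHc
  have r1F : ∀ x ∈ U, IsR1At F x := fun x hx => isR1At_of_mem_freeLocus F hFc hFg hx.1.1
  have r1G : ∀ x ∈ U, IsR1At G x := fun x hx => isR1At_of_mem_freeLocus G hGc hGg hx.1.2
  have r1H : ∀ x ∈ U, IsR1At H x := fun x hx => isR1At_of_mem_freeLocus H hHc hHg hx.2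
  have cFG := isCoh_tensorMod hFc hGc
  have cGH := isCoh_tensorMod hGc hHc
  have cA := isCoh_tensorMod (ddual_isCoh _ cFG) hHc
  have cB := isCoh_tensorMod hFc (ddual_isCoh _ cGH)
  let φ₁ := tensorMap (bidualMap (CohB1.tensorMod F G)) (𝟙 H) ≫
    bidualMap (CohB1.tensorMod (ddual (CohB1.tensorMod F G)) H)
  let φ₂ := tensorMap (𝟙 F) (bidualMap (CohB1.tensorMod G H)) ≫
    bidualMap (CohB1.tensorMod F (ddual (CohB1.tensorMod G H)))
  have h1 : U ≤ isoLocus φ₁ := le_isoLocus_comp _ _ U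
    (le_isoLocus_tensorMap_left _ H U (le_isoLocus_bidualMap _ cFG U fun x hx =>
      isR1At_tensor (r1F x hx) (r1G x hx)))
    (le_isoLocus_bidualMap _ cA U fun x hx =>
      isR1At_tensor (isR1At_ddual cFG (isR1At_tensor (r1F x hx) (r1G x hx))) (r1H x hx))
  have h2 : U ≤ isoLocus φ₂ := le_isoLocus_comp _ _ U
    (le_isoLocus_tensorMap_right F _ U (le_isoLocus_bidualMap _ cGH U fun x hx =>
      isR1At_tensor (r1G x hx) (r1H x hx)))
    (le_isoLocus_bidualMap _ cB U fun x hx =>
      isR1At_tensor (r1F x hx) (isR1At_ddual cGH (isR1At_tensor (r1G x hx) (r1H x hx))))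
  rw [le_isoLocus_iff] at h1 h2
  haveI := h1
  haveI := h2
  refine nonempty_iso_of_restrict_iso _ _ (ddual_isCoh _ cA) (ddual_isCoh _ cB)
    (isReflexive_ddual _ cA) (isReflexive_ddual _ cB) U ?_ ?_
  · intro x hx
    by_cases hxF : x ∈ freeLocus F
    · by_cases hxG : x ∈ freeLocus G
      · exact two_le_depth_of_not_mem hX H hHc hHr x fun hxH => hx ⟨⟨hxF, hxG⟩, hxH⟩
      · exact two_le_depth_of_not_mem hX G hGc hGr x hxG
    · exact two_le_depth_of_not_mem hX F hFc hFr x hxF
  · exact (asIso ((restrictFunctor U.ι).map φ₁)).symm ≪≫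
      (restrictFunctor U.ι).mapIso (assoc F G H) ≪≫ asIso ((restrictFunctor U.ι).map φ₂)

/-- the dual is an inverse for the reflexive tensor product -/
theorem nonempty_inv_iso (hX : Pi1.IsNormalScheme X) (F : X.Modules) (hF : IsRef1 F) :
    Nonempty (ddual (CohB1.tensorMod (dual F) F) ≅ Coh.structureModule X) := by
  obtain ⟨hFc, hFr, hFg⟩ := hF
  let U : X.Opens := flOpens F hFc
  have r1F : ∀ x ∈ U, IsR1At F x := fun x hx => isR1At_of_mem_freeLocus F hFc hFg hx
  have cT := isCoh_tensorMod (dual_isCoh F hFc) hFc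
  have h1 : U ≤ isoLocus (bidualMap (CohB1.tensorMod (dual F) F)) :=
    le_isoLocus_bidualMap _ cT U fun x hx =>
      isR1At_tensor (isR1At_dual hFc (r1F x hx)) (r1F x hx)
  have h2 : U ≤ isoLocus (ev F (Coh.structureModule X)) :=
    le_isoLocus_of_bijective _ U fun x hx =>
      bijective_stalkMapₗ_ev F hFc x (r1F x hx).1 (r1F x hx).2
  rw [le_isoLocus_iff] at h1 h2
  haveI := h1
  haveI := h2
  refine nonempty_iso_of_restrict_iso _ _ (ddual_isCoh _ cT) (isCoh_structureModule' X)
    (isReflexive_ddual _ cT) (isReflexive_structureModule X) U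
    (fun x hx => two_le_depth_of_not_mem hX F hFc hFr x hx) ?_
  exact (asIso ((restrictFunctor U.ι).map (bidualMap (CohB1.tensorMod (dual F) F)))).symm ≪≫
    asIso ((restrictFunctor U.ι).map (ev F (Coh.structureModule X)))

end Noeth

end Groth.Agent.Lib.Lead.RefGrp
end
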