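import Mathlib
import Groth.Agent.Lib.Lead.LocFact
import Groth.Agent.Lib.Lead.InvExt3
import Groth.Agent.Lib.Lead.RefGrp4
import Groth.Agent.Lib.Helper21.StalkGen
import Groth.Agent.Lib.Helper2.Hartogs4

/-!
# Noetherian integral schemes whose prime divisors are principal (lead, S3841)

* `oneSec`, `span_germ_oneSec`, `oneRat`, `oneRat_ne_zero`, `secOrdAt_oneRat`: the rational section `1` of `O_X` has order
  zero at all codimension one points.
* `isRef1_of_isInvertible`: invertible modules are rank one reflexive.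
* `span_eq_qOf`: on a normal scheme, a rational function of order one at the codimension one point `z` and order zero at
  the other codimension one generizations of `x` generates the prime of `z` in `O_{X,x}`.
* `exists_global_equation`, `normal_and_exists_of_equations`: global equations of prime divisors vs. rational functions
  with divisor a prime divisor.
* `ord_prod_zpow`; `nonempty_iso_unit_of_principal`: if all prime divisors are principal (X quasi-compact), `Pic X = 0`.
* `nonempty_iso_unit_opens`: locally factorial with `Pic X = 0` ⇒ `Pic U = 0` for all opens (uses `InvExt`).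
* `exists_of_opens_trivial`: `Pic U = 0` for all opens of a normal scheme ⇒ prime divisors are principal.
* `tfae_locallyFactorial`: the four-fold equivalence.
-/

set_option autoImplicit false
set_option backward.isDefEq.respectTransparency false
set_option linter.style.haveILetI false
set_option linter.unusedSectionVars false
universe u

open CategoryTheory CategoryTheory.Limits AlgebraicGeometry TopologicalSpace Opposite

noncomputable section

namespace Groth.Agent.Lib.Lead.LocFact

open RefHull Groth.Agent.Lib.Lead.RH Groth.Agent.Lib.Lead.RefGrp Groth.Agent.Lib.helper16.SecOrd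
open Groth.Agent.Lib.Lead.RefDivOrd Groth.Agent.Lib.helper2.CDivLib Groth.Agent.Lib.Lead.RefWeil
open Groth.Agent.Lib.Lead.RefRank Groth.Agent.Lib.Lead.InvExt
open Groth.Agent.Lib.helper16.CohStalk Groth.Agent.Lib.helper16.CohFinite
open Groth.Agent.Lib.helper21.StalkGen Groth.Agent.Lib.helper11.InvMod
open Scheme.Modules Groth.Agent.Lib.Lead.RefExt

variable {X : Scheme.{u}}

/-- the section `1` of the module `O_X` -/
def oneSec (V : X.Opens) : Γ(Coh.structureModule X, V) := (1 : Γ(X, V))

theorem span_germ_oneSec (x : X) :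
    Submodule.span (X.presheaf.stalk x)
      {(Coh.structureModule X).presheaf.germ ⊤ x trivial (oneSec ⊤)} = ⊤ := by
  rw [eq_top_iff]
  intro m _
  obtain ⟨V, hxV, r, rfl⟩ := TopCat.Presheaf.exists_germ_eq (Coh.structureModule X).presheaf m
  have h1 : r = (r : Γ(X, V)) •
      (Coh.structureModule X).presheaf.map (homOfLE (le_top : V ≤ ⊤)).op (oneSec ⊤) := by
    have h2 : (Coh.structureModule X).presheaf.map (homOfLE (le_top : V ≤ ⊤)).op (oneSec ⊤) =
        oneSec V := by
      change X.presheaf.map (homOfLE (le_top : V ≤ ⊤)).op (1 : Γ(X, ⊤)) = (1 : Γ(X, V))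
      exact map_one _
    rw [h2]
    have h3 : ∀ r' : Γ(X, V), r' = r' * 1 := fun r' => (mul_one r').symm
    exact h3 r
  rw [h1, Mero.germ_smul, TopCat.Presheaf.germ_res_apply]
  exact Submodule.smul_mem _ _ (Submodule.subset_span rfl)

variable [IsIntegral X] [IsLocallyNoetherian X]

/-- the rational section `1` of `O_X` -/
def oneRat : Cyc.secFibre (Coh.structureModule X) (genericPoint X) :=
  Submodule.Quotient.mk
    ((Coh.structureModule X).presheaf.germ ⊤ (genericPoint X) trivial (oneSec ⊤))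

theorem oneRat_ne_zero : (oneRat : Cyc.secFibre (Coh.structureModule X) (genericPoint X)) ≠ 0 :=
  mk_ne_zero_of_span (isR1At_unit _) _ (span_germ_oneSec _)

theorem secOrdAt_oneRat (x : X) (hx : Order.coheight x = 1) (h : genericPoint X ⤳ x) :
    Cyc.secOrdAt (Coh.structureModule X) (genericPoint X) x h oneRat = 0 := by
  have h1 := secOrdAt_eq_ord (Coh.structureModule X) x hx h (U := ⊤) trivial (oneSec ⊤)
    (span_germ_oneSec x) _ oneRat_ne_zero 1 (one_smul _ _).symm
  rw [oneRat, h1]
  exact ord_one' x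

theorem isRef1_of_isInvertible {L : X.Modules} (hL : PicF.IsInvertible L) : IsRef1 L := by
  have hfl := Groth.Agent.Lib.helper16.FLF.isFinLocFree_of_isInvertible hL
  have hcoh : Coh.IsCoh L :=
    ⟨Groth.Agent.Lib.helper16.FLF.isQuasicoherent_of_isFinLocFree _ hfl,
      Groth.Agent.Lib.helper16.FLF.isFiniteType_of_isFinLocFree _ hfl⟩
  refine ⟨hcoh, ?_, genInvertible_of_isR1At L hcoh ⊤ (by simp)
    (fun x _ => isR1At_of_isInvertible hL x)⟩
  rw [Groth.Agent.Lib.Lead.RH.isReflexive_iff_forall_isReflexiveAt L hcoh]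
  intro x
  exact (isR1At_of_isInvertible hL x).isReflexiveAt

/-- the ideal of a codimension one point in the local ring of a specialization is generated by any function with the
right orders -/
theorem span_eq_qOf (hX : Pi1.IsNormalScheme X) {x z : X} (hz : z ⤳ x)
    (hzco : Order.coheight z = 1) (f : X.functionField) (hf0 : f ≠ 0)
    (hordz : Scheme.ord f z = 1)
    (hord : ∀ x' : X, x' ⤳ x → Order.coheight x' = 1 → x' ≠ z → Scheme.ord f x' = 0)
    (π : X.presheaf.stalk x) (hπ : algebraMap (X.presheaf.stalk x) X.functionField π = f) :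
    Ideal.span {π} = qOf x z hz := by
  haveI : IsDomain (X.presheaf.stalk x) := (hX x).1
  have hinj := IsFractionRing.injective (X.presheaf.stalk x) X.functionField
  have hπ0 : π ≠ 0 := by
    rintro rfl
    exact hf0 (by rw [← hπ, map_zero])
  have hπz : π ∈ qOf x z hz := by
    rw [mem_qOf_iff hz π hπ0, hπ]
    exact ((one_le_ord_iff hX z hzco _ hf0).mp (by rw [hordz])).2
  apply le_antisymm
  · rw [Ideal.span_singleton_le_iff_mem]; exact hπz
  · intro b hb
    by_cases hb0 : b = 0
    · rw [hb0]; exact Ideal.zero_mem _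
    have hbK : algebraMap (X.presheaf.stalk x) X.functionField b ≠ 0 := by
      rw [Ne, map_eq_zero_iff _ hinj]; exact hb0
    have hh0 : algebraMap (X.presheaf.stalk x) X.functionField b * f⁻¹ ≠ 0 :=
      mul_ne_zero hbK (inv_ne_zero hf0)
    have hh : algebraMap (X.presheaf.stalk x) X.functionField b * f⁻¹ ∈ Ox x := by
      apply mem_Ox_of_forall_coheight_one hX
      intro x' hx' hco
      rw [← ord_nonneg_iff hX x' hco _ hh0, ord_div' x' _ _ hbK hf0]
      have hbx' : algebraMap (X.presheaf.stalk x) X.functionField b ∈ Ox x' :=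
        Ox_mono hx' ⟨b, rfl⟩
      by_cases hx'z : x' = z
      · subst hx'z
        have h1 : 1 ≤ Scheme.ord (algebraMap (X.presheaf.stalk x) X.functionField b) x' :=
          (one_le_ord_iff hX x' hco _ hbK).mpr ⟨hbx', (mem_qOf_iff hz b hb0).mp hb⟩
        rw [hordz]
        omega
      · have h1 : 0 ≤ Scheme.ord (algebraMap (X.presheaf.stalk x) X.functionField b) x' :=
          (ord_nonneg_iff hX x' hco _ hbK).mpr hbx'
        rw [hord x' hx' hco hx'z]
        omega
    obtain ⟨c, hc⟩ := hh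
    rw [Ideal.mem_span_singleton]
    refine ⟨c, ?_⟩
    apply hinj
    rw [map_mul, hc, hπ, mul_comm, mul_assoc, inv_mul_cancel₀ hf0, mul_one]

/-- (2) ⇒ (1) -/
theorem exists_global_equation (hX : Pi1.IsNormalScheme X) (ζ : X) (hζ : Order.coheight ζ = 1)
    (f : X.functionField) (hf0 : f ≠ 0) (h1 : Scheme.ord f ζ = 1)
    (h0 : ∀ x : X, x ≠ ζ → Order.coheight x = 1 → Scheme.ord f x = 0) :
    ∃ g : Γ(X, ⊤),
      (∀ (x : X) (h : ζ ⤳ x),
        (IsLocalRing.maximalIdeal (X.presheaf.stalk ζ)).comap (X.presheaf.stalkSpecializes h).hom =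
          Ideal.span {X.presheaf.germ ⊤ x trivial g}) ∧
      ∀ x : X, ¬ ζ ⤳ x → IsUnit (X.presheaf.germ ⊤ x trivial g) := by
  have hmem : ∀ z : X, z ∈ (⊤ : X.Opens) → f ∈ Ox z := by
    intro z _
    apply mem_Ox_of_forall_coheight_one hX
    intro x' hx' hco
    rw [← ord_nonneg_iff hX x' hco _ hf0]
    by_cases hx'z : x' = ζ
    · rw [hx'z, h1]; norm_num
    · rw [h0 x' hx'z hco]
  obtain ⟨g, hg⟩ := exists_section_of_forall_mem_Ox ⊤ f hmem
  refine ⟨g, fun x h => ?_, fun x hx => ?_⟩
  · exact (span_eq_qOf hX h hζ f hf0 h1 (fun x' _ hco hne => h0 x' hne hco) _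
      (hg x trivial)).symm
  · have hg0 : X.presheaf.germ ⊤ x trivial g ≠ 0 := by
      intro h0'
      apply hf0
      rw [← hg x trivial, h0', map_zero]
    rw [isUnit_iff_inv_mem_Ox x _ hg0, hg x trivial]
    apply mem_Ox_of_forall_coheight_one hX
    intro x' hx' hco
    have hne : x' ≠ ζ := by
      rintro rfl
      exact hx hx'
    rw [← ord_nonneg_iff hX x' hco _ (inv_ne_zero hf0), ord_inv x' f hf0, h0 x' hne hco]
    norm_num

theorem normal_of_ufd (hufd : ∀ x : X, UniqueFactorizationMonoid (X.presheaf.stalk x)) :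
    Pi1.IsNormalScheme X := fun x => by
  haveI := hufd x
  exact ⟨inferInstance, inferInstance⟩

/-- (1) ⇒ (2) -/
theorem normal_and_exists_of_equations
    (H : ∀ ζ : X, Order.coheight ζ = 1 → ∃ g : Γ(X, ⊤),
      (∀ (x : X) (h : ζ ⤳ x),
        (IsLocalRing.maximalIdeal (X.presheaf.stalk ζ)).comap (X.presheaf.stalkSpecializes h).hom =
          Ideal.span {X.presheaf.germ ⊤ x trivial g}) ∧
      ∀ x : X, ¬ ζ ⤳ x → IsUnit (X.presheaf.germ ⊤ x trivial g)) :
    Pi1.IsNormalScheme X ∧ ∀ x₀ : X, Order.coheight x₀ = 1 → ∃ f : X.functionField, f ≠ 0 ∧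
      Scheme.ord f x₀ = 1 ∧ ∀ x : X, x ≠ x₀ → Order.coheight x = 1 → Scheme.ord f x = 0 := by
  have hufd : ∀ x : X, UniqueFactorizationMonoid (X.presheaf.stalk x) := by
    intro x
    apply UniqueFactorizationMonoid.of_forall_isPrincipal_of_height_eq_one
    intro P hP hht
    obtain ⟨ζ, h, rfl⟩ := exists_generization x P
    have hdim := ringKrullDim_stalk_eq_height h
    have hco : Order.coheight ζ = 1 := by
      rw [ringKrullDim_stalk_eq_coheight, hht] at hdim
      exact_mod_cast hdim
    obtain ⟨g, hg, -⟩ := H ζ hco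
    exact ⟨⟨_, hg x h⟩⟩
  have hX := normal_of_ufd hufd
  refine ⟨hX, fun x₀ hx₀ => ?_⟩
  obtain ⟨g, hg1, hg2⟩ := H x₀ hx₀
  haveI := isDVR_of_coheight_one hX x₀ hx₀
  haveI : IsDomain (X.presheaf.stalk x₀) := (hX x₀).1
  have hmax : IsLocalRing.maximalIdeal (X.presheaf.stalk x₀) =
      Ideal.span {X.presheaf.germ ⊤ x₀ trivial g} := by
    have h1 := hg1 x₀ (specializes_refl x₀)
    have h2 := genPrime_refl x₀
    unfold genPrime at h2
    rw [h2] at h1
    exact h1
  have hirr : Irreducible (X.presheaf.germ ⊤ x₀ trivial g) :=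
    (IsDiscreteValuationRing.irreducible_iff_uniformizer _).2 hmax
  have hinj := IsFractionRing.injective (X.presheaf.stalk x₀) X.functionField
  have h0 : algebraMap (X.presheaf.stalk x₀) X.functionField (X.presheaf.germ ⊤ x₀ trivial g) ≠ 0 := by
    rw [Ne, map_eq_zero_iff _ hinj]; exact hirr.ne_zero
  refine ⟨_, h0, ?_, fun x hne hx => ?_⟩
  · rw [Scheme.ord_eq_iff hx₀ h0]
    haveI : Ring.KrullDimLE 1 (X.presheaf.stalk x₀) := krullDimLE_of_coheight_le hx₀.le
    exact Ring.ordFrac_irreducible (R := X.presheaf.stalk x₀) (K := X.functionField) hirr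
  · have hns : ¬ x₀ ⤳ x := by
      intro hsp
      rcases eq_or_eq_genericPoint_of_specializes hx hsp with h | h
      · exact hne h.symm
      · rw [h, coheight_genericPoint] at hx₀
        exact zero_ne_one hx₀
    have hu := hg2 x hns
    rw [algebraMap_germ_eq g (trivial : x₀ ∈ (⊤ : X.Opens)) (trivial : x ∈ (⊤ : X.Opens))] at h0 ⊢
    haveI : IsDomain (X.presheaf.stalk x) := (hX x).1
    have hinjx := IsFractionRing.injective (X.presheaf.stalk x) X.functionField
    have hc0 : X.presheaf.germ ⊤ x trivial g ≠ 0 := by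
      intro h'
      apply h0
      rw [h', map_zero]
    rw [ord_eq_zero_iff hX x hx _ h0]
    exact ⟨⟨_, rfl⟩, (isUnit_iff_inv_mem_Ox x _ hc0).1 hu⟩

theorem ord_prod_zpow (x : X) (S : Finset X) (F : X → X.functionField) (n : X → ℤ)
    (hF : ∀ y ∈ S, F y ≠ 0) :
    Scheme.ord (∏ y ∈ S, F y ^ n y) x = ∑ y ∈ S, n y * Scheme.ord (F y) x := by
  classical
  induction S using Finset.induction_on with
  | empty => simp [ord_one']
  | insert a S ha ih =>
    have hFa : F a ≠ 0 := hF a (Finset.mem_insert_self a S)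
    have hFS : ∀ y ∈ S, F y ≠ 0 := fun y hy => hF y (Finset.mem_insert_of_mem hy)
    have hp : (∏ y ∈ S, F y ^ n y) ≠ 0 :=
      Finset.prod_ne_zero_iff.2 fun y hy => zpow_ne_zero _ (hFS y hy)
    rw [Finset.prod_insert ha, Finset.sum_insert ha, Scheme.ord_mul (zpow_ne_zero _ hFa) hp,
      ord_zpow' x _ hFa, ih hFS]

/-- (2) ⇒ triviality of the Picard group -/
theorem nonempty_iso_unit_of_principal [CompactSpace X] (hX : Pi1.IsNormalScheme X)
    (H : ∀ x₀ : X, Order.coheight x₀ = 1 → ∃ f : X.functionField, f ≠ 0 ∧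
      Scheme.ord f x₀ = 1 ∧ ∀ x : X, x ≠ x₀ → Order.coheight x = 1 → Scheme.ord f x = 0)
    (L : X.Modules) (hL : PicF.IsInvertible L) : Nonempty (L ≅ Coh.structureModule X) := by
  classical
  have hLref : IsRef1 L := isRef1_of_isInvertible hL
  have rη := isR1At_of_isInvertible hL (genericPoint X)
  obtain ⟨s, hs⟩ : ∃ s : Cyc.secFibre L (genericPoint X), s ≠ 0 := by
    obtain ⟨U, hU, a, ha⟩ := exists_gen_section L (genericPoint X) rη
    exact ⟨_, mk_ne_zero_of_span rη _ ha⟩
  obtain ⟨D, hD0, hD⟩ := exists_cycle_of_section hX L hLref s hs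
  have hfin : (Function.support D.toFun).Finite := by
    have := (Function.locallyFinsupp.locallyFiniteSupport D).finite_inter_support_of_isCompact
      isCompact_univ
    rwa [Set.univ_inter] at this
  choose! fx hfx0 hfx1 hfx2 using H
  have hS1 : ∀ y ∈ hfin.toFinset, Order.coheight y = 1 := by
    intro y hy
    by_contra hne
    rw [Set.Finite.mem_toFinset, Function.mem_support] at hy
    exact hy (hD0 y hne)
  refine (nonempty_iso_iff hX L _ hLref isRef1_unit s hs oneRat oneRat_ne_zero).2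
    ⟨∏ y ∈ hfin.toFinset, fx y ^ D y, ?_, fun x hx => ?_⟩
  · exact Finset.prod_ne_zero_iff.2 fun y hy => zpow_ne_zero _ (hfx0 y (hS1 y hy))
  · rw [secOrdAt_oneRat x hx, zero_add, ← hD x hx,
      ord_prod_zpow x _ fx _ (fun y hy => hfx0 y (hS1 y hy))]
    have hterm : ∀ y ∈ hfin.toFinset, D y * Scheme.ord (fx y) x = if y = x then D x else 0 := by
      intro y hy
      by_cases hyx : y = x
      · subst hyx
        rw [if_pos rfl, hfx1 y (hS1 y hy), mul_one]
      · rw [if_neg hyx, hfx2 y (hS1 y hy) x (fun h => hyx h.symm) hx, mul_zero]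
    rw [Finset.sum_congr rfl hterm, Finset.sum_ite_eq']
    split_ifs with hmem
    · rfl
    · rw [Set.Finite.mem_toFinset, Function.mem_support, not_not] at hmem
      exact hmem

/-- (3) ⇒ (4) -/
theorem nonempty_iso_unit_opens
    (hufd : ∀ x : X, UniqueFactorizationMonoid (X.presheaf.stalk x))
    (hpic : ∀ L : X.Modules, PicF.IsInvertible L → Nonempty (L ≅ Coh.structureModule X))
    (U : X.Opens) (L : (U : Scheme.{u}).Modules) (hL : PicF.IsInvertible L) :
    Nonempty (L ≅ Coh.structureModule (U : Scheme.{u})) := by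
  obtain ⟨L', hL', ⟨e⟩⟩ := exists_invertible_extension X U L hL (fun x _ => hufd x)
  obtain ⟨e'⟩ := hpic L' hL'
  obtain ⟨e''⟩ := IsTrivOn.of_iso e'.symm (isTrivOn_structureModule U)
  exact ⟨e.symm ≪≫ e''⟩

/-- (4) ⇒ (2) -/
theorem exists_of_opens_trivial (hX : Pi1.IsNormalScheme X)
    (h4 : ∀ (U : X.Opens) (L : (U : Scheme.{u}).Modules),
      PicF.IsInvertible L → Nonempty (L ≅ Coh.structureModule (U : Scheme.{u})))
    (x₀ : X) (hx₀ : Order.coheight x₀ = 1) :
    ∃ f : X.functionField, f ≠ 0 ∧ Scheme.ord f x₀ = 1 ∧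
      ∀ x : X, x ≠ x₀ → Order.coheight x = 1 → Scheme.ord f x = 0 := by
  classical
  let D : AlgebraicCycle X ℤ :=
    { toFun := fun y => if y = x₀ then 1 else 0
      supportWithinDomain' := fun _ _ => trivial
      supportLocallyFiniteWithinDomain' := fun z _ =>
        ⟨Set.univ, Filter.univ_mem, (Set.finite_singleton x₀).subset (by
          rintro w ⟨-, hw⟩
          by_contra hne
          exact hw (if_neg hne))⟩ }
  have hDx : ∀ y : X, D y = if y = x₀ then 1 else 0 := fun y => rfl
  obtain ⟨F, hF, s, hs, hord⟩ := exists_ref1_of_divisor hX D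
  obtain ⟨hFc, hFr, hFg⟩ := hF
  let U : X.Opens := flOpens F hFc
  have r1 : ∀ x ∈ U, IsR1At F x := fun x hx => isR1At_of_mem_freeLocus F hFc hFg hx
  have hinv : PicF.IsInvertible (F.restrict U.ι) := by
    rw [Groth.Agent.Lib.helper16.FLF.isInvertible_iff_isFinLocFreeOfRank_one]
    have hflf := isFinLocFree_restrict_of_le_freeLocus F hFc U (fun x hx => (r1 x hx).1)
    rw [Groth.Agent.Lib.helper16.FLF.isFinLocFreeOfRank_iff_finrank_stalk _ hflf]
    intro y
    rw [Groth.Agent.Lib.Lead.RefRank.finrank_stalk_restrict]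
    exact (r1 _ y.2).2
  obtain ⟨e1⟩ := h4 U _ hinv
  obtain ⟨e2⟩ := isTrivOn_structureModule (X := X) U
  obtain ⟨ψ⟩ := nonempty_iso_of_restrict_iso F (Coh.structureModule X) hFc
    (isCoh_structureModule' X) hFr (isReflexive_structureModule X) U
    (fun x hx => two_le_depth_of_not_mem hX F hFc hFr x hx) (e1 ≪≫ e2.symm)
  obtain ⟨f, hf0, hf⟩ := (nonempty_iso_iff hX F _ ⟨hFc, hFr, hFg⟩ isRef1_unit s hs oneRat
    oneRat_ne_zero).1 ⟨ψ⟩
  refine ⟨f, hf0, ?_, fun x hne hx => ?_⟩
  · have h1 := hf x₀ hx₀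
    rw [secOrdAt_oneRat x₀ hx₀, zero_add, ← hord x₀ hx₀, hDx, if_pos rfl] at h1
    exact h1.symm
  · have h1 := hf x hx
    rw [secOrdAt_oneRat x hx, zero_add, ← hord x hx, hDx, if_neg hne] at h1
    exact h1.symm

/-- S3841 -/
theorem tfae_locallyFactorial [CompactSpace X] :
    List.TFAE [
      ∀ ζ : X, Order.coheight ζ = 1 → ∃ g : Γ(X, ⊤),
        (∀ (x : X) (h : ζ ⤳ x),
          (IsLocalRing.maximalIdeal (X.presheaf.stalk ζ)).comap (X.presheaf.stalkSpecializes h).hom =
            Ideal.span {X.presheaf.germ ⊤ x trivial g}) ∧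
        ∀ x : X, ¬ ζ ⤳ x → IsUnit (X.presheaf.germ ⊤ x trivial g),
      Pi1.IsNormalScheme X ∧ ∀ x₀ : X, Order.coheight x₀ = 1 → ∃ f : X.functionField, f ≠ 0 ∧
        Scheme.ord f x₀ = 1 ∧ ∀ x : X, x ≠ x₀ → Order.coheight x = 1 → Scheme.ord f x = 0,
      (∀ x : X, UniqueFactorizationMonoid (X.presheaf.stalk x)) ∧
        ∀ L : X.Modules, PicF.IsInvertible L → Nonempty (L ≅ Coh.structureModule X),
      Pi1.IsNormalScheme X ∧ ∀ (U : X.Opens) (L : (U : Scheme.{u}).Modules),
        PicF.IsInvertible L → Nonempty (L ≅ Coh.structureModule (U : Scheme.{u}))] := by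
  tfae_have 1 → 2 := normal_and_exists_of_equations
  tfae_have 2 → 1 := fun ⟨hX, h⟩ ζ hζ => by
    obtain ⟨f, hf0, h1, h0⟩ := h ζ hζ
    exact exists_global_equation hX ζ hζ f hf0 h1 h0
  tfae_have 2 → 3 := fun ⟨hX, h⟩ => by
    refine ⟨fun x => ufm_of_valid hX x fun z _ hzco => ?_,
      fun L hL => nonempty_iso_unit_of_principal hX h L hL⟩
    obtain ⟨f, hf0, h1, h0⟩ := h z hzco
    exact ⟨f, hf0, h1, fun x' _ hco hne => h0 x' hne hco⟩
  tfae_have 3 → 4 := fun ⟨hufd, hpic⟩ =>
    ⟨normal_of_ufd hufd, fun U L hL => nonempty_iso_unit_opens hufd hpic U L hL⟩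
  tfae_have 4 → 2 := fun ⟨hX, h4⟩ =>
    ⟨hX, fun x₀ hx₀ => exists_of_opens_trivial hX h4 x₀ hx₀⟩
  tfae_finish

end Groth.Agent.Lib.Lead.LocFact
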