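import Mathlib
import Groth.Agent.Lib.Lead.LocFact2

/-!
# Ample families on locally factorial schemes, part 2: sections as morphisms, affine opens, generic points (lead)

* `secOfTop`, `secHom M τ : O_X ⟶ M`, `secHom_app`, `stalkMapₗ_secHom_oneSec`.
* `nonempty_equiv_of_isR1At`; `bijective_stalkMapₗ_secHom_iff`: for `M` free of rank one at `y`, `secHom M τ` is bijective
  on the stalk at `y` iff the germ of `τ` generates `M_y`.
* `bijective_stalkMapₗ_of_mem_isoLocus`.
* `le_of_bijective_res`: affine opens `W' ≤ W` with bijective restriction `Γ(W) → Γ(W')` are equal.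
* `exists_generic`: the generic point of an affine open with a domain of sections.
* `germ_injective_of_forall_specializes`.
-/

set_option autoImplicit false
set_option backward.isDefEq.respectTransparency false
set_option linter.style.haveILetI false
set_option linter.unusedSectionVars false
universe u

open CategoryTheory CategoryTheory.Limits AlgebraicGeometry TopologicalSpace Opposite

noncomputable section

namespace Groth.Agent.Lib.Lead.AmpFam

open RefHull Groth.Agent.Lib.Lead.RH Groth.Agent.Lib.Lead.RefGrp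
open Groth.Agent.Lib.Lead.RefRank Groth.Agent.Lib.Lead.InvExt Groth.Agent.Lib.Lead.LocFact
open Groth.Agent.Lib.helper16.CohStalk Groth.Agent.Lib.helper16.CohFinite
open Groth.Agent.Lib.helper21.StalkGen Groth.Agent.Lib.helper11.IsoLocus
open Scheme.Modules

variable {X : Scheme.{u}}

/-! ### the morphism `O_X ⟶ M` of a global section -/

/-- the family of restrictions of a global section -/
def secOfTop (M : X.Modules) (τ : Γ(M, ⊤)) : SheafOfModules.sections (R := X.ringCatSheaf) M :=
  PresheafOfModules.sectionsMk (M := M.val)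
    (fun V => M.presheaf.map (homOfLE (le_top : V.unop ≤ ⊤)).op τ)
    (fun V W f => by
      change M.presheaf.map f (M.presheaf.map (homOfLE (le_top : V.unop ≤ ⊤)).op τ) =
        M.presheaf.map (homOfLE (le_top : W.unop ≤ ⊤)).op τ
      rw [← ConcreteCategory.comp_apply, ← Functor.map_comp]
      rfl)

/-- the morphism `O_X ⟶ M`, `r ↦ r • τ`, of a global section `τ` of `M` -/
def secHom (M : X.Modules) (τ : Γ(M, ⊤)) : Coh.structureModule X ⟶ M :=
  (SheafOfModules.unitHomEquiv (R := X.ringCatSheaf) M).symm (secOfTop M τ)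

theorem secHom_app (M : X.Modules) (τ : Γ(M, ⊤)) (W : X.Opens) (r : Γ(X, W)) :
    ((secHom M τ).app W).hom (show Γ(Coh.structureModule X, W) from r) =
      r • (M.presheaf.map (homOfLE (le_top : W ≤ ⊤)).op τ : Γ(M, W)) := rfl

theorem stalkMapₗ_secHom_oneSec (M : X.Modules) (τ : Γ(M, ⊤)) (y : X) :
    stalkMapₗ (secHom M τ) y ((Coh.structureModule X).presheaf.germ ⊤ y trivial (oneSec ⊤)) =
      M.presheaf.germ ⊤ y trivial τ := by
  rw [stalkMapₗ_germ]
  congr 1
  have h1 := secHom_app M τ ⊤ (1 : Γ(X, ⊤))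
  rw [one_smul] at h1
  refine h1.trans ?_
  have h2 : (homOfLE (le_top : (⊤ : X.Opens) ≤ ⊤)).op = 𝟙 _ := rfl
  rw [h2, M.presheaf.map_id]
  rfl

theorem nonempty_equiv_of_isR1At {M : X.Modules} {y : X} (h : IsR1At M y) :
    Nonempty (M.presheaf.stalk y ≃ₗ[X.presheaf.stalk y] X.presheaf.stalk y) := by
  haveI := h.1
  haveI := h.finite
  let b := Module.finBasis (X.presheaf.stalk y) (M.presheaf.stalk y)
  rw [h.2] at b
  exact ⟨b.equivFun.trans (LinearEquiv.funUnique (Fin 1) (X.presheaf.stalk y) (X.presheaf.stalk y))⟩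

/-- for `M` free of rank one at `y`, the section `τ` generates `M_y` iff `secHom M τ` is bijective on the stalk at `y` -/
theorem bijective_stalkMapₗ_secHom_iff (M : X.Modules) (τ : Γ(M, ⊤)) (y : X) (h : IsR1At M y) :
    Function.Bijective (stalkMapₗ (secHom M τ) y) ↔
      Submodule.span (X.presheaf.stalk y) {M.presheaf.germ ⊤ y trivial τ} = ⊤ := by
  have hspan : Submodule.span (X.presheaf.stalk y) {M.presheaf.germ ⊤ y trivial τ} =
      LinearMap.range (stalkMapₗ (secHom M τ) y) := by
    rw [← stalkMapₗ_secHom_oneSec, ← Set.image_singleton, ← Submodule.map_span, span_germ_oneSec,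
      Submodule.map_top]
  rw [hspan, LinearMap.range_eq_top]
  refine ⟨fun hb => hb.2, fun hs => ⟨?_, hs⟩⟩
  obtain ⟨e₁⟩ := nonempty_equiv_of_isR1At (isR1At_unit (X := X) y)
  obtain ⟨e₂⟩ := nonempty_equiv_of_isR1At h
  let f' : X.presheaf.stalk y →ₗ[X.presheaf.stalk y] X.presheaf.stalk y :=
    e₂.toLinearMap.comp ((stalkMapₗ (secHom M τ) y).comp e₁.symm.toLinearMap)
  have hf' : Function.Surjective f' := by
    intro z
    obtain ⟨w, hw⟩ := hs (e₂.symm z)
    exact ⟨e₁ w, by simp [f', hw]⟩
  have hinj := OrzechProperty.injective_of_surjective_endomorphism f' hf'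
  intro a b hab
  have h1 : f' (e₁ a) = f' (e₁ b) := by simp [f', hab]
  exact e₁.injective (hinj h1)

theorem bijective_stalkMapₗ_of_mem_isoLocus {A B : X.Modules} (φ : A ⟶ B) {x : X}
    (hx : x ∈ isoLocus φ) : Function.Bijective (stalkMapₗ φ x) := by
  have h1 := isIso_stalkMap_of_mem_isoLocus φ hx
  rw [ConcreteCategory.isIso_iff_bijective] at h1
  exact h1

/-! ### affine opens with bijective restriction -/

theorem bijective_map_of_eq {A B : X.Opens} (h : A = B) (i : A ⟶ B) :
    Function.Bijective (X.presheaf.map i.op).hom := by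
  subst h
  have : i = 𝟙 A := Subsingleton.elim _ _
  rw [this]
  simp only [op_id, CategoryTheory.Functor.map_id]
  exact Function.bijective_id

theorem le_of_bijective_res {W' W : X.Opens} (hW' : IsAffineOpen W') (hW : IsAffineOpen W)
    (hle : W' ≤ W) (hbij : Function.Bijective (X.presheaf.map (homOfLE hle).op).hom) : W ≤ W' := by
  haveI : IsAffine (W : Scheme.{u}) := hW
  haveI : IsAffine (W' : Scheme.{u}) := hW'
  have hiso : IsIso (X.homOfLE hle) := by
    rw [← MorphismProperty.isomorphisms.iff,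
      HasAffineProperty.iff_of_isAffine (P := MorphismProperty.isomorphisms Scheme)]
    refine ⟨inferInstance, ?_⟩
    rw [ConcreteCategory.isIso_iff_bijective, Scheme.homOfLE_appTop]
    have e1 : W.ι ''ᵁ ⊤ = W := Scheme.Opens.ι_image_top W
    have e2 : W'.ι ''ᵁ (X.homOfLE hle ⁻¹ᵁ ⊤) = W' := by
      rw [Scheme.Hom.preimage_top]
      exact Scheme.Opens.ι_image_top W'
    have h3 : X.presheaf.map (homOfLE (X.ι_image_homOfLE_le_ι_image hle ⊤)).op =
        X.presheaf.map (homOfLE e1.ge).op ≫ X.presheaf.map (homOfLE hle).op ≫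
          X.presheaf.map (homOfLE e2.le).op := by
      rw [← Functor.map_comp, ← Functor.map_comp]
      rfl
    rw [h3]
    simp only [CommRingCat.hom_comp, RingHom.coe_comp]
    exact ((bijective_map_of_eq e2 _).comp hbij).comp (bijective_map_of_eq e1.symm _)
  intro y hy
  have hsurj : Function.Surjective (X.homOfLE hle) :=
    (ConcreteCategory.bijective_of_isIso (X.homOfLE hle).base).2
  obtain ⟨y', hy'⟩ := hsurj ⟨y, hy⟩
  have h1 := Scheme.homOfLE_apply hle y'
  rw [hy'] at h1
  have h2 : y = y'.1 := h1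
  rw [h2]
  exact y'.2

/-! ### the generic point of an affine open with a domain of sections -/

theorem exists_generic {W : X.Opens} (hW : IsAffineOpen W) [IsDomain Γ(X, W)] :
    ∃ ξ : X, ξ ∈ W ∧ (∀ w ∈ W, ξ ⤳ w) ∧ ∀ f : Γ(X, W), f ≠ 0 → ξ ∈ X.basicOpen f := by
  let p₀ : PrimeSpectrum Γ(X, W) := ⟨⊥, Ideal.isPrime_bot⟩
  refine ⟨hW.fromSpec p₀, ?_, ?_, ?_⟩
  · have := hW.range_fromSpec
    have h1 : hW.fromSpec p₀ ∈ Set.range hW.fromSpec := ⟨p₀, rfl⟩
    rw [this] at h1
    exact h1
  · intro w hw
    have h1 : p₀ ⤳ hW.primeIdealOf ⟨w, hw⟩ := (PrimeSpectrum.le_iff_specializes _ _).1 bot_le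
    have h2 := h1.map hW.fromSpec.continuous
    rw [hW.fromSpec_primeIdealOf ⟨w, hw⟩] at h2
    exact h2
  · intro f hf
    have h1 : p₀ ∈ hW.fromSpec ⁻¹ᵁ X.basicOpen f := by
      rw [hW.fromSpec_preimage_basicOpen]
      exact fun h => hf h
    exact h1

/-- sections over an open all of whose points specialize a fixed point `ξ` are determined by their germ at `ξ`, when
the local rings are domains -/
theorem germ_injective_of_forall_specializes (hdom : ∀ y : X, IsDomain (X.presheaf.stalk y))
    {W : X.Opens} (ξ : X) (hξ : ξ ∈ W) (hsp : ∀ w ∈ W, ξ ⤳ w) :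
    Function.Injective (X.presheaf.germ W ξ hξ).hom := by
  rw [injective_iff_map_eq_zero]
  intro s hs
  refine TopCat.Presheaf.section_ext X.sheaf W s 0 fun w hw => ?_
  change (X.presheaf.germ W w hw).hom s = (X.presheaf.germ W w hw).hom 0
  rw [map_zero]
  haveI := hdom w
  have h := hsp w hw
  letI := (X.presheaf.stalkSpecializes h).hom.toAlgebra
  haveI := isLocalization_genPrime h
  have hinj : Function.Injective (X.presheaf.stalkSpecializes h).hom :=
    IsLocalization.injective (X.presheaf.stalk ξ) (Ideal.primeCompl_le_nonZeroDivisors (genPrime h))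
  apply hinj
  rw [map_zero]
  have h1 : (X.presheaf.stalkSpecializes h).hom ((X.presheaf.germ W w hw).hom s) =
      (X.presheaf.germ W ξ hξ).hom s :=
    ConcreteCategory.congr_hom (TopCat.Presheaf.germ_stalkSpecializes X.presheaf hw h) s
  rw [h1]
  exact hs

end Groth.Agent.Lib.Lead.AmpFam
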