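import Mathlib
import Groth.Agent.Lib.Lead.AmpFam1
import Groth.Agent.Lib.Lead.AmpFam2
import Groth.Agent.Lib.Lead.InvExt3
import Groth.Agent.Lib.Helper18.SubB
import Groth.Agent.Lib.Helper7.KerTensor

/-!
# Ample families on locally factorial schemes, part 3: the dual of an ideal sheaf and purity (lead)

`X` locally Noetherian, `Z ⊆ X` closed, `I_Z` its (radical) ideal sheaf as a module (`GZ Z`), `ιZ : I_Z ⟶ O_X`.
* `appₗ`: a morphism of modules on sections over an open, as a linear map.
* `isR1At_dual_of_ufd`: the dual of a coherent module is free of rank one at factorial points in the closure of the locus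
  where the module is free of rank one.
* `bijective_stalkMapₗ_ιZ`, `isCoh_GZ`, `isR1At_GZ`: `I_Z` off `Z`.
* `σZ`: the inclusion as a global section of `Hom(I_Z, O_X)`; `span_germ_σZ`: it generates off `Z`; `appLin_σZ`.
* `exists_smul_eq_of_le_isoLocus`: where `σZ` generates, linear forms on the ideal are homotheties.
* `le_of_le_isoLocus` (**purity**): an integral affine open `W` on which `σZ` generates and with `W \ Z ⊆ U`, `W ∩ U` affine
  and nonempty, is contained in `U`.
-/

set_option autoImplicit false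
set_option backward.isDefEq.respectTransparency false
set_option linter.style.haveILetI false
set_option linter.unusedSectionVars false
universe u

open CategoryTheory CategoryTheory.Limits AlgebraicGeometry TopologicalSpace Opposite

noncomputable section

namespace Groth.Agent.Lib.Lead.AmpFam

open RefHull Groth.Agent.Lib.Lead.RH Groth.Agent.Lib.Lead.RefGrp Groth.Agent.Lib.Lead.RefExt
open Groth.Agent.Lib.Lead.RefRank Groth.Agent.Lib.Lead.InvExt Groth.Agent.Lib.Lead.LocFact
open Groth.Agent.Lib.helper16.CohStalk Groth.Agent.Lib.helper16.CohFinite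
open Groth.Agent.Lib.helper21.StalkGen Groth.Agent.Lib.helper11.IsoLocus
open Groth.Agent.Lib.helper7.IdealMod
open Scheme.Modules

variable {X : Scheme.{u}}

/-- the map on sections over `W` of a morphism of modules, as a linear map -/
def appₗ {M N : X.Modules} (φ : M ⟶ N) (W : X.Opens) : Γ(M, W) →ₗ[Γ(X, W)] Γ(N, W) where
  toFun := (φ.app W).hom
  map_add' := map_add _
  map_smul' r m := Hom.app_smul φ r m

@[simp] theorem appₗ_apply {M N : X.Modules} (φ : M ⟶ N) (W : X.Opens) (m : Γ(M, W)) :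
    appₗ φ W m = (φ.app W).hom m := rfl

variable [IsLocallyNoetherian X]

/-- the dual of a coherent module is free of rank one at factorial points in the closure of the invertible locus -/
theorem isR1At_dual_of_ufd {G : X.Modules} (hG : Coh.IsCoh G) (U : X.Opens)
    (hU : ∀ y ∈ U, IsR1At G y) (x : X) (hx : x ∈ closure (U : Set X))
    [IsDomain (X.presheaf.stalk x)] [UniqueFactorizationMonoid (X.presheaf.stalk x)] :
    IsR1At (dual G) x := by
  obtain ⟨W, -, hW, hxW, hdom⟩ := Groth.Agent.Lib.Helper12.WNorm.exists_isDomain_nbhd x ⊤ trivial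
  haveI := hdom
  obtain ⟨y, hyW, hyU⟩ := mem_closure_iff.1 hx (W : Set X) W.isOpen hxW
  have hN : Coh.IsCoh (dual G) := dual_isCoh G hG
  haveI : (dual G).IsQuasicoherent := hN.1
  have hy : IsR1At (dual G) y := isR1At_dual hG (hU y hyU)
  have hrk : Module.finrank (X.presheaf.stalk x) ((dual G).presheaf.stalk x) = 1 := by
    rw [finrank_stalk_eq_sections' (dual G) hW x hxW, ← finrank_stalk_eq_sections' (dual G) hW y hyW]
    exact hy.2
  haveI : Module.IsReflexive (X.presheaf.stalk x) ((dual G).presheaf.stalk x) := by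
    obtain ⟨e⟩ := exists_stalkUnitEquiv (X := X) x
    haveI := finite_stalk_of_isCoh G hG x
    haveI : Module.Finite (X.presheaf.stalk x) ((Coh.structureModule X).presheaf.stalk x) :=
      Module.Finite.equiv e.symm
    haveI : Module.IsReflexive (X.presheaf.stalk x) ((Coh.structureModule X).presheaf.stalk x) :=
      Module.equiv e.symm
    haveI := Groth.Agent.Lib.Lead.ReflHom.isReflexive_linearMap (R := X.presheaf.stalk x)
      (G.presheaf.stalk x) ((Coh.structureModule X).presheaf.stalk x)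
    exact Module.equiv (dualStalkEquiv hG x).symm
  haveI := finite_stalk_of_isCoh (dual G) hN x
  exact ⟨free_of_isReflexive_of_finrank_eq_one ((dual G).presheaf.stalk x) hrk, hrk⟩

section Ideal

variable (Z : Closeds X)

/-- the ideal sheaf of functions vanishing on `Z` -/
abbrev IZ : X.IdealSheafData := Scheme.IdealSheafData.vanishingIdeal Z

/-- the ideal sheaf of `Z` as a module -/
abbrev GZ : X.Modules := ClSub.idealMod (IZ Z)

/-- its inclusion into `O_X` -/
abbrev ιZ : GZ Z ⟶ Coh.structureModule X := ClSub.idealModι (IZ Z)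

theorem mem_support_IZ_iff (y : X) : y ∈ (IZ Z).support ↔ y ∈ Z := by
  rw [← SetLike.mem_coe, Scheme.IdealSheafData.coe_support_vanishingIdeal]
  rfl

theorem bijective_stalkMapₗ_ιZ (y : X) (hy : y ∉ Z) : Function.Bijective (stalkMapₗ (ιZ Z) y) :=
  Groth.Agent.Lib.Helper18.SubB.stalkAdd_idealModι_bijective (IZ Z) y
    (fun h => hy ((mem_support_IZ_iff Z y).1 h))

theorem isCoh_GZ : Coh.IsCoh (GZ Z) := Groth.Agent.Lib.helper7.KerTensor.isCoh_idealMod (IZ Z)

theorem isR1At_GZ (y : X) (hy : y ∉ Z) : IsR1At (GZ Z) y :=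
  (isR1At_unit y).of_linearEquiv
    (LinearEquiv.ofBijective (stalkMapₗ (ιZ Z) y) (bijective_stalkMapₗ_ιZ Z y hy)).symm

/-- the canonical section of `Hom(I_Z, O_X)`: the inclusion -/
def σZ : Γ(dual (GZ Z), ⊤) := ofHom (ιZ Z) ⊤

theorem span_germ_σZ (y : X) (hy : y ∉ Z) :
    Submodule.span (X.presheaf.stalk y) {(dual (GZ Z)).presheaf.germ ⊤ y trivial (σZ Z)} = ⊤ := by
  rw [eq_top_iff]
  intro m _
  let E := dualStalkEquiv (isCoh_GZ Z) y
  have hE : E ((dual (GZ Z)).presheaf.germ ⊤ y trivial (σZ Z)) = stalkMapₗ (ιZ Z) y :=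
    evalStalk_germ (GZ Z) (Coh.structureModule X) (U := ⊤) y (Opens.mem_top y) (σZ Z)
  let ιy := LinearEquiv.ofBijective (stalkMapₗ (ιZ Z) y) (bijective_stalkMapₗ_ιZ Z y hy)
  set g1 := (Coh.structureModule X).presheaf.germ ⊤ y trivial (oneSec ⊤) with hg1
  have hspan := span_germ_oneSec (X := X) y
  obtain ⟨r, hr⟩ : ∃ r : X.presheaf.stalk y, r • g1 = (E m) (ιy.symm g1) :=
    Submodule.mem_span_singleton.1 (hspan ▸ Submodule.mem_top)
  have h2 : E m = r • stalkMapₗ (ιZ Z) y := by
    refine LinearMap.ext fun v => ?_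
    obtain ⟨c, hc⟩ : ∃ c : X.presheaf.stalk y, c • g1 = ιy v :=
      Submodule.mem_span_singleton.1 (hspan ▸ Submodule.mem_top)
    have hv : v = c • ιy.symm g1 := by
      rw [← LinearEquiv.map_smul, hc, LinearEquiv.symm_apply_apply]
    have hιv : stalkMapₗ (ιZ Z) y v = c • g1 := hc.symm
    rw [LinearMap.smul_apply, hιv, hv, LinearMap.map_smul, ← hr, smul_comm]
  have h3 : m = r • (dual (GZ Z)).presheaf.germ ⊤ y trivial (σZ Z) :=
    E.injective (by rw [LinearEquiv.map_smul, hE, h2])
  rw [h3]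
  exact Submodule.smul_mem _ _ (Submodule.subset_span rfl)

/-- the inclusion is the linear form attached to the canonical section -/
theorem appLin_σZ (W : X.Opens) :
    appLin (GZ Z) (Coh.structureModule X)
      ((dual (GZ Z)).presheaf.map (homOfLE (le_top : W ≤ ⊤)).op (σZ Z)) = appₗ (ιZ Z) W := by
  refine LinearMap.ext fun m => ?_
  symm
  refine appSec_ext (GZ Z) (Coh.structureModule X) _ m _ fun y hy => ?_
  exact (stalkMapₗ_germ (ιZ Z) y hy m).symm

/-- over an affine open inside the locus where the canonical section generates, every linear form on the sections of the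
ideal is a multiple of the inclusion -/
theorem exists_smul_eq_of_le_isoLocus {W : X.Opens} (hW : IsAffineOpen W)
    (hle : W ≤ isoLocus (secHom (dual (GZ Z)) (σZ Z)))
    (φ : Γ(GZ Z, W) →ₗ[Γ(X, W)] Γ(Coh.structureModule X, W)) :
    ∃ r : Γ(X, W), φ = r • appₗ (ιZ Z) W := by
  let t : Γ(dual (GZ Z), W) := (secEquiv (GZ Z) (Coh.structureModule X) hW).symm φ
  have hiso := isIso_app_of_le_isoLocus (secHom (dual (GZ Z)) (σZ Z)) hle
  rw [ConcreteCategory.isIso_iff_bijective] at hiso
  obtain ⟨r', hr⟩ := hiso.2 t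
  let r : Γ(X, W) := r'
  refine ⟨r, ?_⟩
  have h1 : r • ((dual (GZ Z)).presheaf.map (homOfLE (le_top : W ≤ ⊤)).op (σZ Z) :
      Γ(dual (GZ Z), W)) = t := hr
  have h2 : secEquiv (GZ Z) (Coh.structureModule X) hW t = φ := LinearEquiv.apply_symm_apply _ _
  rw [← h2, ← h1, LinearEquiv.map_smul]
  congr 1
  exact appLin_σZ Z W

/-- **purity**: an affine open with a domain of sections on which the canonical section generates, and which meets `U`
in a nonempty affine open containing `W \ Z`, lies in `U` -/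
theorem le_of_le_isoLocus (hdom : ∀ y : X, IsDomain (X.presheaf.stalk y)) (U : X.Opens)
    (hUZ : ∀ y ∈ U, y ∉ Z) {W : X.Opens} (hW : IsAffineOpen W) [IsDomain Γ(X, W)]
    (hWU : IsAffineOpen (W ⊓ U)) (hne : ∃ u : X, u ∈ W ∧ u ∈ U)
    (hWZ : ∀ w ∈ W, w ∉ Z → w ∈ U)
    (hle : W ≤ isoLocus (secHom (dual (GZ Z)) (σZ Z))) : W ≤ U := by
  haveI : IsNoetherianRing Γ(X, W) := IsLocallyNoetherian.component_noetherian ⟨W, hW⟩
  obtain ⟨ξ, hξW, hsp, hξf⟩ := exists_generic hW
  obtain ⟨u, huW, huU⟩ := hne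
  have hξU : ξ ∈ U := (hsp u huW).mem_open U.2 huU
  have hξWU : ξ ∈ W ⊓ U := ⟨hξW, hξU⟩
  haveI := hdom ξ
  letI : Algebra Γ(X, W) (X.presheaf.stalk ξ) := (X.presheaf.germ W ξ hξW).hom.toAlgebra
  have halg : ∀ a : Γ(X, W), algebraMap Γ(X, W) (X.presheaf.stalk ξ) a =
      (X.presheaf.germ W ξ hξW).hom a := fun _ => rfl
  have hinj : Function.Injective (algebraMap Γ(X, W) (X.presheaf.stalk ξ)) :=
    germ_injective_of_forall_specializes hdom ξ hξW hsp
  have hinj' : Function.Injective (X.presheaf.germ (W ⊓ U) ξ hξWU).hom :=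
    germ_injective_of_forall_specializes hdom ξ hξWU fun w hw => hsp w hw.1
  let ι : Γ(GZ Z, W) →ₗ[Γ(X, W)] Γ(X, W) := appₗ (ιZ Z) W
  have hιmem : ∀ m, ι m ∈ (IZ Z).ideal ⟨W, hW⟩ := fun m => idealModι_app_mem (IZ Z) ⟨W, hW⟩ m
  -- points of basic opens of elements of the ideal avoid `Z`
  have hbasic : ∀ f ∈ (IZ Z).ideal ⟨W, hW⟩, ∀ w ∈ X.basicOpen f, w ∈ W ∧ w ∈ U := by
    intro f hf w hw
    have hwW : w ∈ W := X.basicOpen_le f hw
    refine ⟨hwW, hWZ w hwW fun hwZ => ?_⟩
    have h1 : w ∈ (IZ Z).support := (mem_support_IZ_iff Z w).2 hwZ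
    rw [Scheme.IdealSheafData.mem_support_iff_of_mem (U := ⟨W, hW⟩) hwW,
      Scheme.mem_zeroLocus_iff] at h1
    exact h1 f hf hw
  have hne' : ∃ m, ι m ≠ 0 := by
    by_contra hcon
    push Not at hcon
    have hzero : ∀ f ∈ (IZ Z).ideal ⟨W, hW⟩, f = 0 := by
      intro f hf
      obtain ⟨m, hm⟩ := (mem_range_idealModι_iff_of_affine (IZ Z) ⟨W, hW⟩ f).2 hf
      rw [← hm]
      exact hcon m
    have h1 : u ∈ (IZ Z).support := by
      rw [Scheme.IdealSheafData.mem_support_iff_of_mem (U := ⟨W, hW⟩) huW,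
        Scheme.mem_zeroLocus_iff]
      intro f hf
      rw [hzero f hf, Scheme.basicOpen_zero]
      exact fun h => h
    exact hUZ u huU ((mem_support_IZ_iff Z u).1 h1)
  have H : ∀ φ : Γ(GZ Z, W) →ₗ[Γ(X, W)] Γ(X, W), ∃ r : Γ(X, W), φ = r • ι :=
    fun φ => exists_smul_eq_of_le_isoLocus Z hW hle φ
  -- the restriction `Γ(W) → Γ(W ⊓ U)` is bijective
  have hbij : Function.Bijective (X.presheaf.map (homOfLE (inf_le_left : W ⊓ U ≤ W)).op).hom := by
    constructor
    · intro a a' haa
      apply hinj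
      rw [halg, halg, ← TopCat.Presheaf.germ_res_apply X.presheaf (homOfLE (inf_le_left : W ⊓ U ≤ W))
        ξ hξWU a, ← TopCat.Presheaf.germ_res_apply X.presheaf (homOfLE (inf_le_left : W ⊓ U ≤ W))
        ξ hξWU a']
      exact congrArg _ haa
    · intro b
      have hb : ∀ m : Γ(GZ Z, W), ∃ (n : ℕ) (a : Γ(X, W)),
          algebraMap Γ(X, W) (X.presheaf.stalk ξ) (ι m) ^ n *
            (X.presheaf.germ (W ⊓ U) ξ hξWU).hom b = algebraMap Γ(X, W) (X.presheaf.stalk ξ) a := by
        intro m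
        by_cases hf0 : ι m = 0
        · exact ⟨1, 0, by rw [hf0, map_zero, pow_one, zero_mul]⟩
        set f := ι m with hf
        have hD : X.basicOpen f ≤ W ⊓ U := fun w hw => hbasic f (hιmem m) w hw
        haveI := hW.isLocalization_basicOpen f
        obtain ⟨n, a, hna⟩ := IsLocalization.Away.surj f
          ((X.presheaf.map (homOfLE hD).op).hom b)
        refine ⟨n, a, ?_⟩
        have hξD : ξ ∈ X.basicOpen f := hξf f hf0
        have h1 := congrArg (X.presheaf.germ (X.basicOpen f) ξ hξD).hom hna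
        rw [map_mul, map_pow] at h1
        have e1 : (X.presheaf.germ (X.basicOpen f) ξ hξD).hom ((X.presheaf.map (homOfLE hD).op).hom b) =
            (X.presheaf.germ (W ⊓ U) ξ hξWU).hom b :=
          TopCat.Presheaf.germ_res_apply X.presheaf (homOfLE hD) ξ hξD b
        have e2 : ∀ c : Γ(X, W), (X.presheaf.germ (X.basicOpen f) ξ hξD).hom
            (algebraMap Γ(X, W) Γ(X, X.basicOpen f) c) = (X.presheaf.germ W ξ hξW).hom c := fun c =>
          TopCat.Presheaf.germ_res_apply X.presheaf (homOfLE (X.basicOpen_le f)) ξ hξD c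
        rw [e1, e2, e2] at h1
        rw [halg, halg, mul_comm]
        exact h1
      obtain ⟨a, ha⟩ := mem_range_of_forall_pow_mul_mem hinj ι hne' H _ hb
      refine ⟨a, hinj' ?_⟩
      rw [← ha, halg]
      exact TopCat.Presheaf.germ_res_apply X.presheaf (homOfLE (inf_le_left : W ⊓ U ≤ W)) ξ hξWU a
  exact (le_of_bijective_res hWU hW inf_le_left hbij).trans inf_le_right

end Ideal

end Groth.Agent.Lib.Lead.AmpFam
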