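import Mathlib
import Groth.Agent.Lib.Lead.AmpFam3
import Groth.Agent.Lib.Lead.ModTensor
import Groth.Agent.Lib.Helper11.HensGamma
import Groth.Prelude.Def_MoreMor

/-!
# Ample families on locally factorial schemes, part 4: divisorial schemes (lead; S4271, S4272, S1109)

`X` locally Noetherian with factorial local rings and affine diagonal.
* `isOpen_closure_of_domains`: the closure of an open is open when the local rings are domains.
* `isUnit_of_span_smul_eq_top`.
* `exists_invertible_isoLocus_eq`: every affine open `U` is `X_s` for a section `s` of an invertible module `L`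
  (`L = Hom(I, O_X)` for `I` the ideal of `closure U \ U`, `s` = the inclusion times the idempotent of `closure U`).
* `hasAmpleFamily_of_locallyFactorial`: hence `X`, if quasi-compact, has an ample family of invertible modules.
-/

set_option autoImplicit false
set_option backward.isDefEq.respectTransparency false
set_option linter.style.haveILetI false
set_option linter.unusedSectionVars false
universe u

open CategoryTheory CategoryTheory.Limits AlgebraicGeometry TopologicalSpace Opposite

noncomputable section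

namespace Groth.Agent.Lib.Lead.AmpFam

open RefHull Groth.Agent.Lib.Lead.RH Groth.Agent.Lib.Lead.RefGrp Groth.Agent.Lib.Lead.RefExt
open Groth.Agent.Lib.Lead.RefRank Groth.Agent.Lib.Lead.InvExt Groth.Agent.Lib.Lead.LocFact
open Groth.Agent.Lib.helper16.CohStalk Groth.Agent.Lib.helper16.CohFinite
open Groth.Agent.Lib.helper21.StalkGen Groth.Agent.Lib.helper11.IsoLocus
open Groth.Agent.Lib.helper7.IdealMod
open Scheme.Modules

variable {X : Scheme.{u}} [IsLocallyNoetherian X]

theorem isOpen_closure_of_domains (hdom : ∀ y : X, IsDomain (X.presheaf.stalk y)) (U : X.Opens) :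
    IsOpen (closure (U : Set X)) := by
  rw [isOpen_iff_forall_mem_open]
  intro x hx
  haveI := hdom x
  obtain ⟨W, -, hW, hxW, hd⟩ := Groth.Agent.Lib.Helper12.WNorm.exists_isDomain_nbhd x ⊤ trivial
  haveI := hd
  obtain ⟨y, hyW, hyU⟩ := mem_closure_iff.1 hx (W : Set X) W.isOpen hxW
  exact ⟨W, subset_closure_of_isDomain hW y hyW hyU, W.isOpen, hxW⟩

/-- a unit multiple of a generator: if `c • g` generates a module which is free of rank one, `c` is a unit -/
theorem isUnit_of_span_smul_eq_top {M : X.Modules} {y : X} (h : IsR1At M y) (c : X.presheaf.stalk y)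
    (g : M.presheaf.stalk y) (hs : Submodule.span (X.presheaf.stalk y) {c • g} = ⊤) : IsUnit c := by
  obtain ⟨E⟩ := nonempty_equiv_of_isR1At h
  obtain ⟨d, hd⟩ : ∃ d : X.presheaf.stalk y, d • (c • g) = E.symm 1 :=
    Submodule.mem_span_singleton.1 (hs ▸ Submodule.mem_top)
  have h1 : d * (c * E g) = 1 := by
    have := congrArg E hd
    rw [LinearEquiv.apply_symm_apply, LinearEquiv.map_smul, LinearEquiv.map_smul, smul_eq_mul,
      smul_eq_mul] at this
    exact this
  exact IsUnit.of_mul_eq_one (d * E g) (by rw [← h1]; ring)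

/-- **an affine open of a locally factorial scheme with affine diagonal is the non-vanishing locus of a section of an
invertible module** -/
theorem exists_invertible_isoLocus_eq
    (hfact : ∀ x : X, ∃ _ : IsDomain (X.presheaf.stalk x),
      UniqueFactorizationMonoid (X.presheaf.stalk x))
    (hdiag : ∀ U V : X.Opens, IsAffineOpen U → IsAffineOpen V → IsAffineOpen (U ⊓ V))
    (U : X.Opens) (hU : IsAffineOpen U) :
    ∃ (L : X.Modules) (s : Coh.structureModule X ⟶ L), PicF.IsInvertible L ∧ isoLocus s = U := by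
  have hdom : ∀ y : X, IsDomain (X.presheaf.stalk y) := fun y => (hfact y).1
  have hCo : IsOpen (closure (U : Set X)) := isOpen_closure_of_domains hdom U
  have hCc : IsClosed (closure (U : Set X)) := isClosed_closure
  let Z : Closeds X := ⟨closure (U : Set X) \ (U : Set X), hCc.sdiff U.2⟩
  have hZ : ∀ y : X, y ∈ Z ↔ y ∈ closure (U : Set X) ∧ y ∉ U := fun y => Iff.rfl
  have hUZ : ∀ y ∈ U, y ∉ Z := fun y hy h => ((hZ y).1 h).2 hy
  let U' : X.Opens := ⟨(Z : Set X)ᶜ, Z.2.isOpen_compl⟩
  have hdense : ∀ x : X, x ∈ closure (U' : Set X) := by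
    intro x
    by_cases hx : x ∈ closure (U : Set X)
    · exact closure_mono (fun y hy => (hUZ y hy : y ∉ Z)) hx
    · exact subset_closure (fun h => hx ((hZ x).1 h).1)
  have hLcoh : Coh.IsCoh (dual (GZ Z)) := dual_isCoh _ (isCoh_GZ Z)
  have hLr1 : ∀ x : X, IsR1At (dual (GZ Z)) x := by
    intro x
    obtain ⟨h1, h2⟩ := hfact x
    haveI := h1
    haveI := h2
    exact isR1At_dual_of_ufd (isCoh_GZ Z) U' (fun y hy => isR1At_GZ Z y hy) x (hdense x)
  have hLinv : PicF.IsInvertible (dual (GZ Z)) :=
    isInvertible_of_forall_isR1At _ hLcoh hLr1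
  obtain ⟨e, -, he⟩ := Groth.Agent.Lib.helper11.HensGamma.exists_idempotent_of_isClopen
    (closure (U : Set X)) ⟨hCc, hCo⟩
  let τ : Γ(dual (GZ Z), ⊤) := e • σZ Z
  have hgerm : ∀ y : X, (dual (GZ Z)).presheaf.germ ⊤ y trivial τ =
      X.presheaf.germ ⊤ y trivial e • (dual (GZ Z)).presheaf.germ ⊤ y trivial (σZ Z) :=
    fun y => Mero.germ_smul (dual (GZ Z)) ⊤ y trivial e (σZ Z)
  have hunit : ∀ y : X, y ∈ closure (U : Set X) ↔ IsUnit (X.presheaf.germ ⊤ y trivial e) := by
    intro y
    rw [← he]
    exact X.mem_basicOpen_top e y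
  refine ⟨dual (GZ Z), secHom _ τ, hLinv, le_antisymm ?_ ?_⟩
  · intro y hy
    have hbij := bijective_stalkMapₗ_of_mem_isoLocus _ hy
    rw [bijective_stalkMapₗ_secHom_iff _ τ y (hLr1 y), hgerm] at hbij
    have hyC : y ∈ closure (U : Set X) :=
      (hunit y).2 (isUnit_of_span_smul_eq_top (hLr1 y) _ _ hbij)
    by_contra hyU
    -- the open where `τ` generates, inside the closure of `U`
    let O : X.Opens := isoLocus (secHom (dual (GZ Z)) τ) ⊓ ⟨closure (U : Set X), hCo⟩
    have hO : O ≤ isoLocus (secHom (dual (GZ Z)) (σZ Z)) := by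
      refine le_isoLocus_of_bijective _ O fun w hw => ?_
      have hb := bijective_stalkMapₗ_of_mem_isoLocus _ hw.1
      rw [bijective_stalkMapₗ_secHom_iff _ τ w (hLr1 w), hgerm,
        Submodule.span_singleton_smul_eq ((hunit w).1 hw.2)] at hb
      rw [bijective_stalkMapₗ_secHom_iff _ (σZ Z) w (hLr1 w)]
      exact hb
    haveI := hdom y
    obtain ⟨W, hWO, hW, hyW, hd⟩ :=
      Groth.Agent.Lib.Helper12.WNorm.exists_isDomain_nbhd y O ⟨hy, hyC⟩
    haveI := hd
    have hne : ∃ u : X, u ∈ W ∧ u ∈ U := mem_closure_iff.1 hyC (W : Set X) W.isOpen hyW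
    have hWZ : ∀ w ∈ W, w ∉ Z → w ∈ U := by
      intro w hw hwZ
      by_contra hwU
      exact hwZ ((hZ w).2 ⟨(hWO hw).2, hwU⟩)
    exact hyU (le_of_le_isoLocus Z hdom U hUZ hW (hdiag W U hW hU) hne hWZ (hWO.trans hO) hyW)
  · refine le_isoLocus_of_bijective _ U fun y hy => ?_
    rw [bijective_stalkMapₗ_secHom_iff _ τ y (hLr1 y), hgerm,
      Submodule.span_singleton_smul_eq ((hunit y).1 (subset_closure hy))]
    exact span_germ_σZ Z y (hUZ y hy)

/-- a quasi-compact locally Noetherian scheme with factorial local rings and affine diagonal has an ample family -/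
theorem hasAmpleFamily_of_locallyFactorial [CompactSpace X]
    (hfact : ∀ x : X, ∃ _ : IsDomain (X.presheaf.stalk x),
      UniqueFactorizationMonoid (X.presheaf.stalk x))
    (hdiag : ∀ U V : X.Opens, IsAffineOpen U → IsAffineOpen V → IsAffineOpen (U ⊓ V)) :
    MoreMor.HasAmpleFamily X := by
  refine ⟨inferInstance, fun x => ?_⟩
  obtain ⟨U, hU, hxU, -⟩ := Opens.isBasis_iff_nbhd.mp X.isBasis_affineOpens (Opens.mem_top x)
  obtain ⟨L, s, hL, hs⟩ := exists_invertible_isoLocus_eq hfact hdiag U hU
  have h1 : CohB1.genLocus (CohB1.tensorPow L 1)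
      (s ≫ (Groth.Agent.Lib.Lead.ModTensor.tensorPowOne L).inv) = U := by
    rw [genLocus_eq_isoLocus, isoLocus_comp_of_isIso_right, hs]
  refine ⟨L, 1, s ≫ (Groth.Agent.Lib.Lead.ModTensor.tensorPowOne L).inv, hL, le_refl _, ?_, ?_⟩
  · rw [h1]; exact hxU
  · rw [h1]; exact hU

end Groth.Agent.Lib.Lead.AmpFam
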