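import Mathlib
import Groth.Prelude.Def_BrSev
import Groth.Agent.Lib.Helper25.PullTensorIso
import Groth.Agent.Lib.Helper28.TwistPn
import Groth.Agent.Lib.Helper12.TensorCocont
import Groth.Agent.Lib.Helper20.TensorEquiv

/-!
# Tensor products of isotypical modules of twisting type (lead; S14204)

* `tensorRightFinSigmaIso N f : (∐_{Fin r} f) ⊗ N ≅ ∐ (f i ⊗ N)`; `powTensorPowIso A B r s : A^r ⊗ B^s ≅ (A ⊗ B)^{rs}`.
* `twistTensorIso e j l : O_e(j) ⊗ O_e(l) ≅ O_e(j + l)` for a `BrSev.Splitting e` (helper25 `pullTensorIso` + helper28 `TwistPn.tensorIso`).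
* `isTwPow_tensorMod`: `W_K ≅ O_e(j)^r`, `W'_K ≅ O_e(l)^s` ⇒ `(W ⊗ W')_K ≅ O_e(j+l)^{rs}` (= S14204).
-/

set_option autoImplicit false
set_option linter.style.haveILetI false
set_option linter.unusedSectionVars false

universe u
open CategoryTheory CategoryTheory.Limits AlgebraicGeometry Opposite TopologicalSpace

namespace Groth.Agent.Lib.Lead.BrSevT

open Groth.Agent.Lib.Lead.ModTensor Groth.Agent.Lib.Helper20.TensorEquiv
  Groth.Agent.Lib.helper12.TensorCocont

section Gen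

variable {Y : Scheme.{u}}

/-- `(∐_{Fin r} A) ⊗ N ≅ ∐_{Fin r} (A ⊗ N)` -/
noncomputable def tensorRightFinSigmaIso (N : Y.Modules) {r : ℕ} (f : Fin r → Y.Modules) :
    CohB1.tensorMod (∐ f) N ≅ ∐ fun i => CohB1.tensorMod (f i) N :=
  haveI : PreservesColimitsOfSize.{0, 0} (tensorRight N) :=
    preservesSmallestColimits_of_preservesColimits.{u, u} _
  PreservesCoproduct.iso (tensorRight N) f

/-- `A^r ⊗ B^s ≅ (A ⊗ B)^{rs}` -/
noncomputable def powTensorPowIso (A B : Y.Modules) (r s : ℕ) :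
    CohB1.tensorMod (BrSev.pow A r) (BrSev.pow B s) ≅ BrSev.pow (CohB1.tensorMod A B) (r * s) :=
  tensorRightFinSigmaIso (BrSev.pow B s) (fun _ : Fin r => A) ≪≫
    Sigma.mapIso (fun _ : Fin r => braid A (BrSev.pow B s) ≪≫
      tensorRightFinSigmaIso A (fun _ : Fin s => B) ≪≫
      Sigma.mapIso (fun _ : Fin s => braid B A)) ≪≫
    sigmaSigmaIso (fun _ : Fin r => Fin s) (fun _ _ => CohB1.tensorMod A B) ≪≫
    (Sigma.reindex ((Equiv.sigmaEquivProd (Fin r) (Fin s)).trans finProdFinEquiv).symm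
      (fun _ : (Σ _ : Fin r, Fin s) => CohB1.tensorMod A B)).symm

end Gen

section BS

open Groth.Agent.Lib.Helper25.PullTensorIso

variable {k : Type u} [Field k] {X : Scheme.{u}} {p : X ⟶ Spec (CommRingCat.of k)}
  {K : Type u} [Field K] [Algebra k K] {n : ℕ}

/-- `O_e(j) ⊗ O_e(l) ≅ O_e(j + l)` -/
noncomputable def twistTensorIso (e : BrSev.Splitting p K n) (j l : ℤ) :
    CohB1.tensorMod (e.twist j) (e.twist l) ≅ e.twist (j + l) :=
  (pullTensorIso e.iso.hom (Twist.twistProjSpace n K j) (Twist.twistProjSpace n K l)).symm ≪≫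
    (Scheme.Modules.pullback e.iso.hom).mapIso (Groth.Agent.Lib.helper28.TwistPn.tensorIso n K j l)

theorem isTwPow_tensorMod (e : BrSev.Splitting p K n) (j l : ℤ) (r s : ℕ) (W W' : X.Modules)
    (hW : BrSev.IsTwPow e j r W) (hW' : BrSev.IsTwPow e l s W') :
    BrSev.IsTwPow e (j + l) (r * s) (CohB1.tensorMod W W') := by
  obtain ⟨e1⟩ := hW
  obtain ⟨e2⟩ := hW'
  exact ⟨pullTensorIso (BrSev.proj p K) W W' ≪≫ tensorIso e1 e2 ≪≫
    powTensorPowIso (e.twist j) (e.twist l) r s ≪≫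
    Sigma.mapIso (fun _ => twistTensorIso e j l)⟩

end BS

end Groth.Agent.Lib.Lead.BrSevT
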