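import Mathlib
import Groth.Agent.Lib.Helper11.FibLift2
import Groth.Agent.Lib.Helper21.FLFDual2
import Groth.Agent.Lib.Helper12.InvDual2

/-!
# Duals of finite locally free modules: biproducts, inverses, pullback (lead)

`dualMod E = ℋom(E, O)` (helper12), `dualMap` (helper21, contravariant, additive).
* `dualMap_zero`, `dualIso e : dualMod E' ≅ dualMod E`.
* `dualBiproductIso f : dualMod (⨁ f) ≅ ⨁ dualMod (f i)`, `dualPowIso L r : dualMod (L^r) ≅ (dualMod L)^r`.
* `dualInvIso hL e : dualMod L ≅ L'` for `L` invertible with `e : L ⊗ L' ≅ O`.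
* `pullDualIso g hF : g^*(dualMod F) ≅ dualMod (g^*F)` for `F` finite locally free (from helper11 `pullTensDualIso`).
-/

set_option autoImplicit false
set_option linter.style.haveILetI false
set_option linter.unusedSectionVars false

universe u
open CategoryTheory CategoryTheory.Limits AlgebraicGeometry Opposite TopologicalSpace

namespace Groth.Agent.Lib.Lead.DualFLF

open Groth.Agent.Lib.Lead.ModTensor Groth.Agent.Lib.helper21.FLFDual
  Groth.Agent.Lib.helper12.InvDual

attribute [local instance] Abelian.hasFiniteBiproducts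

variable {Y : Scheme.{u}}

theorem dualMap_zero {E E' : Y.Modules} : dualMap (0 : E' ⟶ E) = 0 := by
  have := dualMap_sum (E := E) (E' := E') (∅ : Finset Unit) (fun _ => (0 : E' ⟶ E))
  simpa using this

/-- the dual of an isomorphism -/
noncomputable def dualIso {E E' : Y.Modules} (e : E ≅ E') : dualMod E' ≅ dualMod E where
  hom := dualMap e.hom
  inv := dualMap e.inv
  hom_inv_id := by rw [← dualMap_comp, e.inv_hom_id, dualMap_id]
  inv_hom_id := by rw [← dualMap_comp, e.hom_inv_id, dualMap_id]

/-- the dual of a finite biproduct -/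
noncomputable def dualBiproductIso {r : ℕ} (f : Fin r → Y.Modules) :
    dualMod (⨁ f) ≅ ⨁ fun i => dualMod (f i) where
  hom := biproduct.lift (fun i => dualMap (biproduct.ι f i))
  inv := biproduct.desc (fun i => dualMap (biproduct.π f i))
  hom_inv_id := by
    rw [biproduct.lift_desc]
    simp_rw [← dualMap_comp]
    rw [← dualMap_sum, biproduct.total, dualMap_id]
  inv_hom_id := by
    apply biproduct.hom_ext'
    intro i
    apply biproduct.hom_ext
    intro j
    simp only [Category.assoc, biproduct.ι_desc_assoc, biproduct.lift_π, Category.comp_id]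
    rw [← dualMap_comp]
    by_cases h : j = i
    · subst h
      rw [biproduct.ι_π_self, biproduct.ι_π_self, dualMap_id]
    · rw [biproduct.ι_π_ne _ h, biproduct.ι_π_ne _ (Ne.symm h), dualMap_zero]

/-- the dual of a finite direct power -/
noncomputable def dualPowIso (L : Y.Modules) (r : ℕ) :
    dualMod (∐ fun _ : Fin r => L) ≅ ∐ fun _ : Fin r => dualMod L :=
  dualIso (biproduct.isoCoproduct (fun _ : Fin r => L)) ≪≫
    dualBiproductIso (fun _ : Fin r => L) ≪≫
    biproduct.isoCoproduct (fun _ : Fin r => dualMod L)

/-- the dual of an invertible module is its tensor inverse -/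
noncomputable def dualInvIso {L L' : Y.Modules} (hL : PicF.IsInvertible L)
    (e : CohB1.tensorMod L L' ≅ Coh.structureModule Y) : dualMod L ≅ L' :=
  haveI := isIso_evMod hL
  (rightUnitor (dualMod L)).symm ≪≫ tensorIso (Iso.refl (dualMod L)) e.symm ≪≫
    (assoc (dualMod L) L L').symm ≪≫ tensorIso (asIso (evMod L)) (Iso.refl L') ≪≫ leftUnitor L'

/-- pullback commutes with duals of finite locally free modules -/
noncomputable def pullDualIso {X' : Scheme.{u}} (g : X' ⟶ Y) {F : Y.Modules}
    (hF : FlatMod.IsFinLocFree F) :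
    (Scheme.Modules.pullback g).obj (dualMod F) ≅ dualMod ((Scheme.Modules.pullback g).obj F) :=
  (Scheme.Modules.pullback g).mapIso (leftUnitor (dualMod F)).symm ≪≫
    (Groth.Agent.Lib.helper11.FibLift.pullTensDualIso g hF).app (Coh.structureModule Y) ≪≫
    tensorIso (Groth.Agent.Lib.helper11.InvMod.pullbackUnitIso g) (Iso.refl _) ≪≫ leftUnitor _

end Groth.Agent.Lib.Lead.DualFLF
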