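import Mathlib
import Groth.Agent.Lib.Lead.HomBC3
import Groth.Agent.Lib.Helper16.FLF4
import Groth.Agent.Lib.Helper16.FLF5

/-!
# Absolutely isotypical bundles: descent of the isotypical decomposition (lead)

Setting of `HomBC3` (`p : X ⟶ Spec k` proper, `K / k` a field extension).
* `sigma_retract`: a summand of a finite coproduct is a retract.
* `mult_pow`, `summand_of_pow`: in a Krull–Schmidt class, `∐ As ≅ W^r` with `W` indecomposable ⇒ `As i ≅ W^{r_i}`.
* `exists_pow_of_isotypical`: `E ≠ 0` finite locally free with `E_K ≅ L^r`, `L` invertible indecomposable ⇒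
  `E ≅ G^n` with `G` indecomposable finite locally free.
* `unique_pow`: `E ≅ G^n ≅ G'^m`, `E ≠ 0` finite locally free, `G`, `G'` indecomposable ⇒ `G ≅ G'` (= S13689).
-/

set_option autoImplicit false
set_option linter.style.haveILetI false
set_option linter.unusedSectionVars false

universe u u₁ v₁
open CategoryTheory CategoryTheory.Limits AlgebraicGeometry Opposite TopologicalSpace TensorProduct

namespace Groth.Agent.Lib.Lead.HomBC

open W4c1astiltbs12 Groth.Agent.Lib.Lead.KS Groth.Agent.Lib.Lead.NoriFin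

attribute [local instance] Abelian.hasFiniteBiproducts

section Gen

variable {C : Type u₁} [Category.{v₁} C] [Abelian C]

/-- a summand of a finite coproduct is a retract -/
theorem sigma_retract {n : ℕ} (Fs : Fin n → C) (j : Fin n) :
    ∃ r : (∐ Fs) ⟶ Fs j, Sigma.ι Fs j ≫ r = 𝟙 _ := by
  classical
  refine ⟨Sigma.desc (fun l => if h : l = j then eqToHom (by rw [h]) else 0), ?_⟩
  simp

variable {P : C → Prop} (h : KSClass P)

include h in
open Classical in
theorem mult_pow {W : C} (hW : P W) (hi : Indec W) (r : ℕ) (c : Cls C) :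
    mult h (∐ fun _ : Fin r => W) c = if cls W = c then r else 0 := by
  rw [mult_sigma h _ (fun _ => hW)]
  simp only [mult_indec h hW hi]
  split_ifs <;> simp

include h in
/-- in a Krull–Schmidt class, if `∐ As ≅ W^r` with `W` indecomposable then each `As i ≅ W^{r_i}` -/
theorem summand_of_pow {W : C} (hW : P W) (hi : Indec W) {n : ℕ} (As : Fin n → C)
    (hAs : ∀ i, P (As i)) (r : ℕ) (e : (∐ As) ≅ ∐ fun _ : Fin r => W) (i : Fin n) :
    ∃ ri : ℕ, Nonempty (As i ≅ ∐ fun _ : Fin ri => W) := by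
  classical
  refine ⟨mult h (As i) (cls W), ?_⟩
  refine nonempty_iso_of_mult_eq h (hAs i) (P_sigma h _ (fun _ => hW)) ?_
  intro c
  rw [mult_pow h hW hi]
  by_cases hc : cls W = c
  · rw [if_pos hc, hc]
  · rw [if_neg hc]
    have h1 := mult_congr h (P_sigma h As hAs) e c
    rw [mult_pow h hW hi, if_neg hc, mult_sigma h As hAs] at h1
    exact Finset.sum_eq_zero_iff.mp h1 i (Finset.mem_univ _)

end Gen

section ASB

variable (k : Type u) [Field k] {X : Scheme.{u}} (p : X ⟶ Spec (CommRingCat.of k))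
  (K : Type u) [Field K] [Algebra k K] [IsProper p]

theorem exists_pow_of_isotypical (E : X.Modules) (hE : FlatMod.IsFinLocFree E) (hE0 : ¬ IsZero E)
    (L : (W4bk4gw11416.baseChange p K).Modules) (hL : PicF.IsInvertible L) (hLi : Indec L)
    (r : ℕ) (e : bcMod p K E ≅ pow L r) :
    ∃ (G : X.Modules) (n : ℕ), FlatMod.IsFinLocFree G ∧ Indec G ∧ Nonempty (E ≅ pow G n) := by
  have hEc := Groth.Agent.Lib.Lead.RankAdd.isCoh_of_isFinLocFree hE
  obtain ⟨n, Fs, hFs, ⟨eE⟩⟩ := (ksClass k p).ex E hEc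
  have hn : 0 < n := by
    rcases Nat.eq_zero_or_pos n with h0 | h0
    · exfalso
      subst h0
      exact hE0 ((Groth.Agent.Lib.Lead.SerreFin.isInitialSigmaOfIsEmpty Fs).isZero.of_iso eE)
    · exact h0
  -- each summand is finite locally free
  have hFLF : ∀ i, FlatMod.IsFinLocFree (Fs i) := by
    intro i
    obtain ⟨ρ, hρ⟩ := sigma_retract Fs i
    exact Groth.Agent.Lib.helper16.FLF.isFinLocFree_of_retract hE (Sigma.ι Fs i ≫ eE.inv)
      (eE.hom ≫ ρ) (by simp [hρ])
  -- Krull–Schmidt on `X_K`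
  have hK : KSClass (C := (W4bk4gw11416.baseChange p K).Modules) Coh.IsCoh :=
    ksClass K (pullback.snd p (Spec.map (CommRingCat.ofHom (algebraMap k K))))
  have hLc : Coh.IsCoh L := Groth.Agent.Lib.Lead.RankAdd.isCoh_of_isFinLocFree
    (Groth.Agent.Lib.helper16.FLF.isFinLocFree_of_isInvertible hL)
  have hbc : ∀ i, Coh.IsCoh (bcMod p K (Fs i)) := fun i =>
    Groth.Agent.Lib.Lead.RankAdd.isCoh_of_isFinLocFree
      (Groth.Agent.Lib.helper16.FLF.isFinLocFree_pullback _ (hFLF i))
  haveI : PreservesColimitsOfSize.{0, 0} (Scheme.Modules.pullback (proj p K)) :=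
    (Scheme.Modules.pullbackPushforwardAdjunction (proj p K)).leftAdjoint_preservesColimits
  have e1 : (∐ fun i => bcMod p K (Fs i)) ≅ pow L r :=
    (PreservesCoproduct.iso (Scheme.Modules.pullback (proj p K)) Fs).symm ≪≫
      (Scheme.Modules.pullback (proj p K)).mapIso eE.symm ≪≫ e
  have hri : ∀ i, ∃ ri : ℕ, Nonempty (bcMod p K (Fs i) ≅ pow L ri) :=
    fun i => summand_of_pow hK hLc hLi (fun i => bcMod p K (Fs i)) hbc r e1 i
  choose ri hri using hri
  let i0 : Fin n := ⟨0, hn⟩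
  have hiso : ∀ i, Nonempty (Fs i ≅ Fs i0) := fun i =>
    nonempty_iso_of_isotypical k p K L (hFLF i) (hFLF i0) (hFs i) (hFs i0) (ri i) (ri i0)
      (hri i).some (hri i0).some
  exact ⟨Fs i0, n, hFLF i0, hFs i0, ⟨eE ≪≫ Sigma.mapIso (fun i => (hiso i).some)⟩⟩

include p in
theorem unique_pow (E : X.Modules) (hE : FlatMod.IsFinLocFree E) (hE0 : ¬ IsZero E)
    (G G' : X.Modules) (n m : ℕ) (hG : Indec G) (hG' : Indec G') (e : E ≅ pow G n)
    (e' : E ≅ pow G' m) : Nonempty (G ≅ G') := by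
  have hn : 0 < n := by
    rcases Nat.eq_zero_or_pos n with h0 | h0
    · exfalso
      subst h0
      exact hE0 ((pow_zero_isZero G).of_iso e)
    · exact h0
  have hm : 0 < m := by
    rcases Nat.eq_zero_or_pos m with h0 | h0
    · exfalso
      subst h0
      exact hE0 ((pow_zero_isZero G').of_iso e')
    · exact h0
  have hGf : FlatMod.IsFinLocFree G := by
    obtain ⟨ρ, hρ⟩ := sigma_retract (fun _ : Fin n => G) ⟨0, hn⟩
    exact Groth.Agent.Lib.helper16.FLF.isFinLocFree_of_retract hE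
      (Sigma.ι (fun _ : Fin n => G) ⟨0, hn⟩ ≫ e.inv) (e.hom ≫ ρ) (by simp [hρ])
  have hG'f : FlatMod.IsFinLocFree G' := by
    obtain ⟨ρ, hρ⟩ := sigma_retract (fun _ : Fin m => G') ⟨0, hm⟩
    exact Groth.Agent.Lib.helper16.FLF.isFinLocFree_of_retract hE
      (Sigma.ι (fun _ : Fin m => G') ⟨0, hm⟩ ≫ e'.inv) (e'.hom ≫ ρ) (by simp [hρ])
  exact nonempty_iso_of_pow_iso (ksClass k p)
    (Groth.Agent.Lib.Lead.RankAdd.isCoh_of_isFinLocFree hGf)
    (Groth.Agent.Lib.Lead.RankAdd.isCoh_of_isFinLocFree hG'f) hG hG' hn (e.symm ≪≫ e')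

end ASB

end Groth.Agent.Lib.Lead.HomBC
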