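import Mathlib
import Groth.Agent.Lib.Lead.HomBC4
import Groth.Agent.Lib.Helper8.H0One
import Groth.Agent.Lib.Helper20.GaetaHom
import Groth.Agent.Lib.Helper12.InvDual2

/-!
# Absolutely isotypical bundles: the endomorphism ring of an indecomposable one is a division ring (lead)

* `not_isUnit_of_mem_span`: in a finite-dimensional local algebra the two-sided ideal generated by a non-unit
  consists of non-units.
* `mem_of_tmul_mem_span`: descent of membership in a subspace along a field extension: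
  `1 ⊗ v ∈ span_K {1 ⊗ x | x ∈ I}` ⇒ `v ∈ I`.
* `id_mem_span_biproduct`: if `End L = K` then `End (L^r)` is simple, in the form
  `g ≠ 0 ⇒ 𝟙 ∈ span_K {s ≫ g ≫ t}`; `id_mem_span_of_iso` transports this along an isomorphism.
* `isUnit_of_ne_zero_of_simple_baseChange`: abstract form: `Φ : K ⊗ End E ≃ End (F E)`, `Φ (c ⊗ u) = c • F u`,
  `End (F E)` simple, `End E` finite-dimensional local ⇒ every nonzero endomorphism of `E` is a unit.
* `isIso_of_ne_zero_of_isotypical` (= S13694): `X` proper geometrically integral over `k`, `K` algebraically closed,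
  `E` indecomposable finite locally free with `E_K ≅ L^r`, `L` invertible ⇒ nonzero endomorphisms of `E` are isomorphisms.
  (Inputs: `homBC`, helper8 `finrank_sections_eq_one`, helper20 `end_scalar`, helper12 `exists_inverse`.)
-/

set_option autoImplicit false
set_option linter.style.haveILetI false
set_option linter.unusedSectionVars false

universe u u₁ v₁ u₂ v₂
open CategoryTheory CategoryTheory.Limits AlgebraicGeometry Opposite TopologicalSpace TensorProduct

namespace Groth.Agent.Lib.Lead.HomBC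

open W4c1astiltbs12 Groth.Agent.Lib.Lead.KS Groth.Agent.Lib.Lead.NoriFin

attribute [local instance] Abelian.hasFiniteBiproducts

section Alg

/-- in a finite-dimensional local algebra, the two-sided ideal generated by a non-unit consists of non-units -/
theorem not_isUnit_of_mem_span {k R : Type*} [Field k] [Ring R] [Algebra k R] [Module.Finite k R]
    [IsLocalRing R] (f : R) (hf : ¬ IsUnit f) :
    ∀ x ∈ Submodule.span k {y : R | ∃ a b, y = a * f * b}, ¬ IsUnit x := by
  haveI : IsArtinianRing R := IsArtinianRing.of_finite k R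
  intro x hx
  induction hx using Submodule.span_induction with
  | mem y hy =>
    obtain ⟨a, b, rfl⟩ := hy
    intro h
    exact hf (IsUnit.mul_iff.mp (IsUnit.mul_iff.mp h).1).2
  | zero => exact not_isUnit_zero
  | add y z _ _ hy hz => exact IsLocalRing.nonunits_add hy hz
  | smul c y _ hy =>
    intro h
    rw [Algebra.smul_def] at h
    exact hy (IsUnit.mul_iff.mp h).2

/-- faithfully flat descent of membership in a subspace along a field extension -/
theorem mem_of_tmul_mem_span {k K V : Type*} [Field k] [Field K] [Algebra k K] [AddCommGroup V]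
    [Module k V] (I : Submodule k V) (v : V)
    (h : (1 : K) ⊗ₜ[k] v ∈ Submodule.span K {z : K ⊗[k] V | ∃ x ∈ I, z = 1 ⊗ₜ x}) : v ∈ I := by
  by_contra hv
  obtain ⟨l, hl0, hl⟩ := Submodule.exists_dual_map_eq_bot_of_notMem hv inferInstance
  let μ : K ⊗[k] V →ₗ[K] K := (TensorProduct.AlgebraTensorModule.rid k K K).toLinearMap ∘ₗ
    LinearMap.baseChange K l
  have hμ : ∀ x : V, μ (1 ⊗ₜ x) = algebraMap k K (l x) := by
    intro x
    simp [μ, Algebra.algebraMap_eq_smul_one]
  have hker : Submodule.span K {z : K ⊗[k] V | ∃ x ∈ I, z = 1 ⊗ₜ x} ≤ LinearMap.ker μ := by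
    rw [Submodule.span_le]
    rintro z ⟨x, hx, rfl⟩
    rw [SetLike.mem_coe, LinearMap.mem_ker, hμ]
    have : l x ∈ I.map l := Submodule.mem_map_of_mem hx
    rw [hl, Submodule.mem_bot] at this
    rw [this, map_zero]
  have := hker h
  rw [LinearMap.mem_ker, hμ] at this
  exact hl0 ((map_eq_zero_iff _ (algebraMap k K).injective).mp this)

end Alg

section Cat

variable {K : Type*} [Field K] {D : Type u₂} [Category.{v₂} D] [Preadditive D] [Linear K D]

/-- the endomorphism ring of `L^r` is simple when `End L = K` -/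
theorem id_mem_span_biproduct [HasFiniteBiproducts D] (L : D)
    (hL : ∀ g : L ⟶ L, ∃ c : K, g = c • 𝟙 L) (r : ℕ)
    (g : (⨁ fun _ : Fin r => L) ⟶ ⨁ fun _ : Fin r => L) (hg : g ≠ 0) :
    𝟙 (⨁ fun _ : Fin r => L) ∈ Submodule.span K
      {z : (⨁ fun _ : Fin r => L) ⟶ ⨁ fun _ : Fin r => L | ∃ s t, z = s ≫ g ≫ t} := by
  classical
  have hex : ∃ i j, biproduct.ι (fun _ : Fin r => L) i ≫ g ≫ biproduct.π (fun _ : Fin r => L) j ≠ 0 := by
    by_contra hcon
    push Not at hcon
    apply hg
    apply biproduct.hom_ext'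
    intro i
    apply biproduct.hom_ext
    intro j
    rw [Category.assoc, hcon i j, comp_zero, zero_comp]
  obtain ⟨i, j, hij⟩ := hex
  obtain ⟨c, hc⟩ := hL (biproduct.ι (fun _ : Fin r => L) i ≫ g ≫ biproduct.π (fun _ : Fin r => L) j)
  have hc0 : c ≠ 0 := by
    rintro rfl
    rw [zero_smul] at hc
    exact hij hc
  rw [← biproduct.total]
  refine Submodule.sum_mem _ (fun l _ => ?_)
  have h1 : biproduct.π (fun _ : Fin r => L) l ≫ biproduct.ι (fun _ : Fin r => L) l =
      c⁻¹ • ((biproduct.π (fun _ : Fin r => L) l ≫ biproduct.ι (fun _ : Fin r => L) i) ≫ g ≫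
        (biproduct.π (fun _ : Fin r => L) j ≫ biproduct.ι (fun _ : Fin r => L) l)) := by
    have h2 : (biproduct.π (fun _ : Fin r => L) l ≫ biproduct.ι (fun _ : Fin r => L) i) ≫ g ≫
        (biproduct.π (fun _ : Fin r => L) j ≫ biproduct.ι (fun _ : Fin r => L) l) =
        biproduct.π (fun _ : Fin r => L) l ≫ (biproduct.ι (fun _ : Fin r => L) i ≫ g ≫
          biproduct.π (fun _ : Fin r => L) j) ≫ biproduct.ι (fun _ : Fin r => L) l := by
      simp only [Category.assoc]
    rw [h2, hc, Linear.smul_comp, Linear.comp_smul, Category.id_comp, smul_smul,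
      inv_mul_cancel₀ hc0, one_smul]
  rw [h1]
  exact Submodule.smul_mem _ _ (Submodule.subset_span ⟨_, _, rfl⟩)

/-- transport of `id_mem_span_biproduct` along an isomorphism -/
theorem id_mem_span_of_iso {M W : D} (e : M ≅ W)
    (hW : ∀ g : W ⟶ W, g ≠ 0 → 𝟙 W ∈ Submodule.span K {z : W ⟶ W | ∃ s t, z = s ≫ g ≫ t})
    (g : M ⟶ M) (hg : g ≠ 0) :
    𝟙 M ∈ Submodule.span K {z : M ⟶ M | ∃ s t, z = s ≫ g ≫ t} := by
  have hg' : e.inv ≫ g ≫ e.hom ≠ 0 := by
    intro h0
    apply hg
    have : g = e.hom ≫ (e.inv ≫ g ≫ e.hom) ≫ e.inv := by simp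
    rw [this, h0, zero_comp, comp_zero]
  have h1 := hW _ hg'
  let T : (W ⟶ W) →ₗ[K] (M ⟶ M) := (Linear.leftComp K M e.hom) ∘ₗ (Linear.rightComp K W e.inv)
  have hT : ∀ z : W ⟶ W, T z = e.hom ≫ z ≫ e.inv := fun z => rfl
  have h2 : T (𝟙 W) ∈ (Submodule.span K {z : W ⟶ W | ∃ s t, z = s ≫ (e.inv ≫ g ≫ e.hom) ≫ t}).map T :=
    Submodule.mem_map_of_mem h1
  have h3 : T (𝟙 W) = 𝟙 M := by rw [hT]; simp
  rw [h3, Submodule.map_span] at h2
  refine Submodule.span_mono ?_ h2
  rintro _ ⟨z, ⟨s, t, rfl⟩, rfl⟩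
  refine ⟨e.hom ≫ s ≫ e.inv, e.hom ≫ t ≫ e.inv, ?_⟩
  rw [hT]
  simp only [Category.assoc]

end Cat

section Main

variable {k K : Type*} [Field k] [Field K] [Algebra k K]
  {C : Type u₁} [Category.{v₁} C] [Preadditive C] [Linear k C]
  {D : Type u₂} [Category.{v₂} D] [Preadditive D] [Linear K D]

/-- if `K ⊗ End E ≅ End (F E)` compatibly with `F` and `End (F E)` is simple, the finite-dimensional local ring
`End E` is a division ring -/
theorem isUnit_of_ne_zero_of_simple_baseChange (F : C ⥤ D) (E : C)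
    [Module.Finite k (End E)] [IsLocalRing (End E)]
    (Φ : K ⊗[k] (E ⟶ E) ≃ₗ[K] (F.obj E ⟶ F.obj E))
    (hΦ : ∀ (c : K) (u : E ⟶ E), Φ (c ⊗ₜ u) = c • F.map u)
    (hsimple : ∀ g : F.obj E ⟶ F.obj E, g ≠ 0 →
      𝟙 (F.obj E) ∈ Submodule.span K {z : F.obj E ⟶ F.obj E | ∃ s t, z = s ≫ g ≫ t})
    (f : E ⟶ E) (hf : f ≠ 0) : IsUnit (show End E from f) := by
  by_contra hnu
  let I : Submodule k (E ⟶ E) := Submodule.span k {y : End E | ∃ a b : End E, y = a * (show End E from f) * b}
  have hI : ∀ x ∈ I, ¬ IsUnit (show End E from x) :=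
    not_isUnit_of_mem_span (k := k) (R := End E) f hnu
  let J : Submodule K (F.obj E ⟶ F.obj E) :=
    Submodule.span K {z : F.obj E ⟶ F.obj E | ∃ x ∈ I, z = F.map x}
  have hΦ1 : ∀ u : E ⟶ E, Φ (1 ⊗ₜ u) = F.map u := fun u => by rw [hΦ, one_smul]
  -- `F.map f ≠ 0`
  have hFf : F.map f ≠ 0 := by
    intro h0
    apply hf
    have h1 : (1 : K) ⊗ₜ[k] f = 0 := by
      apply Φ.injective
      rw [hΦ1, h0, map_zero]
    have := mem_of_tmul_mem_span (K := K) (⊥ : Submodule k (E ⟶ E)) f (by rw [h1]; exact Submodule.zero_mem _)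
    simpa using this
  -- every morphism is in the span of the `F.map a`
  have hspan : ∀ s : F.obj E ⟶ F.obj E,
      s ∈ Submodule.span K (Set.range fun a : E ⟶ E => F.map a) := by
    intro s
    obtain ⟨z, rfl⟩ := Φ.surjective s
    induction z using TensorProduct.induction_on with
    | zero => rw [map_zero]; exact Submodule.zero_mem _
    | tmul c u =>
      rw [hΦ]
      exact Submodule.smul_mem _ _ (Submodule.subset_span ⟨u, rfl⟩)
    | add x y hx hy => rw [map_add]; exact Submodule.add_mem _ hx hy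
  have hA : ∀ (s : F.obj E ⟶ F.obj E) (b : E ⟶ E), s ≫ F.map f ≫ F.map b ∈ J := by
    intro s b
    have := hspan s
    induction this using Submodule.span_induction with
    | mem y hy =>
      obtain ⟨a, rfl⟩ := hy
      refine Submodule.subset_span ⟨a ≫ f ≫ b, ?_, by simp⟩
      exact Submodule.subset_span ⟨b, a, by simp [End.mul_def]⟩
    | zero => rw [zero_comp]; exact Submodule.zero_mem _
    | add y z _ _ hy hz => rw [Preadditive.add_comp]; exact Submodule.add_mem _ hy hz
    | smul c y _ hy => rw [Linear.smul_comp]; exact Submodule.smul_mem _ _ hy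
  have hB : ∀ (s t : F.obj E ⟶ F.obj E), s ≫ F.map f ≫ t ∈ J := by
    intro s t
    have := hspan t
    induction this using Submodule.span_induction with
    | mem y hy =>
      obtain ⟨b, rfl⟩ := hy
      exact hA s b
    | zero => rw [comp_zero, comp_zero]; exact Submodule.zero_mem _
    | add y z _ _ hy hz =>
      rw [Preadditive.comp_add, Preadditive.comp_add]; exact Submodule.add_mem _ hy hz
    | smul c y _ hy =>
      rw [Linear.comp_smul, Linear.comp_smul]; exact Submodule.smul_mem _ _ hy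
  have h1 : 𝟙 (F.obj E) ∈ J := by
    have h2 := hsimple (F.map f) hFf
    refine (Submodule.span_le.mpr ?_) h2
    rintro _ ⟨s, t, rfl⟩
    exact hB s t
  -- descend
  have h3 : (1 : K) ⊗ₜ[k] (𝟙 E) ∈
      Submodule.span K {z : K ⊗[k] (E ⟶ E) | ∃ x ∈ I, z = 1 ⊗ₜ x} := by
    have h4 : Φ.symm (𝟙 (F.obj E)) ∈ J.map Φ.symm.toLinearMap := Submodule.mem_map_of_mem h1
    have h5 : Φ.symm (𝟙 (F.obj E)) = (1 : K) ⊗ₜ[k] (𝟙 E) := by
      rw [LinearEquiv.symm_apply_eq, hΦ1, F.map_id]
    rw [h5, Submodule.map_span] at h4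
    refine Submodule.span_mono ?_ h4
    rintro _ ⟨z, ⟨x, hx, rfl⟩, rfl⟩
    refine ⟨x, hx, ?_⟩
    change Φ.symm (F.map x) = _
    rw [LinearEquiv.symm_apply_eq, hΦ1]
  have h6 := mem_of_tmul_mem_span (K := K) I (𝟙 E) h3
  exact hI _ h6 isUnit_one

end Main

section Geo

variable (k : Type u) [Field k] {X : Scheme.{u}} (p : X ⟶ Spec (CommRingCat.of k)) [IsProper p]
  [GeometricallyIntegral p] (K : Type u) [Field K] [Algebra k K] [IsAlgClosed K]

/-- on a proper geometrically integral `k`-scheme, an indecomposable finite locally free module which becomes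
`L^r` (`L` invertible) over an algebraically closed extension has a division ring of endomorphisms -/
theorem isIso_of_ne_zero_of_isotypical (E : X.Modules) (hE : FlatMod.IsFinLocFree E) (hEi : Indec E)
    (L : (W4bk4gw11416.baseChange p K).Modules) (hL : PicF.IsInvertible L) (r : ℕ)
    (e : bcMod p K E ≅ pow L r) (f : E ⟶ E) (hf : f ≠ 0) : IsIso f := by
  letI : X.Over (Spec (CommRingCat.of k)) := ⟨p⟩
  letI : (W4bk4gw11416.baseChange p K).Over (Spec (CommRingCat.of K)) :=
    ⟨pullback.snd p (Spec.map (CommRingCat.ofHom (algebraMap k K)))⟩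
  haveI : IsProper (X ↘ Spec (CommRingCat.of k)) := ‹IsProper p›
  have H : IsPullback (proj p K) ((W4bk4gw11416.baseChange p K) ↘ Spec (CommRingCat.of K))
      (X ↘ Spec (CommRingCat.of k)) (Spec.map (CommRingCat.ofHom (algebraMap k K))) :=
    IsPullback.of_hasPullback p (Spec.map (CommRingCat.ofHom (algebraMap k K)))
  haveI : CompactSpace X := QuasiCompact.compactSpace_of_compactSpace p
  haveI : QuasiSeparatedSpace X := quasiSeparatedSpace_of_quasiSeparated p
  have hEc := Groth.Agent.Lib.Lead.RankAdd.isCoh_of_isFinLocFree hE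
  haveI : Module.Finite k (End E) := finite_hom k X hEc hEc
  haveI : IsLocalRing (End E) := isLocalRing_end_of_indec k hEi
  haveI : E.IsQuasicoherent := Groth.Agent.Lib.helper16.FLF.isQuasicoherent_of_isFinLocFree _ hE
  let Φ := homBC (A := k) (B := K) (proj p K) hE E H
  have hΦ : ∀ (c : K) (u : E ⟶ E), Φ (c ⊗ₜ u) = c • (Scheme.Modules.pullback (proj p K)).map u :=
    fun c u => homBC_tmul (A := k) (B := K) (proj p K) hE E H c u
  haveI : IsIntegral (W4bk4gw11416.baseChange p K) :=
    GeometricallyIntegral.geometrically_isIntegral (f := p)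
      (Spec.map (CommRingCat.ofHom (algebraMap k K))) _ _
      (IsPullback.of_hasPullback p (Spec.map (CommRingCat.ofHom (algebraMap k K))))
  haveI : IsProper ((W4bk4gw11416.baseChange p K) ↘ Spec (CommRingCat.of K)) :=
    inferInstanceAs (IsProper (pullback.snd p (Spec.map (CommRingCat.ofHom (algebraMap k K)))))
  have h1 : Module.finrank K (Coh.HH (W4bk4gw11416.baseChange p K)
      (Coh.structureModule (W4bk4gw11416.baseChange p K)) 0) = 1 :=
    Groth.Agent.Lib.helper8.H0One.finrank_sections_eq_one K (W4bk4gw11416.baseChange p K)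
  obtain ⟨L', _, ⟨e'⟩, _⟩ := Groth.Agent.Lib.helper12.InvDual.exists_inverse hL
  have hLsc : ∀ g : L ⟶ L, ∃ c : K, g = c • 𝟙 L := fun g =>
    Groth.Agent.Lib.helper20.GaetaHom.end_scalar K e' h1 g
  have hsimple := id_mem_span_of_iso (K := K)
    (e ≪≫ (biproduct.isoCoproduct (fun _ : Fin r => L)).symm)
    (id_mem_span_biproduct (K := K) L hLsc r)
  have hu := isUnit_of_ne_zero_of_simple_baseChange (k := k) (K := K)
    (Scheme.Modules.pullback (proj p K)) E Φ hΦ hsimple f hf
  exact (isUnit_iff_isIso _).mp hu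

end Geo

end Groth.Agent.Lib.Lead.HomBC
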