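import Mathlib
import Groth.Prelude.Def_BrSev
import Groth.Agent.Lib.Lead.HomBC5
import Groth.Agent.Lib.Lead.BrSevT
import Groth.Agent.Lib.Lead.DualFLF
import Groth.Agent.Lib.Helper18.ProjBasic
import Groth.Agent.Lib.Helper7.RestrictSupport

/-!
# Severi–Brauer splittings: duals of isotypical modules (lead; S14202)

Setting: `p : X ⟶ Spec k` proper, `K` algebraically closed, `e : BrSev.Splitting p K n` (`X_K ≅ P^n_K`).
* `isIntegral_bc`, `isInvertible_twist`, `twistInvIso : O_e(j) ⊗ O_e(-j) ≅ O`, `end_twist_scalar` (`End O_e(j) = K`),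
  `indec_twist` (`O_e(j)` is indecomposable).
* `dvd_of_isTwPow_neg`: `W` finite locally free with `W_K ≅ O_e(j)^r` (`r > 0`), `W'` indecomposable with `W'_K ≅ O_e(-j)^{r'}` ⇒
  `r' ∣ r` (the dual of `W` is isotypical of type `O_e(-j)`, hence a power of `W'` by S13688/S13689).
* `eq_of_isTwPow_neg` (= S14202): for `W`, `W'` both indecomposable, `r = r'`.
-/

set_option autoImplicit false
set_option linter.style.haveILetI false
set_option linter.unusedSectionVars false

universe u
open CategoryTheory CategoryTheory.Limits AlgebraicGeometry Opposite TopologicalSpace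

namespace Groth.Agent.Lib.Lead.BrSevT

open Groth.Agent.Lib.Lead.ModTensor Groth.Agent.Lib.Lead.KS Groth.Agent.Lib.Lead.NoriFin
  Groth.Agent.Lib.Lead.HomBC Groth.Agent.Lib.Lead.DualFLF Groth.Agent.Lib.helper12.InvDual

attribute [local instance] Abelian.hasFiniteBiproducts

section BS

variable (k : Type u) [Field k] {X : Scheme.{u}} (p : X ⟶ Spec (CommRingCat.of k)) [IsProper p]
  (K : Type u) [Field K] [Algebra k K] [IsAlgClosed K] {n : ℕ} (e : BrSev.Splitting p K n)

include e in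
theorem isIntegral_bc : IsIntegral (BrSev.bc p K) := by
  haveI : Nonempty (BrSev.bc p K) := ⟨e.iso.inv (Classical.arbitrary _)⟩
  exact isIntegral_of_isOpenImmersion e.iso.hom

theorem isInvertible_twist (j : ℤ) : PicF.IsInvertible (e.twist j) :=
  Groth.Agent.Lib.helper11.InvMod.isInvertible_pullback e.iso.hom
    (Groth.Agent.Lib.helper28.TwistPn.isInvertible n K j)

/-- `O_e(j) ⊗ O_e(-j) ≅ O` -/
noncomputable def twistInvIso (j : ℤ) :
    CohB1.tensorMod (e.twist j) (e.twist (-j)) ≅ Coh.structureModule (BrSev.bc p K) :=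
  twistTensorIso e j (-j) ≪≫
    (Scheme.Modules.pullback e.iso.hom).mapIso
      ((eqToIso (by rw [add_neg_cancel]) : Twist.twistProjSpace n K (j + -j) ≅
        Twist.twistProjSpace n K 0) ≪≫ (Groth.Agent.Lib.helper28.TwistPn.zeroIso n K).symm) ≪≫
    Groth.Agent.Lib.helper11.InvMod.pullbackUnitIso e.iso.hom

/-- endomorphisms of `O_e(j)` are scalars -/
theorem end_twist_scalar (j : ℤ) (g : e.twist j ⟶ e.twist j) :
    letI : (BrSev.bc p K).Over (Spec (CommRingCat.of K)) := ⟨BrSev.bcTo p K⟩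
    ∃ c : K, g = c • 𝟙 (e.twist j) := by
  letI : (BrSev.bc p K).Over (Spec (CommRingCat.of K)) := ⟨BrSev.bcTo p K⟩
  haveI : IsIntegral (BrSev.bc p K) := isIntegral_bc k p K e
  haveI : IsProper ((BrSev.bc p K) ↘ Spec (CommRingCat.of K)) :=
    inferInstanceAs (IsProper (pullback.snd p (Spec.map (CommRingCat.ofHom (algebraMap k K)))))
  have h1 : Module.finrank K (Coh.HH (BrSev.bc p K) (Coh.structureModule (BrSev.bc p K)) 0) = 1 :=
    Groth.Agent.Lib.helper8.H0One.finrank_sections_eq_one K (BrSev.bc p K)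
  exact Groth.Agent.Lib.helper20.GaetaHom.end_scalar K (twistInvIso k p K e j) h1 g

/-- `O_e(j)` is indecomposable -/
theorem indec_twist (j : ℤ) : Indec (e.twist j) := by
  letI : (BrSev.bc p K).Over (Spec (CommRingCat.of K)) := ⟨BrSev.bcTo p K⟩
  have hne : ¬ IsZero (e.twist j) := by
    intro h0
    -- then `O ≅ O_e(j) ⊗ O_e(-j)` would be zero
    haveI : IsIntegral (BrSev.bc p K) := isIntegral_bc k p K e
    have h1 : IsZero (CohB1.tensorMod (e.twist j) (e.twist (-j))) := by
      rw [IsZero.iff_id_eq_zero, ← tensorMap_id, (IsZero.iff_id_eq_zero _).mp h0]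
      exact (Groth.Agent.Lib.helper12.TensorCocont.preservesZeroMorphisms_tensorRight
        (e.twist (-j))).map_zero _ _
    have h2 : IsZero (Coh.structureModule (BrSev.bc p K)) :=
      h1.of_iso (twistInvIso k p K e j).symm
    have h3 := (Groth.Agent.Lib.helper7.RestrictSupport.isZero_iff_subsingleton_sections _).mp h2 ⊤
    haveI : Nonempty (⊤ : (BrSev.bc p K).Opens) := ⟨⟨Classical.arbitrary _, trivial⟩⟩
    haveI : Nontrivial Γ(BrSev.bc p K, ⊤) := Scheme.component_nontrivial _ ⊤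
    exact not_subsingleton Γ(BrSev.bc p K, ⊤) h3
  refine ⟨hne, ?_⟩
  intro A B ⟨φ⟩
  let ε : e.twist j ⟶ e.twist j := φ.hom ≫ biprod.fst ≫ biprod.inl ≫ φ.inv
  obtain ⟨c, hc⟩ := end_twist_scalar k p K e j ε
  have hεε : ε ≫ ε = ε := by simp [ε]
  have hc2 : (c * c - c) • 𝟙 (e.twist j) = 0 := by
    rw [sub_smul, mul_smul]
    rw [hc] at hεε
    rw [Linear.smul_comp, Linear.comp_smul, Category.id_comp] at hεε
    rw [hεε, sub_self]
  have hid : 𝟙 (e.twist j) ≠ 0 := fun h => hne ((IsZero.iff_id_eq_zero _).mpr h)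
  have hcc : c * c - c = 0 := by
    by_contra hcc
    apply hid
    have := congrArg (fun t => (c * c - c)⁻¹ • t) hc2
    simpa [smul_smul, inv_mul_cancel₀ hcc] using this
  have hc01 : c = 0 ∨ c = 1 := by
    have : c * (c - 1) = 0 := by rw [mul_sub, mul_one]; exact hcc
    rcases mul_eq_zero.mp this with h | h
    · exact Or.inl h
    · exact Or.inr (sub_eq_zero.mp h)
  rcases hc01 with h | h
  · left
    rw [IsZero.iff_id_eq_zero]
    have h0 : ε = 0 := by rw [hc, h, zero_smul]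
    have : (biprod.inl : A ⟶ A ⊞ B) ≫ φ.inv ≫ ε ≫ φ.hom ≫ biprod.fst = 𝟙 A := by simp [ε]
    rw [← this, h0]
    simp
  · right
    rw [IsZero.iff_id_eq_zero]
    have h1 : ε = 𝟙 _ := by rw [hc, h, one_smul]
    have : (biprod.inr : B ⟶ A ⊞ B) ≫ φ.inv ≫ ε ≫ φ.hom ≫ biprod.snd = 0 := by simp [ε]
    rw [h1] at this
    simpa using this

open W4c1astiltbs12 in
/-- `W` indecomposable of type `O_e(j)` with multiplicity `r`, `W'` indecomposable of type `O_e(-j)` with
multiplicity `r'` ⇒ `r' ∣ r` (the dual of `W` is a power of `W'`) -/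
theorem dvd_of_isTwPow_neg (j : ℤ) {W W' : X.Modules} (hW : FlatMod.IsFinLocFree W)
    (hW' : FlatMod.IsFinLocFree W') (hW'i : Indec W') (r r' : ℕ) (hr : 0 < r)
    (eW : BrSev.bcMod p K W ≅ BrSev.pow (e.twist j) r)
    (eW' : BrSev.bcMod p K W' ≅ BrSev.pow (e.twist (-j)) r') : r' ∣ r := by
  classical
  set L := e.twist (-j) with hLdef
  have hLinv : PicF.IsInvertible L := isInvertible_twist k p K e (-j)
  have hLi : Indec L := indec_twist k p K e (-j)
  have hK : KSClass (C := (BrSev.bc p K).Modules) Coh.IsCoh :=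
    ksClass K (pullback.snd p (Spec.map (CommRingCat.ofHom (algebraMap k K))))
  have hLc : Coh.IsCoh L := Groth.Agent.Lib.Lead.RankAdd.isCoh_of_isFinLocFree
    (Groth.Agent.Lib.helper16.FLF.isFinLocFree_of_isInvertible hLinv)
  -- the dual of `W`
  let D := dualMod W
  have hD : FlatMod.IsFinLocFree D := Groth.Agent.Lib.helper11.Bidual.isFinLocFree_dualMod hW
  have eD : bcMod p K D ≅ pow L r :=
    pullDualIso (proj p K) hW ≪≫ (dualIso eW).symm ≪≫ dualPowIso (e.twist j) r ≪≫
      Sigma.mapIso (fun _ => dualInvIso (isInvertible_twist k p K e j) (twistInvIso k p K e j))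
  have hD0 : ¬ IsZero D := by
    intro h0
    have h1 : IsZero (bcMod p K D) := by
      haveI : (Scheme.Modules.pullback (proj p K)).IsLeftAdjoint :=
        (Scheme.Modules.pullbackPushforwardAdjunction (proj p K)).isLeftAdjoint
      haveI : (Scheme.Modules.pullback (proj p K)).PreservesZeroMorphisms :=
        Functor.preservesZeroMorphisms_of_isLeftAdjoint _
      exact (Scheme.Modules.pullback (proj p K)).map_isZero h0
    have h2 : IsZero (pow L r) := h1.of_iso eD.symm
    obtain ⟨ρ, hρ⟩ := sigma_retract (fun _ : Fin r => L) ⟨0, hr⟩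
    apply hLi.1
    rw [IsZero.iff_id_eq_zero, ← hρ, h2.eq_of_tgt (Sigma.ι (fun _ : Fin r => L) ⟨0, hr⟩) 0,
      zero_comp]
  obtain ⟨G, m, hG, hGi, ⟨eDG⟩⟩ := exists_pow_of_isotypical k p K D hD hD0 L hLinv hLi r eD
  have hm : 0 < m := by
    rcases Nat.eq_zero_or_pos m with h0 | h0
    · exfalso
      subst h0
      exact hD0 ((pow_zero_isZero G).of_iso eDG)
    · exact h0
  have hGc : Coh.IsCoh (bcMod p K G) := Groth.Agent.Lib.Lead.RankAdd.isCoh_of_isFinLocFree
    (Groth.Agent.Lib.helper16.FLF.isFinLocFree_pullback _ hG)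
  have iso1 : (∐ fun _ : Fin m => bcMod p K G) ≅ pow L r :=
    (bcModPow k p K G m).symm ≪≫ (Scheme.Modules.pullback (proj p K)).mapIso eDG.symm ≪≫ eD
  obtain ⟨s, ⟨eG⟩⟩ := summand_of_pow hK hLc hLi (fun _ : Fin m => bcMod p K G) (fun _ => hGc) r iso1
    ⟨0, hm⟩
  -- `G ≅ W'`
  obtain ⟨eGW⟩ := nonempty_iso_of_isotypical k p K L hG hW' hGi hW'i s r' eG eW'
  -- `s = r'`
  have hs : s = r' := by
    have e2 : pow L s ≅ pow L r' :=
      eG.symm ≪≫ (Scheme.Modules.pullback (proj p K)).mapIso eGW ≪≫ eW'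
    have h3 := mult_congr hK (P_sigma hK _ (fun _ : Fin s => hLc)) e2 (cls L)
    rw [mult_pow hK hLc hLi, mult_pow hK hLc hLi, if_pos rfl, if_pos rfl] at h3
    exact h3
  -- `r = m * s`
  have hrm : r = m * s := by
    have h3 := mult_congr hK (P_sigma hK _ (fun _ : Fin m => hGc)) iso1 (cls L)
    rw [mult_pow hK hLc hLi, if_pos rfl, mult_sigma hK _ (fun _ : Fin m => hGc)] at h3
    have h4 : mult hK (bcMod p K G) (cls L) = s := by
      rw [mult_congr hK hGc eG (cls L), mult_pow hK hLc hLi, if_pos rfl]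
    simp only [h4, Finset.sum_const, Finset.card_univ, Fintype.card_fin, smul_eq_mul] at h3
    exact h3.symm
  rw [hrm, hs]
  exact Dvd.intro_left m rfl

open W4c1astiltbs12 in
/-- **S14202**: the indecomposable modules of types `O_e(j)` and `O_e(-j)` have the same multiplicity -/
theorem eq_of_isTwPow_neg (j : ℤ) {W W' : X.Modules} (hW : FlatMod.IsFinLocFree W)
    (hW' : FlatMod.IsFinLocFree W') (hWi : Indec W) (hW'i : Indec W') (r r' : ℕ) (hr : 0 < r)
    (hr' : 0 < r') (eW : BrSev.bcMod p K W ≅ BrSev.pow (e.twist j) r)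
    (eW' : BrSev.bcMod p K W' ≅ BrSev.pow (e.twist (-j)) r') : r = r' := by
  have h1 : r' ∣ r := dvd_of_isTwPow_neg k p K e j hW hW' hW'i r r' hr eW eW'
  have eW2 : BrSev.bcMod p K W ≅ BrSev.pow (e.twist (-(-j))) r :=
    eW ≪≫ eqToIso (by rw [neg_neg])
  have h2 : r ∣ r' := dvd_of_isTwPow_neg k p K e (-j) hW' hW hWi r' r hr' eW' eW2
  exact Nat.dvd_antisymm h2 h1

end BS

end Groth.Agent.Lib.Lead.BrSevT
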