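import Mathlib

set_option autoImplicit false
set_option linter.unusedSectionVars false
universe u
open CategoryTheory CategoryTheory.Limits AlgebraicGeometry Opposite TopologicalSpace

namespace Groth.Agent.Lib.Lead.ChowCore

/-- the canonical map to the scheme-theoretic image is scheme-theoretically dominant -/
instance isSchemeTheoreticallyDominant_toImage {X Y : Scheme.{u}} (f : X ⟶ Y) [QuasiCompact f] :
    IsSchemeTheoreticallyDominant f.toImage := by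
  rw [isSchemeTheoreticallyDominant_iff]
  refine Scheme.IdealSheafData.ext_of_iSup_eq_top
    (fun U : Y.affineOpens => ⟨f.imageι ⁻¹ᵁ U.1, U.2.preimage f.imageι⟩) ?_ ?_
  · rw [← top_le_iff]
    intro x _
    obtain ⟨_, ⟨U, hU, rfl⟩, hxU, -⟩ :=
      Y.isBasis_affineOpens.exists_subset_of_mem_open (Set.mem_univ (f.imageι x)) isOpen_univ
    exact Opens.mem_iSup.2 ⟨⟨U, hU⟩, hxU⟩
  · intro U
    rw [Scheme.Hom.ker_apply, Scheme.IdealSheafData.ideal_bot]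
    exact (RingHom.injective_iff_ker_eq_bot _).1 (f.toImage_app_injective U)

instance isReduced_image {X Y : Scheme.{u}} (f : X ⟶ Y) [QuasiCompact f] [IsReduced X] :
    IsReduced f.image :=
  IsSchemeTheoreticallyDominant.isReduced f.toImage


/-- restriction of an open immersion `V.ι` over an open `V' ≤ V` is an isomorphism -/
lemma isIso_ι_restrict {Y : Scheme.{u}} (V V' : Y.Opens) (h : V' ≤ V) : IsIso (V.ι ∣_ V') := by
  have : IsOpenImmersion (V.ι ∣_ V') := inferInstance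
  have : Surjective (V.ι ∣_ V') := by
    constructor
    intro y
    have hy : (y.1 : Y) ∈ V := h y.2
    let o : (V.ι ⁻¹ᵁ V' : Scheme.{u}) := ⟨⟨y.1, hy⟩, y.2⟩
    refine ⟨o, ?_⟩
    apply V'.ι.isOpenEmbedding.injective
    have := congr($(morphismRestrict_ι V.ι V') o)
    simp only [Scheme.Hom.comp_apply] at this
    rw [this]
    rfl
  exact (isIso_iff_isOpenImmersion_and_surjective _).mpr ⟨inferInstance, inferInstance⟩

/-- a morphism which is a closed immersion over each member of a family of opens of the target whose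
preimages cover the source is an immersion -/
theorem isImmersion_of_local_closedImmersion {X Y : Scheme.{u}} (ψ : X ⟶ Y) {ι : Type*}
    (V : ι → Y.Opens) (hcov : ∀ x : X, ∃ i, ψ x ∈ V i)
    (h : ∀ i, IsClosedImmersion (ψ ∣_ V i)) : IsImmersion ψ := by
  let Vt : Y.Opens := ⨆ i, V i
  have hr : Set.range ψ ⊆ Set.range Vt.ι := by
    rintro _ ⟨x, rfl⟩
    rw [Scheme.Opens.range_ι]
    obtain ⟨i, hi⟩ := hcov x
    exact Opens.mem_iSup.2 ⟨i, hi⟩
  let ψ' : X ⟶ (Vt : Scheme.{u}) := IsOpenImmersion.lift Vt.ι ψ hr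
  have hψ' : ψ' ≫ Vt.ι = ψ := IsOpenImmersion.lift_fac _ _ _
  have hcl : IsClosedImmersion ψ' := by
    rw [IsZariskiLocalAtTarget.iff_of_iSup_eq_top (P := @IsClosedImmersion)
      (fun i => Vt.ι ⁻¹ᵁ V i)]
    · intro i
      have h1 : IsClosedImmersion ((ψ' ≫ Vt.ι) ∣_ V i) := by rw [hψ']; exact h i
      rw [morphismRestrict_comp] at h1
      have h2 : IsIso (Vt.ι ∣_ V i) := isIso_ι_restrict Vt (V i) (le_iSup V i)
      exact @IsClosedImmersion.of_comp _ _ _ _ (Vt.ι ∣_ V i) h1 inferInstance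
    · rw [← top_le_iff]
      intro y _
      obtain ⟨i, hi⟩ := Opens.mem_iSup.1 y.2
      exact Opens.mem_iSup.2 ⟨i, hi⟩
  rw [← hψ']
  infer_instance

/-- a morphism with an open-immersion section over `U` whose range is the whole preimage of `U` is an
isomorphism over `U` -/
lemma isIso_morphismRestrict_of_section {X Y : Scheme.{u}} (π : X ⟶ Y) (U : Y.Opens)
    (t : (U : Scheme.{u}) ⟶ X) [IsOpenImmersion t] (ht : t ≫ π = U.ι) (hr : π ⁻¹ᵁ U = t.opensRange) :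
    IsIso (π ∣_ U) := by
  let s : (U : Scheme.{u}) ⟶ (π ⁻¹ᵁ U : Scheme.{u}) :=
    t.isoOpensRange.hom ≫ (X.isoOfEq hr.symm).hom
  have hs : s ≫ (π ⁻¹ᵁ U).ι = t := by
    dsimp only [s]
    rw [Category.assoc, Scheme.isoOfEq_hom_ι]
    exact Scheme.Hom.isoOpensRange_hom_ι _
  have h1 : s ≫ (π ∣_ U) = 𝟙 _ := by
    rw [← cancel_mono U.ι, Category.assoc, morphismRestrict_ι, ← Category.assoc, hs, ht,
      Category.id_comp]
  have : IsIso s := by dsimp only [s]; infer_instance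
  have h2 : (π ∣_ U) = inv s := by
    rw [← cancel_epi s, h1, IsIso.hom_inv_id]
  rw [h2]
  infer_instance

variable {S Z P : Scheme.{u}} (f : Z ⟶ S) (g : P ⟶ S)
  (U₀ : Z.Opens) (j₀ : (U₀ : Scheme.{u}) ⟶ P) (hj₀ : U₀.ι ≫ f = j₀ ≫ g)

/-- the graph-like morphism `U₀ ⟶ Z ×_S P` -/
noncomputable abbrev phi : (U₀ : Scheme.{u}) ⟶ pullback f g := pullback.lift U₀.ι j₀ hj₀

/-- the scheme-theoretic closure of `U₀` in `Z ×_S P` -/
noncomputable abbrev Z' : Scheme.{u} := (phi f g U₀ j₀ hj₀).image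

noncomputable abbrev incl : Z' f g U₀ j₀ hj₀ ⟶ pullback f g := (phi f g U₀ j₀ hj₀).imageι

/-- `π : Z' ⟶ Z` -/
noncomputable abbrev pi : Z' f g U₀ j₀ hj₀ ⟶ Z := incl f g U₀ j₀ hj₀ ≫ pullback.fst f g

/-- `ψ : Z' ⟶ P` -/
noncomputable abbrev psi : Z' f g U₀ j₀ hj₀ ⟶ P := incl f g U₀ j₀ hj₀ ≫ pullback.snd f g

/-- `U₀ ⟶ Z'` -/
noncomputable abbrev toZ' : (U₀ : Scheme.{u}) ⟶ Z' f g U₀ j₀ hj₀ := (phi f g U₀ j₀ hj₀).toImage

lemma toZ'_pi : toZ' f g U₀ j₀ hj₀ ≫ pi f g U₀ j₀ hj₀ = U₀.ι := by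
  rw [toZ', pi, incl, Scheme.Hom.toImage_imageι_assoc, pullback.lift_fst]

lemma toZ'_psi : toZ' f g U₀ j₀ hj₀ ≫ psi f g U₀ j₀ hj₀ = j₀ := by
  rw [toZ', psi, incl, Scheme.Hom.toImage_imageι_assoc, pullback.lift_snd]

instance : IsImmersion (phi f g U₀ j₀ hj₀) := by
  have : IsImmersion (phi f g U₀ j₀ hj₀ ≫ pullback.fst f g) := by
    rw [pullback.lift_fst]; infer_instance
  exact IsImmersion.of_comp _ (pullback.fst f g)

variable [QuasiCompact U₀.ι] [IsSeparated g]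

instance : QuasiCompact (phi f g U₀ j₀ hj₀) := by
  have : QuasiCompact (phi f g U₀ j₀ hj₀ ≫ pullback.fst f g) := by
    rw [pullback.lift_fst]; infer_instance
  exact QuasiCompact.of_comp _ (pullback.fst f g)

example : IsOpenImmersion (toZ' f g U₀ j₀ hj₀) := inferInstance
example : IsDominant (toZ' f g U₀ j₀ hj₀) := inferInstance

lemma range_incl : Set.range (incl f g U₀ j₀ hj₀) = closure (Set.range (phi f g U₀ j₀ hj₀)) := by
  rw [incl, Scheme.Hom.imageι, Scheme.IdealSheafData.range_subschemeι, Scheme.Hom.support_ker]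

/-! ### `π` is an isomorphism over `U₀` -/

/-- `U₀ ×_S P` -/
noncomputable abbrev Q₀ : Scheme.{u} := pullback (U₀.ι ≫ f) g

/-- the graph of `j₀` -/
noncomputable abbrev graph : (U₀ : Scheme.{u}) ⟶ Q₀ f g U₀ :=
  pullback.lift (𝟙 _) j₀ (by rw [Category.id_comp, hj₀])

instance : IsClosedImmersion (graph f g U₀ j₀ hj₀) := by
  have : IsClosedImmersion (graph f g U₀ j₀ hj₀ ≫ pullback.fst (U₀.ι ≫ f) g) := by
    rw [pullback.lift_fst]; infer_instance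
  exact IsClosedImmersion.of_comp _ (pullback.fst (U₀.ι ≫ f) g)

/-- the open immersion `U₀ ×_S P ⟶ Z ×_S P` -/
noncomputable abbrev emb : Q₀ f g U₀ ⟶ pullback f g :=
  pullback.map (U₀.ι ≫ f) g f g U₀.ι (𝟙 P) (𝟙 S) (by simp) (by simp)

lemma graph_emb : graph f g U₀ j₀ hj₀ ≫ emb f g U₀ = phi f g U₀ j₀ hj₀ := by
  apply pullback.hom_ext
  · rw [Category.assoc, pullback.lift_fst, pullback.lift_fst_assoc, pullback.lift_fst, Category.id_comp]
  · rw [Category.assoc, pullback.lift_snd, pullback.lift_snd_assoc, pullback.lift_snd, Category.comp_id]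

lemma range_emb : Set.range (emb f g U₀) = pullback.fst f g ⁻¹' (U₀ : Set Z) := by
  rw [emb, Scheme.Pullback.range_map]
  simp

include hj₀ in
/-- the closure of the graph meets `U₀ ×_S P` only in the graph -/
lemma closure_inter (x : ↥(pullback f g)) (hx : x ∈ closure (Set.range (phi f g U₀ j₀ hj₀)))
    (hx' : pullback.fst f g x ∈ U₀) : x ∈ Set.range (phi f g U₀ j₀ hj₀) := by
  have hxe : x ∈ Set.range (emb f g U₀) := by rw [range_emb]; exact hx'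
  obtain ⟨y, rfl⟩ := hxe
  have hind := (emb f g U₀).isOpenEmbedding.isInducing
  have hy : y ∈ closure (Set.range (graph f g U₀ j₀ hj₀)) := by
    rw [hind.closure_eq_preimage_closure_image]
    show (emb f g U₀) y ∈ closure ((emb f g U₀) '' Set.range (graph f g U₀ j₀ hj₀))
    convert hx using 2
    rw [← graph_emb f g U₀ j₀ hj₀, Scheme.Hom.comp_base, TopCat.coe_comp, Set.range_comp]
  rw [(graph f g U₀ j₀ hj₀).isClosedEmbedding.isClosed_range.closure_eq] at hy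
  obtain ⟨u, rfl⟩ := hy
  exact ⟨u, by rw [← graph_emb f g U₀ j₀ hj₀]; rfl⟩

lemma preimage_pi_eq : (pi f g U₀ j₀ hj₀) ⁻¹ᵁ U₀ = (toZ' f g U₀ j₀ hj₀).opensRange := by
  apply le_antisymm
  · intro z' hz'
    have h1 : incl f g U₀ j₀ hj₀ z' ∈ closure (Set.range (phi f g U₀ j₀ hj₀)) := by
      rw [← range_incl]; exact ⟨z', rfl⟩
    obtain ⟨u, hu⟩ := closure_inter f g U₀ j₀ hj₀ _ h1 hz'
    refine ⟨u, ?_⟩
    apply (incl f g U₀ j₀ hj₀).isClosedEmbedding.injective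
    rw [← hu, ← Scheme.Hom.comp_apply, Scheme.Hom.toImage_imageι]
  · rintro _ ⟨u, rfl⟩
    show (pi f g U₀ j₀ hj₀) (toZ' f g U₀ j₀ hj₀ u) ∈ U₀
    rw [← Scheme.Hom.comp_apply, toZ'_pi]
    exact u.2

/-- **`π` is an isomorphism over `U₀`.** -/
theorem isIso_pi_restrict : IsIso (pi f g U₀ j₀ hj₀ ∣_ U₀) :=
  isIso_morphismRestrict_of_section (pi f g U₀ j₀ hj₀) U₀ (toZ' f g U₀ j₀ hj₀)
    (toZ'_pi f g U₀ j₀ hj₀) (preimage_pi_eq f g U₀ j₀ hj₀)

/-! ### One chart -/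

section chart

variable [IsReduced Z]
  {Pi : Scheme.{u}} (p : P ⟶ Pi) (gi : Pi ⟶ S) [IsSeparated gi] (hp : p ≫ gi = g)
  {Ui : Z.Opens} (hle : U₀ ≤ Ui) (ji : (Ui : Scheme.{u}) ⟶ Pi) [IsImmersion ji]
  (hji : ji ≫ gi = Ui.ι ≫ f) (hc : j₀ ≫ p = Z.homOfLE hle ≫ ji)

instance : IsReduced (Z' f g U₀ j₀ hj₀) := isReduced_image _

include hle in
lemma range_toZ'_subset :
    Set.range (toZ' f g U₀ j₀ hj₀) ⊆ Set.range ((pi f g U₀ j₀ hj₀) ⁻¹ᵁ Ui).ι := by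
  rintro _ ⟨u, rfl⟩
  rw [Scheme.Opens.range_ι]
  show (pi f g U₀ j₀ hj₀) (toZ' f g U₀ j₀ hj₀ u) ∈ Ui
  rw [← Scheme.Hom.comp_apply, toZ'_pi]
  exact hle u.2

/-- `U₀ ⟶ π⁻¹(U_i)` -/
noncomputable abbrev tt : (U₀ : Scheme.{u}) ⟶ ((pi f g U₀ j₀ hj₀) ⁻¹ᵁ Ui : Scheme.{u}) :=
  IsOpenImmersion.lift ((pi f g U₀ j₀ hj₀) ⁻¹ᵁ Ui).ι (toZ' f g U₀ j₀ hj₀)
    (range_toZ'_subset f g U₀ j₀ hj₀ hle)

lemma tt_ι : tt f g U₀ j₀ hj₀ hle ≫ ((pi f g U₀ j₀ hj₀) ⁻¹ᵁ Ui).ι = toZ' f g U₀ j₀ hj₀ :=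
  IsOpenImmersion.lift_fac _ _ _

instance : IsDominant (tt f g U₀ j₀ hj₀ hle) := by
  constructor
  have hd : Dense (Set.range (toZ' f g U₀ j₀ hj₀)) := (toZ' f g U₀ j₀ hj₀).denseRange
  have ho := ((pi f g U₀ j₀ hj₀) ⁻¹ᵁ Ui).ι.isOpenEmbedding
  have := hd.preimage ho.isOpenMap
  show Dense (Set.range (tt f g U₀ j₀ hj₀ hle))
  convert this using 1
  ext o
  constructor
  · rintro ⟨u, rfl⟩
    refine ⟨u, ?_⟩
    rw [← tt_ι f g U₀ j₀ hj₀ hle]
    rfl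
  · rintro ⟨u, hu⟩
    refine ⟨u, ho.injective ?_⟩
    rw [← hu, ← tt_ι f g U₀ j₀ hj₀ hle]
    rfl

lemma tt_restrict : tt f g U₀ j₀ hj₀ hle ≫ (pi f g U₀ j₀ hj₀ ∣_ Ui) = Z.homOfLE hle := by
  rw [← cancel_mono Ui.ι, Category.assoc, morphismRestrict_ι, ← Category.assoc, tt_ι, toZ'_pi,
    Scheme.homOfLE_ι]

include hp hji hc in
/-- on `π⁻¹(U_i)` the two maps to `P_i` agree -/
theorem restrict_comp_eq :
    (pi f g U₀ j₀ hj₀ ∣_ Ui) ≫ ji = ((pi f g U₀ j₀ hj₀) ⁻¹ᵁ Ui).ι ≫ psi f g U₀ j₀ hj₀ ≫ p := by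
  refine ext_of_isDominant_of_isSeparated gi ?_ (tt f g U₀ j₀ hj₀ hle) ?_
  · rw [Category.assoc, hji, ← Category.assoc, morphismRestrict_ι]
    simp only [Category.assoc]
    rw [hp, pullback.condition]
  · rw [← Category.assoc, tt_restrict, ← Category.assoc, tt_ι, ← Category.assoc, toZ'_psi, hc]

/-- the open `W_i ⊆ P_i` in which `U_i` is closed -/
noncomputable abbrev Wi : Pi.Opens := ji.coborderRange

/-- the open `V_i = p⁻¹(W_i) ⊆ P` -/
noncomputable abbrev Vi : P.Opens := p ⁻¹ᵁ (Wi ji)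

include hp hji hc in
/-- (C2) `π⁻¹(U_i) ⊆ ψ⁻¹(V_i)` -/
theorem preimage_pi_le : (pi f g U₀ j₀ hj₀) ⁻¹ᵁ Ui ≤ (psi f g U₀ j₀ hj₀) ⁻¹ᵁ (Vi p ji) := by
  intro z' hz'
  show p ((psi f g U₀ j₀ hj₀) z') ∈ Wi ji
  have h := restrict_comp_eq f g U₀ j₀ hj₀ p gi hp hle ji hji hc
  let o : ((pi f g U₀ j₀ hj₀) ⁻¹ᵁ Ui : Scheme.{u}) := ⟨z', hz'⟩
  have h2 : ji ((pi f g U₀ j₀ hj₀ ∣_ Ui) o) =
      p ((psi f g U₀ j₀ hj₀) (((pi f g U₀ j₀ hj₀) ⁻¹ᵁ Ui).ι o)) := by
    have := congr($h o)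
    simpa only [Scheme.Hom.comp_apply] using this
  have h3 : ((pi f g U₀ j₀ hj₀) ⁻¹ᵁ Ui).ι o = z' := rfl
  rw [h3] at h2
  rw [← h2]
  have h4 : ji ((pi f g U₀ j₀ hj₀ ∣_ Ui) o) =
      (Wi ji).ι (ji.liftCoborder ((pi f g U₀ j₀ hj₀ ∣_ Ui) o)) := by
    have := congr($(ji.liftCoborder_ι) ((pi f g U₀ j₀ hj₀ ∣_ Ui) o))
    simpa only [Scheme.Hom.comp_apply] using this.symm
  rw [h4]
  exact (ji.liftCoborder ((pi f g U₀ j₀ hj₀ ∣_ Ui) o)).2

/-! #### (C3) `ψ⁻¹(V_i) ⟶ V_i` is a closed immersion -/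

/-- `T_i = U_i ×_{W_i} V_i` -/
noncomputable abbrev Ti : Scheme.{u} := pullback ji.liftCoborder (p ∣_ Wi ji)

/-- `Q_i = Z ×_S V_i` as an open of `Z ×_S P` -/
noncomputable abbrev Qi : (pullback f g).Opens := (pullback.snd f g) ⁻¹ᵁ (Vi p ji)

include hp hji in
lemma ti_cond :
    (pullback.fst ji.liftCoborder (p ∣_ Wi ji) ≫ Ui.ι) ≫ f =
      (pullback.snd ji.liftCoborder (p ∣_ Wi ji) ≫ (Vi p ji).ι) ≫ g := by
  have h1 : Ui.ι ≫ f = ji.liftCoborder ≫ (Wi ji).ι ≫ gi := by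
    rw [← Category.assoc, ji.liftCoborder_ι, hji]
  rw [Category.assoc, h1, ← Category.assoc, pullback.condition, Category.assoc, Category.assoc,
    ← hp]
  congr 1
  rw [← Category.assoc, morphismRestrict_ι, Category.assoc]

/-- `T_i ⟶ Z ×_S P` -/
noncomputable abbrev tiQ : Ti p ji ⟶ pullback f g :=
  pullback.lift (pullback.fst ji.liftCoborder (p ∣_ Wi ji) ≫ Ui.ι)
    (pullback.snd ji.liftCoborder (p ∣_ Wi ji) ≫ (Vi p ji).ι) (ti_cond f g p gi hp ji hji)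

lemma range_tiQ_subset :
    Set.range (tiQ f g p gi hp ji hji) ⊆ Set.range (Qi f g p ji).ι := by
  rintro _ ⟨x, rfl⟩
  rw [Scheme.Opens.range_ι]
  show (pullback.snd f g) ((tiQ f g p gi hp ji hji) x) ∈ Vi p ji
  rw [← Scheme.Hom.comp_apply, pullback.lift_snd, Scheme.Hom.comp_apply]
  exact (pullback.snd ji.liftCoborder (p ∣_ Wi ji) x).2

/-- `t_i : T_i ⟶ Q_i` -/
noncomputable abbrev ti : Ti p ji ⟶ (Qi f g p ji : Scheme.{u}) :=
  IsOpenImmersion.lift (Qi f g p ji).ι (tiQ f g p gi hp ji hji)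
    (range_tiQ_subset f g p gi hp ji hji)

lemma ti_ι : ti f g p gi hp ji hji ≫ (Qi f g p ji).ι = tiQ f g p gi hp ji hji :=
  IsOpenImmersion.lift_fac _ _ _

lemma ti_snd : ti f g p gi hp ji hji ≫ (pullback.snd f g ∣_ Vi p ji) =
    pullback.snd ji.liftCoborder (p ∣_ Wi ji) := by
  rw [← cancel_mono (Vi p ji).ι, Category.assoc, morphismRestrict_ι, ← Category.assoc, ti_ι,
    pullback.lift_snd]

variable [IsSeparated f]

instance : IsClosedImmersion (ti f g p gi hp ji hji) := by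
  have : IsClosedImmersion (ti f g p gi hp ji hji ≫ (pullback.snd f g ∣_ Vi p ji)) := by
    rw [ti_snd]; infer_instance
  exact IsClosedImmersion.of_comp _ (pullback.snd f g ∣_ Vi p ji)

include hc in
lemma range_j₀_subset : Set.range j₀ ⊆ Set.range (Vi p ji).ι := by
  rintro _ ⟨u, rfl⟩
  rw [Scheme.Opens.range_ι]
  show p (j₀ u) ∈ Wi ji
  have h1 : p (j₀ u) = ji ((Z.homOfLE hle) u) := by
    have := congr($hc u)
    simpa only [Scheme.Hom.comp_apply] using this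
  have h4 : ji ((Z.homOfLE hle) u) = (Wi ji).ι (ji.liftCoborder ((Z.homOfLE hle) u)) := by
    have := congr($(ji.liftCoborder_ι) ((Z.homOfLE hle) u))
    simpa only [Scheme.Hom.comp_apply] using this.symm
  rw [h1, h4]
  exact (ji.liftCoborder ((Z.homOfLE hle) u)).2

/-- `U₀ ⟶ V_i` -/
noncomputable abbrev j₀V : (U₀ : Scheme.{u}) ⟶ (Vi p ji : Scheme.{u}) :=
  IsOpenImmersion.lift (Vi p ji).ι j₀ (range_j₀_subset U₀ j₀ p hle ji hc)

lemma j₀V_ι : j₀V U₀ j₀ p hle ji hc ≫ (Vi p ji).ι = j₀ := IsOpenImmersion.lift_fac _ _ _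

/-- `ℓ : U₀ ⟶ T_i` -/
noncomputable abbrev ell : (U₀ : Scheme.{u}) ⟶ Ti p ji :=
  pullback.lift (Z.homOfLE hle) (j₀V U₀ j₀ p hle ji hc) (by
    rw [← cancel_mono (Wi ji).ι, Category.assoc, ji.liftCoborder_ι, Category.assoc,
      morphismRestrict_ι, ← Category.assoc, j₀V_ι, hc])

lemma ell_tiQ : ell U₀ j₀ p hle ji hc ≫ tiQ f g p gi hp ji hji = phi f g U₀ j₀ hj₀ := by
  apply pullback.hom_ext
  · rw [Category.assoc, pullback.lift_fst, pullback.lift_fst, pullback.lift_fst_assoc,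
      Scheme.homOfLE_ι]
  · rw [Category.assoc, pullback.lift_snd, pullback.lift_snd, pullback.lift_snd_assoc, j₀V_ι]

/-- `θ_i : ψ⁻¹(V_i) ⟶ Q_i` -/
noncomputable abbrev thetai :
    ((incl f g U₀ j₀ hj₀) ⁻¹ᵁ (Qi f g p ji) : Scheme.{u}) ⟶ (Qi f g p ji : Scheme.{u}) :=
  incl f g U₀ j₀ hj₀ ∣_ Qi f g p ji

include hle hc in
lemma range_thetai_subset :
    Set.range (thetai f g U₀ j₀ hj₀ p ji) ⊆ Set.range (ti f g p gi hp ji hji) := by
  rintro _ ⟨y, rfl⟩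
  have hcl : IsClosed (Set.range (ti f g p gi hp ji hji)) :=
    (ti f g p gi hp ji hji).isClosedEmbedding.isClosed_range
  rw [← hcl.closure_eq]
  have hind := (Qi f g p ji).ι.isOpenEmbedding.isInducing
  rw [hind.closure_eq_preimage_closure_image]
  show (Qi f g p ji).ι ((thetai f g U₀ j₀ hj₀ p ji) y) ∈
    closure ((Qi f g p ji).ι '' Set.range (ti f g p gi hp ji hji))
  have h1 : (Qi f g p ji).ι ((thetai f g U₀ j₀ hj₀ p ji) y) =
      incl f g U₀ j₀ hj₀ (((incl f g U₀ j₀ hj₀) ⁻¹ᵁ (Qi f g p ji)).ι y) := by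
    have := congr($(morphismRestrict_ι (incl f g U₀ j₀ hj₀) (Qi f g p ji)) y)
    simpa only [Scheme.Hom.comp_apply] using this
  rw [h1]
  have h2 : incl f g U₀ j₀ hj₀ (((incl f g U₀ j₀ hj₀) ⁻¹ᵁ (Qi f g p ji)).ι y) ∈
      closure (Set.range (phi f g U₀ j₀ hj₀)) := by
    rw [← range_incl]; exact ⟨_, rfl⟩
  refine closure_mono ?_ h2
  rintro _ ⟨u, rfl⟩
  refine ⟨(ti f g p gi hp ji hji) ((ell U₀ j₀ p hle ji hc) u), ⟨_, rfl⟩, ?_⟩
  have := congr($(ell_tiQ f g U₀ j₀ hj₀ p gi hp hle ji hji hc) u)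
  rw [← ti_ι] at this
  simpa only [Scheme.Hom.comp_apply] using this

include hle hc hp hji in
/-- **(C3)** `ψ⁻¹(V_i) ⟶ V_i` is a closed immersion. -/
theorem isClosedImmersion_psi_restrict :
    IsClosedImmersion (psi f g U₀ j₀ hj₀ ∣_ Vi p ji) := by
  let t := ti f g p gi hp ji hji
  let θ := thetai f g U₀ j₀ hj₀ p ji
  have hsurj : Surjective (pullback.snd t θ) := by
    constructor
    rw [← Set.range_eq_univ, Scheme.Pullback.range_snd, Set.eq_univ_iff_forall]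
    intro y
    exact range_thetai_subset f g U₀ j₀ hj₀ p gi hp hle ji hji hc ⟨y, rfl⟩
  have hiso : IsIso (pullback.snd t θ) := isIso_of_isClosedImmersion_of_surjective _
  let lam := inv (pullback.snd t θ) ≫ pullback.fst t θ
  have hlam : lam ≫ t = θ := by
    dsimp only [lam]
    rw [Category.assoc, pullback.condition, IsIso.inv_hom_id_assoc]
  have hcl : IsClosedImmersion lam := by
    have : IsClosedImmersion (lam ≫ t) := by rw [hlam]; infer_instance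
    exact IsClosedImmersion.of_comp lam t
  have key : psi f g U₀ j₀ hj₀ ∣_ Vi p ji =
      lam ≫ pullback.snd ji.liftCoborder (p ∣_ Wi ji) := by
    rw [← ti_snd f g p gi hp ji hji, ← Category.assoc, hlam]
    exact morphismRestrict_comp _ _ _
  rw [key]
  have h2 : IsClosedImmersion (pullback.snd ji.liftCoborder (p ∣_ Wi ji)) := inferInstance
  exact IsClosedImmersion.comp lam _

end chart

/-! ### The core theorem -/

lemma irreducibleSpace_of_dominant {X Y : Scheme.{u}} (t : X ⟶ Y) [IsDominant t]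
    [IrreducibleSpace X] : IrreducibleSpace Y := by
  rw [irreducibleSpace_def]
  have h1 : IsIrreducible (Set.range t) := by
    rw [← Set.image_univ]
    exact (irreducibleSpace_def X).1 inferInstance |>.image t t.continuous.continuousOn
  have h2 := h1.closure
  rwa [t.denseRange.closure_eq] at h2

/-- **Core of Chow's lemma** (integral case). -/
theorem chow_core {S Z P : Scheme.{u}} (f : Z ⟶ S) [IsSeparated f] (g : P ⟶ S) [IsSeparated g]
    [IsIntegral Z] (U₀ : Z.Opens) [QuasiCompact U₀.ι] (hne : (U₀ : Set Z).Nonempty)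
    (j₀ : (U₀ : Scheme.{u}) ⟶ P) (hj₀ : U₀.ι ≫ f = j₀ ≫ g)
    {ι : Type*} (U : ι → Z.Opens) (hcov : ∀ z : Z, ∃ i, z ∈ U i) (hle : ∀ i, U₀ ≤ U i)
    (Pi : ι → Scheme.{u}) (p : ∀ i, P ⟶ Pi i) (gi : ∀ i, Pi i ⟶ S) [∀ i, IsSeparated (gi i)]
    (hp : ∀ i, p i ≫ gi i = g) (ji : ∀ i, (U i : Scheme.{u}) ⟶ Pi i) [∀ i, IsImmersion (ji i)]
    (hji : ∀ i, ji i ≫ gi i = (U i).ι ≫ f)
    (hc : ∀ i, j₀ ≫ p i = Z.homOfLE (hle i) ≫ ji i) :
    ∃ (Z₁ : Scheme.{u}) (π : Z₁ ⟶ Z) (ψ : Z₁ ⟶ P), IsImmersion ψ ∧ ψ ≫ g = π ≫ f ∧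
      IsIso (π ∣_ U₀) ∧ IsIntegral Z₁ ∧ (IsProper g → IsProper π ∧ Surjective π) := by
  have hne' : Nonempty (U₀ : Scheme.{u}) := ⟨⟨hne.some, hne.some_mem⟩⟩
  have hirr : IrreducibleSpace (Z' f g U₀ j₀ hj₀) :=
    irreducibleSpace_of_dominant (toZ' f g U₀ j₀ hj₀)
  refine ⟨Z' f g U₀ j₀ hj₀, pi f g U₀ j₀ hj₀, psi f g U₀ j₀ hj₀, ?_, ?_,
    isIso_pi_restrict f g U₀ j₀ hj₀, isIntegral_of_irreducibleSpace_of_isReduced _, ?_⟩
  · refine isImmersion_of_local_closedImmersion _ (fun i => Vi (p i) (ji i)) ?_ ?_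
    · intro z'
      obtain ⟨i, hi⟩ := hcov ((pi f g U₀ j₀ hj₀) z')
      exact ⟨i, preimage_pi_le f g U₀ j₀ hj₀ (p i) (gi i) (hp i) (hle i) (ji i) (hji i) (hc i) hi⟩
    · intro i
      exact isClosedImmersion_psi_restrict f g U₀ j₀ hj₀ (p i) (gi i) (hp i) (hle i) (ji i)
        (hji i) (hc i)
  · simp only [Category.assoc]
    rw [pullback.condition]
  · intro hg
    have hprop : IsProper (pi f g U₀ j₀ hj₀) := by
      dsimp only [pi]; infer_instance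
    refine ⟨hprop, ⟨?_⟩⟩
    have hcl : IsClosed (Set.range (pi f g U₀ j₀ hj₀)) :=
      (pi f g U₀ j₀ hj₀).isClosedMap.isClosed_range
    have hU₀ : (U₀ : Set Z) ⊆ Set.range (pi f g U₀ j₀ hj₀) := by
      intro z hz
      let o : (U₀ : Scheme.{u}) := ⟨z, hz⟩
      refine ⟨toZ' f g U₀ j₀ hj₀ o, ?_⟩
      have := congr($(toZ'_pi f g U₀ j₀ hj₀) o)
      exact this
    have hd : Dense (U₀ : Set Z) := U₀.2.dense hne
    rw [← Set.range_eq_univ, ← hcl.closure_eq]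
    exact Set.eq_univ_of_univ_subset (hd.closure_eq ▸ closure_mono hU₀)

end Groth.Agent.Lib.Lead.ChowCore
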