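import Mathlib
import Groth.Agent.Lib.Lead.ClosedPt

/-!
# Locally closed points of locally Noetherian schemes (lead)

* `isClosed_of_specializes_of_open`: if `x` is the only specialization of `x` inside an open `U ∋ x`, then every
  other point of `closure {x}` is closed.
* `dim_closure_le_one`: for `{x}` locally closed, `closure {x}` has dimension `≤ 1` and its other points are closed.
-/

set_option autoImplicit false
set_option backward.isDefEq.respectTransparency false
set_option linter.style.haveILetI false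
set_option linter.unusedSectionVars false
universe u

open CategoryTheory AlgebraicGeometry TopologicalSpace

namespace Groth.Agent.Lib.Lead.ClosedPt

open Groth.Agent.Lib.helper3.DimIneq

variable {X : Scheme.{u}}

theorem isClosed_of_specializes_of_open [IsLocallyNoetherian X] (x : X) (U : X.Opens) (hxU : x ∈ U)
    (hU : ∀ w ∈ U, x ⤳ w → w = x) (y : X) (hy : x ⤳ y) (hyne : y ≠ x) :
    IsClosed ({y} : Set X) := by
  rw [← closure_subset_iff_isClosed]
  intro y' hy'
  have hyy' : y ⤳ y' := specializes_iff_mem_closure.2 hy'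
  by_contra hne
  have hne' : y' ≠ y := hne
  obtain ⟨V, hV, hy'V, -⟩ := Opens.isBasis_iff_nbhd.mp X.isBasis_affineOpens (Opens.mem_top y')
  have hyV : y ∈ V := hyy'.mem_open V.isOpen hy'V
  have hxV : x ∈ V := hy.mem_open V.isOpen hyV
  haveI : IsNoetherianRing Γ(X, V) := IsLocallyNoetherian.component_noetherian ⟨V, hV⟩
  obtain ⟨f, hfle, hxf⟩ := hV.exists_basicOpen_le (V := U ⊓ V) ⟨x, ⟨hxU, hxV⟩⟩ hxV
  refine no_chain_of_forall_mem' (hV.primeIdealOf ⟨x, hxV⟩).asIdeal f ?_ ?_
    (hV.primeIdealOf ⟨y, hyV⟩).asIdeal (hV.primeIdealOf ⟨y', hy'V⟩).asIdeal ?_ ?_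
  · exact (mem_basicOpen_iff_not_mem_primeIdealOf hV f _ hxV).1 hxf
  · intro Q hQ hlt
    haveI := hQ
    obtain ⟨w, hwV, hw⟩ := exists_point_of_prime hV Q
    by_contra hfQ
    have hwf : w ∈ X.basicOpen f :=
      (mem_basicOpen_iff_not_mem_primeIdealOf hV f w hwV).2 (hw ▸ hfQ)
    have hwU : w ∈ U := (hfle hwf).1
    have hsp : x ⤳ w :=
      (specializes_iff_primeIdealOf_le hV _ w hxV hwV).2 (hw ▸ hlt.le)
    have hwx := hU w hwU hsp
    apply hlt.ne
    rw [← hw]
    congr 2
    exact Subtype.ext hwx.symm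
  · refine lt_of_le_of_ne ((specializes_iff_primeIdealOf_le hV _ y hxV hyV).1 hy) fun he => ?_
    exact hyne (eq_of_primeIdealOf_eq hV _ _ hxV hyV he).symm
  · refine lt_of_le_of_ne ((specializes_iff_primeIdealOf_le hV y y' hyV hy'V).1 hyy') fun he => ?_
    exact hne' (eq_of_primeIdealOf_eq hV _ _ hyV hy'V he).symm

theorem dim_closure_le_one [IsLocallyNoetherian X] (x : X)
    (hx : IsLocallyClosed ({x} : Set X)) :
    topologicalKrullDim (closure ({x} : Set X)) ≤ 1 ∧
      ∀ y ∈ closure ({x} : Set X), y ≠ x → IsClosed ({y} : Set X) := by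
  obtain ⟨U, Z, hUo, hZc, hxUZ⟩ := hx
  have hxmem : x ∈ U ∩ Z := hxUZ ▸ Set.mem_singleton x
  have hU' : ∀ w ∈ U, x ⤳ w → w = x := fun w hw hsp => by
    have h1 : w ∈ Z :=
      (hZc.closure_subset_iff.2 (Set.singleton_subset_iff.2 hxmem.2))
        (specializes_iff_mem_closure.1 hsp)
    have h2 : w ∈ ({x} : Set X) := hxUZ ▸ (⟨hw, h1⟩ : w ∈ U ∩ Z)
    exact h2
  have hcl : ∀ y ∈ closure ({x} : Set X), y ≠ x → IsClosed ({y} : Set X) := fun y hy hne =>
    isClosed_of_specializes_of_open x ⟨U, hUo⟩ hxmem.1 hU' y (specializes_iff_mem_closure.2 hy) hne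
  refine ⟨?_, hcl⟩
  unfold topologicalKrullDim
  rw [Order.krullDim_le_one_iff]
  intro W
  haveI : QuasiSober ↥(closure ({x} : Set X)) :=
    (isClosed_closure.isClosedEmbedding_subtypeVal).quasiSober
  obtain ⟨z, hz⟩ := QuasiSober.sober W.isIrreducible W.isClosed
  by_cases hzx : z.1 = x
  · right
    intro W' _ p _
    have hzW : z ∈ (W : Set _) := hz.mem
    have hp : p ∈ closure ({z} : Set ↥(closure ({x} : Set X))) := by
      rw [← specializes_iff_mem_closure, subtype_specializes_iff, hzx,
        specializes_iff_mem_closure]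
      exact p.2
    exact (W.isClosed.closure_subset_iff.2 (Set.singleton_subset_iff.2 hzW)) hp
  · left
    have hzcl : IsClosed ({z} : Set ↥(closure ({x} : Set X))) := by
      have h1 : IsClosed (Subtype.val ⁻¹' ({z.1} : Set X) : Set ↥(closure ({x} : Set X))) :=
        (hcl z.1 z.2 hzx).preimage continuous_subtype_val
      have h2 : (Subtype.val ⁻¹' ({z.1} : Set X) : Set ↥(closure ({x} : Set X))) = {z} := by
        ext p
        simp [Subtype.ext_iff]
      rwa [h2] at h1
    have hWeq : (W : Set ↥(closure ({x} : Set X))) = {z} := by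
      rw [← hz.def, hzcl.closure_eq]
    intro W' hle p hp
    have hp' : p = z := by
      have : p ∈ (W : Set _) := hp
      rw [hWeq] at this
      exact this
    obtain ⟨q, hq⟩ := W'.isIrreducible.nonempty
    have hq' : q = z := by
      have : q ∈ (W : Set _) := hle hq
      rw [hWeq] at this
      exact this
    rw [hp', ← hq']
    exact hq

end Groth.Agent.Lib.Lead.ClosedPt
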