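import Groth.Agent.Lib.Helper28.SegreMain
import Groth.Agent.Lib.Helper28.ProjBundleEpi
import Groth.Agent.Lib.Helper28.RelTwistCanon
import Groth.Agent.Lib.Helper11.InvMod

/-!
# Step `k → k+1` for EGA II 4.4.10 (ii)  (lead, for helper28's S12473)

If `M` is very ample relative to `f ≫ g` and `K` is very ample relative to `g`, then
`M ⊗ f^* K` is very ample relative to `f ≫ g`: `K` is a quotient of `g^* G` for the quasi-coherent
`G` on the base defining the projective bundle, hence `f^* K` is a quotient of `(f ≫ g)^* G`, and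
EGA II 4.4.8 (helper28's `isRelVeryAmple_tensor_of_epi`) applies.
-/

set_option autoImplicit false
set_option linter.style.haveILetI false
universe u
open CategoryTheory CategoryTheory.Limits AlgebraicGeometry TopologicalSpace Opposite

namespace Groth.Agent.Lib.Lead.CompVA

/-- A very ample `K` relative to `g` is a quotient of `g^* G` for some quasi-coherent `G` on the
base. -/
theorem exists_epi_pullback_of_isRelVeryAmple {Y Z : Scheme.{u}} (g : Y ⟶ Z) (K : Y.Modules)
    (hKva : RelProj.IsRelVeryAmple g K) :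
    ∃ (G : Z.Modules) (_ : G.IsQuasicoherent) (ψ : (Scheme.Modules.pullback g).obj G ⟶ K),
      Epi ψ := by
  obtain ⟨G, hG, 𝒮, j, hj, P, p, chart, hP, O1, lam, hO1, i, himm, hip, ⟨τ⟩⟩ := hKva
  subst hip
  have hGq : G.IsQuasicoherent := hG
  obtain ⟨φ, hφ⟩ := Groth.Agent.Lib.helper28.RelTwistCanon.exists_canon_hom lam hP hO1 (d := 1)
    (by simp) G j hj.2
  have hφ' : ∀ (U : Z.Opens) (hU : IsAffineOpen U) (e : Γ(G, U))
      (y : ↥(RelProj.emb p chart U hU ⁻¹ᵁ (p ⁻¹ᵁ U))),
      GrTwist.val (V := RelProj.emb p chart U hU ⁻¹ᵁ (p ⁻¹ᵁ U))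
          ((lam U hU).app (p ⁻¹ᵁ U) ((φ.app U) e)) y =
        algebraMap (𝒮.presheaf.obj (op U)) (GrTwist.Loc (𝒮.deg U hU) y.1)
          ((j.app U) e : 𝒮.presheaf.obj (op U)) := fun U hU e y => hφ U hU e y.1 y.2
  have hepi : Epi (((Scheme.Modules.pullbackPushforwardAdjunction p).homEquiv G O1).symm φ) :=
    Groth.Agent.Lib.helper28.ProjBundleEpi.epi_adj G 𝒮 j hj p chart O1 lam hO1 φ hφ'
  have hpe : (Scheme.Modules.pullback i).PreservesEpimorphisms :=
    Functor.preservesEpimorphisms_of_adjunction (Scheme.Modules.pullbackPushforwardAdjunction i)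
  have h1 : Epi ((Scheme.Modules.pullback i).map
      (((Scheme.Modules.pullbackPushforwardAdjunction p).homEquiv G O1).symm φ)) :=
    (Scheme.Modules.pullback i).map_epi _
  refine ⟨G, hGq, (Scheme.Modules.pullbackComp i p).inv.app G ≫
    (Scheme.Modules.pullback i).map
      (((Scheme.Modules.pullbackPushforwardAdjunction p).homEquiv G O1).symm φ) ≫ τ.inv, ?_⟩
  have h2 : Epi ((Scheme.Modules.pullback i).map
      (((Scheme.Modules.pullbackPushforwardAdjunction p).homEquiv G O1).symm φ) ≫ τ.inv) :=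
    epi_comp _ _
  exact epi_comp _ _

/-- REQUEST 1 (Step B) of helper28's note 2828. -/
theorem isRelVeryAmple_tensor_pullback {X Y Z : Scheme.{u}} (f : X ⟶ Y) (g : Y ⟶ Z)
    (M : X.Modules) (hM : PicF.IsInvertible M) (hMva : RelProj.IsRelVeryAmple (f ≫ g) M)
    (K : Y.Modules) (hK : PicF.IsInvertible K) (hKva : RelProj.IsRelVeryAmple g K) :
    RelProj.IsRelVeryAmple (f ≫ g)
      (CohB1.tensorMod M ((Scheme.Modules.pullback f).obj K)) := by
  obtain ⟨G, hGq, ψ, hψ⟩ := exists_epi_pullback_of_isRelVeryAmple g K hKva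
  have hpe : (Scheme.Modules.pullback f).PreservesEpimorphisms :=
    Functor.preservesEpimorphisms_of_adjunction (Scheme.Modules.pullbackPushforwardAdjunction f)
  have h1 : Epi ((Scheme.Modules.pullback f).map ψ) := (Scheme.Modules.pullback f).map_epi _
  have h2 : Epi ((Scheme.Modules.pullbackComp f g).inv.app G ≫
      (Scheme.Modules.pullback f).map ψ) := epi_comp _ _
  exact Groth.Agent.Lib.helper28.SegreMain.isRelVeryAmple_tensor_of_epi (f ≫ g) M
    ((Scheme.Modules.pullback f).obj K) hM
    (Groth.Agent.Lib.helper11.InvMod.isInvertible_pullback f hK) hMva G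
    ((Scheme.Modules.pullbackComp f g).inv.app G ≫ (Scheme.Modules.pullback f).map ψ) h2

end Groth.Agent.Lib.Lead.CompVA
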