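import Groth.Agent.Lib.Helper28.SegreMain
import Groth.Agent.Lib.Helper28.VAmpleIso
import Groth.Agent.Lib.Helper12.RelAmpleComp
import Groth.Agent.Lib.Helper11.InvMod
import Groth.Agent.S12467

/-!
# Reduction of EGA II 4.4.10 (ii) to an affine base (lead, for helper28's S12473)

Very ampleness is local on the base (`S12467`), so the statement
"`L ⊗ f^* K^{⊗ n}` is very ample relative to `f ≫ g` for all `n ≥ n₀`" over a quasi-compact `Z`
follows from the same statement over the members of a finite affine open cover of `Z`.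
-/

set_option autoImplicit false
set_option linter.style.haveILetI false
universe u
open CategoryTheory CategoryTheory.Limits AlgebraicGeometry TopologicalSpace Opposite

namespace Groth.Agent.Lib.Lead.CompVA

open Groth.Agent.Lib.helper12.PullAmpleRel Groth.Agent.Lib.helper12.TensorInv
  Groth.Agent.Lib.helper12.AmplePow Groth.Agent.Lib.helper12.TensorRestrict
  Groth.Agent.Lib.helper11.InvMod

/-- Very ampleness restricts to the preimage of an open of the base. -/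
theorem isRelVeryAmple_restrict {X Y : Scheme.{u}} (q : X ⟶ Y) [QuasiCompact q] (L : X.Modules)
    (hL : PicF.IsInvertible L) (h : RelProj.IsRelVeryAmple q L) (V : Y.Opens) :
    RelProj.IsRelVeryAmple (q ∣_ V) (L.restrict (q ⁻¹ᵁ V).ι) := by
  have hU : ⨆ W : Y.Opens, (id W : Y.Opens) = ⊤ := by
    rw [eq_top_iff]
    exact le_iSup (fun W : Y.Opens => (id W : Y.Opens)) ⊤
  exact (Groth.Agent.S12467.result q L hL (fun W : Y.Opens => id W) hU).mp h V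

/-- One affine open `W` of the base: the restriction of `L ⊗ f^* K^{⊗ n}` over `W`. -/
theorem exists_isRelVeryAmple_restrict
    (H : ∀ {X Y Z : Scheme.{u}} [IsAffine Z] (f : X ⟶ Y) [QuasiCompact f] [LocallyOfFiniteType f]
      (g : Y ⟶ Z) [QuasiCompact g] (L : X.Modules) (_ : PicF.IsInvertible L)
      (_ : RelProj.IsRelVeryAmple f L) (K : Y.Modules) (_ : PicF.IsInvertible K)
      (_ : RelProj.IsRelVeryAmple g K),
      ∃ n₀ : ℕ, 0 < n₀ ∧ ∀ n : ℕ, n₀ ≤ n → RelProj.IsRelVeryAmple (f ≫ g)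
        (CohB1.tensorMod L ((Scheme.Modules.pullback f).obj (CohB1.tensorPow K n))))
    {X Y Z : Scheme.{u}} (f : X ⟶ Y)
    [QuasiCompact f] [LocallyOfFiniteType f] (g : Y ⟶ Z) [QuasiCompact g]
    (L : X.Modules) (hL : PicF.IsInvertible L) (hLva : RelProj.IsRelVeryAmple f L)
    (K : Y.Modules) (hK : PicF.IsInvertible K) (hKva : RelProj.IsRelVeryAmple g K)
    (W : Z.Opens) (hW : IsAffineOpen W) :
    ∃ n₀ : ℕ, 0 < n₀ ∧ ∀ n : ℕ, n₀ ≤ n →
      RelProj.IsRelVeryAmple ((f ≫ g) ∣_ W)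
        ((CohB1.tensorMod L ((Scheme.Modules.pullback f).obj (CohB1.tensorPow K n))).restrict
          ((f ≫ g) ⁻¹ᵁ W).ι) := by
  have hWa : IsAffine (W : Scheme.{u}) := hW
  have hKW : RelProj.IsRelVeryAmple (g ∣_ W) (K.restrict (g ⁻¹ᵁ W).ι) :=
    isRelVeryAmple_restrict g K hK hKva W
  have hLW : RelProj.IsRelVeryAmple (f ∣_ (g ⁻¹ᵁ W)) (L.restrict (f ⁻¹ᵁ (g ⁻¹ᵁ W)).ι) :=
    isRelVeryAmple_restrict f L hL hLva (g ⁻¹ᵁ W)
  obtain ⟨n₀, hpos, h⟩ := H (f ∣_ (g ⁻¹ᵁ W)) (g ∣_ W) (L.restrict (f ⁻¹ᵁ (g ⁻¹ᵁ W)).ι)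
    (isInvertible_restrict _ hL) hLW (K.restrict (g ⁻¹ᵁ W).ι) (isInvertible_restrict _ hK) hKW
  refine ⟨n₀, hpos, fun n hn => ?_⟩
  have h1 := h n hn
  rw [← morphismRestrict_comp] at h1
  let e₂ : ((Scheme.Modules.pullback f).obj (CohB1.tensorPow K n)).restrict
        (f ⁻¹ᵁ (g ⁻¹ᵁ W)).ι ≅
      (Scheme.Modules.pullback (f ∣_ (g ⁻¹ᵁ W))).obj
        (CohB1.tensorPow (K.restrict (g ⁻¹ᵁ W).ι) n) :=
    pullRestrictIso (f ⁻¹ᵁ (g ⁻¹ᵁ W)).ι f (f ∣_ (g ⁻¹ᵁ W)) (g ⁻¹ᵁ W).ι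
        (morphismRestrict_ι f (g ⁻¹ᵁ W)).symm (CohB1.tensorPow K n) ≪≫
      (Scheme.Modules.pullback (f ∣_ (g ⁻¹ᵁ W))).mapIso (restrictTensorPowIso (g ⁻¹ᵁ W).ι K n)
  let e : (CohB1.tensorMod L ((Scheme.Modules.pullback f).obj (CohB1.tensorPow K n))).restrict
        (f ⁻¹ᵁ (g ⁻¹ᵁ W)).ι ≅
      CohB1.tensorMod (L.restrict (f ⁻¹ᵁ (g ⁻¹ᵁ W)).ι)
        ((Scheme.Modules.pullback (f ∣_ (g ⁻¹ᵁ W))).obj
          (CohB1.tensorPow (K.restrict (g ⁻¹ᵁ W).ι) n)) :=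
    restrictTensorIso (f ⁻¹ᵁ (g ⁻¹ᵁ W)).ι L _ ≪≫
      Groth.Agent.Lib.Lead.ModTensor.tensorIso (Iso.refl _) e₂
  exact Groth.Agent.Lib.helper28.VAmpleIso.isRelVeryAmple_of_iso e.symm h1

/-- REQUEST 2 (reduction of S12473 to an affine base) of helper28's note 2828. -/
theorem reduce_to_affine
    (H : ∀ {X Y Z : Scheme.{u}} [IsAffine Z] (f : X ⟶ Y) [QuasiCompact f] [LocallyOfFiniteType f]
      (g : Y ⟶ Z) [QuasiCompact g] (L : X.Modules) (_ : PicF.IsInvertible L)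
      (_ : RelProj.IsRelVeryAmple f L) (K : Y.Modules) (_ : PicF.IsInvertible K)
      (_ : RelProj.IsRelVeryAmple g K),
      ∃ n₀ : ℕ, 0 < n₀ ∧ ∀ n : ℕ, n₀ ≤ n → RelProj.IsRelVeryAmple (f ≫ g)
        (CohB1.tensorMod L ((Scheme.Modules.pullback f).obj (CohB1.tensorPow K n))))
    {X Y Z : Scheme.{u}} [CompactSpace Z] (f : X ⟶ Y)
    [QuasiCompact f] [LocallyOfFiniteType f] (g : Y ⟶ Z) [QuasiCompact g]
    (L : X.Modules) (hL : PicF.IsInvertible L) (hLva : RelProj.IsRelVeryAmple f L)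
    (K : Y.Modules) (hK : PicF.IsInvertible K) (hKva : RelProj.IsRelVeryAmple g K) :
    ∃ n₀ : ℕ, 0 < n₀ ∧ ∀ n : ℕ, n₀ ≤ n →
      RelProj.IsRelVeryAmple (f ≫ g)
        (CohB1.tensorMod L ((Scheme.Modules.pullback f).obj (CohB1.tensorPow K n))) := by
  have step := fun W : Z.affineOpens =>
    exists_isRelVeryAmple_restrict H f g L hL hLva K hK hKva W.1 W.2
  choose N hNpos hN using step
  obtain ⟨t, ht⟩ := isCompact_univ.elim_finite_subcover
    (fun W : Z.affineOpens => (W.1 : Set Z)) (fun W => W.1.2)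
    (fun z _ => by
      obtain ⟨W, hW, hzW, -⟩ := (Opens.isBasis_iff_nbhd.mp Z.isBasis_affineOpens)
        (show z ∈ (⊤ : Z.Opens) from trivial)
      exact Set.mem_iUnion.mpr ⟨⟨W, hW⟩, hzW⟩)
  refine ⟨t.sup N + 1, Nat.succ_pos _, fun n hn => ?_⟩
  have hU : ⨆ W : {W // W ∈ t}, (W.1.1 : Z.Opens) = ⊤ := by
    rw [eq_top_iff]
    intro z _
    obtain ⟨W, hWt, hzW⟩ := Set.mem_iUnion₂.mp (ht (Set.mem_univ z))
    exact Opens.mem_iSup.mpr ⟨⟨W, hWt⟩, hzW⟩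
  have hinv : PicF.IsInvertible
      (CohB1.tensorMod L ((Scheme.Modules.pullback f).obj (CohB1.tensorPow K n))) :=
    isInvertible_tensorMod hL (isInvertible_pullback f (isInvertible_tensorPow hK n))
  rw [Groth.Agent.S12467.result (f ≫ g) _ hinv (fun W : {W // W ∈ t} => (W.1.1 : Z.Opens)) hU]
  intro W
  exact hN W.1 n (le_trans (le_trans (Finset.le_sup (f := N) W.2) (Nat.le_succ _)) hn)

end Groth.Agent.Lib.Lead.CompVA
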