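import Mathlib
import Groth.Agent.S7759
import Groth.Agent.Lib.Helper25.FLFLocus
import Groth.Agent.Lib.Helper11.ProjFormulaC
import Groth.Agent.Lib.Helper9.CurveVanish
import Groth.Agent.Lib.Helper14.AbVarComm
import Groth.Agent.Lib.Helper3.FibreDimBC2
import Groth.Agent.Lib.Lead.EulerLC3
import Groth.Agent.Lib.Lead.PicDeg1

/-! # `R¹ f_* L = 0` for a relative smooth proper curve and `deg L_s > 2g - 2` (lead)

* `fiberRank_one_eq_zero`: for `f : C ⟶ S` smooth proper with geometrically connected fibres of dimension one, `L`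
  invertible and `s : S` with `deg L_s > 2g(C_s) - 2` (degree and genus through `CohIII.fiberRank`), `h¹(C_s, L_s) = 0`.
  Proof: pass to the geometric fibre `T = C_s ×_{κ(s)} Ω` (`Ω` an algebraic closure); it is a proper smooth connected,
  hence integral, curve over `Ω`; fibre ranks are computed on `T` (`EulerLC.finrank_eq_fiberRank_of_point`),
  `h⁰(O_T) = 1`, and helper9's duality-free vanishing `CurveVanish.subsingleton_H1_of_deg_ge` applies.
* `main`: then `R¹ f_* L = 0` and `f_* L` is finite locally free (helper18's S7759 near each point).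
-/

set_option autoImplicit false
set_option linter.style.haveILetI false
universe u
open CategoryTheory CategoryTheory.Limits AlgebraicGeometry

namespace Groth.Agent.Lib.Lead.CurveR1

open Groth.Agent.Lib.Lead.EulerLC Groth.Agent.Lib.helper11.InvMod

/-- fibrewise vanishing of `H¹` for a relative smooth proper curve with geometrically connected fibres and an
invertible module of fibre degree `> 2g - 2`. -/
theorem fiberRank_one_eq_zero {C S : Scheme.{u}} (f : C ⟶ S) [Smooth f] [IsProper f]
    [GeometricallyConnected f]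
    (hdim : ∀ s : S, topologicalKrullDim ↥(f.fiber s) = 1) (L : C.Modules) (hL : PicF.IsInvertible L)
    (s : S)
    (hdeg : ((CohIII.fiberRank f L 0 s : ℤ) - CohIII.fiberRank f L 1 s) -
        (1 - (CohIII.fiberRank f (Coh.structureModule C) 1 s : ℤ)) >
      2 * (CohIII.fiberRank f (Coh.structureModule C) 1 s : ℤ) - 2) :
    CohIII.fiberRank f L 1 s = 0 := by
  classical
  haveI : Flat f := inferInstance
  haveI : LocallyOfFinitePresentation f := inferInstance
  let κ : Type u := S.residueField s
  let b₁ : Spec (CommRingCat.of κ) ⟶ S := S.fromSpecResidueField s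
  let Ω : Type u := AlgebraicClosure κ
  let a : Spec (CommRingCat.of Ω) ⟶ Spec (CommRingCat.of κ) :=
    Spec.map (CommRingCat.ofHom (algebraMap κ Ω))
  let σ : Spec (CommRingCat.of Ω) ⟶ S := a ≫ b₁
  have hb₁ : ∀ x, b₁.base x = s := fun x => Scheme.fromSpecResidueField_apply _ _
  have hσ' : ∀ x, σ.base x = s := fun x => by
    simp only [σ, Scheme.Hom.comp_base, TopCat.hom_comp, ContinuousMap.comp_apply, hb₁]
  let p : f.fiber s ⟶ Spec (CommRingCat.of κ) := f.fiberToSpecResidueField s
  let T : Scheme.{u} := pullback p a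
  letI oT : T.Over (Spec (CommRingCat.of Ω)) := ⟨pullback.snd p a⟩
  let t : T ⟶ C := pullback.fst p a ≫ f.fiberι s
  have hsq1 : IsPullback (pullback.fst p a) (pullback.snd p a) p a := IsPullback.of_hasPullback p a
  have hsq2 : IsPullback (f.fiberι s) p f b₁ := IsPullback.of_hasPullback f b₁
  have hT : IsPullback t (T ↘ Spec (CommRingCat.of Ω)) f σ := hsq1.paste_horiz hsq2
  haveI : IsProper p := (inferInstance : IsProper (pullback.snd f b₁))
  haveI : Smooth p := (inferInstance : Smooth (pullback.snd f b₁))
  haveI : IsProper (T ↘ Spec (CommRingCat.of Ω)) := (inferInstance : IsProper (pullback.snd p a))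
  haveI : Smooth (T ↘ Spec (CommRingCat.of Ω)) := (inferInstance : Smooth (pullback.snd p a))
  haveI : ConnectedSpace T :=
    GeometricallyConnected.geometrically_connectedSpace σ t (T ↘ Spec (CommRingCat.of Ω)) hT
  haveI : IsIntegral T :=
    Groth.Agent.Lib.Helper14.AbVarComm.isIntegral_of_smooth_connected (T ↘ Spec (CommRingCat.of Ω))
  have hdT : topologicalKrullDim T ≤ 1 := by
    have h := Groth.Agent.Lib.helper3.FibreDimBC.dim_eq_of_isPullback_field (k := κ) (K := Ω)
      (pullback.fst p a) (pullback.snd p a) p hsq1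
    rw [h]
    exact (hdim s).le
  have hflfL := Groth.Agent.Lib.helper16.FLF.isFinLocFree_of_isInvertible hL
  have hflL : FlatMod.IsFlatOver f L :=
    Groth.Agent.Lib.helper21.InvFibre.isFlatOver_of_isFinLocFree f L hflfL
  have hFPL : CohB1.IsFP L :=
    Groth.Agent.Lib.helper16.FLF.isFinitePresentation_of_isFinLocFree _ hflfL
  have hflfO := Groth.Agent.Lib.helper16.FLF.isFinLocFree_structureModule C
  have hflO : FlatMod.IsFlatOver f (Coh.structureModule C) :=
    Groth.Agent.Lib.helper21.InvFibre.isFlatOver_of_isFinLocFree f _ hflfO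
  have hFPO : CohB1.IsFP (Coh.structureModule C) :=
    Groth.Agent.Lib.helper16.FLF.isFinitePresentation_of_isFinLocFree _ hflfO
  let LT : T.Modules := (Scheme.Modules.pullback t).obj L
  have hLT : PicF.IsInvertible LT := isInvertible_pullback t hL
  have r0 := finrank_eq_fiberRank_of_point f L hFPL hflL Ω σ t hT LT (Iso.refl _) 0
  have r1 := finrank_eq_fiberRank_of_point f L hFPL hflL Ω σ t hT LT (Iso.refl _) 1
  have g1 := finrank_eq_fiberRank_of_point f _ hFPO hflO Ω σ t hT (Coh.structureModule T)
    (pullbackUnitIso t).symm 1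
  have hp2 : σ.base (⊥ : PrimeSpectrum Ω) = s := hσ' _
  rw [hp2] at r0 r1 g1
  have h0 : Module.finrank Ω (Coh.HH T (Coh.structureModule T) 0) = 1 :=
    Groth.Agent.Lib.helper9.CurveVanish.finrank_H0_structureModule_eq_one Ω T
  have hLc := Groth.Agent.Lib.Lead.CurveInv.isCoh_of_isInvertible T hLT
  have hrr := Groth.Agent.Lib.Lead.CurveEuler.riemann_roch' Ω T hdT h0 LT hLc.1 1
  have hgen : (Curv2.genus Ω T : ℤ) = (CohIII.fiberRank f (Coh.structureModule C) 1 s : ℤ) := by
    unfold Curv2.genus
    rw [g1]
  have hsub : Subsingleton (Coh.HH T LT 1) := by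
    apply Groth.Agent.Lib.helper9.CurveVanish.subsingleton_H1_of_deg_ge Ω T hdT h0 hLT
    rw [r0, r1] at hrr
    push_cast at hrr
    rw [hgen]
    rw [hgen] at hrr
    linarith
  rw [← r1]
  exact Module.finrank_zero_of_subsingleton


open Groth.Agent.Lib.helper25.FLFLocus in
theorem main {C S : Scheme.{u}} (f : C ⟶ S) [Smooth f] [IsProper f] [GeometricallyConnected f]
    (hdim : ∀ s : S, topologicalKrullDim ↥(f.fiber s) = 1) (L : C.Modules) (hL : PicF.IsInvertible L)
    (hdeg : ∀ s : S, ((CohIII.fiberRank f L 0 s : ℤ) - CohIII.fiberRank f L 1 s) -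
        (1 - (CohIII.fiberRank f (Coh.structureModule C) 1 s : ℤ)) >
      2 * (CohIII.fiberRank f (Coh.structureModule C) 1 s : ℤ) - 2)
    [HasInjectiveResolutions C.Modules] :
    IsZero ((Coh.Rpush f 1).obj L) ∧ FlatMod.IsFinLocFree ((Coh.push f).obj L) ∧
      ∀ s : S, CohIII.fiberRank f L 1 s = 0 := by
  haveI : Flat f := inferInstance
  haveI : LocallyOfFinitePresentation f := inferInstance
  have hc : ∀ s, CohIII.fiberRank f L 1 s = 0 := fun s =>
    fiberRank_one_eq_zero f hdim L hL s (hdeg s)
  have hflfL := Groth.Agent.Lib.helper16.FLF.isFinLocFree_of_isInvertible hL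
  have hflL : FlatMod.IsFlatOver f L :=
    Groth.Agent.Lib.helper21.InvFibre.isFlatOver_of_isFinLocFree f L hflfL
  have hFPL : CohB1.IsFP L :=
    Groth.Agent.Lib.helper16.FLF.isFinitePresentation_of_isFinLocFree _ hflfL
  have hsub : ∀ s, Subsingleton (CohIII.fiberH f L s 1) := by
    intro s
    letI oF : (f.fiber s).Over (Spec (CommRingCat.of (S.residueField s))) :=
      ⟨f.fiberToSpecResidueField s⟩
    haveI : IsProper ((f.fiber s) ↘ Spec (CommRingCat.of (S.residueField s))) :=
      (inferInstance : IsProper (pullback.snd f (S.fromSpecResidueField s)))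
    have hLs : PicF.IsInvertible (CohIII.fiberMod f L s) := isInvertible_pullback _ hL
    have hcoh := Groth.Agent.Lib.Lead.CurveInv.isCoh_of_isInvertible (f.fiber s) hLs
    haveI : Module.Finite (S.residueField s) (CohIII.fiberH f L s 1) :=
      Groth.Agent.Lib.Lead.ProperEuler.finite_HH (S.residueField s) (f.fiber s) _ hcoh 1
    have h0 : Module.finrank (S.residueField s) (CohIII.fiberH f L s 1) = 0 := hc s
    exact Module.finrank_zero_iff.mp h0
  have key := fun s => Groth.Agent.S7759.result f L hFPL hflL s (hsub s)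
  refine ⟨?_, ?_, hc⟩
  · apply Groth.Agent.Lib.helper11.ProjFormula.isZero_of_forall_restrict
    intro s
    obtain ⟨U, hsU, hz, -⟩ := key s
    exact ⟨U, hsU, hz⟩
  · intro s
    obtain ⟨U, hsU, -, hflf⟩ := key s
    exact flfOn_of_isFinLocFree_restrict hflf s hsU

end Groth.Agent.Lib.Lead.CurveR1
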