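import Mathlib
import Groth.Agent.Lib.Helper11.PnImm
import Groth.Agent.Lib.Helper12.AmpleQAff
import Groth.Agent.Lib.Helper1.DimZeroSch
import Groth.Agent.Lib.Lead.VBCurve4
import Groth.Agent.Lib.Helper18.ImageIso
import Groth.Agent.Lib.Helper18.DimDense2
import Groth.Agent.Lib.Helper19.ProjSpaceProper

/-!
# Separated schemes of finite type over a field of dimension `≤ 1` (lead)

Conditional on "a Noetherian separated scheme of dimension one has an ample invertible module" (`H1551`,
statement S1551), such a scheme immerses into a projective space (S1667) and has a projective completion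
whose boundary is a finite set of closed points (S1625).
-/

set_option autoImplicit false
set_option backward.isDefEq.respectTransparency false
set_option linter.style.haveILetI false
set_option linter.unusedSectionVars false
universe u

open CategoryTheory CategoryTheory.Limits AlgebraicGeometry Opposite TopologicalSpace

namespace Groth.Agent.Lib.Lead.DimOneProj

open Groth.Agent.Lib.helper19.ProjSpaceProper

/-- The statement of S1551. -/
def H1551 : Prop :=
  ∀ (X : Scheme.{u}) [IsNoetherian X] [X.IsSeparated],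
    topologicalKrullDim X = 1 → ∃ L : X.Modules, CohB1.IsAmple L

theorem le_zero_of_le_one_of_ne {x : WithBot ℕ∞} (h : x ≤ 1) (h' : x ≠ 1) : x ≤ 0 := by
  induction x using WithBot.recBotCoe with
  | bot => exact bot_le
  | coe a =>
    have h1 : a ≤ 1 := by exact_mod_cast h
    have h2 : a ≠ 1 := by
      rintro rfl; exact h' rfl
    have h3 : a < 1 := lt_of_le_of_ne h1 h2
    have h4 : a = 0 := ENat.lt_one_iff_eq_zero.mp h3
    subst h4
    exact le_rfl

variable (k : Type u) [Field k] (X : Scheme.{u}) [X.Over (Spec (CommRingCat.of k))]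
  [IsSeparated (X ↘ (Spec (CommRingCat.of k)))] [LocallyOfFiniteType (X ↘ (Spec (CommRingCat.of k)))]
  [QuasiCompact (X ↘ (Spec (CommRingCat.of k)))]

include k in
theorem isNoetherian_of_ft : IsNoetherian X := by
  haveI : IsLocallyNoetherian X :=
    LocallyOfFiniteType.isLocallyNoetherian (X ↘ (Spec (CommRingCat.of k)))
  haveI : CompactSpace X := QuasiCompact.compactSpace_of_compactSpace (X ↘ (Spec (CommRingCat.of k)))
  exact { }

include k in
theorem isSeparated_of_ft : X.IsSeparated := by
  have h : IsSeparated ((X ↘ (Spec (CommRingCat.of k))) ≫ terminal.from (Spec (CommRingCat.of k))) :=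
    inferInstance
  have e : (X ↘ (Spec (CommRingCat.of k))) ≫ terminal.from (Spec (CommRingCat.of k)) = terminal.from X :=
    terminal.hom_ext _ _
  rw [e] at h
  exact ⟨h⟩

include k in
theorem exists_ample (h : H1551.{u}) (hdim : topologicalKrullDim X ≤ 1) :
    ∃ L : X.Modules, CohB1.IsAmple L := by
  haveI := isNoetherian_of_ft k X
  haveI := isSeparated_of_ft k X
  by_cases h1 : topologicalKrullDim X = 1
  · exact h X h1
  · have h0 : topologicalKrullDim X ≤ 0 := le_zero_of_le_one_of_ne hdim h1
    have hst : ∀ x : X, ringKrullDim ↥(X.presheaf.stalk x) = 0 := fun x =>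
      le_antisymm ((Groth.Agent.Lib.Lead.VBCurve.ringKrullDim_stalk_le X x).trans h0)
        ringKrullDim_nonneg_of_nontrivial
    have haff : IsAffineOpen (⊤ : X.Opens) :=
      (Groth.Agent.H1.DimZeroSch.isSeparated_and_isAffineOpen hst).2 ⊤ (by simpa using isCompact_univ)
    haveI : IsAffine X := by
      have : IsAffine ((⊤ : X.Opens) : Scheme.{u}) := haff
      exact IsAffine.of_isIso (Scheme.topIso X).inv
    exact ⟨_, Groth.Agent.Lib.helper12.AmpleQAff.isAmple_structureModule_of_isQuasiAffine⟩

/-- S1667, conditionally. -/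
theorem exists_immersion (h : H1551.{u}) (hdim : topologicalKrullDim X ≤ 1) :
    ∃ (n : ℕ) (i : X ⟶ CohB1.ProjSpace n k), IsImmersion i ∧
      i ≫ CohB1.ProjSpace.toSpec n k = X ↘ (Spec (CommRingCat.of k)) := by
  obtain ⟨L, hL⟩ := exists_ample k X h hdim
  obtain ⟨n₀, hn⟩ :=
    Groth.Agent.Lib.helper11.PnImm.isVeryAmpleProj_tensorPow_eventually (X ↘ (Spec (CommRingCat.of k))) hL
  obtain ⟨N, r, hr, hrq, -⟩ := hn n₀ le_rfl
  exact ⟨N, r, hr, hrq⟩

/-- In a Noetherian quasi-sober space, a closed set all of whose points are closed is finite. -/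
theorem finite_of_isClosed_of_forall_isClosed {T : Type*} [TopologicalSpace T] [NoetherianSpace T]
    [QuasiSober T] (C : Set T) (hC : IsClosed C) (hpt : ∀ y ∈ C, IsClosed ({y} : Set T)) : C.Finite := by
  obtain ⟨S, hSfin, hScl, hSirr, hS⟩ := NoetherianSpace.exists_finite_set_isClosed_irreducible hC
  rw [hS]
  refine Set.Finite.sUnion hSfin fun t ht => ?_
  obtain ⟨x, hx⟩ := QuasiSober.sober (hSirr t ht) (hScl t ht)
  have hxt : x ∈ t := hx.mem
  have hxC : x ∈ C := by rw [hS]; exact ⟨t, ht, hxt⟩
  have : t = {x} := by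
    rw [← hx.def, (hpt x hxC).closure_eq]
  rw [this]
  exact Set.finite_singleton x

/-- S1625, conditionally. -/
theorem exists_completion (h : H1551.{u}) (hdim : topologicalKrullDim X ≤ 1) :
    ∃ (d : ℕ) (Y : Scheme.{u}) (c : Y ⟶ CohB1.ProjSpace d k) (j : X ⟶ Y), IsClosedImmersion c ∧ IsOpenImmersion j ∧
      j ≫ c ≫ CohB1.ProjSpace.toSpec d k = X ↘ (Spec (CommRingCat.of k)) ∧ Dense (Set.range j.base) ∧
      IsSchemeTheoreticallyDominant j ∧
      (Set.range j.base)ᶜ.Finite ∧ ∀ y ∈ (Set.range j.base)ᶜ, IsClosed ({y} : Set Y) := by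
  obtain ⟨d, i, hi, hiq⟩ := exists_immersion k X h hdim
  haveI : QuasiCompact (i ≫ CohB1.ProjSpace.toSpec d k) := by rw [hiq]; infer_instance
  haveI : QuasiCompact i := QuasiCompact.of_comp i (CohB1.ProjSpace.toSpec d k)
  let Y : Scheme.{u} := i.image
  let c : Y ⟶ CohB1.ProjSpace d k := i.imageι
  let j : X ⟶ Y := i.toImage
  have hjc : j ≫ c = i := i.toImage_imageι
  haveI : IsOpenImmersion j := inferInstance
  letI : Y.Over (Spec (CommRingCat.of k)) := ⟨c ≫ CohB1.ProjSpace.toSpec d k⟩
  haveI : LocallyOfFiniteType (Y ↘ (Spec (CommRingCat.of k))) := by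
    show LocallyOfFiniteType (c ≫ CohB1.ProjSpace.toSpec d k)
    infer_instance
  have hdense : Dense (Set.range j.base) := j.denseRange
  have hV : Dense ((j.opensRange : Y.Opens) : Set Y) := by
    simpa using hdense
  have hdimV : topologicalKrullDim ↥(j.opensRange : Y.Opens) ≤ 1 := by
    have he := j.isOpenEmbedding.isEmbedding.toHomeomorph
    have h1 : topologicalKrullDim ↥(Set.range ⇑j) ≤ 1 := by
      rw [← IsHomeomorph.topologicalKrullDim_eq _ he.isHomeomorph]
      exact hdim
    exact h1
  have hpt : ∀ y ∈ (Set.range j.base)ᶜ, IsClosed ({y} : Set Y) := fun y hy =>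
    Groth.Agent.Lib.Helper18.DimDense.isClosed_singleton_of_not_mem k Y j.opensRange hV hdimV y
      (by simpa using hy)
  haveI : IsNoetherian (CohB1.ProjSpace d k) := by
    haveI : IsLocallyNoetherian (CohB1.ProjSpace d k) :=
      LocallyOfFiniteType.isLocallyNoetherian (CohB1.ProjSpace.toSpec d k)
    haveI : CompactSpace (CohB1.ProjSpace d k) :=
      QuasiCompact.compactSpace_of_compactSpace (CohB1.ProjSpace.toSpec d k)
    exact { }
  haveI : NoetherianSpace Y :=
    c.isEmbedding.isInducing.noetherianSpace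
  refine ⟨d, Y, c, j, inferInstance, inferInstance, ?_, hdense,
    Groth.Agent.Lib.Helper18.ImageIso.isSchemeTheoreticallyDominant_toImage i, ?_, hpt⟩
  · rw [← Category.assoc, hjc, hiq]
  · exact finite_of_isClosed_of_forall_isClosed _
      (by rw [isClosed_compl_iff]; exact j.isOpenEmbedding.isOpen_range) hpt

end Groth.Agent.Lib.Lead.DimOneProj
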