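import Mathlib
import Groth.Agent.Lib.Helper21.SmoothCodim
import Groth.Agent.Lib.Helper3.RelDim
import Groth.Agent.Lib.Helper5.FibreDimLocal
import Groth.Agent.Lib.Helper12.Chow5
import Groth.Agent.Lib.Helper19.ProjSpaceProper
import Groth.Agent.Lib.Helper20.ExtPowUniq
import Groth.Agent.S1667

/-!
# Smooth proper curves: bridge to S11924 (lead)

* `exists_relDim`, `smoothOfRelativeDimension_ι_comp`: charts of a smooth morphism.
* `smoothOfRelativeDimension_of_localDim`: a smooth `k`-scheme all of whose local dimensions are `d` is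
  smooth of relative dimension `d` (Mathlib class `SmoothOfRelativeDimension d`).
* `smoothOfRelativeDimension_of_isIntegral`: a smooth irreducible `k`-scheme of dimension `d` is smooth of
  relative dimension `d`.
* `exists_closedImmersion`: a proper `k`-scheme of dimension `≤ 1` is a closed subscheme of some `P^n_k`
  (S1667 + properness).
* `H11924`: the statement of S11924; `exists_dualizing`: CONDITIONALLY on `H11924`, on a smooth proper
  irreducible curve `X` over `k` the sheaf of differentials `Ω_{X/k}` is a dualizing sheaf in degree one: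
  there is `t : H^1(X, Ω) → k` with `Hom(F, Ω) ≃ H^1(X, F)^∨`, `φ ↦ t ∘ H^1(φ)` for all coherent `F`.
-/

set_option autoImplicit false
set_option linter.style.haveILetI false
set_option linter.unusedSectionVars false
universe u

open CategoryTheory CategoryTheory.Limits AlgebraicGeometry Opposite TopologicalSpace

namespace Groth.Agent.Lib.Lead.CurveSD1

open Groth.Agent.Lib.helper19.ProjSpaceProper

/-- A smooth morphism is, locally at each point, standard smooth of some relative dimension. -/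
theorem exists_relDim {X Y : Scheme.{u}} (f : X ⟶ Y) [Smooth f] (x : X) :
    ∃ (n : ℕ) (U : Y.Opens) (_ : IsAffineOpen U) (V : X.Opens) (_ : IsAffineOpen V) (_ : x ∈ V)
      (e : V ≤ f ⁻¹ᵁ U), (f.appLE U V e).hom.IsStandardSmoothOfRelativeDimension n := by
  obtain ⟨U, hU, V, hV, hx, e, h⟩ := Smooth.exists_isStandardSmooth f x
  letI := (f.appLE U V e).hom.toAlgebra
  have h' : Algebra.IsStandardSmooth Γ(Y, U) Γ(X, V) := h
  obtain ⟨ι, σ, hσ, hι, ⟨P⟩⟩ := h'.out
  refine ⟨P.dimension, U, hU, V, hV, hx, e, ?_⟩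
  exact ⟨⟨ι, σ, hσ, hι, P, rfl⟩⟩

/-- A chart of relative dimension `n` makes the open subscheme smooth of relative dimension `n`. -/
theorem smoothOfRelativeDimension_ι_comp {X Y : Scheme.{u}} (f : X ⟶ Y) (n : ℕ) (U : Y.Opens)
    (hU : IsAffineOpen U) (V : X.Opens) (hV : IsAffineOpen V) (e : V ≤ f ⁻¹ᵁ U)
    (h : (f.appLE U V e).hom.IsStandardSmoothOfRelativeDimension n) :
    SmoothOfRelativeDimension n (V.ι ≫ f) := by
  haveI : IsAffine (V : Scheme.{u}) := hV
  refine ⟨fun y => ⟨U, hU, ⊤, isAffineOpen_top _, trivial, ?_, ?_⟩⟩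
  · intro z _
    exact e z.2
  · have e2 : (⊤ : (V : Scheme.{u}).Opens) ≤ V.ι ⁻¹ᵁ V := fun z _ => z.2
    have hcomp := Scheme.Hom.appLE_comp_appLE V.ι f U V ⊤ e e2
    rw [← hcomp]
    haveI : IsIso (V.ι.appLE V ⊤ e2) := by
      rw [Scheme.Opens.ι_appLE]
      have : V.ι ''ᵁ (⊤ : (V : Scheme.{u}).Opens) = V := by simp
      exact (inferInstance : IsIso (X.presheaf.map (eqToHom this).op))
    exact (RingHom.isStandardSmoothOfRelativeDimension_respectsIso (n := n)).cancel_right_isIso _ _ |>.mpr h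

/-- **A `k`-scheme which is smooth and whose local dimension is `d` everywhere is smooth of relative
dimension `d`.** -/
theorem smoothOfRelativeDimension_of_localDim (k : Type u) [Field k] (X : Scheme.{u})
    [X.Over (Spec (CommRingCat.of k))] [Smooth (X ↘ Spec (CommRingCat.of k))] (d : ℕ)
    (hd : ∀ x : X, FlatMor.localDim X x = (d : WithBot ℕ∞)) :
    SmoothOfRelativeDimension d (X ↘ Spec (CommRingCat.of k)) := by
  refine ⟨fun x => ?_⟩
  obtain ⟨n, U, hU, V, hV, hx, e, h⟩ := exists_relDim (X ↘ Spec (CommRingCat.of k)) x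
  refine ⟨U, hU, V, hV, hx, e, ?_⟩
  letI : (V : Scheme.{u}).Over (Spec (CommRingCat.of k)) := ⟨V.ι ≫ (X ↘ Spec (CommRingCat.of k))⟩
  haveI : SmoothOfRelativeDimension n ((V : Scheme.{u}) ↘ Spec (CommRingCat.of k)) :=
    smoothOfRelativeDimension_ι_comp (X ↘ Spec (CommRingCat.of k)) n U hU V hV e h
  have h1 := Groth.Agent.Lib.helper21.SmoothCodim.localDim_eq_of_smooth k n (V : Scheme.{u}) ⟨x, hx⟩
  have h2 := Groth.Agent.Lib.helper5.FibreDimLocal.localDim_eq_of_isOpenEmbedding
    (V.ι : ↥V → X) V.ι.isOpenEmbedding ⟨x, hx⟩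
  have h3 : (n : WithBot ℕ∞) = (d : WithBot ℕ∞) := by
    rw [← h1, h2]
    exact hd _
  have h4 : n = d := by exact_mod_cast h3
  subst h4
  exact h

/-- **A smooth integral `k`-scheme of dimension `d` is smooth of relative dimension `d`.** -/
theorem smoothOfRelativeDimension_of_isIntegral (k : Type u) [Field k] (X : Scheme.{u})
    [X.Over (Spec (CommRingCat.of k))] [Smooth (X ↘ Spec (CommRingCat.of k))] [IrreducibleSpace X]
    (d : ℕ) (hdim : topologicalKrullDim X = (d : WithBot ℕ∞)) :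
    SmoothOfRelativeDimension d (X ↘ Spec (CommRingCat.of k)) := by
  refine smoothOfRelativeDimension_of_localDim k X d fun x => ?_
  refine Groth.Agent.Lib.helper3.RelDim.localDim_eq_of_forall_irreducibleComponents k X d ?_ x
  intro T hT
  have hT' : T = Set.univ := by
    have := irreducibleComponents_eq_singleton (X := X)
    rw [this] at hT
    exact hT
  subst hT'
  rw [← hdim]
  exact (Homeomorph.Set.univ X).isHomeomorph.topologicalKrullDim_eq _


/-- The statement of S11924 (`Ω^r` is dualizing on a smooth closed subscheme of `P^n_k`). -/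
def H11924 : Prop :=
  ∀ (k : Type u) [Field k] (n r : ℕ)
    (X : Scheme.{u}) [X.Over (Spec (CommRingCat.of k))] (ι : X ⟶ CohB1.ProjSpace n k) [IsClosedImmersion ι]
    (_ : ι ≫ CohB1.ProjSpace.toSpec n k = X ↘ Spec (CommRingCat.of k))
    [SmoothOfRelativeDimension r (X ↘ Spec (CommRingCat.of k))]
    (Ω : X.Modules) (_ : ExtPow.IsExtPow r (Omega.sheaf (X ↘ Spec (CommRingCat.of k))) Ω),
    ∃ t : Coh.HH X Ω r →ₗ[k] k, ∀ F : X.Modules, Coh.IsCoh F → ∀ ψ : Coh.HH X F r →ₗ[k] k,
      ∃! φ : F ⟶ Ω, ∀ x : Coh.HH X F r,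
        ψ x = t (Sheaf.H.map ((SheafOfModules.toSheaf X.ringCatSheaf).map φ) r x)

/-- A proper `k`-scheme of dimension `≤ 1` is a closed subscheme of some `P^n_k`. -/
theorem exists_closedImmersion (k : Type u) [Field k] (X : Scheme.{u})
    [X.Over (Spec (CommRingCat.of k))] [IsProper (X ↘ Spec (CommRingCat.of k))]
    (hdim : topologicalKrullDim X ≤ 1) :
    ∃ (n : ℕ) (ι : X ⟶ CohB1.ProjSpace n k), IsClosedImmersion ι ∧
      ι ≫ CohB1.ProjSpace.toSpec n k = X ↘ Spec (CommRingCat.of k) := by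
  obtain ⟨n, i, hi, hiq⟩ := Groth.Agent.S1667.result k X hdim
  refine ⟨n, i, ?_, hiq⟩
  haveI : IsProper (i ≫ CohB1.ProjSpace.toSpec n k) := by rw [hiq]; infer_instance
  exact Groth.Agent.Lib.helper12.Chow5.isClosedImmersion_of_isProper_comp i (CohB1.ProjSpace.toSpec n k)


/-- **Bridge**: conditionally on S11924, `Ω_{X/k}` is dualizing on a smooth proper irreducible curve. -/
theorem exists_dualizing (H : H11924.{u}) (k : Type u) [Field k] (X : Scheme.{u})
    [X.Over (Spec (CommRingCat.of k))] [IsProper (X ↘ Spec (CommRingCat.of k))]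
    [Smooth (X ↘ Spec (CommRingCat.of k))] [IrreducibleSpace X]
    (hdim : topologicalKrullDim X = 1) :
    ∃ t : Coh.HH X (Omega.sheaf (X ↘ Spec (CommRingCat.of k))) 1 →ₗ[k] k,
      ∀ F : X.Modules, Coh.IsCoh F → ∀ ψ : Coh.HH X F 1 →ₗ[k] k,
        ∃! φ : F ⟶ Omega.sheaf (X ↘ Spec (CommRingCat.of k)), ∀ x : Coh.HH X F 1,
          ψ x = t (Sheaf.H.map ((SheafOfModules.toSheaf X.ringCatSheaf).map φ) 1 x) := by
  obtain ⟨n, ι, hι, hιq⟩ := exists_closedImmersion k X hdim.le
  haveI : SmoothOfRelativeDimension 1 (X ↘ Spec (CommRingCat.of k)) :=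
    smoothOfRelativeDimension_of_isIntegral k X 1 (by rw [hdim]; rfl)
  exact H k n 1 X ι hιq (Omega.sheaf (X ↘ Spec (CommRingCat.of k)))
    (Groth.Agent.Lib.Helper20.ExtSh.isExtPow_one _)

end Groth.Agent.Lib.Lead.CurveSD1
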