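import Mathlib
import Groth.Agent.Lib.Lead.CurveSD1
import Groth.Agent.Lib.Helper20.SurfRR1
import Groth.Agent.Lib.Helper7.TopDiffInv
import Groth.Agent.Lib.Helper24.FormalEquidimLoc2
import Groth.Agent.S1535
import Groth.Agent.Lib.Lead.CurveInv
import Groth.Agent.Lib.Lead.CurveEuler

/-!
# Serre duality numerics on smooth proper curves, conditionally on S11924 (lead)

`X` smooth, proper, integral of dimension one over a field `k`, `Ω = Omega.sheaf (X ↘ Spec k)`; `H : H11924` is the statement
of S11924 (`Groth.Agent.Lib.Lead.CurveSD1.H11924`).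
* `isInvertible_omega` (unconditional): `Ω` is invertible; `isCohenMacaulay_stalk`: local rings are Cohen–Macaulay.
* `serre_duality H hdim e hL' i hi`: for `e : L' ⊗ L ≅ O`, `h^i(L') = h^{1-i}(Ω ⊗ L)`, `i ≤ 1`.
* `finrank_H0_omega`: `h⁰(Ω) = g`; `finrank_H1_omega`: `h¹(Ω) = h⁰(O)`; `deg_omega`: `deg Ω = 2g − 2` if `h⁰(O) = 1`.
-/

set_option autoImplicit false
set_option linter.style.haveILetI false
set_option linter.unusedSectionVars false
universe u

open CategoryTheory CategoryTheory.Limits AlgebraicGeometry Opposite TopologicalSpace Module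

namespace Groth.Agent.Lib.Lead.CurveSD2

open Groth.Agent.Lib.Lead.CurveSD1

variable (k : Type u) [Field k] (X : Scheme.{u}) [X.Over (Spec (CommRingCat.of k))]
  [IsProper (X ↘ Spec (CommRingCat.of k))] [Smooth (X ↘ Spec (CommRingCat.of k))] [IsIntegral X]

/-- `Ω_{X/k}` is invertible on a smooth integral curve. -/
theorem isInvertible_omega (hdim : topologicalKrullDim X = 1) :
    PicF.IsInvertible (Omega.sheaf (X ↘ Spec (CommRingCat.of k))) := by
  haveI : SmoothOfRelativeDimension 1 (X ↘ Spec (CommRingCat.of k)) :=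
    smoothOfRelativeDimension_of_isIntegral k X 1 (by rw [hdim]; rfl)
  exact Groth.Agent.Lib.helper7.TopDiffInv.isInvertible_of_isExtPow_omega
    (X ↘ Spec (CommRingCat.of k)) 1 _ (Groth.Agent.Lib.Helper20.ExtSh.isExtPow_one _)

include k in
theorem isCohenMacaulay_stalk (x : X) : LocCoh.IsCohenMacaulayLocalRing (X.presheaf.stalk x) := by
  haveI : IsRegularLocalRing (X.presheaf.stalk x) := Groth.Agent.S1535.result k X x
  exact Groth.Agent.Lib.Helper24.FormalEquidimLoc.isCohenMacaulayLocalRing_of_isRegularLocalRing _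

/-- **Serre duality (numerical form) on a smooth proper curve**, conditionally on S11924. -/
theorem serre_duality (H : H11924.{u}) (hdim : topologicalKrullDim X = 1) {L L' : X.Modules}
    (e : CohB1.tensorMod L' L ≅ Coh.structureModule X) (hL' : FlatMod.IsFinLocFree L') (i : ℕ) (hi : i ≤ 1) :
    finrank k (Coh.HH X L' i) =
      finrank k (Coh.HH X (CohB1.tensorMod (Omega.sheaf (X ↘ Spec (CommRingCat.of k))) L) (1 - i)) := by
  obtain ⟨N, ι, hι, hιq⟩ := exists_closedImmersion k X hdim.le
  obtain ⟨t, ht⟩ := exists_dualizing H k X hdim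
  exact Groth.Agent.Lib.Helper20.SurfRR.finrank_HH_inverse k N 1 X ι hιq (by rw [hdim]; rfl)
    (isCohenMacaulay_stalk k X) _
    (Groth.Agent.Lib.Lead.CurveInv.isCoh_of_isInvertible X (isInvertible_omega k X hdim)) t ht e hL' i hi


open Groth.Agent.Lib.Lead.ModTensor in
/-- `h⁰(Ω) = g` -/
theorem finrank_H0_omega (H : H11924.{u}) (hdim : topologicalKrullDim X = 1) :
    finrank k (Coh.HH X (Omega.sheaf (X ↘ Spec (CommRingCat.of k))) 0) = Curv2.genus k X := by
  have h := serre_duality k X H hdim (leftUnitor (Coh.structureModule X))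
    (Groth.Agent.Lib.helper16.FLF.isFinLocFree_structureModule X) 1 le_rfl
  have h2 := Groth.Agent.Lib.Helper20.SurfRR.finrank_HH_eq_of_iso k
    (rightUnitor (Omega.sheaf (X ↘ Spec (CommRingCat.of k)))) 0
  unfold Curv2.genus
  rw [h]
  exact h2.symm

open Groth.Agent.Lib.Lead.ModTensor in
/-- `h¹(Ω) = h⁰(O)` -/
theorem finrank_H1_omega (H : H11924.{u}) (hdim : topologicalKrullDim X = 1) :
    finrank k (Coh.HH X (Omega.sheaf (X ↘ Spec (CommRingCat.of k))) 1) =
      finrank k (Coh.HH X (Coh.structureModule X) 0) := by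
  have h := serre_duality k X H hdim (leftUnitor (Coh.structureModule X))
    (Groth.Agent.Lib.helper16.FLF.isFinLocFree_structureModule X) 0 zero_le_one
  have h2 := Groth.Agent.Lib.Helper20.SurfRR.finrank_HH_eq_of_iso k
    (rightUnitor (Omega.sheaf (X ↘ Spec (CommRingCat.of k)))) 1
  rw [h]
  exact h2.symm

/-- `deg Ω = 2g − 2` -/
theorem deg_omega (H : H11924.{u}) (hdim : topologicalKrullDim X = 1)
    (h0 : finrank k (Coh.HH X (Coh.structureModule X) 0) = 1) :
    Curv2.deg k X (Omega.sheaf (X ↘ Spec (CommRingCat.of k))) 1 = 2 * (Curv2.genus k X : ℤ) - 2 := by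
  have hq : Coh.IsQCoh (Omega.sheaf (X ↘ Spec (CommRingCat.of k))) :=
    (Groth.Agent.Lib.Lead.CurveInv.isCoh_of_isInvertible X (isInvertible_omega k X hdim)).1
  have hrr := Groth.Agent.Lib.Lead.CurveEuler.riemann_roch' k X hdim.le h0 _ hq 1
  rw [finrank_H0_omega k X H hdim, finrank_H1_omega k X H hdim, h0] at hrr
  push_cast at hrr
  linarith

end Groth.Agent.Lib.Lead.CurveSD2
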