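import Mathlib
import Groth.Agent.Lib.Lead.CurveSD2
import Groth.Agent.Lib.Helper8.H0One
import Groth.Agent.Lib.Lead.CurveSec
import Groth.Agent.Lib.Lead.VBCurve4
import Groth.Agent.Lib.Helper11.InvMod
import Groth.Prelude.Def_Curve

/-!
# First corollaries of Serre duality on smooth proper curves, conditionally on S11924 (lead)

`main_S1612` (`h⁰(Ω) = g`, `deg Ω = 2g − 2`), `main_S1613` (no vector fields for `g ≥ 2`), `main_S7831`
(`Ω ≅ O` in genus one), each with the extra hypothesis `H : Groth.Agent.Lib.Lead.CurveSD1.H11924`.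
-/

set_option autoImplicit false
set_option linter.style.haveILetI false
set_option linter.unusedSectionVars false
universe u

open CategoryTheory CategoryTheory.Limits AlgebraicGeometry Opposite TopologicalSpace Module

namespace Groth.Agent.Lib.Lead.CurveSD3

open Groth.Agent.Lib.Lead.CurveSD1 Groth.Agent.Lib.Lead.CurveSD2

/-- S1612, conditionally on S11924. -/
theorem main_S1612 (H : H11924.{u}) (k : Type u) [Field k] (X : Scheme.{u}) [X.Over (Spec (CommRingCat.of k))]
    (hX : Curve.IsSmoothProperCurve k X (X ↘ (Spec (CommRingCat.of k))))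
    (h0 : Module.finrank k (Coh.HH X (Coh.structureModule X) 0) = 1) :
    Module.finrank k (Coh.HH X (Omega.sheaf (X ↘ (Spec (CommRingCat.of k)))) 0) = Curv2.genus k X ∧
      Curv2.deg k X (Omega.sheaf (X ↘ (Spec (CommRingCat.of k)))) 1 = 2 * (Curv2.genus k X : ℤ) - 2 := by
  obtain ⟨hp, hs, hi, hdim⟩ := hX
  haveI := hp; haveI := hs; haveI := hi
  exact ⟨finrank_H0_omega k X H hdim, deg_omega k X H hdim h0⟩

/-- S1613, conditionally on S11924. -/
theorem main_S1613 (H : H11924.{u}) (k : Type u) [Field k] [IsAlgClosed k] (X : Scheme.{u})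
    [X.Over (Spec (CommRingCat.of k))]
    (hX : Curve.IsSmoothProperCurve k X (X ↘ (Spec (CommRingCat.of k)))) (hg : 2 ≤ Curv2.genus k X)
    (θ : Omega.sheaf (X ↘ (Spec (CommRingCat.of k))) ⟶ Coh.structureModule X) : θ = 0 := by
  obtain ⟨hp, hs, hi, hdim⟩ := hX
  haveI := hp; haveI := hs; haveI := hi
  by_contra hθ
  have h0 : Module.finrank k (Coh.HH X (Coh.structureModule X) 0) = 1 :=
    Groth.Agent.Lib.helper8.H0One.finrank_sections_eq_one k X
  have hdeg := deg_omega k X H hdim h0
  have hle := Groth.Agent.Lib.Lead.CurveInv.deg_le k X hdim.le (isInvertible_omega k X hdim)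
    (Groth.Agent.Lib.helper11.InvMod.isInvertible_structureModule X) θ hθ
  rw [hdeg, Groth.Agent.Lib.Lead.CurveEuler.deg_structureModule] at hle
  have : (2 : ℤ) ≤ (Curv2.genus k X : ℤ) := by exact_mod_cast hg
  linarith

/-- S7831, conditionally on S11924. -/
theorem main_S7831 (H : H11924.{u}) (k : Type u) [Field k] (C : Scheme.{u}) [C.Over (Spec (CommRingCat.of k))]
    [IsProper (C ↘ (Spec (CommRingCat.of k)))] [Smooth (C ↘ (Spec (CommRingCat.of k)))]
    [GeometricallyConnected (C ↘ (Spec (CommRingCat.of k)))]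
    (hdim : topologicalKrullDim C = 1) (hg : Curv2.genus k C = 1) :
    Nonempty (Omega.sheaf (C ↘ (Spec (CommRingCat.of k))) ≅ Coh.structureModule C) := by
  haveI : IsIntegral C := Groth.Agent.Lib.Lead.VBCurve.isIntegral_of_smooth_of_geometricallyConnected k C
  haveI : GeometricallyReduced (C ↘ (Spec (CommRingCat.of k))) :=
    Groth.Agent.Lib.helper8.H0One.geometricallyReduced_of_smooth _
  have h0 : Module.finrank k (Coh.HH C (Coh.structureModule C) 0) = 1 :=
    Groth.Agent.Lib.helper8.H0One.finrank_H0_eq_one k C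
  have hdeg := deg_omega k C H hdim h0
  have hpos : 0 < finrank k (Coh.HH C (Omega.sheaf (C ↘ (Spec (CommRingCat.of k)))) 0) := by
    rw [finrank_H0_omega k C H hdim, hg]; norm_num
  obtain ⟨s, hs⟩ := Groth.Agent.Lib.Lead.CurveSec.exists_hom_ne_zero_of_finrank_pos k C _ hpos
  haveI := Groth.Agent.Lib.Lead.CurveInv.isIso_of_deg_eq k C hdim.le
    (Groth.Agent.Lib.helper11.InvMod.isInvertible_structureModule C) (isInvertible_omega k C hdim) s hs
    (by rw [Groth.Agent.Lib.Lead.CurveEuler.deg_structureModule, hdeg, hg]; norm_num)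
  exact ⟨(asIso s).symm⟩

end Groth.Agent.Lib.Lead.CurveSD3
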