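import Mathlib
import Groth.Agent.Lib.Lead.CurveSD3
import Groth.Agent.Lib.Lead.VBCurve15
import Groth.Agent.Lib.Helper12.InvDual2
import Groth.Agent.Lib.Helper16.FLF5

/-!
# More corollaries of Serre duality on smooth proper curves, conditionally on S11924 (lead)

`main_S13457` (`deg L = 2g − 2`, `h⁰(L) ≥ g` ⇒ `L ≅ Ω`), `main_S14065` (`h¹(T) = 3g − 3` for `g ≥ 2`).
-/

set_option autoImplicit false
set_option linter.style.haveILetI false
set_option linter.unusedSectionVars false
universe u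

open CategoryTheory CategoryTheory.Limits AlgebraicGeometry Opposite TopologicalSpace Module

namespace Groth.Agent.Lib.Lead.CurveSD4

open Groth.Agent.Lib.Lead.CurveSD1 Groth.Agent.Lib.Lead.CurveSD2 Groth.Agent.Lib.Lead.ModTensor

/-- S13457, conditionally on S11924. -/
theorem main_S13457 (H : H11924.{u}) (k : Type u) [Field k] (C : Scheme.{u}) [C.Over (Spec (CommRingCat.of k))]
    [IsProper (C ↘ (Spec (CommRingCat.of k)))] [Smooth (C ↘ (Spec (CommRingCat.of k)))]
    [GeometricallyConnected (C ↘ (Spec (CommRingCat.of k)))]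
    (hdim : topologicalKrullDim C = 1) (L : C.Modules) (hL : PicF.IsInvertible L)
    (hdeg : Curv2.deg k C L 1 = 2 * (Curv2.genus k C : ℤ) - 2)
    (hh0 : Curv2.genus k C ≤ Module.finrank k (Coh.HH C L 0)) :
    Nonempty (L ≅ Omega.sheaf (C ↘ (Spec (CommRingCat.of k)))) := by
  haveI : IsIntegral C := Groth.Agent.Lib.Lead.VBCurve.isIntegral_of_smooth_of_geometricallyConnected k C
  haveI : GeometricallyReduced (C ↘ (Spec (CommRingCat.of k))) :=
    Groth.Agent.Lib.helper8.H0One.geometricallyReduced_of_smooth _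
  have h0 : Module.finrank k (Coh.HH C (Coh.structureModule C) 0) = 1 :=
    Groth.Agent.Lib.helper8.H0One.finrank_H0_eq_one k C
  obtain ⟨L', hL', ⟨e⟩, ⟨ε⟩⟩ := Groth.Agent.Lib.helper12.InvDual.exists_inverse hL
  have hsd := serre_duality k C H hdim e
    (Groth.Agent.Lib.helper16.FLF.isFinLocFree_of_isInvertible hL) 1 le_rfl
  have hrr := Groth.Agent.Lib.Lead.CurveEuler.riemann_roch' k C hdim.le h0 L
    (Groth.Agent.Lib.Lead.CurveInv.isCoh_of_isInvertible C hL).1 1
  have hpos : 0 < finrank k (Coh.HH C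
      (CohB1.tensorMod (Omega.sheaf (C ↘ (Spec (CommRingCat.of k)))) L') (1 - 1)) := by
    rw [← hsd]
    have : (Curv2.genus k C : ℤ) ≤ (finrank k (Coh.HH C L 0) : ℤ) := by exact_mod_cast hh0
    have h3 : (0 : ℤ) < (finrank k (Coh.HH C L 1) : ℤ) := by
      rw [hdeg] at hrr; push_cast at hrr; linarith
    exact_mod_cast h3
  obtain ⟨σ, hσ⟩ := Groth.Agent.Lib.Lead.CurveSec.exists_hom_ne_zero_of_finrank_pos k C _ hpos
  have hσ' : σ ≫ (braid (Omega.sheaf (C ↘ (Spec (CommRingCat.of k)))) L').hom ≠ 0 := by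
    intro h
    apply hσ
    exact (cancel_mono (braid (Omega.sheaf (C ↘ (Spec (CommRingCat.of k)))) L').hom).mp
      (h.trans zero_comp.symm)
  obtain ⟨u, hu⟩ := Groth.Agent.Lib.Lead.VBCurve.exists_hom_ne_zero_of_section e ε _ hσ'
  haveI := Groth.Agent.Lib.Lead.CurveInv.isIso_of_deg_eq k C hdim.le hL (isInvertible_omega k C hdim) u hu
    (hdeg.trans (deg_omega k C H hdim h0).symm)
  exact ⟨asIso u⟩

/-- S14065, conditionally on S11924. -/
theorem main_S14065 (H : H11924.{u}) (k : Type u) [Field k] [IsAlgClosed k]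
    (C : Scheme.{u}) [C.Over (Spec (CommRingCat.of k))] [IsProper (C ↘ (Spec (CommRingCat.of k)))]
    [Smooth (C ↘ (Spec (CommRingCat.of k)))] [IsIntegral C]
    (hdim : topologicalKrullDim C = 1) (g : ℕ) (hg : Curv2.genus k C = g) (h2 : 2 ≤ g)
    (T : C.Modules) (hT : ClSub.IsInverseOf T (Omega.sheaf (C ↘ (Spec (CommRingCat.of k))))) :
    Module.finrank k (Coh.HH C T 1) = 3 * g - 3 := by
  have h0 : Module.finrank k (Coh.HH C (Coh.structureModule C) 0) = 1 :=
    Groth.Agent.Lib.helper8.H0One.finrank_sections_eq_one k C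
  have hΩ := isInvertible_omega k C hdim
  obtain ⟨Ω', hΩ', hi1, -⟩ := Groth.Agent.Lib.helper12.InvDual.exists_inverse hΩ
  obtain ⟨eT⟩ := isInverseOf_unique (isInverseOf_symm hT) hi1
  have hTi : PicF.IsInvertible T := Groth.Agent.Lib.helper11.InvMod.isInvertible_of_iso eT.symm hΩ'
  have hdT := Groth.Agent.Lib.Lead.VBCurve.deg_add_deg_of_isInverseOf k C hdim.le hΩ hTi hT
  have hdΩ := deg_omega k C H hdim h0
  have hrr := Groth.Agent.Lib.Lead.CurveEuler.riemann_roch' k C hdim.le h0 T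
    (Groth.Agent.Lib.Lead.CurveInv.isCoh_of_isInvertible C hTi).1 1
  have hg2 : (2 : ℤ) ≤ (g : ℤ) := by exact_mod_cast h2
  have hz : finrank k (Coh.HH C T 0) = 0 := by
    by_contra hne
    obtain ⟨s, hs⟩ := Groth.Agent.Lib.Lead.CurveSec.exists_hom_ne_zero_of_finrank_pos k C T
      (Nat.pos_of_ne_zero hne)
    have hle := Groth.Agent.Lib.Lead.CurveInv.deg_le k C hdim.le
      (Groth.Agent.Lib.helper11.InvMod.isInvertible_structureModule C) hTi s hs
    rw [Groth.Agent.Lib.Lead.CurveEuler.deg_structureModule] at hle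
    rw [hg] at hdΩ
    linarith
  rw [hz, hg] at hrr
  rw [hg] at hdΩ
  push_cast at hrr
  have h3 : (finrank k (Coh.HH C T 1) : ℤ) = 3 * (g : ℤ) - 3 := by linarith
  omega

end Groth.Agent.Lib.Lead.CurveSD4
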