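import Mathlib
import Groth.Agent.Lib.Lead.CurveSD4
import Groth.Agent.Lib.Helper9.CurveHopf
import Groth.Agent.Lib.Helper17.RegSmoothSch

/-!
# Clifford's inequality on smooth proper curves, conditionally on S11924 (lead)

* `smooth_of_isRegularLocalRing`: a scheme locally of finite type over a perfect field all of whose local rings are
  regular is smooth over the field.
* `main_S11336` (Clifford's inequality), conditionally on `H11924`.
-/

set_option autoImplicit false
set_option linter.style.haveILetI false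
set_option linter.unusedSectionVars false
universe u

open CategoryTheory CategoryTheory.Limits AlgebraicGeometry Opposite TopologicalSpace Module

namespace Groth.Agent.Lib.Lead.CurveSD5

open Groth.Agent.Lib.Lead.CurveSD1 Groth.Agent.Lib.Lead.CurveSD2 Groth.Agent.Lib.Lead.ModTensor

/-- regular + locally of finite type over a perfect field ⇒ smooth -/
theorem smooth_of_isRegularLocalRing {K : Type u} [Field K] [PerfectField K] {X : Scheme.{u}}
    (f : X ⟶ Spec (CommRingCat.of K)) [LocallyOfFiniteType f]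
    (hreg : ∀ x : X, IsRegularLocalRing (X.presheaf.stalk x)) : Smooth f := by
  haveI : LocallyOfFinitePresentation f := LocallyOfFinitePresentation.iff_locallyOfFiniteType.mpr inferInstance
  rw [← Scheme.Hom.smoothLocus_eq_top_iff]
  ext x
  simp only [Opens.coe_top, Set.mem_univ, iff_true]
  exact (Groth.Agent.Lib.helper17.RegSmooth.mem_smoothLocus_iff_isRegularLocalRing_of_perfectField f x).mpr
    (hreg x)

/-- S11336 (Clifford's inequality), conditionally on S11924. -/
theorem main_S11336 (H : H11924.{u}) (k : Type u) [Field k] [IsAlgClosed k] (X : Scheme.{u})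
    [X.Over (Spec (CommRingCat.of k))]
    [IsIntegral X] [IsProper (X ↘ (Spec (CommRingCat.of k)))] (hdim : topologicalKrullDim X = 1)
    (hreg : ∀ x : X, IsRegularLocalRing (X.presheaf.stalk x))
    (L M : X.Modules) (hL : PicF.IsInvertible L) (hM : ClSub.IsInverseOf L M)
    (hs : Nontrivial (Coh.HH X L 0))
    (hsp : Nontrivial (Coh.HH X (CohB1.tensorMod (Omega.sheaf (X ↘ (Spec (CommRingCat.of k)))) M) 0)) :
    2 * (Module.finrank k (Coh.HH X L 0) : ℤ) ≤ Curv2.deg k X L 1 + 2 := by
  haveI : Smooth (X ↘ (Spec (CommRingCat.of k))) := smooth_of_isRegularLocalRing _ hreg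
  have h0 : Module.finrank k (Coh.HH X (Coh.structureModule X) 0) = 1 :=
    Groth.Agent.Lib.helper8.H0One.finrank_sections_eq_one k X
  have hΩ := isInvertible_omega k X hdim
  obtain ⟨L', hL', hi1, -⟩ := Groth.Agent.Lib.helper12.InvDual.exists_inverse hL
  obtain ⟨eM⟩ := isInverseOf_unique hM hi1
  have hMi : PicF.IsInvertible M := Groth.Agent.Lib.helper11.InvMod.isInvertible_of_iso eM.symm hL'
  obtain ⟨e⟩ := hM
  have hsd := serre_duality k X H hdim e
    (Groth.Agent.Lib.helper16.FLF.isFinLocFree_of_isInvertible hL) 1 le_rfl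
  have hΩM : PicF.IsInvertible (CohB1.tensorMod (Omega.sheaf (X ↘ (Spec (CommRingCat.of k)))) M) :=
    Groth.Agent.Lib.helper12.TensorInv.isInvertible_tensorMod hΩ hMi
  have hopf := Groth.Agent.Lib.helper9.CurveHopf.hopf_finrank k X
    (Groth.Agent.Lib.helper16.FLF.isFinLocFree_of_isInvertible hL)
    (Groth.Agent.Lib.helper16.FLF.isFinLocFree_of_isInvertible hΩM)
  let θ : CohB1.tensorMod L (CohB1.tensorMod (Omega.sheaf (X ↘ (Spec (CommRingCat.of k)))) M) ≅
      Omega.sheaf (X ↘ (Spec (CommRingCat.of k))) :=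
    tensorIso (Iso.refl L) (braid _ M) ≪≫ (assoc L M _).symm ≪≫ tensorIso e (Iso.refl _) ≪≫ leftUnitor _
  have hθ := Groth.Agent.Lib.Helper20.SurfRR.finrank_HH_eq_of_iso k θ 0
  rw [hθ, finrank_H0_omega k X H hdim] at hopf
  have hrr := Groth.Agent.Lib.Lead.CurveEuler.riemann_roch' k X hdim.le h0 L
    (Groth.Agent.Lib.Lead.CurveInv.isCoh_of_isInvertible X hL).1 1
  rw [hsd] at hrr
  have hopf' : (finrank k (Coh.HH X L 0) : ℤ) +
      (finrank k (Coh.HH X (CohB1.tensorMod (Omega.sheaf (X ↘ (Spec (CommRingCat.of k)))) M) 0) : ℤ) ≤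
      (Curv2.genus k X : ℤ) + 1 := by exact_mod_cast hopf
  push_cast at hrr
  linarith

end Groth.Agent.Lib.Lead.CurveSD5
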