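import Mathlib
import Groth.Agent.Lib.Lead.VBCurve18

/-!
# Regular curves; normalized bundles (lead)

* `pidStalks_of_regular`: an integral scheme of dimension `≤ 1` all of whose local rings are regular has PID stalks.
* `nontrivial_H0_of_hom_ne_zero`: a nonzero morphism `O ⟶ M` gives `H⁰(M) ≠ 0`.
* `nontrivial_H0_tensor_of_mono`: a monomorphism `G' ⟶ E` from a nonzero `G'` with `G' ⊗ M ≅ O` gives `H⁰(E ⊗ M) ≠ 0`.
* `deg_le_zero_of_normalized`: if `H⁰(E ⊗ M) = 0` for all invertible `M` of negative degree then every invertible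
  submodule of `E` has degree `≤ 0`.
* `cokernel_section_of_normalized`: for such an `E` of rank `r`, the cokernel of a nonzero `s : O ⟶ E` is finite locally
  free of rank `r - 1`, with `deg E = deg (coker s)`.
-/

set_option autoImplicit false
set_option linter.style.haveILetI false
universe u
open CategoryTheory CategoryTheory.Limits AlgebraicGeometry Opposite TopologicalSpace Module

namespace Groth.Agent.Lib.Lead.VBCurve

open Groth.Agent.Lib.Lead.ModTensor Groth.Agent.Lib.Helper20.TensorEquiv

/-- an integral scheme of dimension `≤ 1` with regular local rings has PID stalks -/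
theorem pidStalks_of_regular {X : Scheme.{u}} [IsIntegral X]
    (hreg : ∀ x : X, IsRegularLocalRing (X.presheaf.stalk x)) (hdim : topologicalKrullDim X ≤ 1) :
    PIDStalks X := by
  intro x
  haveI := hreg x
  have hd : IsDomain (X.presheaf.stalk x) := inferInstance
  refine ⟨hd, ?_⟩
  have h1 : ringKrullDim (X.presheaf.stalk x) ≤ 1 := (ringKrullDim_stalk_le X x).trans hdim
  have h2 := (IsRegularLocalRing.iff_finrank_cotangentSpace (X.presheaf.stalk x)).mp (hreg x)
  have h3 : finrank (IsLocalRing.ResidueField (X.presheaf.stalk x))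
      (IsLocalRing.CotangentSpace (X.presheaf.stalk x)) ≤ 1 := by
    rw [← h2] at h1
    exact_mod_cast h1
  exact ((tfae_of_isNoetherianRing_of_isLocalRing_of_isDomain (X.presheaf.stalk x)).out 0 5).mpr h3

section general

variable {X : Scheme.{u}}

/-- a nonzero morphism `O ⟶ M` gives a nonzero element of `H⁰(M)` -/
theorem nontrivial_H0_of_hom_ne_zero {M : X.Modules} (s : Coh.structureModule X ⟶ M) (hs : s ≠ 0) :
    Nontrivial (Coh.HH X M 0) := by
  by_contra hn
  rw [not_nontrivial_iff_subsingleton] at hn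
  apply hs
  apply Groth.Agent.Lib.Helper20.SplitH1.hom_ext_top
  apply (Groth.Agent.Lib.Helper18.HH.equiv₀ M).symm.injective
  exact Subsingleton.elim _ _

/-- a monomorphism `G' ⟶ E` from a nonzero `G'` with `G' ⊗ M ≅ O ≅ M ⊗ G'` gives `H⁰(E ⊗ M) ≠ 0` -/
theorem nontrivial_H0_tensor_of_mono {G' E M : X.Modules}
    (e : CohB1.tensorMod M G' ≅ Coh.structureModule X) (ε : CohB1.tensorMod G' M ≅ Coh.structureModule X)
    (hO : ¬ IsZero (Coh.structureModule X)) (ι' : G' ⟶ E) [Mono ι'] :
    Nontrivial (Coh.HH X (CohB1.tensorMod E M) 0) := by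
  haveI : Mono (tensorMap ι' (𝟙 M)) := mono_tensorMap e ι'
  apply nontrivial_H0_of_hom_ne_zero (ε.inv ≫ tensorMap ι' (𝟙 M))
  intro h0
  apply hO
  have h1 : ε.inv = 0 := by
    rw [← cancel_mono (tensorMap ι' (𝟙 M)), h0, zero_comp]
  have h2 : 𝟙 (Coh.structureModule X) = 0 := by
    rw [← ε.inv_hom_id, h1, zero_comp]
  exact (IsZero.iff_id_eq_zero _).mpr h2

end general

section curve

variable (k : Type u) [Field k] (X : Scheme.{u}) [X.Over (Spec (CommRingCat.of k))]
  [IsProper (X ↘ Spec (CommRingCat.of k))] [IsIntegral X]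

/-- if `H⁰(E ⊗ M) = 0` for all invertible `M` of negative degree then every invertible submodule of `E` has degree
`≤ 0` -/
theorem deg_le_zero_of_normalized (hdim : topologicalKrullDim X ≤ 1) {E : X.Modules}
    (hEneg : ∀ M : X.Modules, PicF.IsInvertible M → Curv2.deg k X M 1 < 0 →
      Subsingleton (Coh.HH X (CohB1.tensorMod E M) 0))
    {G' : X.Modules} (hG' : FlatMod.IsFinLocFreeOfRank 1 G') (ι' : G' ⟶ E) [Mono ι'] :
    Curv2.deg k X G' 1 ≤ 0 := by
  by_contra hlt
  rw [not_le] at hlt
  have hG'i := (Groth.Agent.Lib.helper16.FLF.isInvertible_iff_isFinLocFreeOfRank_one G').mpr hG'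
  obtain ⟨M, hM, hinv, hinv'⟩ := Groth.Agent.Lib.helper12.InvDual.exists_inverse hG'i
  have hdM : Curv2.deg k X M 1 = - Curv2.deg k X G' 1 := by
    have := deg_add_deg_of_isInverseOf k X hdim hG'i hM hinv'
    linarith
  have hsub := hEneg M hM (by rw [hdM]; linarith)
  obtain ⟨ε⟩ := hinv
  obtain ⟨e⟩ := hinv'
  have hO : ¬ IsZero (Coh.structureModule X) :=
    not_isZero_of_isInvertible X (Groth.Agent.Lib.helper11.InvMod.isInvertible_structureModule X)
  have hnt := nontrivial_H0_tensor_of_mono e ε hO ι'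
  exact not_subsingleton _ hsub

/-- for `E` of rank `r` with `H⁰(E ⊗ M) = 0` for all invertible `M` of negative degree, the cokernel of a nonzero section
`s : O ⟶ E` is finite locally free of rank `r - 1` -/
theorem cokernel_section_of_normalized (hP : PIDStalks X) (hdim : topologicalKrullDim X ≤ 1) {E : X.Modules} {r : ℕ}
    (hE : FlatMod.IsFinLocFreeOfRank r E)
    (hEneg : ∀ M : X.Modules, PicF.IsInvertible M → Curv2.deg k X M 1 < 0 →
      Subsingleton (Coh.HH X (CohB1.tensorMod E M) 0))
    (s : Coh.structureModule X ⟶ E) (hs : s ≠ 0) :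
    Mono s ∧ ∃ t : ℕ, r = 1 + t ∧ FlatMod.IsFinLocFreeOfRank t (cokernel s) ∧
      Curv2.deg k X E r = Curv2.deg k X (cokernel s) t := by
  have hO1 : FlatMod.IsFinLocFreeOfRank 1 (Coh.structureModule X) :=
    (Groth.Agent.Lib.helper16.FLF.isInvertible_iff_isFinLocFreeOfRank_one _).mp
      (Groth.Agent.Lib.helper11.InvMod.isInvertible_structureModule X)
  obtain ⟨rK, rI, -, -, hrr, -, hIpos, hmono, -⟩ := kernel_image_data k X hP hO1 hE s
  have hrK : rK = 0 := by have := hIpos hs; omega
  haveI : Mono s := hmono hrK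
  have hdO := Groth.Agent.Lib.Lead.CurveEuler.deg_structureModule k X
  obtain ⟨t, hrk, ht, hdeg⟩ := cokernel_data_of_maxDeg k X hP hdim hO1 hE s (by
    intro G' ι' hm hG'
    haveI := hm
    rw [hdO]
    exact deg_le_zero_of_normalized k X hdim hEneg hG' ι')
  refine ⟨inferInstance, t, hrk, ht, ?_⟩
  rw [hdeg, hdO, zero_add]

end curve

end Groth.Agent.Lib.Lead.VBCurve
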