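import Mathlib
import Groth.Agent.Lib.Lead.VBCurve19

/-!
# Uniqueness of non-split extensions when `H¹` is one-dimensional (lead)

Abstract part (abelian category):
* `isIso_comp_cokernel_π`: for a short exact `S` and `θ : Z ⟶ S.X₂` with `θ ≫ S.g` an isomorphism, `S.f ≫ cokernel.π θ` is
  an isomorphism.
* `shortExact_inl`, `shortExact_inr`: for short exact `0 → A → E → B → 0`, `0 → A → E' → B' → 0` the pushout
  `W = E ⊔_A E'` sits in `0 → E → W → B' → 0` and `0 → E' → W → B → 0`.

Geometric part: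
* `δ_naturality`: naturality of the connecting homomorphism of `Coh.HH`.
* `exists_lift_of_δ_eq_zero`: a morphism `u : O ⟶ S.X₃` lifts to `S.X₂` iff the connecting homomorphism kills its class.
* `nonempty_iso_of_not_isSplitEpi`: two non-split extensions of `O` by the same `A` with `h¹(A) = 1` have isomorphic
  middle terms (`X` with `O ⟶ O` nonzero ⇒ iso).
-/

set_option autoImplicit false
set_option linter.style.haveILetI false
universe u
open CategoryTheory CategoryTheory.Limits AlgebraicGeometry Opposite TopologicalSpace Module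

namespace Groth.Agent.Lib.Lead.ExtUnique

section abstract

variable {C : Type*} [Category C] [Abelian C]

/-- for a short exact `S` and `θ : Z ⟶ S.X₂` with `θ ≫ S.g` an isomorphism, `S.f ≫ cokernel.π θ` is an isomorphism -/
theorem isIso_comp_cokernel_π {S : ShortComplex C} (hS : S.ShortExact) {Z : C} (θ : Z ⟶ S.X₂)
    [IsIso (θ ≫ S.g)] : IsIso (S.f ≫ cokernel.π θ) := by
  haveI := hS.mono_f
  haveI := hS.epi_g
  haveI : Mono θ := mono_of_mono θ S.g
  haveI : Mono (S.f ≫ cokernel.π θ) := by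
    apply Preadditive.mono_of_cancel_zero
    intro P t ht
    rw [← Category.assoc] at ht
    have hk := Abelian.monoIsKernelOfCokernel (CokernelCofork.ofπ (cokernel.π θ) (cokernel.condition θ))
      (cokernelIsCokernel θ)
    obtain ⟨w, hw⟩ := KernelFork.IsLimit.lift' hk (t ≫ S.f) ht
    have hw' : w ≫ θ = t ≫ S.f := hw
    have h0 : w ≫ (θ ≫ S.g) = 0 := by rw [← Category.assoc, hw', Category.assoc, S.zero, comp_zero]
    have hw0 : w = 0 := by rw [← cancel_mono (θ ≫ S.g), h0, zero_comp]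
    have h1 : t ≫ S.f = 0 := by rw [← hw', hw0, zero_comp]
    rw [← cancel_mono S.f, h1, zero_comp]
  haveI : Epi (S.f ≫ cokernel.π θ) := by
    let r : S.X₂ ⟶ S.X₂ := 𝟙 _ - S.g ≫ inv (θ ≫ S.g) ≫ θ
    have hr : r ≫ S.g = 0 := by
      simp only [r, Preadditive.sub_comp, Category.id_comp, Category.assoc, IsIso.inv_hom_id, Category.comp_id,
        sub_self]
    have h1 : hS.exact.lift r hr ≫ (S.f ≫ cokernel.π θ) = cokernel.π θ := by
      rw [← Category.assoc, ShortComplex.Exact.lift_f]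
      simp only [r, Preadditive.sub_comp, Category.id_comp, Category.assoc, cokernel.condition, comp_zero, sub_zero]
    exact epi_of_epi_fac h1
  exact isIso_of_mono_of_epi _

variable {A E E' B B' : C} (f : A ⟶ E) (g : E ⟶ B) (w : f ≫ g = 0) (f' : A ⟶ E') (g' : E' ⟶ B') (w' : f' ≫ g' = 0)

/-- the map `E ⊔_A E' ⟶ B'` -/
noncomputable def rho' : pushout f f' ⟶ B' := pushout.desc (0 : E ⟶ B') g' (by rw [comp_zero, w'])

/-- the map `E ⊔_A E' ⟶ B` -/
noncomputable def rho : pushout f f' ⟶ B := pushout.desc g (0 : E' ⟶ B) (by rw [comp_zero, w])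

@[reassoc (attr := simp)] lemma inl_rho' : pushout.inl f f' ≫ rho' f f' g' w' = 0 := pushout.inl_desc _ _ _
@[reassoc (attr := simp)] lemma inr_rho' : pushout.inr f f' ≫ rho' f f' g' w' = g' := pushout.inr_desc _ _ _
@[reassoc (attr := simp)] lemma inl_rho : pushout.inl f f' ≫ rho f g w f' = g := pushout.inl_desc _ _ _
@[reassoc (attr := simp)] lemma inr_rho : pushout.inr f f' ≫ rho f g w f' = 0 := pushout.inr_desc _ _ _

/-- `0 → E → E ⊔_A E' → B' → 0` -/
theorem shortExact_inl (hS : (ShortComplex.mk f g w).ShortExact) (hS' : (ShortComplex.mk f' g' w').ShortExact) :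
    (ShortComplex.mk (pushout.inl f f') (rho' f f' g' w') (inl_rho' f f' g' w')).ShortExact := by
  haveI : Mono f := hS.mono_f
  haveI : Mono f' := hS'.mono_f
  haveI : Epi g' := hS'.epi_g
  haveI : Epi (rho' f f' g' w') := epi_of_epi_fac (inr_rho' f f' g' w')
  have hdesc : ∀ {Z : C} (h : pushout f f' ⟶ Z), pushout.inl f f' ≫ h = 0 → f' ≫ pushout.inr f f' ≫ h = 0 := by
    intro Z h hh
    rw [← Category.assoc, ← pushout.condition, Category.assoc, hh, comp_zero]
  refine ShortComplex.ShortExact.mk' ?_ inferInstance inferInstance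
  refine ShortComplex.exact_of_g_is_cokernel _ ?_
  refine CokernelCofork.IsColimit.ofπ _ _
    (fun {Z} h hh => hS'.exact.desc (pushout.inr f f' ≫ h) (hdesc h hh)) ?_ ?_
  · intro Z h hh
    apply pushout.hom_ext
    · rw [inl_rho'_assoc, zero_comp, hh]
    · rw [inr_rho'_assoc]
      exact hS'.exact.g_desc _ _
  · intro Z h hh m hm
    rw [← cancel_epi (rho' f f' g' w'), hm]
    apply pushout.hom_ext
    · rw [inl_rho'_assoc, zero_comp, hh]
    · rw [inr_rho'_assoc]
      exact (hS'.exact.g_desc _ _).symm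

/-- `0 → E' → E ⊔_A E' → B → 0` -/
theorem shortExact_inr (hS : (ShortComplex.mk f g w).ShortExact) (hS' : (ShortComplex.mk f' g' w').ShortExact) :
    (ShortComplex.mk (pushout.inr f f') (rho f g w f') (inr_rho f g w f')).ShortExact := by
  haveI : Mono f := hS.mono_f
  haveI : Mono f' := hS'.mono_f
  haveI : Epi g := hS.epi_g
  haveI : Epi (rho f g w f') := epi_of_epi_fac (inl_rho f g w f')
  have hdesc : ∀ {Z : C} (h : pushout f f' ⟶ Z), pushout.inr f f' ≫ h = 0 → f ≫ pushout.inl f f' ≫ h = 0 := by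
    intro Z h hh
    rw [← Category.assoc, pushout.condition, Category.assoc, hh, comp_zero]
  refine ShortComplex.ShortExact.mk' ?_ inferInstance inferInstance
  refine ShortComplex.exact_of_g_is_cokernel _ ?_
  refine CokernelCofork.IsColimit.ofπ _ _
    (fun {Z} h hh => hS.exact.desc (pushout.inl f f' ≫ h) (hdesc h hh)) ?_ ?_
  · intro Z h hh
    apply pushout.hom_ext
    · rw [inl_rho_assoc]
      exact hS.exact.g_desc _ _
    · rw [inr_rho_assoc, zero_comp, hh]
  · intro Z h hh m hm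
    rw [← cancel_epi (rho f g w f'), hm]
    apply pushout.hom_ext
    · rw [inl_rho_assoc]
      exact (hS.exact.g_desc _ _).symm
    · rw [inr_rho_assoc, zero_comp, hh]

end abstract

section geometric

variable {X : Scheme.{u}}

open Groth.Agent.Lib.Helper18 Groth.Agent.Lib.Helper20.SplitH1 Groth.Agent.Lib.helper9.CurveVanish

/-- naturality of the connecting homomorphism -/
theorem δ_naturality {S₁ S₂ : ShortComplex X.Modules} (h₁ : S₁.ShortExact) (h₂ : S₂.ShortExact) (φ : S₁ ⟶ S₂)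
    (n : ℕ) (x : Coh.HH X S₁.X₃ n) :
    HH.map φ.τ₁ (n + 1) (HH.δ h₁ n x) = HH.δ h₂ n (HH.map φ.τ₃ n x) := by
  have h := HH.comp_extClass_comp_mk₀.{u, u, u+1} (HH.toAb_shortExact h₁) (HH.toAb_shortExact h₂)
    ((HH.toAbF X).mapShortComplex.map φ) x
  exact h

/-- the class in `H⁰` of a morphism `O ⟶ M` -/
noncomputable def cls {M : X.Modules} (u : Coh.structureModule X ⟶ M) : Coh.HH X M 0 :=
  (HH.equiv₀ M).symm ((u.val.app (op ⊤)).hom (1 : X.ringCatSheaf.obj.obj (op ⊤)))

lemma map_cls {M N : X.Modules} (u : Coh.structureModule X ⟶ M) (f : M ⟶ N) :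
    HH.map f 0 (cls u) = cls (u ≫ f) := by
  unfold cls
  rw [HH.equiv₀_symm_naturality]
  rfl

lemma secHom_cls {M : X.Modules} (u : Coh.structureModule X ⟶ M) : secHom M (cls u) = u := by
  apply hom_ext_top
  rw [secHom_top]
  unfold cls
  rw [LinearEquiv.apply_symm_apply]

lemma cls_secHom {M : X.Modules} (y : Coh.HH X M 0) : cls (secHom M y) = y := by
  unfold cls
  rw [secHom_top, LinearEquiv.symm_apply_apply]

/-- a morphism `u : O ⟶ S.X₃` lifts to `S.X₂` if the connecting homomorphism kills its class -/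
theorem exists_lift_of_δ_eq_zero {S : ShortComplex X.Modules} (hS : S.ShortExact)
    (u : Coh.structureModule X ⟶ S.X₃) (h : HH.δ hS 0 (cls u) = 0) :
    ∃ t : Coh.structureModule X ⟶ S.X₂, t ≫ S.g = u := by
  obtain ⟨y, hy⟩ := (HH.exact₃ hS 0 (cls u)).mp h
  refine ⟨secHom S.X₂ y, ?_⟩
  rw [← secHom_cls (secHom S.X₂ y ≫ S.g), ← map_cls, cls_secHom, hy, secHom_cls]

/-- **uniqueness of the non-split extension**: two non-split extensions of `O` by `A` with `h¹(A) = 1` have isomorphic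
middle terms -/
theorem nonempty_iso_of_not_isSplitEpi (k : Type u) [Field k] [X.Over (Spec (CommRingCat.of k))]
    (hO : ∀ f : Coh.structureModule X ⟶ Coh.structureModule X, f ≠ 0 → IsIso f)
    {A : X.Modules} (h1 : finrank k (Coh.HH X A 1) = 1)
    (S S' : ShortComplex X.Modules) (hS : S.ShortExact) (hS' : S'.ShortExact)
    (a : S.X₁ ≅ A) (a' : S'.X₁ ≅ A) (e : S.X₃ ≅ Coh.structureModule X) (e' : S'.X₃ ≅ Coh.structureModule X)
    (hns : ¬ IsSplitEpi S.g) (hns' : ¬ IsSplitEpi S'.g) : Nonempty (S.X₂ ≅ S'.X₂) := by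
  -- normalise the first terms
  have w : (a.inv ≫ S.f) ≫ S.g = 0 := by rw [Category.assoc, S.zero, comp_zero]
  have w' : (a'.inv ≫ S'.f) ≫ S'.g = 0 := by rw [Category.assoc, S'.zero, comp_zero]
  have hT : (ShortComplex.mk (a.inv ≫ S.f) S.g w).ShortExact :=
    ShortComplex.shortExact_of_iso (ShortComplex.isoMk a (Iso.refl _) (Iso.refl _)
      (by simp) (by simp)) hS
  have hT' : (ShortComplex.mk (a'.inv ≫ S'.f) S'.g w').ShortExact :=
    ShortComplex.shortExact_of_iso (ShortComplex.isoMk a' (Iso.refl _) (Iso.refl _)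
      (by simp) (by simp)) hS'
  set f := a.inv ≫ S.f with hf
  set f' := a'.inv ≫ S'.f with hf'
  -- the extension classes
  set ξ := HH.δ hT 0 (cls e.inv) with hξ
  set ξ' := HH.δ hT' 0 (cls e'.inv) with hξ'
  have hξ0 : ξ ≠ 0 := by
    intro h0
    obtain ⟨t, ht⟩ := exists_lift_of_δ_eq_zero hT e.inv h0
    exact hns (IsSplitEpi.mk' ⟨e.hom ≫ t, by
      change (e.hom ≫ t) ≫ S.g = 𝟙 _
      rw [Category.assoc]
      have : t ≫ S.g = e.inv := ht
      rw [this, e.hom_inv_id]⟩)
  obtain ⟨c, hc⟩ := (finrank_eq_one_iff_of_nonzero' ξ hξ0).mp h1 ξ'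
  -- the pushout and its two short exact sequences
  have hl := shortExact_inl f S.g w f' S'.g w' hT hT'
  have hr := shortExact_inr f S.g w f' S'.g w' hT hT'
  -- the class of `e'.inv` dies in `H¹(S.X₂)`
  let φ : ShortComplex.mk f' S'.g w' ⟶
      ShortComplex.mk (pushout.inl f f') (rho' f f' S'.g w') (inl_rho' f f' S'.g w') :=
    { τ₁ := f
      τ₂ := pushout.inr f f'
      τ₃ := 𝟙 _
      comm₁₂ := pushout.condition
      comm₂₃ := by
        change pushout.inr f f' ≫ rho' f f' S'.g w' = S'.g ≫ 𝟙 _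
        rw [inr_rho', Category.comp_id] }
  have hnat := δ_naturality hT' hl φ 0 (cls e'.inv)
  have hzero : HH.δ hl 0 (cls e'.inv) = 0 := by
    have h2 : HH.map (𝟙 S'.X₃) 0 (cls e'.inv) = cls e'.inv := by
      rw [HH.map_id]; rfl
    change HH.map f 1 ξ' = HH.δ hl 0 (HH.map (𝟙 S'.X₃) 0 (cls e'.inv)) at hnat
    rw [h2] at hnat
    rw [← hnat, ← hc]
    change HH.mapOver k f 1 (c • ξ) = 0
    rw [map_smul]
    have h3 : HH.mapOver k f 1 ξ = 0 := (HH.exact₁ hT 0).apply_apply_eq_zero (cls e.inv)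
    rw [h3, smul_zero]
  obtain ⟨θ, hθ⟩ := exists_lift_of_δ_eq_zero hl e'.inv hzero
  change θ ≫ rho' f f' S'.g w' = e'.inv at hθ
  -- `θ ≫ ρ` is nonzero
  have hθρ : θ ≫ rho f S.g w f' ≠ 0 := by
    intro h0
    haveI : Mono (pushout.inr f f') := hr.mono_f
    have hlift := hr.exact.lift_f θ h0
    change hr.exact.lift θ h0 ≫ pushout.inr f f' = θ at hlift
    apply hns'
    refine IsSplitEpi.mk' ⟨e'.hom ≫ hr.exact.lift θ h0, ?_⟩
    change (e'.hom ≫ hr.exact.lift θ h0) ≫ S'.g = 𝟙 _
    rw [Category.assoc, ← inr_rho' f f' S'.g w', ← Category.assoc (hr.exact.lift θ h0), hlift, hθ, e'.hom_inv_id]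
  haveI : IsIso (θ ≫ rho' f f' S'.g w') := by rw [hθ]; infer_instance
  haveI : IsIso (θ ≫ rho f S.g w f') := by
    have h3 : (θ ≫ rho f S.g w f') ≫ e.hom ≠ 0 := by
      intro h0
      apply hθρ
      rw [← cancel_mono e.hom, h0, zero_comp]
    haveI := hO _ h3
    exact IsIso.of_isIso_comp_right (θ ≫ rho f S.g w f') e.hom
  haveI i1 : IsIso (pushout.inl f f' ≫ cokernel.π θ) := isIso_comp_cokernel_π hl θ
  haveI i2 : IsIso (pushout.inr f f' ≫ cokernel.π θ) := isIso_comp_cokernel_π hr θ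
  exact ⟨asIso (pushout.inl f f' ≫ cokernel.π θ) ≪≫ (asIso (pushout.inr f f' ≫ cokernel.π θ)).symm⟩

end geometric

end Groth.Agent.Lib.Lead.ExtUnique
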