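import Mathlib
import Groth.Agent.Lib.Lead.ExtUnique
import Groth.Agent.Lib.Helper11.IdealOfMono
import Groth.Agent.Lib.Helper18.DegCalc

/-!
# Vanishing points of sections of invertible modules; Nagata-type bound (lead)

* `exists_closedPoint_factor`: a monomorphism `i : H ⟶ O` from a quasi-coherent module which is not an isomorphism
  factors through the ideal sheaf of some closed point.
* `braid_naturality`.
* `exists_closedPoint_section_factor`: a nonzero non-invertible section `u : O ⟶ L` of an invertible module on an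
  integral proper curve vanishes at some closed point `p`: `u = u' ≫ (L ⊗ I_p ⟶ L)`.
-/

set_option autoImplicit false
set_option linter.style.haveILetI false
universe u
open CategoryTheory CategoryTheory.Limits AlgebraicGeometry Opposite TopologicalSpace Module MonoidalCategory

namespace Groth.Agent.Lib.Lead.VBCurve

open Groth.Agent.Lib.Lead.ModTensor Groth.Agent.Lib.Helper20.TensorEquiv
open Groth.Agent.Lib.helper11.IdealOfMono Groth.Agent.Lib.helper16.QCohEpi

section general

variable {X : Scheme.{u}}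

/-- a map `i : H ⟶ O` whose image ideal lies in `I` factors through the ideal sheaf of `I` -/
theorem comp_toSubscheme_eq_zero_of_le {H : X.Modules} [H.IsQuasicoherent] (i : H ⟶ Coh.structureModule X)
    (I : X.IdealSheafData) (hle : idealOfHom H i ≤ I) : i ≫ ClSub.toSubscheme I = 0 := by
  refine hom_ext_of_basis _ _ {D : X.Opens | IsAffineOpen D} X.isBasis_affineOpens
    (fun D hD s => ?_)
  have h1 : (((i ≫ ClSub.toSubscheme I).app D).hom s) =
      (I.subschemeι.app D).hom (show Γ(X, D) from (i.app D).hom s) := rfl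
  have h2 : (show Γ(X, D) from (i.app D).hom s) ∈ RingHom.ker (I.subschemeι.app D).hom := by
    rw [I.ker_subschemeι_app ⟨D, hD⟩]
    exact hle ⟨D, hD⟩ ⟨s, rfl⟩
  rw [h1, (RingHom.mem_ker).mp h2]
  rfl

/-- a monomorphism `i : H ⟶ O` from a quasi-coherent module which is not an isomorphism factors through the ideal sheaf
of some closed point -/
theorem exists_closedPoint_factor [CompactSpace X] {H : X.Modules} [H.IsQuasicoherent]
    (i : H ⟶ Coh.structureModule X) [Mono i] (hne : ¬ IsIso i) :
    ∃ (p : X) (hp : IsClosed ({p} : Set X))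
      (j : H ⟶ ClSub.idealMod (Scheme.IdealSheafData.vanishingIdeal ⟨{p}, hp⟩)),
      j ≫ ClSub.idealModι (Scheme.IdealSheafData.vanishingIdeal ⟨{p}, hp⟩) = i := by
  set J := idealOfHom H i with hJ
  have hJtop : J ≠ ⊤ := by
    intro htop
    apply hne
    refine isIso_of_mono_of_surjective_on_affine_cover i (fun W : X.affineOpens => W.1)
      (fun W => W.2) (fun x => ?_) (fun W t => ?_)
    · obtain ⟨_, ⟨U, hU : IsAffineOpen U, rfl⟩, hx, -⟩ :=
        X.isBasis_affineOpens.exists_subset_of_mem_open (Set.mem_univ x) isOpen_univ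
      exact ⟨⟨U, hU⟩, hx⟩
    · have h1 : (show Γ(X, W.1) from t) ∈ J.ideal W := by
        rw [htop]
        exact Submodule.mem_top
      exact h1
  have hsupp : (J.support : Set X).Nonempty := by
    rw [Set.nonempty_iff_ne_empty]
    intro h0
    apply hJtop
    rw [← Scheme.IdealSheafData.support_eq_bot_iff]
    exact TopologicalSpace.Closeds.ext h0
  obtain ⟨p, hpJ, hp⟩ := IsClosed.exists_closed_singleton J.support.isClosed hsupp
  have hle : J ≤ Scheme.IdealSheafData.vanishingIdeal ⟨{p}, hp⟩ := by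
    rw [← Scheme.IdealSheafData.le_support_iff_le_vanishingIdeal]
    intro x hx
    have hx' : x = p := hx
    rw [hx']
    exact hpJ
  exact ⟨p, hp, kernel.lift _ i (comp_toSubscheme_eq_zero_of_le i _ hle), kernel.lift_ι _ _ _⟩

/-- naturality of the symmetry isomorphism -/
theorem braid_naturality {A A' B B' : X.Modules} (f : A ⟶ A') (g : B ⟶ B') :
    tensorMap f g ≫ (braid A' B').hom = (braid A B).hom ≫ tensorMap g f := by
  change (L X).map ((V X).map f ⊗ₘ (V X).map g) ≫ (L X).map (β_ (CohB1.toPMod A') (CohB1.toPMod B')).hom =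
    (L X).map (β_ (CohB1.toPMod A) (CohB1.toPMod B)).hom ≫ (L X).map ((V X).map g ⊗ₘ (V X).map f)
  refine ((L X).map_comp _ _).symm.trans (Eq.trans ?_ ((L X).map_comp _ _))
  exact congrArg ((L X).map) (BraidedCategory.braiding_naturality _ _)

/-- the map `G ⊗ I ⟶ G` induced by `ι : I ⟶ O` -/
noncomputable def twistMap {I : X.Modules} (ι : I ⟶ Coh.structureModule X) (G : X.Modules) :
    CohB1.tensorMod G I ⟶ G :=
  tensorMap (𝟙 G) ι ≫ (rightUnitor G).hom

lemma twistMap_naturality {I : X.Modules} (ι : I ⟶ Coh.structureModule X) {G G' : X.Modules} (f : G ⟶ G') :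
    tensorMap f (𝟙 I) ≫ twistMap ι G' = twistMap ι G ≫ f := by
  unfold twistMap
  rw [← Category.assoc, tensorMap_exchange, Category.assoc, rightUnitor_naturality, Category.assoc]

end general

section curve

variable (k : Type u) [Field k] (X : Scheme.{u}) [X.Over (Spec (CommRingCat.of k))]
  [IsProper (X ↘ Spec (CommRingCat.of k))] [IsIntegral X]

include k in
open Groth.Agent.Lib.helper11.InvMod Groth.Agent.Lib.Lead.CurveInv in
/-- **vanishing point**: a nonzero section `u : O ⟶ L` of an invertible module which is not an isomorphism vanishes at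
some closed point `p`, i.e. factors through `L ⊗ I_p ⟶ L` -/
theorem exists_closedPoint_section_factor (hP : PIDStalks X) {L : X.Modules} (hL : PicF.IsInvertible L)
    (u : Coh.structureModule X ⟶ L) (hu : u ≠ 0) (hni : ¬ IsIso u) :
    ∃ (p : X) (hp : IsClosed ({p} : Set X))
      (u' : Coh.structureModule X ⟶
        CohB1.tensorMod L (ClSub.idealMod (Scheme.IdealSheafData.vanishingIdeal ⟨{p}, hp⟩))),
      u' ≫ twistMap (ClSub.idealModι (Scheme.IdealSheafData.vanishingIdeal ⟨{p}, hp⟩)) L = u := by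
  haveI := Groth.Agent.Lib.Lead.CurveEuler.isNoetherian k X
  obtain ⟨L', hL', ⟨ε⟩, ⟨e₁⟩⟩ := Groth.Agent.Lib.helper12.InvDual.exists_inverse hL
  have hO := isInvertible_structureModule X
  -- a fixed automorphism of `L`
  let cL : L ⟶ CohB1.tensorMod (CohB1.tensorMod L L') L := (compIso e₁).inv.app L
  let cO : Coh.structureModule X ⟶ CohB1.tensorMod (CohB1.tensorMod (Coh.structureModule X) L') L :=
    (compIso e₁).inv.app (Coh.structureModule X)
  haveI : IsIso cL := inferInstanceAs (IsIso (((compIso e₁).app L).inv))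
  haveI : IsIso (tensorMap ε.hom (𝟙 L)) := (tensorIso ε (Iso.refl L)).isIso_hom
  let α : L ⟶ L := cL ≫ tensorMap ε.hom (𝟙 L) ≫ (braid (Coh.structureModule X) L).hom ≫ (rightUnitor L).hom
  have hα : α = cL ≫ tensorMap ε.hom (𝟙 L) ≫ (braid (Coh.structureModule X) L).hom ≫ (rightUnitor L).hom := rfl
  haveI : IsIso α := by rw [hα]; infer_instance
  set ū := u ≫ inv α with hū
  have hūα : ū ≫ α = u := by rw [hū, Category.assoc, IsIso.inv_hom_id, Category.comp_id]
  have hū0 : ū ≠ 0 := fun h => hu (by rw [← hūα, h, zero_comp])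
  have hūni : ¬ IsIso ū := fun h => hni (by rw [← hūα]; infer_instance)
  haveI : Mono ū := mono_of_ne_zero_of_isInvertible k X hP hO hL ū hū0
  -- the ideal
  let i : CohB1.tensorMod (Coh.structureModule X) L' ⟶ Coh.structureModule X :=
    tensorMap ū (𝟙 L') ≫ ε.hom
  haveI : Mono (tensorMap ū (𝟙 L')) := mono_tensorMap e₁ ū
  haveI : Mono i := mono_comp _ _
  have hi : ¬ IsIso i := by
    intro h
    haveI : IsIso (tensorMap ū (𝟙 L')) := by
      have h1 : tensorMap ū (𝟙 L') = i ≫ ε.inv := by
        change _ = (tensorMap ū (𝟙 L') ≫ ε.hom) ≫ ε.inv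
        rw [Category.assoc, ε.hom_inv_id, Category.comp_id]
      rw [h1]
      infer_instance
    haveI := isEquivalence_tensorRight e₁
    haveI : IsIso ((tensorRight L').map ū) := ‹IsIso (tensorMap ū (𝟙 L'))›
    exact hūni (isIso_of_reflects_iso ū (tensorRight L'))
  haveI : (CohB1.tensorMod (Coh.structureModule X) L').IsQuasicoherent :=
    (isCoh_of_isInvertible X (Groth.Agent.Lib.helper12.TensorInv.isInvertible_tensorMod hO hL')).1
  obtain ⟨p, hp, j, hj⟩ := exists_closedPoint_factor i hi
  refine ⟨p, hp, cO ≫ tensorMap j (𝟙 L) ≫ (braid _ L).hom, ?_⟩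
  have hi' : tensorMap i (𝟙 L) = tensorMap (tensorMap ū (𝟙 L')) (𝟙 L) ≫ tensorMap ε.hom (𝟙 L) := by
    rw [← tensorMap_comp, Category.comp_id]
  have hnat : ū ≫ cL = cO ≫ tensorMap (tensorMap ū (𝟙 L')) (𝟙 L) := (compIso e₁).inv.naturality ū
  unfold twistMap
  simp only [Category.assoc]
  rw [← Category.assoc (braid _ L).hom, ← braid_naturality, Category.assoc,
    ← Category.assoc (tensorMap j (𝟙 L)), ← tensorMap_comp, Category.comp_id, hj, hi', Category.assoc,
    ← Category.assoc cO, ← hnat, Category.assoc, ← hα]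
  exact hūα

open Groth.Agent.Lib.Helper18 Groth.Agent.Lib.helper11.InvMod Groth.Agent.Lib.Lead.CurveInv in
/-- the map `H¹(O ⊗ I_p) ⟶ H¹(O)` is injective -/
theorem injective_H1_twistMap_structure [IsAlgClosed k] (hP : PIDStalks X) (hdim : topologicalKrullDim X = 1)
    {p : X} (hp : IsClosed ({p} : Set X)) :
    Function.Injective (HH.map (twistMap (ClSub.idealModι (Scheme.IdealSheafData.vanishingIdeal ⟨{p}, hp⟩))
      (Coh.structureModule X)) 1) := by
  haveI := Groth.Agent.Lib.Lead.CurveEuler.isNoetherian k X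
  obtain ⟨hI1, hId⟩ := idealMod_closedPoint k X hP hdim hp
  have hI := (Groth.Agent.Lib.helper16.FLF.isInvertible_iff_isFinLocFreeOfRank_one _).mpr hI1
  have hO := isInvertible_structureModule X
  have hO1 := (Groth.Agent.Lib.helper16.FLF.isInvertible_iff_isFinLocFreeOfRank_one _).mp hO
  have h0 := Groth.Agent.Lib.helper9.CurveVanish.finrank_H0_structureModule_eq_one k X
  have hdO := Groth.Agent.Lib.Lead.CurveEuler.deg_structureModule k X
  obtain ⟨hOI, hdOI⟩ := deg_tensor_invertible k X hdim.le hO1 hI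
  rw [hdO, hId] at hdOI
  have hOIi := (Groth.Agent.Lib.helper16.FLF.isInvertible_iff_isFinLocFreeOfRank_one _).mpr hOI
  set ι := ClSub.idealModι (Scheme.IdealSheafData.vanishingIdeal ⟨{p}, hp⟩) with hι
  -- `ψ` is a monomorphism
  haveI : Mono (tensorMap ι (𝟙 (Coh.structureModule X))) :=
    Groth.Agent.Lib.Helper18.DegCalc.mono_tensorMap_of_isFinLocFreeOfRank ι hO1
  have hbr := braid_naturality ι (𝟙 (Coh.structureModule X))
  haveI : Mono (tensorMap (𝟙 (Coh.structureModule X)) ι) := by
    have h1 : tensorMap (𝟙 (Coh.structureModule X)) ι =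
        (braid _ _).inv ≫ tensorMap ι (𝟙 (Coh.structureModule X)) ≫ (braid _ _).hom := by
      rw [hbr, Iso.inv_hom_id_assoc]
    rw [h1]
    haveI : Mono (tensorMap ι (𝟙 (Coh.structureModule X)) ≫
      (braid (Coh.structureModule X) (Coh.structureModule X)).hom) := mono_comp _ _
    exact mono_comp _ _
  haveI : Mono (twistMap ι (Coh.structureModule X)) := by
    unfold twistMap
    exact mono_comp _ _
  set ψ := twistMap ι (Coh.structureModule X) with hψ
  have hS := shortExact_cokernel X ψ
  have hOc := isCoh_of_isInvertible X hO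
  have hOIc := isCoh_of_isInvertible X hOIi
  have hQc : Coh.IsCoh (cokernel ψ) := Groth.Agent.Lib.helper7.CohKer.isCoh_cokernel hOIc hOc ψ
  have hdq := deg_sub_deg k X hdim.le hOI hO1 ψ
  rw [hdO, hdOI] at hdq
  have hfq : finrank k (Coh.HH X (cokernel ψ) 0) = 1 := by
    have : ((finrank k (Coh.HH X (cokernel ψ) 0) : ℕ) : ℤ) = 1 := by rw [← hdq]; norm_num
    exact_mod_cast this
  -- `H⁰(O ⊗ I) = 0`
  have hsub : Subsingleton (Coh.HH X (CohB1.tensorMod (Coh.structureModule X)
      (ClSub.idealMod (Scheme.IdealSheafData.vanishingIdeal ⟨{p}, hp⟩))) 0) := by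
    by_contra hn
    rw [not_subsingleton_iff_nontrivial] at hn
    obtain ⟨σ, hσ⟩ := Groth.Agent.Lib.Lead.CurveSec.exists_hom_ne_zero_of_nontrivial _ hn
    have := deg_le_of_ne_zero_of_isInvertible k X hP hdim.le hO hOIi σ hσ
    rw [hdO, hdOI] at this
    norm_num at this
  have hinj : Function.Injective (HH.mapOver k (cokernel.π ψ) 0) := HH.injective_map_g hS 0 hsub
  haveI := Groth.Agent.Lib.Lead.ProperEuler.finite_HH k X _ hOc 0
  haveI := Groth.Agent.Lib.Lead.ProperEuler.finite_HH k X _ hQc 0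
  have hsurj : Function.Surjective (HH.mapOver k (cokernel.π ψ) 0) :=
    (LinearMap.injective_iff_surjective_of_finrank_eq_finrank (h0.trans hfq.symm)).mp hinj
  rw [injective_iff_map_eq_zero]
  intro y hy
  obtain ⟨z, hz⟩ := (HH.exact₁ hS 0 y).mp hy
  obtain ⟨w, hw⟩ := hsurj z
  rw [← hz, ← hw]
  exact (HH.exact₃ hS 0).apply_apply_eq_zero w

open Groth.Agent.Lib.Helper18 Groth.Agent.Lib.helper11.InvMod Groth.Agent.Lib.Lead.CurveInv
  Groth.Agent.Lib.Lead.ExtUnique Groth.Agent.Lib.helper9.CurveVanish in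
/-- **Nagata-type bound**: a rank two bundle `E` with a nonzero section such that `H⁰(E ⊗ M) = 0` for all invertible `M` of
negative degree has `deg E ≤ 2g - 1` (genus `g ≥ 1`) -/
theorem deg_le_of_normalized [IsAlgClosed k] (hP : PIDStalks X) (hdim : topologicalKrullDim X = 1)
    (hg : 1 ≤ Curv2.genus k X) {E : X.Modules} (hE : FlatMod.IsFinLocFreeOfRank 2 E)
    (hEneg : ∀ M : X.Modules, PicF.IsInvertible M → Curv2.deg k X M 1 < 0 →
      Subsingleton (Coh.HH X (CohB1.tensorMod E M) 0))
    (s : Coh.structureModule X ⟶ E) (hs : s ≠ 0) :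
    Curv2.deg k X E 2 ≤ 2 * (Curv2.genus k X : ℤ) - 1 := by
  by_contra hlt
  rw [not_le] at hlt
  haveI := Groth.Agent.Lib.Lead.CurveEuler.isNoetherian k X
  have hd := hdim.le
  have h0 := Groth.Agent.Lib.helper9.CurveVanish.finrank_H0_structureModule_eq_one k X
  have hO := isInvertible_structureModule X
  have hdO := Groth.Agent.Lib.Lead.CurveEuler.deg_structureModule k X
  obtain ⟨hm, t, hrk, ht, hdeg⟩ := cokernel_section_of_normalized k X hP hd hE hEneg s hs
  have ht1 : t = 1 := by omega
  subst ht1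
  haveI := hm
  have hq := (Groth.Agent.Lib.helper16.FLF.isInvertible_iff_isFinLocFreeOfRank_one (cokernel s)).mpr ht
  have hS := shortExact_cokernel X s
  have hLc := isCoh_of_isInvertible X hq
  have hOc := isCoh_of_isInvertible X hO
  have hrr := Groth.Agent.Lib.Lead.CurveEuler.riemann_roch' k X hd h0 (cokernel s) hLc.1 1
  haveI := Groth.Agent.Lib.Lead.ProperEuler.finite_HH k X _ hLc 0
  haveI := Groth.Agent.Lib.Lead.ProperEuler.finite_HH k X _ hOc 1
  have hgdef : Curv2.genus k X = finrank k (Coh.HH X (Coh.structureModule X) 1) := rfl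
  have hlt' : finrank k (Coh.HH X (Coh.structureModule X) 1) < finrank k (Coh.HH X (cokernel s) 0) := by
    have h1 : (0 : ℤ) ≤ (finrank k (Coh.HH X (cokernel s) 1) : ℤ) := Int.natCast_nonneg _
    have h2 : ((finrank k (Coh.HH X (Coh.structureModule X) 1) : ℕ) : ℤ) <
        ((finrank k (Coh.HH X (cokernel s) 0) : ℕ) : ℤ) := by
      rw [← hgdef]
      rw [← hdeg] at hrr
      push_cast at hrr ⊢
      linarith
    exact_mod_cast h2
  have hker := LinearMap.ker_ne_bot_of_finrank_lt (f := HH.δOver hS k 0) hlt'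
  obtain ⟨x, hx, hx0⟩ := Submodule.exists_mem_ne_zero_of_ne_bot hker
  have hδx : HH.δ hS 0 x = 0 := hx
  have hu0 : secHom (cokernel s) x ≠ 0 := fun h => hx0 ((secHom_eq_zero_iff _ x).mp h)
  have hcls : cls (secHom (cokernel s) x) = x := cls_secHom x
  have hni : ¬ IsIso (secHom (cokernel s) x) := by
    intro h
    have h1 := Groth.Agent.Lib.Lead.CurveEuler.deg_eq_of_iso k X (asIso (secHom (cokernel s) x)) 1
    rw [hdO, ← hdeg] at h1
    have h2 : (1 : ℤ) ≤ (Curv2.genus k X : ℤ) := by exact_mod_cast hg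
    linarith
  obtain ⟨p, hp, u', hu'⟩ := exists_closedPoint_section_factor k X hP hq _ hu0 hni
  obtain ⟨hI1, hId⟩ := idealMod_closedPoint k X hP hdim hp
  have hI := (Groth.Agent.Lib.helper16.FLF.isInvertible_iff_isFinLocFreeOfRank_one _).mpr hI1
  obtain ⟨I', hI', ⟨e_p⟩, -⟩ := Groth.Agent.Lib.helper12.InvDual.exists_inverse hI
  have hSp := shortExact_mapSC e_p hS
  let Ψ : mapSC e_p (ShortComplex.mk s (cokernel.π s) (cokernel.condition s)) ⟶
      ShortComplex.mk s (cokernel.π s) (cokernel.condition s) :=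
    { τ₁ := twistMap (ClSub.idealModι (Scheme.IdealSheafData.vanishingIdeal ⟨{p}, hp⟩)) _
      τ₂ := twistMap (ClSub.idealModι (Scheme.IdealSheafData.vanishingIdeal ⟨{p}, hp⟩)) _
      τ₃ := twistMap (ClSub.idealModι (Scheme.IdealSheafData.vanishingIdeal ⟨{p}, hp⟩)) _
      comm₁₂ := (twistMap_naturality _ s).symm
      comm₂₃ := (twistMap_naturality _ (cokernel.π s)).symm }
  have hnat := δ_naturality hSp hS Ψ 0 (cls u')
  have h1 : HH.map (twistMap (ClSub.idealModι (Scheme.IdealSheafData.vanishingIdeal ⟨{p}, hp⟩))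
      (Coh.structureModule X)) 1 (HH.δ hSp 0 (cls u')) = 0 := by
    refine hnat.trans ?_
    change HH.δ hS 0 (HH.map (twistMap (ClSub.idealModι (Scheme.IdealSheafData.vanishingIdeal ⟨{p}, hp⟩))
      (cokernel s)) 0 (cls u')) = 0
    rw [map_cls, hu', hcls, hδx]
  have h2 : HH.δ hSp 0 (cls u') = 0 :=
    injective_H1_twistMap_structure k X hP hdim hp (h1.trans (map_zero _).symm)
  obtain ⟨t, ht⟩ := exists_lift_of_δ_eq_zero hSp u' h2
  have ht0 : t ≠ 0 := by
    rintro rfl
    apply hu0
    have hu'0 : u' = 0 := by rw [← ht]; exact zero_comp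
    rw [← hu', hu'0]
    exact zero_comp
  have hnt := nontrivial_H0_of_hom_ne_zero t ht0
  have hsub := hEneg _ hI (by rw [hId]; norm_num)
  exact absurd hsub (not_subsingleton_iff_nontrivial.mpr hnt)

end curve

end Groth.Agent.Lib.Lead.VBCurve
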