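import Mathlib
import Groth.Agent.Lib.Lead.VBCurve20

/-!
# Maximal invertible submodules of rank two bundles (lead)

`X` an integral proper curve with PID stalks over an algebraically closed field `k`, of genus `g ≥ 1`.
* `exists_maxDeg_invertible_sub`: a rank two bundle `E` has an invertible submodule `A` of maximal degree; its cokernel
  `B` is invertible, `deg E = deg A + deg B`.
* `deg_sub_two_mul_maxDeg_le`: (Nagata-type bound) `deg E - 2 deg A ≤ 2g - 1` for such an `A`.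
* `nonempty_iso_of_not_isSplitEpi_of_deg_eq`: in genus one, a non-split extension of `B` by `A`, both invertible of the
  same degree, has `A ≅ B`.
-/

set_option autoImplicit false
set_option linter.style.haveILetI false
universe u
open CategoryTheory CategoryTheory.Limits AlgebraicGeometry Opposite TopologicalSpace Module MonoidalCategory

namespace Groth.Agent.Lib.Lead.VBCurve

open Groth.Agent.Lib.Lead.ModTensor Groth.Agent.Lib.Helper20.TensorEquiv

section curve

variable (k : Type u) [Field k] (X : Scheme.{u}) [X.Over (Spec (CommRingCat.of k))]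
  [IsProper (X ↘ Spec (CommRingCat.of k))] [IsIntegral X]

/-- an invertible submodule of maximal degree of a rank two bundle, with its cokernel -/
theorem exists_maxDeg_invertible_sub [IsAlgClosed k] (hP : PIDStalks X) (hdim : topologicalKrullDim X = 1)
    {E : X.Modules} (hE : FlatMod.IsFinLocFreeOfRank 2 E) :
    ∃ (A : X.Modules) (ι : A ⟶ E), Mono ι ∧ PicF.IsInvertible A ∧ PicF.IsInvertible (cokernel ι) ∧
      Curv2.deg k X E 2 = Curv2.deg k X A 1 + Curv2.deg k X (cokernel ι) 1 ∧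
      ∀ (G' : X.Modules) (ι' : G' ⟶ E), Mono ι' → FlatMod.IsFinLocFreeOfRank 1 G' →
        Curv2.deg k X G' 1 ≤ Curv2.deg k X A 1 := by
  obtain ⟨L₀, ι₀, hL₀, hι₀, -⟩ := exists_invertible_sub_deg_ge k X hP hdim (by norm_num : 0 < 2) hE
  haveI := hι₀
  have hL₀1 := (Groth.Agent.Lib.helper16.FLF.isInvertible_iff_isFinLocFreeOfRank_one L₀).mp hL₀
  obtain ⟨A, ι, hm, hA, hmax⟩ := exists_maxDeg_sub k X hdim.le hL₀1 hE ι₀
  haveI := hm
  obtain ⟨t, hrk, ht, hdeg⟩ := cokernel_data_of_maxDeg k X hP hdim.le hA hE ι hmax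
  have ht1 : t = 1 := by omega
  subst ht1
  exact ⟨A, ι, hm, (Groth.Agent.Lib.helper16.FLF.isInvertible_iff_isFinLocFreeOfRank_one A).mpr hA,
    (Groth.Agent.Lib.helper16.FLF.isInvertible_iff_isFinLocFreeOfRank_one _).mpr ht, hdeg, hmax⟩

open Groth.Agent.Lib.helper11.InvMod in
/-- **Nagata-type bound** for a maximal invertible submodule `A` of a rank two bundle `E`: `deg E - 2 deg A ≤ 2g - 1` -/
theorem deg_sub_two_mul_maxDeg_le [IsAlgClosed k] (hP : PIDStalks X) (hdim : topologicalKrullDim X = 1)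
    (hg : 1 ≤ Curv2.genus k X) {E : X.Modules} (hE : FlatMod.IsFinLocFreeOfRank 2 E)
    {A : X.Modules} (ι : A ⟶ E) [Mono ι] (hA : PicF.IsInvertible A)
    (hmax : ∀ (G' : X.Modules) (ι' : G' ⟶ E), Mono ι' → FlatMod.IsFinLocFreeOfRank 1 G' →
      Curv2.deg k X G' 1 ≤ Curv2.deg k X A 1) :
    Curv2.deg k X E 2 - 2 * Curv2.deg k X A 1 ≤ 2 * (Curv2.genus k X : ℤ) - 1 := by
  have hd := hdim.le
  obtain ⟨A', hA', ⟨ε⟩, ⟨e⟩⟩ := Groth.Agent.Lib.helper12.InvDual.exists_inverse hA
  -- ε : A ⊗ A' ≅ O, e : A' ⊗ A ≅ O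
  have hdA' : Curv2.deg k X A' 1 = - Curv2.deg k X A 1 := by
    have := deg_add_deg_of_isInverseOf k X hd hA hA' ⟨e⟩
    linarith
  obtain ⟨hF, hdF⟩ := deg_tensor_invertible k X hd hE hA'
  have hO : ¬ IsZero (Coh.structureModule X) := not_isZero_of_isInvertible X (isInvertible_structureModule X)
  have hnt := nontrivial_H0_tensor_of_mono e ε hO ι
  obtain ⟨s, hs⟩ := Groth.Agent.Lib.Lead.CurveSec.exists_hom_ne_zero_of_nontrivial _ hnt
  have hneg : ∀ M : X.Modules, PicF.IsInvertible M → Curv2.deg k X M 1 < 0 →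
      Subsingleton (Coh.HH X (CohB1.tensorMod (CohB1.tensorMod E A') M) 0) := by
    intro M hM hdM
    by_contra hn
    rw [not_subsingleton_iff_nontrivial] at hn
    obtain ⟨σ, hσ⟩ := Groth.Agent.Lib.Lead.CurveSec.exists_hom_ne_zero_of_nontrivial _ hn
    -- transport to a section of `(A' ⊗ M) ⊗ E`
    let θ : CohB1.tensorMod (CohB1.tensorMod E A') M ≅ CohB1.tensorMod (CohB1.tensorMod A' M) E :=
      assoc E A' M ≪≫ braid E (CohB1.tensorMod A' M)
    have hσ' : σ ≫ θ.hom ≠ 0 := by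
      intro h0
      apply hσ
      rw [← cancel_mono θ.hom, h0, zero_comp]
    have hQ : PicF.IsInvertible (CohB1.tensorMod A' M) :=
      Groth.Agent.Lib.helper12.TensorInv.isInvertible_tensorMod hA' hM
    obtain ⟨Q', hQ', ⟨εQ⟩, ⟨eQ⟩⟩ := Groth.Agent.Lib.helper12.InvDual.exists_inverse hQ
    -- εQ : Q ⊗ Q' ≅ O ; eQ : Q' ⊗ Q ≅ O
    obtain ⟨v, hv⟩ := exists_hom_ne_zero_of_section eQ εQ (σ ≫ θ.hom) hσ'
    have hQ'1 := (Groth.Agent.Lib.helper16.FLF.isInvertible_iff_isFinLocFreeOfRank_one Q').mp hQ'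
    obtain ⟨rK, rI, -, -, hrr, -, hIpos, hmono, -⟩ := kernel_image_data k X hP hQ'1 hE v
    have hrK : rK = 0 := by have := hIpos hv; omega
    have h1 := hmax Q' v (hmono hrK) hQ'1
    have hdQ' : Curv2.deg k X Q' 1 = - Curv2.deg k X (CohB1.tensorMod A' M) 1 := by
      have := deg_add_deg_of_isInverseOf k X hd hQ hQ' ⟨eQ⟩
      linarith
    rw [hdQ', Groth.Agent.Lib.helper9.CurveDegAdd.deg_tensorMod k X hd hA' hM, hdA'] at h1
    linarith
  have h2 := deg_le_of_normalized k X hP hdim hg hF hneg s hs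
  rw [hdF, hdA'] at h2
  push_cast at h2
  linarith

open Groth.Agent.Lib.helper11.InvMod Groth.Agent.Lib.Lead.CurveInv in
/-- in genus one, a non-split extension of `B` by `A`, both invertible of the same degree, has `A ≅ B` -/
theorem nonempty_iso_of_not_isSplitEpi_of_deg_eq [IsAlgClosed k] (hP : PIDStalks X)
    (hdim : topologicalKrullDim X = 1) (hg : Curv2.genus k X = 1)
    (S : ShortComplex X.Modules) (hS : S.ShortExact) (hA : PicF.IsInvertible S.X₁)
    (hB : PicF.IsInvertible S.X₃) (hdeg : Curv2.deg k X S.X₁ 1 = Curv2.deg k X S.X₃ 1)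
    (hns : ¬ IsSplitEpi S.g) : Nonempty (S.X₁ ≅ S.X₃) := by
  have hd := hdim.le
  have h0 := Groth.Agent.Lib.helper9.CurveVanish.finrank_H0_structureModule_eq_one k X
  have hO := isInvertible_structureModule X
  obtain ⟨B', hB', ⟨ε⟩, hinv'⟩ := Groth.Agent.Lib.helper12.InvDual.exists_inverse hB
  have hH1 : Nontrivial (Coh.HH X (CohB1.tensorMod B' S.X₁) 1) := by
    rw [← not_subsingleton_iff_nontrivial]
    intro h1
    exact hns (isSplitEpi_of_subsingleton_H1 S hS B' hinv' h1)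
  have hQ : PicF.IsInvertible (CohB1.tensorMod B' S.X₁) :=
    Groth.Agent.Lib.helper12.TensorInv.isInvertible_tensorMod hB' hA
  have hdQ := deg_inverse_tensor k X hd hB hB' hinv' hA
  rw [hdeg, sub_self] at hdQ
  have hQc := isCoh_of_isInvertible X hQ
  have hrr := Groth.Agent.Lib.Lead.CurveEuler.riemann_roch' k X hd h0 _ hQc.1 1
  rw [hdQ, hg] at hrr
  haveI := Groth.Agent.Lib.Lead.ProperEuler.finite_HH k X _ hQc 1
  have hpos : 0 < finrank k (Coh.HH X (CohB1.tensorMod B' S.X₁) 1) := Module.finrank_pos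
  have hpos0 : 0 < finrank k (Coh.HH X (CohB1.tensorMod B' S.X₁) 0) := by
    have : (finrank k (Coh.HH X (CohB1.tensorMod B' S.X₁) 0) : ℤ) =
        (finrank k (Coh.HH X (CohB1.tensorMod B' S.X₁) 1) : ℤ) := by
      push_cast at hrr
      linarith
    omega
  obtain ⟨σ, hσ⟩ := Groth.Agent.Lib.Lead.CurveSec.exists_hom_ne_zero_of_finrank_pos k X _ hpos0
  haveI := isIso_of_isInvertible_of_deg_eq k X hP hd hO hQ σ hσ
    (by rw [Groth.Agent.Lib.Lead.CurveEuler.deg_structureModule k X, hdQ])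
  exact ⟨((rightUnitor S.X₃).symm ≪≫ tensorIso (Iso.refl S.X₃) (asIso σ) ≪≫ (assoc S.X₃ B' S.X₁).symm ≪≫
    tensorIso ε (Iso.refl S.X₁) ≪≫ leftUnitor S.X₁).symm⟩

end curve

end Groth.Agent.Lib.Lead.VBCurve
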