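import Mathlib
import Groth.Agent.Lib.Lead.VBCurve21
import Groth.Agent.Lib.Helper16.FLF5
import Groth.Agent.Lib.Helper7.CohKer

/-!
# Skyscraper quotients and filtrations by negative line bundles (lead)

* `skyMod hp := O / I_p` for a closed point `p`; `exists_skyscraper_quotient` : a nonzero quasi-coherent module
  generated by finitely many global sections has an epimorphism onto some `O / I_p`.
* `exists_lift_skyπ`: on an integral proper curve over an algebraically closed field every `O ⟶ O / I_p` lifts to `O ⟶ O`.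
* `IsTriv F`: `F` is a retract of some `O^m`; `exists_negative_filtration`: a locally free `N ⊂ F` (`F` trivial) without
  global sections has a filtration with invertible quotients of negative degree.
-/

set_option autoImplicit false
set_option linter.style.haveILetI false
universe u
open CategoryTheory CategoryTheory.Limits AlgebraicGeometry Opposite TopologicalSpace Module

namespace Groth.Agent.Lib.Lead.VBCurve

section general

variable {X : Scheme.{u}}

/-- the skyscraper `O / I_p` at a closed point, as the cokernel of the ideal sheaf inclusion -/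
noncomputable abbrev skyMod {p : X} (hp : IsClosed ({p} : Set X)) : X.Modules :=
  cokernel (ClSub.idealModι (Scheme.IdealSheafData.vanishingIdeal ⟨{p}, hp⟩))

/-- the projection `O ⟶ O / I_p` -/
noncomputable abbrev skyπ {p : X} (hp : IsClosed ({p} : Set X)) : Coh.structureModule X ⟶ skyMod hp :=
  cokernel.π _

/-- a nonzero cyclic quasi-coherent module has a skyscraper quotient -/
theorem exists_skyscraper_quotient_of_epi [CompactSpace X] [(Coh.structureModule X).IsQuasicoherent]
    {T : X.Modules} [T.IsQuasicoherent]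
    (c : Coh.structureModule X ⟶ T) [Epi c] (hT : ¬ IsZero T) :
    ∃ (p : X) (hp : IsClosed ({p} : Set X)) (q : T ⟶ skyMod hp), c ≫ q = skyπ hp := by
  haveI : (kernel c).IsQuasicoherent := Groth.Agent.Lib.helper7.CohKer.isQuasicoherent_kernel c
  have hne : ¬ IsIso (kernel.ι c) := by
    intro h
    apply hT
    have h0 : c = 0 := by
      rw [← cancel_epi (kernel.ι c), kernel.condition, comp_zero]
    rw [IsZero.iff_id_eq_zero, ← cancel_epi c, h0, zero_comp, zero_comp]
  obtain ⟨p, hp, j, hj⟩ := exists_closedPoint_factor (kernel.ι c) hne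
  refine ⟨p, hp, Abelian.epiDesc c (skyπ hp) ?_, Abelian.comp_epiDesc _ _ _⟩
  rw [← hj, Category.assoc, cokernel.condition, comp_zero]

/-- a nonzero quasi-coherent module generated by finitely many global sections has a skyscraper quotient -/
theorem exists_skyscraper_quotient [CompactSpace X] [(Coh.structureModule X).IsQuasicoherent]
    {J : Type} (S : Finset J) :
    ∀ (T : X.Modules) [T.IsQuasicoherent] (c : J → (Coh.structureModule X ⟶ T)),
      (∀ (Z : X.Modules) (h : T ⟶ Z), (∀ j ∈ S, c j ≫ h = 0) → h = 0) → ¬ IsZero T →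
      ∃ (p : X) (hp : IsClosed ({p} : Set X)) (q : T ⟶ skyMod hp), Epi q := by
  classical
  induction S using Finset.induction_on with
  | empty =>
    intro T _ c hc hT
    exact absurd ((IsZero.iff_id_eq_zero T).mpr (hc T (𝟙 T) (fun j hj => absurd hj (Finset.notMem_empty j)))) hT
  | insert a S ha ih =>
    intro T _ c hc hT
    by_cases hz : IsZero (cokernel (c a))
    · haveI : Epi (c a) := Preadditive.epi_of_isZero_cokernel (c a) hz
      obtain ⟨p, hp, q, hq⟩ := exists_skyscraper_quotient_of_epi (c a) hT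
      refine ⟨p, hp, q, ?_⟩
      haveI : Epi (c a ≫ q) := by rw [hq]; infer_instance
      exact epi_of_epi (c a) q
    · haveI : (cokernel (c a)).IsQuasicoherent :=
        Groth.Agent.Lib.helper7.CohKer.isQuasicoherent_cokernel (c a)
      obtain ⟨p, hp, q, hq⟩ := ih (cokernel (c a)) (fun j => c j ≫ cokernel.π (c a)) (fun Z h hh => by
        have h1 : cokernel.π (c a) ≫ h = 0 := by
          apply hc
          intro j hj
          rcases Finset.mem_insert.mp hj with rfl | hj
          · rw [cokernel.condition_assoc, zero_comp]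
          · have := hh j hj
            rwa [Category.assoc] at this
        rw [← cancel_epi (cokernel.π (c a)), h1, comp_zero]) hz
      haveI := hq
      exact ⟨p, hp, cokernel.π (c a) ≫ q, epi_comp _ _⟩

/-- `F` is a retract of some `O^m` -/
def IsTriv (F : X.Modules) : Prop :=
  ∃ (m : ℕ) (i : F ⟶ FlatMod.freeMod X m) (ρ : FlatMod.freeMod X m ⟶ F), i ≫ ρ = 𝟙 F

theorem isTriv_freeMod (X : Scheme.{u}) (m : ℕ) : IsTriv (FlatMod.freeMod X m) :=
  ⟨m, 𝟙 _, 𝟙 _, Category.id_comp _⟩

theorem IsTriv.exists_section_ne_zero {F : X.Modules} (hT : IsTriv F) (hF : ¬ IsZero F) :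
    ∃ s : Coh.structureModule X ⟶ F, s ≠ 0 := by
  obtain ⟨m, i, ρ, h⟩ := hT
  by_contra hall
  simp only [ne_eq, not_exists, not_not] at hall
  apply hF
  have hρ : ρ = 0 := by
    refine Sigma.hom_ext _ _ (fun j => ?_)
    rw [hall (Sigma.ι (fun _ : Fin m => Coh.structureModule X) j ≫ ρ), comp_zero]
  rw [IsZero.iff_id_eq_zero, ← h, hρ, comp_zero]

theorem IsTriv.exists_lift {F : X.Modules} (hT : IsTriv F) {Q : X.Modules} (π : Coh.structureModule X ⟶ Q)
    (hπ : ∀ u : Coh.structureModule X ⟶ Q, ∃ t : Coh.structureModule X ⟶ Coh.structureModule X, t ≫ π = u)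
    (μ : F ⟶ Q) : ∃ l : F ⟶ Coh.structureModule X, l ≫ π = μ := by
  obtain ⟨m, i, ρ, h⟩ := hT
  choose a ha using fun j : Fin m => hπ (Sigma.ι (fun _ : Fin m => Coh.structureModule X) j ≫ ρ ≫ μ)
  refine ⟨i ≫ Sigma.desc a, ?_⟩
  have h1 : Sigma.desc a ≫ π = ρ ≫ μ := by
    refine Sigma.hom_ext _ _ (fun j => ?_)
    rw [Sigma.ι_desc_assoc, ha]
  rw [Category.assoc, h1, ← Category.assoc, h, Category.id_comp]

/-- prepend a term to a sequence of modules -/
def consSeq (N : X.Modules) (M' : ℕ → X.Modules) : ℕ → X.Modules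
  | 0 => N
  | j + 1 => M' j

/-- prepend a map to a sequence of maps -/
def consMap (N : X.Modules) (M' : ℕ → X.Modules) (g : M' 0 ⟶ N) (f' : ∀ j, M' (j + 1) ⟶ M' j) :
    ∀ j, consSeq N M' (j + 1) ⟶ consSeq N M' j
  | 0 => g
  | j + 1 => f' j

end general

section curve

variable (k : Type u) [Field k] (X : Scheme.{u}) [X.Over (Spec (CommRingCat.of k))]
  [IsProper (X ↘ Spec (CommRingCat.of k))] [IsIntegral X]

open Groth.Agent.Lib.Helper18 Groth.Agent.Lib.helper11.InvMod Groth.Agent.Lib.Lead.CurveInv
  Groth.Agent.Lib.Lead.ExtUnique Groth.Agent.Lib.helper9.CurveVanish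

include k in
/-- the skyscraper at a closed point of a curve is nonzero -/
theorem not_isZero_skyMod [IsAlgClosed k] (hP : PIDStalks X) (hdim : topologicalKrullDim X = 1)
    {p : X} (hp : IsClosed ({p} : Set X)) : ¬ IsZero (skyMod hp) := by
  intro hz
  obtain ⟨hI1, hId⟩ := idealMod_closedPoint k X hP hdim hp
  have hdO := Groth.Agent.Lib.Lead.CurveEuler.deg_structureModule k X
  set ι := ClSub.idealModι (Scheme.IdealSheafData.vanishingIdeal ⟨{p}, hp⟩) with hι
  haveI : Mono ι := inferInstanceAs (Mono (kernel.ι _))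
  haveI : Epi ι := Preadditive.epi_of_isZero_cokernel ι hz
  haveI : IsIso ι := isIso_of_mono_of_epi ι
  have := Groth.Agent.Lib.Lead.CurveEuler.deg_eq_of_iso k X (asIso ι) 1
  rw [hId, hdO] at this
  norm_num at this

/-- every `O ⟶ O / I_p` lifts to `O ⟶ O` -/
theorem exists_lift_skyπ [IsAlgClosed k] (hP : PIDStalks X) (hdim : topologicalKrullDim X = 1)
    {p : X} (hp : IsClosed ({p} : Set X)) (u : Coh.structureModule X ⟶ skyMod hp) :
    ∃ t : Coh.structureModule X ⟶ Coh.structureModule X, t ≫ skyπ hp = u := by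
  haveI := Groth.Agent.Lib.Lead.CurveEuler.isNoetherian k X
  obtain ⟨hI1, hId⟩ := idealMod_closedPoint k X hP hdim hp
  have hI := (Groth.Agent.Lib.helper16.FLF.isInvertible_iff_isFinLocFreeOfRank_one _).mpr hI1
  have hO := isInvertible_structureModule X
  have hO1 := (Groth.Agent.Lib.helper16.FLF.isInvertible_iff_isFinLocFreeOfRank_one _).mp hO
  have h0 := Groth.Agent.Lib.helper9.CurveVanish.finrank_H0_structureModule_eq_one k X
  have hdO := Groth.Agent.Lib.Lead.CurveEuler.deg_structureModule k X
  set ι := ClSub.idealModι (Scheme.IdealSheafData.vanishingIdeal ⟨{p}, hp⟩) with hι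
  haveI : Mono ι := inferInstanceAs (Mono (kernel.ι _))
  have hS := shortExact_cokernel X ι
  have hOc := isCoh_of_isInvertible X hO
  have hIc := isCoh_of_isInvertible X hI
  have hQc : Coh.IsCoh (cokernel ι) := Groth.Agent.Lib.helper7.CohKer.isCoh_cokernel hIc hOc ι
  have hdq := deg_sub_deg k X hdim.le hI1 hO1 ι
  rw [hdO, hId] at hdq
  have hfq : finrank k (Coh.HH X (cokernel ι) 0) = 1 := by
    have : ((finrank k (Coh.HH X (cokernel ι) 0) : ℕ) : ℤ) = 1 := by rw [← hdq]; norm_num
    exact_mod_cast this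
  have hsub : Subsingleton (Coh.HH X
      (ClSub.idealMod (Scheme.IdealSheafData.vanishingIdeal ⟨{p}, hp⟩)) 0) := by
    by_contra hn
    rw [not_subsingleton_iff_nontrivial] at hn
    obtain ⟨σ, hσ⟩ := Groth.Agent.Lib.Lead.CurveSec.exists_hom_ne_zero_of_nontrivial _ hn
    have := deg_le_of_ne_zero_of_isInvertible k X hP hdim.le hO hI σ hσ
    rw [hdO, hId] at this
    norm_num at this
  have hinj : Function.Injective (HH.mapOver k (cokernel.π ι) 0) := HH.injective_map_g hS 0 hsub
  haveI := Groth.Agent.Lib.Lead.ProperEuler.finite_HH k X _ hOc 0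
  haveI := Groth.Agent.Lib.Lead.ProperEuler.finite_HH k X _ hQc 0
  have hsurj : Function.Surjective (HH.mapOver k (cokernel.π ι) 0) :=
    (LinearMap.injective_iff_surjective_of_finrank_eq_finrank (h0.trans hfq.symm)).mp hinj
  obtain ⟨w, hw⟩ := hsurj (cls u)
  refine ⟨secHom _ w, ?_⟩
  have h1 : cls (secHom _ w ≫ skyπ hp) = cls u := by
    rw [← map_cls, cls_secHom]
    exact hw
  calc secHom _ w ≫ skyπ hp = secHom _ (cls (secHom _ w ≫ skyπ hp)) := (secHom_cls _).symm
    _ = secHom _ (cls u) := by rw [h1]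
    _ = u := secHom_cls u

include k in
/-- the kernel of a nonzero map from a trivial module to `O` is again trivial -/
theorem isTriv_kernel (hP : PIDStalks X) (hdim : topologicalKrullDim X = 1) {F : X.Modules} (hT : IsTriv F)
    (l : F ⟶ Coh.structureModule X) (hl : l ≠ 0) : IsTriv (kernel l) := by
  obtain ⟨m, i, ρ, h⟩ := hT
  have hO := isInvertible_structureModule X
  have hρl : ρ ≫ l ≠ 0 := by
    intro h0
    apply hl
    rw [← Category.id_comp l, ← h, Category.assoc, h0, comp_zero]
  have hex : ∃ j : Fin m, Sigma.ι (fun _ : Fin m => Coh.structureModule X) j ≫ ρ ≫ l ≠ 0 := by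
    by_contra hall
    simp only [ne_eq, not_exists, not_not] at hall
    apply hρl
    refine Sigma.hom_ext _ _ (fun j => ?_)
    rw [hall j, comp_zero]
  obtain ⟨j, hj⟩ := hex
  haveI : IsIso (Sigma.ι (fun _ : Fin m => Coh.structureModule X) j ≫ ρ ≫ l) :=
    isIso_of_isInvertible_of_deg_eq k X hP hdim.le hO hO _ hj rfl
  set e := Sigma.ι (fun _ : Fin m => Coh.structureModule X) j ≫ ρ ≫ l with he
  set s : Coh.structureModule X ⟶ F := inv e ≫ Sigma.ι (fun _ : Fin m => Coh.structureModule X) j ≫ ρ with hs
  have hsl : s ≫ l = 𝟙 _ := by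
    rw [hs, Category.assoc, Category.assoc, ← he, IsIso.inv_hom_id]
  let ρ' : F ⟶ kernel l := kernel.lift l (𝟙 F - l ≫ s) (by
    rw [Preadditive.sub_comp, Category.id_comp, Category.assoc, hsl, Category.comp_id, sub_self])
  have hρ' : kernel.ι l ≫ ρ' = 𝟙 _ := by
    rw [← cancel_mono (kernel.ι l), Category.assoc, kernel.lift_ι, Preadditive.comp_sub, Category.comp_id,
      kernel.condition_assoc, zero_comp, sub_zero, Category.id_comp]
  refine ⟨m, kernel.ι l ≫ i, ρ ≫ ρ', ?_⟩
  rw [Category.assoc, ← Category.assoc i, h, Category.id_comp, hρ']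

/-- **filtration by negative line bundles**: a locally free `N` without global sections contained in a trivial module
has a filtration whose successive quotients are invertible of negative degree -/
theorem exists_negative_filtration [IsAlgClosed k] (hP : PIDStalks X) (hdim : topologicalKrullDim X = 1) (a : ℕ) :
    ∀ (F : X.Modules), FlatMod.IsFinLocFreeOfRank a F → IsTriv F →
    ∀ (r : ℕ) (N : X.Modules), FlatMod.IsFinLocFreeOfRank r N → ∀ (ι : N ⟶ F), Mono ι →
      (∀ u : Coh.structureModule X ⟶ N, u = 0) →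
      ∃ (M : ℕ → X.Modules) (f : ∀ j, M (j + 1) ⟶ M j), Nonempty (M 0 ≅ N) ∧ IsZero (M r) ∧
        ∀ j, j < r → (Mono (f j) ∧ PicF.IsInvertible (cokernel (f j)) ∧
          Curv2.deg k X (cokernel (f j)) 1 < 0) := by
  induction a using Nat.strong_induction_on with
  | _ a iha =>
  intro F hF hTr r
  induction r with
  | zero =>
    intro N hN ι _ h0
    exact ⟨fun _ => N, fun _ => 𝟙 N, ⟨Iso.refl N⟩, isZero_of_isFinLocFreeOfRank_zero hN,
      fun j hj => absurd hj (Nat.not_lt_zero j)⟩
  | succ r ihr =>
    intro N hN ι hι h0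
    haveI := hι
    haveI := Groth.Agent.Lib.Lead.CurveEuler.isNoetherian k X
    have hO := isInvertible_structureModule X
    have hO1 := (Groth.Agent.Lib.helper16.FLF.isInvertible_iff_isFinLocFreeOfRank_one _).mp hO
    have hdO := Groth.Agent.Lib.Lead.CurveEuler.deg_structureModule k X
    have hNc := Groth.Agent.Lib.Lead.RankAdd.isCoh_of_isFinLocFreeOfRank hN
    have hFc := Groth.Agent.Lib.Lead.RankAdd.isCoh_of_isFinLocFreeOfRank hF
    haveI : (Coh.structureModule X).IsQuasicoherent := (isCoh_of_isInvertible X hO).1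
    haveI : (cokernel ι).IsQuasicoherent := (Groth.Agent.Lib.helper7.CohKer.isCoh_cokernel hNc hFc ι).1
    have hNz : ¬ IsZero N := by
      intro hz
      haveI : Mono (0 : N ⟶ FlatMod.freeMod X 0) := ⟨fun g h _ => hz.eq_of_tgt g h⟩
      have := rank_le_of_mono X hN (Groth.Agent.Lib.helper16.FLF.isFinLocFreeOfRank_freeMod X 0)
        (0 : N ⟶ FlatMod.freeMod X 0)
      omega
    by_cases hTz : IsZero (cokernel ι)
    · exfalso
      haveI : Epi ι := Preadditive.epi_of_isZero_cokernel ι hTz
      haveI : IsIso ι := isIso_of_mono_of_epi ι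
      have hFz : ¬ IsZero F := fun h => hNz (h.of_iso (asIso ι))
      obtain ⟨s, hs⟩ := hTr.exists_section_ne_zero hFz
      apply hs
      have := h0 (s ≫ inv ι)
      rw [← cancel_mono (inv ι), this, zero_comp]
    · obtain ⟨m, i, ρ, hiρ⟩ := hTr
      haveI : IsSplitEpi ρ := IsSplitEpi.mk' ⟨i, hiρ⟩
      obtain ⟨p, hp, q, hq⟩ := exists_skyscraper_quotient (Finset.univ : Finset (Fin m)) (cokernel ι)
        (fun j => Sigma.ι (fun _ : Fin m => Coh.structureModule X) j ≫ ρ ≫ cokernel.π ι) (fun Z h hh => by
          have h1 : ρ ≫ cokernel.π ι ≫ h = 0 := by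
            refine Sigma.hom_ext _ _ (fun j => ?_)
            have := hh j (Finset.mem_univ j)
            rw [comp_zero, ← this]
            simp only [Category.assoc]
          rwa [← cancel_epi (cokernel.π ι), ← cancel_epi ρ, comp_zero, comp_zero]) hTz
      haveI := hq
      set μ : F ⟶ skyMod hp := cokernel.π ι ≫ q with hμ
      have hιμ : ι ≫ μ = 0 := by rw [hμ, cokernel.condition_assoc, zero_comp]
      obtain ⟨l, hl⟩ := IsTriv.exists_lift ⟨m, i, ρ, hiρ⟩ (skyπ hp) (exists_lift_skyπ k X hP hdim hp) μ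
      have hsky := not_isZero_skyMod k X hP hdim hp
      have hμ0 : μ ≠ 0 := fun h => hsky (by
        rw [IsZero.iff_id_eq_zero, ← cancel_epi μ, h, zero_comp, zero_comp])
      by_cases hφ : ι ≫ l = 0
      · have hl0 : l ≠ 0 := fun h => hμ0 (by rw [← hl, h, zero_comp])
        obtain ⟨rK, rI, hK, hI, hrr, -, hpos, -, -⟩ := kernel_image_data k X hP hF hO1 l
        have hrI : rI ≤ 1 := rank_le_of_mono X hI hO1 (Abelian.image.ι l)
        have := hpos hl0
        have hrK : rK < a := by omega
        exact iha rK hrK (kernel l) hK (isTriv_kernel k X hP hdim ⟨m, i, ρ, hiρ⟩ l hl0) (r + 1) N hN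
          (kernel.lift l ι hφ) (mono_of_mono_fac (kernel.lift_ι _ _ _)) h0
      · set φ := ι ≫ l with hφdef
        obtain ⟨rK, rI, hK, hI, hrr, -, hpos, -, -⟩ := kernel_image_data k X hP hN hO1 φ
        have hrI : rI ≤ 1 := rank_le_of_mono X hI hO1 (Abelian.image.ι φ)
        have := hpos hφ
        have hrI1 : rI = 1 := by omega
        have hrK : rK = r := by omega
        subst hrI1
        subst hrK
        have hIinv := (Groth.Agent.Lib.helper16.FLF.isInvertible_iff_isFinLocFreeOfRank_one _).mpr hI
        obtain ⟨M', f', ⟨e'⟩, hz', hf'⟩ := ihr (kernel φ) hK (kernel.ι φ ≫ ι) (mono_comp _ _) (fun u => by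
          rw [← cancel_mono (kernel.ι φ), h0 (u ≫ kernel.ι φ), zero_comp])
        have hιI : Abelian.image.ι φ ≠ 0 := fun h => hφ (by rw [← Abelian.image.fac φ, h, comp_zero])
        have hle := deg_le_of_ne_zero_of_isInvertible k X hP hdim.le hIinv hO _ hιI
        have hlt : Curv2.deg k X (Abelian.image φ) 1 < 0 := by
          rw [hdO] at hle
          rcases hle.lt_or_eq with h | h
          · exact h
          · exfalso
            haveI := isIso_of_isInvertible_of_deg_eq k X hP hdim.le hIinv hO _ hιI (h.trans hdO.symm)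
            haveI : Epi φ := by
              rw [← Abelian.image.fac φ]
              exact epi_comp _ _
            apply hsky
            have h1 : skyπ hp = 0 := by
              rw [← cancel_epi φ, comp_zero, hφdef, Category.assoc, hl, hιμ]
            rw [IsZero.iff_id_eq_zero, ← cancel_epi (skyπ hp), h1, zero_comp, zero_comp]
        refine ⟨consSeq N M', consMap N M' (e'.hom ≫ kernel.ι φ) f', ⟨Iso.refl _⟩, hz', ?_⟩
        intro j hj
        cases j with
        | zero =>
          have e1 : cokernel (e'.hom ≫ kernel.ι φ) ≅ Abelian.image φ :=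
            cokernelEpiComp e'.hom (kernel.ι φ) ≪≫ Abelian.coimageIsoImage φ
          refine ⟨(mono_comp e'.hom (kernel.ι φ) : Mono (e'.hom ≫ kernel.ι φ)), ?_, ?_⟩
          · exact (Groth.Agent.Lib.helper16.FLF.isInvertible_iff_isFinLocFreeOfRank_one _).mpr
              (Groth.Agent.Lib.helper16.FLF.isFinLocFreeOfRank_of_iso e1.symm hI)
          · exact (Groth.Agent.Lib.Lead.CurveEuler.deg_eq_of_iso k X e1 1).trans_lt hlt
        | succ j => exact hf' j (by omega)

end curve

end Groth.Agent.Lib.Lead.VBCurve
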