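import Mathlib
import Groth.Agent.Lib.Lead.VBCurve22
import Groth.Agent.Lib.Helper9.CurveTwist

/-!
# Point twists of invertible modules on a curve (lead)

* `tensorPow_data`: `L^{⊗ n}` is locally free of rank one of degree `n · deg L`.
* `finrank_H0_eq_of_deg_gt`: `h⁰(M) = deg M + 1 - g` for an invertible `M` of degree `> 2g - 2`.
* `finrank_H0_pointTwist`: for `L ⊗ I_p ≅ O`, `h⁰(M) ≤ h⁰(M ⊗ L) ≤ h⁰(M) + 1`.
* `ncard_gaps`: Weierstrass gap theorem.
-/

set_option autoImplicit false
set_option linter.style.haveILetI false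
universe u
open CategoryTheory CategoryTheory.Limits AlgebraicGeometry Opposite TopologicalSpace Module

namespace Groth.Agent.Lib.Lead.VBCurve

open Groth.Agent.Lib.Lead.ModTensor Groth.Agent.Lib.Helper20.TensorEquiv

section curve

variable (k : Type u) [Field k] (X : Scheme.{u}) [X.Over (Spec (CommRingCat.of k))]
  [IsProper (X ↘ Spec (CommRingCat.of k))] [IsIntegral X]

open Groth.Agent.Lib.Helper18 Groth.Agent.Lib.helper11.InvMod Groth.Agent.Lib.Lead.CurveInv
  Groth.Agent.Lib.helper9.CurveVanish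

/-- `L^{⊗ n}` is locally free of rank one and of degree `n · deg L` -/
theorem tensorPow_data (hdim : topologicalKrullDim X ≤ 1) {L : X.Modules} (hL : PicF.IsInvertible L) (n : ℕ) :
    PicF.IsInvertible (CohB1.tensorPow L n) ∧
      Curv2.deg k X (CohB1.tensorPow L n) 1 = n * Curv2.deg k X L 1 := by
  refine ⟨?_, Groth.Agent.Lib.helper9.CurveDegAdd.deg_tensorPow k X hdim hL n⟩
  induction n with
  | zero => exact isInvertible_structureModule X
  | succ n ih => exact Groth.Agent.Lib.helper12.TensorInv.isInvertible_tensorMod ih hL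

/-- Riemann–Roch in the non-special range -/
theorem finrank_H0_eq_of_deg_gt (hdim : topologicalKrullDim X ≤ 1)
    (h0 : finrank k (Coh.HH X (Coh.structureModule X) 0) = 1)
    {M : X.Modules} (hM : PicF.IsInvertible M)
    (hdeg : 2 * (Curv2.genus k X : ℤ) - 2 < Curv2.deg k X M 1) :
    (finrank k (Coh.HH X M 0) : ℤ) = Curv2.deg k X M 1 + 1 - (Curv2.genus k X : ℤ) := by
  have hMc := isCoh_of_isInvertible X hM
  have hsub : Subsingleton (Coh.HH X M 1) := by
    by_contra hn
    rw [not_subsingleton_iff_nontrivial] at hn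
    have := deg_le_of_H1_nontrivial k X hdim h0 hM hn
    linarith
  have hrr := Groth.Agent.Lib.Lead.CurveEuler.riemann_roch' k X hdim h0 M hMc.1 1
  have h1z : finrank k (Coh.HH X M 1) = 0 := Module.finrank_zero_of_subsingleton
  rw [h1z] at hrr
  push_cast at hrr
  linarith

/-- twisting by a point raises `h⁰` by at most one -/
theorem finrank_H0_pointTwist [IsAlgClosed k] (hP : PIDStalks X) (hdim : topologicalKrullDim X = 1)
    {p : X} (hp : IsClosed ({p} : Set X)) {L : X.Modules}
    (e : CohB1.tensorMod L (ClSub.idealMod (Scheme.IdealSheafData.vanishingIdeal ⟨{p}, hp⟩)) ≅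
      Coh.structureModule X)
    {M : X.Modules} (hML : PicF.IsInvertible (CohB1.tensorMod M L)) :
    finrank k (Coh.HH X M 0) ≤ finrank k (Coh.HH X (CohB1.tensorMod M L) 0) ∧
      finrank k (Coh.HH X (CohB1.tensorMod M L) 0) ≤ finrank k (Coh.HH X M 0) + 1 := by
  haveI := Groth.Agent.Lib.Lead.CurveEuler.isNoetherian k X
  obtain ⟨hI1, hId⟩ := idealMod_closedPoint k X hP hdim hp
  have hI := (Groth.Agent.Lib.helper16.FLF.isInvertible_iff_isFinLocFreeOfRank_one _).mpr hI1
  have hML1 := (Groth.Agent.Lib.helper16.FLF.isInvertible_iff_isFinLocFreeOfRank_one _).mp hML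
  set I := ClSub.idealMod (Scheme.IdealSheafData.vanishingIdeal ⟨{p}, hp⟩) with hIdef
  set ι : I ⟶ Coh.structureModule X :=
    ClSub.idealModι (Scheme.IdealSheafData.vanishingIdeal ⟨{p}, hp⟩) with hι
  haveI : Mono ι := inferInstanceAs (Mono (kernel.ι _))
  let eiso : CohB1.tensorMod (CohB1.tensorMod M L) I ≅ M := (compIso e).app M
  have hfe := Groth.Agent.Lib.helper9.CurveTwist.finrank_HH_eq_of_iso k eiso 0
  have hMLc := isCoh_of_isInvertible X hML
  constructor
  · let φ : CohB1.tensorMod (CohB1.tensorMod M L) I ⟶ CohB1.tensorMod M L :=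
      (braid _ I).hom ≫ tensorMap ι (𝟙 _) ≫ (leftUnitor _).hom
    haveI : Mono (tensorMap ι (𝟙 (CohB1.tensorMod M L))) :=
      Groth.Agent.Lib.Helper18.DegCalc.mono_tensorMap_of_isFinLocFreeOfRank ι hML1
    haveI : Mono φ := by
      haveI : Mono (tensorMap ι (𝟙 (CohB1.tensorMod M L)) ≫ (leftUnitor (CohB1.tensorMod M L)).hom) :=
        mono_comp _ _
      exact mono_comp _ _
    haveI := Groth.Agent.Lib.Lead.ProperEuler.finite_HH k X _ hMLc 0
    have h := LinearMap.finrank_le_finrank_of_injective (injective_H0_of_mono k φ)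
    rw [← hfe]
    exact h
  · have h := finrank_H0_le_tensor_add k X hdim.le hML1 hI ι
    rw [hId, hfe] at h
    push_cast at h
    have h' : (finrank k (Coh.HH X (CohB1.tensorMod M L) 0) : ℤ) ≤ (finrank k (Coh.HH X M 0) : ℤ) + 1 := by
      linarith
    exact_mod_cast h'

end curve

/-- counting lemma for Weierstrass gaps: a sequence starting at `1`, increasing by `0` or `1` at each step and equal to
`n + 1 - g` for `n > 2g - 2` has exactly `g` stationary steps -/
theorem ncard_gaps_aux (a : ℕ → ℕ) (g : ℕ) (hstep : ∀ n, a n ≤ a (n + 1) ∧ a (n + 1) ≤ a n + 1) (ha0 : a 0 = 1)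
    (hrr : ∀ n : ℕ, 2 * (g : ℤ) - 2 < n → (a n : ℤ) = n + 1 - g) :
    {n : ℕ | 1 ≤ n ∧ a n = a (n - 1)}.Finite ∧ {n : ℕ | 1 ≤ n ∧ a n = a (n - 1)}.ncard = g := by
  classical
  set F := (Finset.range (2 * g)).filter (fun i => a (i + 1) = a i) with hF
  have hS : {n : ℕ | 1 ≤ n ∧ a n = a (n - 1)} = ↑(F.image (· + 1)) := by
    ext n
    simp only [Set.mem_ofPred_eq, Finset.coe_image, Set.mem_image, Finset.mem_coe, hF, Finset.mem_filter,
      Finset.mem_range]
    constructor
    · rintro ⟨h1, h2⟩
      refine ⟨n - 1, ⟨?_, ?_⟩, by omega⟩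
      · by_contra hge
        have e1 := hrr n (by omega)
        have e2 := hrr (n - 1) (by omega)
        have e3 : ((n - 1 : ℕ) : ℤ) = (n : ℤ) - 1 := by omega
        rw [e3] at e2
        rw [h2] at e1
        omega
      · rw [Nat.sub_add_cancel h1]
        exact h2
    · rintro ⟨i, ⟨hi, h2⟩, rfl⟩
      exact ⟨by omega, by simpa using h2⟩
  have hcard : F.card = g := by
    have htel := Finset.sum_range_sub (fun i => (a i : ℤ)) (2 * g)
    have hterm : ∀ i, (a (i + 1) : ℤ) - a i = if ¬ (a (i + 1) = a i) then 1 else 0 := by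
      intro i
      obtain ⟨h1, h2⟩ := hstep i
      split_ifs with h <;> omega
    simp only [hterm] at htel
    rw [Finset.sum_boole] at htel
    have e1 := hrr (2 * g) (by push_cast; omega)
    rw [e1, ha0] at htel
    have hadd := Finset.card_filter_add_card_filter_not (s := Finset.range (2 * g)) (fun i => a (i + 1) = a i)
    rw [Finset.card_range] at hadd
    push_cast at htel
    rw [← hF] at hadd
    omega
  refine ⟨by rw [hS]; exact Finset.finite_toSet _, ?_⟩
  rw [hS, Set.ncard_coe_finset, Finset.card_image_of_injective _ (add_left_injective 1), hcard]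

end Groth.Agent.Lib.Lead.VBCurve
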