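import Mathlib
import Groth.Agent.Lib.Lead.CurveSD5
import Groth.Agent.Lib.Helper9.CurveGG2
import Groth.Agent.Lib.Lead.VBCurve23
import Groth.Agent.Lib.Lead.VBCurve19

/-!
# Global generation of the canonical sheaf (genus ≥ 1, algebraically closed field), conditionally on S11924 (lead)

* `isGloballyGenerated_of_forall_lt`: on an integral proper curve, an invertible module `L` with `h⁰(L) > 0` and
  `h⁰(I_y ⊗ L) < h⁰(L)` for every closed point `y` is globally generated (extracted from helper9 `CurveGG`).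
* `finrank_H0_point_le_one`: `h⁰(O(y)) ≤ 1` for a closed point `y` on a curve of genus `≥ 1` (`k` algebraically closed).
* `finrank_H0_idealTwist_omega_lt`, `isGloballyGenerated_omega`: `Ω` is globally generated for `g ≥ 1`.
* `main_S11334`.
-/

set_option autoImplicit false
set_option linter.style.haveILetI false
set_option linter.unusedSectionVars false
universe u

open CategoryTheory CategoryTheory.Limits AlgebraicGeometry Opposite TopologicalSpace Module
open Scheme.Modules

namespace Groth.Agent.Lib.Lead.CurveSD6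

open Groth.Agent.Lib.Lead.CurveSD1 Groth.Agent.Lib.Lead.CurveSD2 Groth.Agent.Lib.Lead.ModTensor
open Groth.Agent.Lib.Helper18 Groth.Agent.Lib.helper11.IsoLocus Groth.Agent.Lib.helper11.InvMod
open Groth.Agent.Lib.helper11.GenLocus
open Groth.Agent.Lib.helper9.CurveGen Groth.Agent.Lib.Helper20.SplitH1
open Groth.Agent.Lib.helper9.CurveVanish Groth.Agent.Lib.helper9.CurveTwist
open Groth.Agent.Lib.helper9.CurveLinSer Groth.Agent.Lib.Lead.CurveInv Groth.Agent.Lib.Lead.CurveEuler
open Groth.Agent.Lib.Lead.CurveSec Groth.Agent.Lib.helper9.CurveGG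

section crit

variable (k : Type u) [Field k] (X : Scheme.{u}) [X.Over (Spec (CommRingCat.of k))]
  [IsProper (X ↘ Spec (CommRingCat.of k))] [IsIntegral X]

open Groth.Agent.Lib.helper11.SerreGG in
/-- **Global generation criterion** on an integral proper curve. -/
theorem isGloballyGenerated_of_forall_lt (hdim : topologicalKrullDim X ≤ 1)
    {L : X.Modules} (hL : PicF.IsInvertible L) (hpos : 0 < finrank k (Coh.HH X L 0))
    (hlt : ∀ (y : X) (hy : IsClosed ({y} : Set X)),
      finrank k (Coh.HH X (CohB1.tensorMod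
        (ClSub.idealMod (Scheme.IdealSheafData.vanishingIdeal ⟨{y}, hy⟩)) L) 0) < finrank k (Coh.HH X L 0)) :
    Curv2.IsGloballyGenerated L := by
  apply isGloballyGenerated_of_genAt
  intro y
  suffices h : ∃ t : Coh.structureModule X ⟶ L, y ∈ isoLocus t by
    obtain ⟨t, ht⟩ := h
    exact genAt_of_mem_isoLocus t ht
  have hO := isInvertible_structureModule X
  have hLc := isCoh_of_isInvertible X hL
  by_cases hy : IsClosed ({y} : Set X)
  · set Z := Scheme.IdealSheafData.vanishingIdeal ⟨{y}, hy⟩ with hZdef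
    have hZ := dim_support_vanishingIdeal_le X hy
    obtain ⟨hFc, -, -⟩ := idealTwist_main k X hdim L hL Z hZ
    have hlt' := hlt y hy
    let OL := CohB1.tensorMod (Coh.structureModule X) L
    let φ : CohB1.tensorMod (ClSub.idealMod Z) L ⟶ OL := tensorMap (ClSub.idealModι Z) (𝟙 L)
    have hOL0 : finrank k (Coh.HH X OL 0) = finrank k (Coh.HH X L 0) :=
      finrank_HH_eq_of_iso k (leftUnitor L) 0
    haveI : Module.Finite k (Coh.HH X (CohB1.tensorMod (ClSub.idealMod Z) L) 0) :=
      Groth.Agent.Lib.Lead.ProperEuler.finite_HH k X _ hFc 0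
    obtain ⟨x', hx'⟩ : ∃ x' : Γ(OL, ⊤), x' ∉ Set.range (φ.app ⊤).hom := by
      by_contra hcon
      push Not at hcon
      have hs : Function.Surjective (HH.mapOver k φ 0) :=
        surjective_H0_of_sections φ (fun x' => hcon x')
      have h' : finrank k (Coh.HH X OL 0) ≤
          finrank k (Coh.HH X (CohB1.tensorMod (ClSub.idealMod Z) L) 0) :=
        LinearMap.finrank_le_finrank_of_surjective hs
      rw [hOL0] at h'
      exact absurd hlt' (not_lt.mpr h')
    have hyt : y ∈ isoLocus (homOfGlobal OL x') := by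
      by_contra hcon
      exact hx' (exists_preimage_of_not_mem_isoLocus hL hy x' hcon)
    refine ⟨homOfGlobal OL x' ≫ (leftUnitor L).hom, ?_⟩
    rw [isoLocus_comp_of_isIso_right]
    exact hyt
  · obtain ⟨s, hs⟩ := exists_hom_ne_zero_of_finrank_pos k X L hpos
    refine ⟨s, ?_⟩
    by_contra hcon
    exact hy (isClosed_singleton_of_not_mem hdim _ (isoLocus_nonempty X hO hL s hs) y hcon)

end crit

section omega

variable (k : Type u) [Field k] [IsAlgClosed k] (X : Scheme.{u}) [X.Over (Spec (CommRingCat.of k))]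
  [IsProper (X ↘ Spec (CommRingCat.of k))] [IsIntegral X]

open Groth.Agent.Lib.Lead.VBCurve in
/-- `h⁰(O(y)) ≤ 1` for a closed point `y` on a curve of genus `≥ 1` -/
theorem finrank_H0_point_le_one (hP : PIDStalks X) (hdim : topologicalKrullDim X = 1)
    (hg : 1 ≤ Curv2.genus k X) {y : X} (hy : IsClosed ({y} : Set X)) {P : X.Modules}
    (e : CohB1.tensorMod P (ClSub.idealMod (Scheme.IdealSheafData.vanishingIdeal ⟨{y}, hy⟩)) ≅
      Coh.structureModule X) :
    finrank k (Coh.HH X P 0) ≤ 1 := by
  have h0 : Module.finrank k (Coh.HH X (Coh.structureModule X) 0) = 1 :=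
    Groth.Agent.Lib.helper8.H0One.finrank_sections_eq_one k X
  obtain ⟨hI1, hId⟩ := idealMod_closedPoint k X hP hdim hy
  have hI := (Groth.Agent.Lib.helper16.FLF.isInvertible_iff_isFinLocFreeOfRank_one _).mpr hI1
  obtain ⟨I', hI', hi1, -⟩ := Groth.Agent.Lib.helper12.InvDual.exists_inverse hI
  obtain ⟨eP⟩ := isInverseOf_unique (isInverseOf_symm (⟨e⟩ : ClSub.IsInverseOf P _)) hi1
  have hPi : PicF.IsInvertible P := isInvertible_of_iso eP.symm hI'
  have hdP := deg_add_deg_of_isInverseOf k X hdim.le hI hPi ⟨e⟩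
  rw [hId] at hdP
  have hOP : PicF.IsInvertible (CohB1.tensorMod (Coh.structureModule X) P) :=
    Groth.Agent.Lib.helper12.TensorInv.isInvertible_tensorMod (isInvertible_structureModule X) hPi
  obtain ⟨-, hle⟩ := finrank_H0_pointTwist k X hP hdim hy e hOP
  rw [finrank_HH_eq_of_iso k (leftUnitor P) 0, h0] at hle
  by_contra hcon
  push Not at hcon
  have h2 : finrank k (Coh.HH X P 0) = 2 := by omega
  have hgz := genus_eq_zero_of_finrank_H0_eq k X hdim.le h0
    (2 * (Curv2.genus k X : ℤ) - 1 - Curv2.deg k X P 1).toNat P hPi (by linarith)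
    (by rw [h2]; push_cast; linarith) le_rfl
  omega

variable [Smooth (X ↘ Spec (CommRingCat.of k))]

open Groth.Agent.Lib.Lead.VBCurve in
/-- `h⁰(I_y ⊗ Ω) < h⁰(Ω)` for a closed point `y` on a smooth proper curve of genus `≥ 1` -/
theorem finrank_H0_idealTwist_omega_lt (H : H11924.{u}) (hdim : topologicalKrullDim X = 1)
    (hg : 1 ≤ Curv2.genus k X) {y : X} (hy : IsClosed ({y} : Set X)) :
    finrank k (Coh.HH X (CohB1.tensorMod
      (ClSub.idealMod (Scheme.IdealSheafData.vanishingIdeal ⟨{y}, hy⟩))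
      (Omega.sheaf (X ↘ Spec (CommRingCat.of k)))) 0) <
      finrank k (Coh.HH X (Omega.sheaf (X ↘ Spec (CommRingCat.of k))) 0) := by
  have hP : PIDStalks X := pidStalks_of_smooth k X hdim.le
  have h0 : Module.finrank k (Coh.HH X (Coh.structureModule X) 0) = 1 :=
    Groth.Agent.Lib.helper8.H0One.finrank_sections_eq_one k X
  have hΩ := isInvertible_omega k X hdim
  have hΩc := isCoh_of_isInvertible X hΩ
  set Z := Scheme.IdealSheafData.vanishingIdeal ⟨{y}, hy⟩ with hZdef
  have hZ := dim_support_vanishingIdeal_le X hy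
  obtain ⟨hFc, heul, -⟩ := idealTwist_main k X hdim.le _ hΩ Z hZ
  rw [finrank_H0_quotMod_closedPoint k X hy] at heul
  obtain ⟨hI1, -⟩ := idealMod_closedPoint k X hP hdim hy
  have hI := (Groth.Agent.Lib.helper16.FLF.isInvertible_iff_isFinLocFreeOfRank_one _).mpr hI1
  obtain ⟨P, hPi, -, ⟨e2⟩⟩ := Groth.Agent.Lib.helper12.InvDual.exists_inverse hI
  have hsd := serre_duality k X H hdim e2
    (Groth.Agent.Lib.helper16.FLF.isFinLocFree_of_isInvertible hPi) 0 zero_le_one
  have hbr := finrank_HH_eq_of_iso k (braid (Omega.sheaf (X ↘ Spec (CommRingCat.of k))) (ClSub.idealMod Z)) 1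
  have hP1 := finrank_H0_point_le_one k X hP hdim hg hy e2
  have e1 := euler_eq k X hdim.le _ hFc.1
  have e2' := euler_eq k X hdim.le _ hΩc.1
  rw [finrank_H0_omega k X H hdim, finrank_H1_omega k X H hdim, h0] at e2'
  rw [finrank_H0_omega k X H hdim]
  have h1 : (finrank k (Coh.HH X (CohB1.tensorMod (ClSub.idealMod Z)
      (Omega.sheaf (X ↘ Spec (CommRingCat.of k)))) 1) : ℤ) ≤ 1 := by
    rw [← hbr]
    simp only [Nat.sub_zero] at hsd
    rw [← hsd]
    exact_mod_cast hP1
  have : (finrank k (Coh.HH X (CohB1.tensorMod (ClSub.idealMod Z)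
      (Omega.sheaf (X ↘ Spec (CommRingCat.of k)))) 0) : ℤ) < (Curv2.genus k X : ℤ) := by
    push_cast at e1 e2' heul
    linarith
  exact_mod_cast this

/-- `Ω` is globally generated on a smooth proper curve of genus `≥ 1` over an algebraically closed field -/
theorem isGloballyGenerated_omega (H : H11924.{u}) (hdim : topologicalKrullDim X = 1)
    (hg : 1 ≤ Curv2.genus k X) :
    Curv2.IsGloballyGenerated (Omega.sheaf (X ↘ Spec (CommRingCat.of k))) := by
  apply isGloballyGenerated_of_forall_lt k X hdim.le (isInvertible_omega k X hdim)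
  · rw [finrank_H0_omega k X H hdim]; omega
  · intro y hy
    exact finrank_H0_idealTwist_omega_lt k X H hdim hg hy

end omega

/-- S11334, conditionally on S11924. -/
theorem main_S11334 (H : H11924.{u}) (k : Type u) [Field k] [IsAlgClosed k] (X : Scheme.{u})
    [X.Over (Spec (CommRingCat.of k))]
    [IsIntegral X] [IsProper (X ↘ (Spec (CommRingCat.of k)))] (hdim : topologicalKrullDim X = 1)
    (hreg : ∀ x : X, IsRegularLocalRing (X.presheaf.stalk x)) (hg : 2 ≤ Curv2.genus k X) :
    Curv2.IsGloballyGenerated (Omega.sheaf (X ↘ (Spec (CommRingCat.of k)))) := by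
  haveI : Smooth (X ↘ (Spec (CommRingCat.of k))) :=
    Groth.Agent.Lib.Lead.CurveSD5.smooth_of_isRegularLocalRing _ hreg
  exact isGloballyGenerated_omega k X H hdim (by omega)

end Groth.Agent.Lib.Lead.CurveSD6
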