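import Mathlib
import Groth.Agent.Lib.Lead.CurveSD6
import Groth.Agent.Lib.Lead.VBCurve18

/-!
# Global generation of the canonical sheaf in genus ≥ 1 over an arbitrary field, conditionally on S11924 (lead)

* `idealMod_closedPoint'`: over any field, the ideal sheaf of a closed point `y` of an integral proper curve with PID
  stalks is invertible of degree `- h⁰(O_y)`.
* `finrank_H0_point_le`: `h⁰(O(y)) ≤ deg y` in genus `≥ 1` (`h⁰(O) = 1`).
* `isGloballyGenerated_omega'` (H): `Ω` globally generated for smooth proper integral curves with `h⁰(O) = 1`, `g ≥ 1`.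
* `main_S11578`.
-/

set_option autoImplicit false
set_option linter.style.haveILetI false
set_option linter.unusedSectionVars false
universe u

open CategoryTheory CategoryTheory.Limits AlgebraicGeometry Opposite TopologicalSpace Module
open Scheme.Modules

namespace Groth.Agent.Lib.Lead.CurveSD7

open Groth.Agent.Lib.Lead.CurveSD1 Groth.Agent.Lib.Lead.CurveSD2 Groth.Agent.Lib.Lead.ModTensor
open Groth.Agent.Lib.Helper18 Groth.Agent.Lib.helper11.IsoLocus Groth.Agent.Lib.helper11.InvMod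
open Groth.Agent.Lib.helper11.GenLocus
open Groth.Agent.Lib.helper9.CurveGen Groth.Agent.Lib.Helper20.SplitH1
open Groth.Agent.Lib.helper9.CurveVanish Groth.Agent.Lib.helper9.CurveTwist
open Groth.Agent.Lib.helper9.CurveLinSer Groth.Agent.Lib.Lead.CurveInv Groth.Agent.Lib.Lead.CurveEuler
open Groth.Agent.Lib.Lead.CurveSec Groth.Agent.Lib.helper9.CurveGG
open Groth.Agent.Lib.helper7 Groth.Agent.Lib.helper7.IdealMod

section gen

variable (k : Type u) [Field k] (X : Scheme.{u}) [X.Over (Spec (CommRingCat.of k))]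
  [IsProper (X ↘ Spec (CommRingCat.of k))] [IsIntegral X]

open Groth.Agent.Lib.Lead.VBCurve in
/-- over any field, the ideal sheaf of a closed point on an integral proper curve with PID stalks is finite locally
free of rank one and of degree `- h⁰(O_y)` -/
theorem idealMod_closedPoint' (hP : PIDStalks X) (hdim : topologicalKrullDim X = 1) {y : X}
    (hy : IsClosed ({y} : Set X)) :
    FlatMod.IsFinLocFreeOfRank 1 (ClSub.idealMod (Scheme.IdealSheafData.vanishingIdeal ⟨{y}, hy⟩)) ∧
      Curv2.deg k X (ClSub.idealMod (Scheme.IdealSheafData.vanishingIdeal ⟨{y}, hy⟩)) 1 =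
        -(finrank k (Coh.HH X (ClSub.quotMod (Scheme.IdealSheafData.vanishingIdeal ⟨{y}, hy⟩)) 0) : ℤ) := by
  set I := Scheme.IdealSheafData.vanishingIdeal ⟨{y}, hy⟩ with hI
  haveI := Groth.Agent.Lib.Lead.CurveEuler.isNoetherian k X
  have hO1 : FlatMod.IsFinLocFreeOfRank 1 (Coh.structureModule X) :=
    (Groth.Agent.Lib.helper16.FLF.isInvertible_iff_isFinLocFreeOfRank_one _).mp
      (Groth.Agent.Lib.helper11.InvMod.isInvertible_structureModule X)
  have hOc := Groth.Agent.Lib.Lead.RankAdd.isCoh_of_isFinLocFreeOfRank hO1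
  have hQc : Coh.IsCoh (ClSub.quotMod I) :=
    Groth.Agent.Lib.helper8.Dev.isCoh_push_structureModule I.subschemeι
  have hIc : Coh.IsCoh (ClSub.idealMod I) :=
    Groth.Agent.Lib.helper7.CohKer.isCoh_kernel hOc hQc (ClSub.toSubscheme I)
  have hIf : FlatMod.IsFinLocFree (ClSub.idealMod I) :=
    isFinLocFree_of_mono hP hIc (Groth.Agent.Lib.helper16.FLF.isFinLocFree_of_isFinLocFreeOfRank hO1)
      (ClSub.idealModι I)
  obtain ⟨n, hn⟩ := exists_rank_of_isFinLocFree hIf
  have hn1 : n ≤ 1 := rank_le_of_mono X hn hO1 (ClSub.idealModι I)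
  obtain ⟨x, hxy⟩ := exists_ne_of_topologicalKrullDim_eq_one hdim y
  have hn0 : n ≠ 0 := by
    rintro rfl
    exact not_isZero_idealMod_of_ne hy hxy (isZero_of_isFinLocFreeOfRank_zero hn)
  have hn' : n = 1 := by omega
  subst hn'
  refine ⟨hn, ?_⟩
  have h1 := Groth.Agent.Lib.Lead.VBCurve.deg_sub_deg k X hdim.le hn hO1 (ClSub.idealModι I)
  rw [Groth.Agent.Lib.Lead.CurveEuler.deg_structureModule k X,
    Groth.Agent.Lib.helper9.CurveTwist.finrank_HH_eq_of_iso k (cokernelIdealModιIso I) 0] at h1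
  linarith

open Groth.Agent.Lib.Lead.VBCurve in
/-- `h⁰(O(y)) ≤ deg y` for a closed point `y` on a curve of genus `≥ 1` with `h⁰(O) = 1` -/
theorem finrank_H0_point_le (hP : PIDStalks X) (hdim : topologicalKrullDim X = 1)
    (h0 : finrank k (Coh.HH X (Coh.structureModule X) 0) = 1)
    (hg : 1 ≤ Curv2.genus k X) {y : X} (hy : IsClosed ({y} : Set X)) {P : X.Modules}
    (e : CohB1.tensorMod P (ClSub.idealMod (Scheme.IdealSheafData.vanishingIdeal ⟨{y}, hy⟩)) ≅
      Coh.structureModule X) :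
    finrank k (Coh.HH X P 0) ≤
      finrank k (Coh.HH X (ClSub.quotMod (Scheme.IdealSheafData.vanishingIdeal ⟨{y}, hy⟩)) 0) := by
  obtain ⟨hI1, hId⟩ := idealMod_closedPoint' k X hP hdim hy
  have hI := (Groth.Agent.Lib.helper16.FLF.isInvertible_iff_isFinLocFreeOfRank_one _).mpr hI1
  obtain ⟨I', hI', hi1, -⟩ := Groth.Agent.Lib.helper12.InvDual.exists_inverse hI
  obtain ⟨eP⟩ := isInverseOf_unique (isInverseOf_symm (⟨e⟩ : ClSub.IsInverseOf P _)) hi1
  have hPi : PicF.IsInvertible P := isInvertible_of_iso eP.symm hI'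
  have hP1 := (Groth.Agent.Lib.helper16.FLF.isInvertible_iff_isFinLocFreeOfRank_one _).mp hPi
  have hdP := deg_add_deg_of_isInverseOf k X hdim.le hI hPi ⟨e⟩
  rw [hId] at hdP
  have hpos := finrank_H0_quotMod_pos k X hy
  haveI : Mono (ClSub.idealModι (Scheme.IdealSheafData.vanishingIdeal ⟨{y}, hy⟩)) :=
    IdealMod.mono_idealModι _
  have hle := finrank_H0_le_tensor_add k X hdim.le hP1 hI
    (ClSub.idealModι (Scheme.IdealSheafData.vanishingIdeal ⟨{y}, hy⟩))
  rw [finrank_HH_eq_of_iso k e 0, h0, hId] at hle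
  by_contra hcon
  push Not at hcon
  have hgz := genus_eq_zero_of_finrank_H0_eq k X hdim.le h0
    (2 * (Curv2.genus k X : ℤ) - 1 - Curv2.deg k X P 1).toNat P hPi
    (by have : (0 : ℤ) < (finrank k (Coh.HH X (ClSub.quotMod
          (Scheme.IdealSheafData.vanishingIdeal ⟨{y}, hy⟩)) 0) : ℤ) := by exact_mod_cast hpos
        linarith)
    (by have : (finrank k (Coh.HH X (ClSub.quotMod
          (Scheme.IdealSheafData.vanishingIdeal ⟨{y}, hy⟩)) 0) : ℤ) < (finrank k (Coh.HH X P 0) : ℤ) := by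
          exact_mod_cast hcon
        push_cast at hle
        linarith) le_rfl
  omega

variable [Smooth (X ↘ Spec (CommRingCat.of k))]

open Groth.Agent.Lib.Lead.VBCurve in
/-- `h⁰(I_y ⊗ Ω) < h⁰(Ω)` for a closed point `y` on a smooth proper curve of genus `≥ 1` with `h⁰(O) = 1` -/
theorem finrank_H0_idealTwist_omega_lt' (H : H11924.{u}) (hdim : topologicalKrullDim X = 1)
    (h0 : finrank k (Coh.HH X (Coh.structureModule X) 0) = 1)
    (hg : 1 ≤ Curv2.genus k X) {y : X} (hy : IsClosed ({y} : Set X)) :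
    finrank k (Coh.HH X (CohB1.tensorMod
      (ClSub.idealMod (Scheme.IdealSheafData.vanishingIdeal ⟨{y}, hy⟩))
      (Omega.sheaf (X ↘ Spec (CommRingCat.of k)))) 0) <
      finrank k (Coh.HH X (Omega.sheaf (X ↘ Spec (CommRingCat.of k))) 0) := by
  have hP : PIDStalks X := pidStalks_of_smooth k X hdim.le
  have hΩ := isInvertible_omega k X hdim
  have hΩc := isCoh_of_isInvertible X hΩ
  set Z := Scheme.IdealSheafData.vanishingIdeal ⟨{y}, hy⟩ with hZdef
  have hZ := dim_support_vanishingIdeal_le X hy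
  obtain ⟨hFc, heul, -⟩ := idealTwist_main k X hdim.le _ hΩ Z hZ
  obtain ⟨hI1, -⟩ := idealMod_closedPoint' k X hP hdim hy
  have hI := (Groth.Agent.Lib.helper16.FLF.isInvertible_iff_isFinLocFreeOfRank_one _).mpr hI1
  obtain ⟨P, hPi, -, ⟨e2⟩⟩ := Groth.Agent.Lib.helper12.InvDual.exists_inverse hI
  have hsd := serre_duality k X H hdim e2
    (Groth.Agent.Lib.helper16.FLF.isFinLocFree_of_isInvertible hPi) 0 zero_le_one
  have hbr := finrank_HH_eq_of_iso k (braid (Omega.sheaf (X ↘ Spec (CommRingCat.of k))) (ClSub.idealMod Z)) 1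
  have hP1 := finrank_H0_point_le k X hP hdim h0 hg hy e2
  have e1 := euler_eq k X hdim.le _ hFc.1
  have e2' := euler_eq k X hdim.le _ hΩc.1
  rw [finrank_H0_omega k X H hdim, finrank_H1_omega k X H hdim, h0] at e2'
  rw [finrank_H0_omega k X H hdim]
  have h1 : (finrank k (Coh.HH X (CohB1.tensorMod (ClSub.idealMod Z)
      (Omega.sheaf (X ↘ Spec (CommRingCat.of k)))) 1) : ℤ) ≤
      (finrank k (Coh.HH X (ClSub.quotMod Z) 0) : ℤ) := by
    rw [← hbr]
    simp only [Nat.sub_zero] at hsd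
    rw [← hsd]
    exact_mod_cast hP1
  have : (finrank k (Coh.HH X (CohB1.tensorMod (ClSub.idealMod Z)
      (Omega.sheaf (X ↘ Spec (CommRingCat.of k)))) 0) : ℤ) < (Curv2.genus k X : ℤ) := by
    push_cast at e1 e2' heul
    linarith
  exact_mod_cast this

/-- `Ω` is globally generated on a smooth proper integral curve with `h⁰(O) = 1` of genus `≥ 1` -/
theorem isGloballyGenerated_omega' (H : H11924.{u}) (hdim : topologicalKrullDim X = 1)
    (h0 : finrank k (Coh.HH X (Coh.structureModule X) 0) = 1)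
    (hg : 1 ≤ Curv2.genus k X) :
    Curv2.IsGloballyGenerated (Omega.sheaf (X ↘ Spec (CommRingCat.of k))) := by
  apply Groth.Agent.Lib.Lead.CurveSD6.isGloballyGenerated_of_forall_lt k X hdim.le (isInvertible_omega k X hdim)
  · rw [finrank_H0_omega k X H hdim]; omega
  · intro y hy
    exact finrank_H0_idealTwist_omega_lt' k X H hdim h0 hg hy

end gen

/-- S11578, conditionally on S11924. -/
theorem main_S11578 (H : H11924.{u}) (k : Type u) [Field k] (X : Scheme.{u}) [X.Over (Spec (CommRingCat.of k))]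
    (hprojX : ∃ (N : ℕ) (i : X ⟶ CohB1.ProjSpace N k), IsClosedImmersion i ∧
      i ≫ CohB1.ProjSpace.toSpec N k = X ↘ (Spec (CommRingCat.of k)))
    [IsIntegral X] (hdX : topologicalKrullDim X = 1) [Smooth (X ↘ (Spec (CommRingCat.of k)))]
    (hX0 : Module.finrank k (Coh.HH X (Coh.structureModule X) 0) = 1)
    (hg : 1 ≤ Curv2.genus k X) :
    Curv2.IsGloballyGenerated (Omega.sheaf (X ↘ (Spec (CommRingCat.of k)))) := by
  obtain ⟨N, i, hi, hiq⟩ := hprojX
  haveI := hi
  haveI : IsProper (X ↘ (Spec (CommRingCat.of k))) := by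
    rw [← hiq]
    infer_instance
  exact isGloballyGenerated_omega' k X H hdX hX0 hg

end Groth.Agent.Lib.Lead.CurveSD7
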