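import Mathlib
import Groth.Agent.Lib.Helper7.ArtinFlat

/-!
# Endomorphisms of a deformation of a module with scalar endomorphisms (lead)

`end_eq_smul`: `R` Artinian local `K`-algebra with augmentation `res : R → K` whose kernel is the maximal ideal,
`F` flat over `R` with a commuting `D`-action, `θ : F → E` a `D`-linear, `res`-semilinear surjection with kernel
`m F`, and `End_D(E) = K`.  Then every `(R, D)`-linear endomorphism of `F` is multiplication by a unique `r ∈ R`.
-/

set_option autoImplicit false

namespace Groth.Agent.Lib.Lead.DefModEnd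

open IsLocalRing

section

variable {K : Type*} [Field K] {D : Type*} [Ring D]
  {E : Type*} [AddCommGroup E] [Module K E] [Module D E]
  {R : Type*} [CommRing R] [IsLocalRing R] [Algebra K R]
  {F : Type*} [AddCommGroup F] [Module K F] [Module R F] [Module D F]
  [IsScalarTower K R F] [SMulCommClass R D F]

/-- `I F` is stable under `D`. -/
lemma smul_mem_ideal_smul_top (I : Ideal R) (d : D) {z : F} (hz : z ∈ I • (⊤ : Submodule R F)) :
    d • z ∈ I • (⊤ : Submodule R F) := by
  refine Submodule.smul_induction_on hz (fun a ha f _ => ?_) (fun x y hx hy => ?_)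
  · rw [← smul_comm a d f]
    exact Submodule.smul_mem_smul ha Submodule.mem_top
  · rw [smul_add]
    exact add_mem hx hy

/-- Coordinates criterion for membership in `I F` for a free module. -/
lemma mem_ideal_smul_top_iff_repr {ι : Type*} (b : Module.Basis ι R F) (I : Ideal R) (x : F) :
    x ∈ I • (⊤ : Submodule R F) ↔ ∀ i, b.repr x i ∈ I := by
  rw [← b.span_eq, Submodule.mem_ideal_smul_span_iff_exists_sum]
  constructor
  · rintro ⟨a, ha, rfl⟩ i
    have : b.repr (a.sum fun i c => c • b i) = a := by
      have h1 : (a.sum fun i c => c • b i) = Finsupp.linearCombination R b a := by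
        rw [Finsupp.linearCombination_apply]
      rw [h1, b.repr_linearCombination]
    rw [this]
    exact ha i
  · intro h
    refine ⟨b.repr x, h, ?_⟩
    have := b.linearCombination_repr x
    rwa [Finsupp.linearCombination_apply] at this

/-- For `F` free, `v ∉ I` and `v y ∈ I F` force `y ∈ m F`. -/
lemma mem_maximalIdeal_smul_top_of_smul_mem [Module.Free R F] {I : Ideal R} {v : R} (hv : v ∉ I)
    {y : F} (h : v • y ∈ I • (⊤ : Submodule R F)) :
    y ∈ maximalIdeal R • (⊤ : Submodule R F) := by
  let b := Module.Free.chooseBasis R F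
  rw [mem_ideal_smul_top_iff_repr b] at h ⊢
  intro i
  have hi := h i
  rw [map_smul, Finsupp.smul_apply, smul_eq_mul] at hi
  by_contra hni
  have hu : IsUnit (b.repr y i) := by
    by_contra hnu
    exact hni ((IsLocalRing.mem_maximalIdeal _).2 hnu)
  obtain ⟨u, hu'⟩ := hu
  apply hv
  have : v = (v * b.repr y i) * ↑u⁻¹ := by
    rw [← hu', mul_assoc, Units.mul_inv, mul_one]
  rw [this]
  exact I.mul_mem_right _ hi

end

section Main

variable {K : Type*} [Field K] {D : Type*} [Ring D]
  {E : Type*} [AddCommGroup E] [Module K E] [Module D E] [Nontrivial E]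
  {R : Type*} [CommRing R] [IsLocalRing R] [IsArtinianRing R] [Algebra K R]
  {F : Type*} [AddCommGroup F] [Module K F] [Module R F] [Module D F]
  [IsScalarTower K R F] [SMulCommClass R D F] [Module.Flat R F]

theorem end_eq_smul
    (hE : ∀ ψ : E →ₗ[D] E, ∃ c : K, ∀ y : E, ψ y = c • y)
    (res : R →ₐ[K] K) (hres : ∀ a : R, a ∈ maximalIdeal R ↔ res a = 0)
    (θ : F →ₗ[D] E) (hθ : ∀ (r : R) (x : F), θ (r • x) = res r • θ x)
    (hsurj : Function.Surjective θ)
    (hker : ∀ x : F, θ x = 0 ↔ x ∈ maximalIdeal R • (⊤ : Submodule R F))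
    (φ : F →ₗ[R] F) (hφ : ∀ (d : D) (x : F), φ (d • x) = d • φ x) :
    ∃! r : R, ∀ x : F, φ x = r • x := by
  classical
  have hnil : IsNilpotent (maximalIdeal R) := by
    have := IsArtinianRing.isNilpotent_jacobson_bot (R := R)
    rwa [IsLocalRing.jacobson_eq_maximalIdeal ⊥ bot_ne_top] at this
  haveI : Module.Free R F :=
    Groth.Agent.Lib.helper7.ArtinFlat.free_of_flat_baseChange (R := R) (S := R) (M := F)
      (maximalIdeal R) hnil Function.injective_id
  -- θ is K-linear
  have hθK : ∀ (c : K) (x : F), θ (c • x) = c • θ x := by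
    intro c x
    rw [← algebraMap_smul R c x, hθ]
    congr 1
    rw [AlgHom.commutes]
    rfl
  -- the induction over ideals
  have key : ∀ I : Ideal R, ∀ φ : F →ₗ[R] F, (∀ (d : D) (x : F), φ (d • x) = d • φ x) →
      ∃ r : R, ∀ x : F, φ x - r • x ∈ I • (⊤ : Submodule R F) := by
    intro I
    induction I using WellFoundedGT.induction with
    | _ I ih =>
    intro φ hφ
    by_cases hI : I = ⊤
    · refine ⟨0, fun x => ?_⟩
      rw [hI, Submodule.top_smul]
      exact Submodule.mem_top
    -- find v ∉ I with m v ⊆ I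
    obtain ⟨n, hn⟩ := hnil
    have hex : ∃ k, maximalIdeal R ^ k ≤ I := ⟨n, by rw [hn]; exact bot_le⟩
    have hk0 : Nat.find hex ≠ 0 := by
      intro h0
      have := Nat.find_spec hex
      rw [h0, pow_zero, Ideal.one_eq_top, top_le_iff] at this
      exact hI this
    obtain ⟨k, hk⟩ := Nat.exists_eq_succ_of_ne_zero hk0
    have hk1 : ¬ maximalIdeal R ^ k ≤ I := Nat.find_min hex (by omega)
    have hk2 : maximalIdeal R ^ (k + 1) ≤ I := by
      have := Nat.find_spec hex
      rwa [hk] at this
    obtain ⟨v, hvk, hvI⟩ := SetLike.not_le_iff_exists.1 hk1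
    have hmv : ∀ a ∈ maximalIdeal R, a * v ∈ I := by
      intro a ha
      apply hk2
      rw [pow_succ']
      exact Ideal.mul_mem_mul ha hvk
    -- apply the induction hypothesis to I ⊔ (v)
    have hlt : I < I ⊔ Ideal.span {v} := by
      refine lt_of_le_of_ne le_sup_left fun h => hvI ?_
      rw [h]
      exact Ideal.mem_sup_right (Ideal.mem_span_singleton_self v)
    obtain ⟨r₀, hr₀⟩ := ih _ hlt φ hφ
    set ψ : F →ₗ[R] F := φ - r₀ • LinearMap.id with hψdef
    have hψ : ∀ x, ψ x = φ x - r₀ • x := fun x => by simp [hψdef]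
    have hψD : ∀ (d : D) (x : F), ψ (d • x) = d • ψ x := by
      intro d x
      rw [hψ, hψ, hφ, smul_sub, ← smul_comm r₀ d x]
    -- decomposition
    have hdec : ∀ x, ∃ y : F, ψ x - v • y ∈ I • (⊤ : Submodule R F) := by
      intro x
      have := hr₀ x
      rw [← hψ, Submodule.sup_smul] at this
      obtain ⟨z, hz, w, hw, hzw⟩ := Submodule.mem_sup.1 this
      rw [Submodule.ideal_span_singleton_smul] at hw
      obtain ⟨y, -, rfl⟩ := hw
      refine ⟨y, ?_⟩
      rw [← hzw]
      simpa using hz
    -- a • w ∈ I F for a ∈ m, w ∈ I F + v F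
    have hL2 : ∀ a ∈ maximalIdeal R, ∀ (w y : F), w - v • y ∈ I • (⊤ : Submodule R F) →
        a • w ∈ I • (⊤ : Submodule R F) := by
      intro a ha w y hwy
      have : a • w = a • (w - v • y) + (a * v) • y := by
        rw [smul_sub, mul_smul]; abel
      rw [this]
      exact add_mem (Submodule.smul_mem _ _ hwy) (Submodule.smul_mem_smul (hmv a ha) Submodule.mem_top)
    have hL3 : ∀ x ∈ maximalIdeal R • (⊤ : Submodule R F), ψ x ∈ I • (⊤ : Submodule R F) := by
      intro x hx
      refine Submodule.smul_induction_on hx (fun a ha f _ => ?_) (fun x y hx hy => ?_)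
      · rw [map_smul]
        obtain ⟨y, hy⟩ := hdec f
        exact hL2 a ha _ y hy
      · rw [map_add]
        exact add_mem hx hy
    -- the induced endomorphism of E
    have hchoice : ∀ e : E, ∃ p : F × F, θ p.1 = e ∧ ψ p.1 - v • p.2 ∈ I • (⊤ : Submodule R F) := by
      intro e
      obtain ⟨x, rfl⟩ := hsurj e
      obtain ⟨y, hy⟩ := hdec x
      exact ⟨(x, y), rfl, hy⟩
    let g : E → E := fun e => θ (Classical.choose (hchoice e)).2
    have hg : ∀ (x y : F), ψ x - v • y ∈ I • (⊤ : Submodule R F) → g (θ x) = θ y := by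
      intro x y hxy
      obtain ⟨h1, h2⟩ := Classical.choose_spec (hchoice (θ x))
      set x₀ := (Classical.choose (hchoice (θ x))).1
      set y₀ := (Classical.choose (hchoice (θ x))).2
      show θ y₀ = θ y
      have hx : x₀ - x ∈ maximalIdeal R • (⊤ : Submodule R F) := by
        rw [← hker, map_sub, h1, sub_self]
      have h3 := hL3 _ hx
      rw [map_sub] at h3
      have h4 : v • (y - y₀) ∈ I • (⊤ : Submodule R F) := by
        have : v • (y - y₀) = (ψ x₀ - v • y₀) - (ψ x - v • y) - (ψ x₀ - ψ x) := by
          rw [smul_sub]; abel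
        rw [this]
        exact sub_mem (sub_mem h2 hxy) h3
      have h5 := mem_maximalIdeal_smul_top_of_smul_mem hvI h4
      rw [← hker, map_sub, sub_eq_zero] at h5
      exact h5.symm
    let gl : E →ₗ[D] E :=
      { toFun := g
        map_add' := by
          intro e e'
          obtain ⟨x, rfl⟩ := hsurj e
          obtain ⟨x', rfl⟩ := hsurj e'
          obtain ⟨y, hy⟩ := hdec x
          obtain ⟨y', hy'⟩ := hdec x'
          rw [← map_add, hg x y hy, hg x' y' hy', hg (x + x') (y + y'), map_add]
          have : ψ (x + x') - v • (y + y') = (ψ x - v • y) + (ψ x' - v • y') := by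
            rw [map_add, smul_add]; abel
          rw [this]
          exact add_mem hy hy'
        map_smul' := by
          intro d e
          obtain ⟨x, rfl⟩ := hsurj e
          obtain ⟨y, hy⟩ := hdec x
          simp only [RingHom.id_apply]
          rw [← map_smul, hg x y hy, hg (d • x) (d • y), map_smul]
          have : ψ (d • x) - v • (d • y) = d • (ψ x - v • y) := by
            rw [hψD, smul_sub, ← smul_comm v d y]
          rw [this]
          exact smul_mem_ideal_smul_top I d hy }
    obtain ⟨c, hc⟩ := hE gl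
    refine ⟨r₀ + algebraMap K R c * v, fun x => ?_⟩
    obtain ⟨y, hy⟩ := hdec x
    have h6 : θ (y - c • x) = 0 := by
      rw [map_sub, hθK, ← hg x y hy]
      have := hc (θ x)
      change g (θ x) = c • θ x at this
      rw [this, sub_self]
    rw [hker] at h6
    have h7 : v • (y - c • x) ∈ I • (⊤ : Submodule R F) := by
      refine Submodule.smul_induction_on h6 (fun a ha f _ => ?_) (fun x y hx hy => ?_)
      · rw [smul_smul, mul_comm]
        exact Submodule.smul_mem_smul (hmv a ha) Submodule.mem_top
      · rw [smul_add]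
        exact add_mem hx hy
    have : φ x - (r₀ + algebraMap K R c * v) • x = (ψ x - v • y) + v • (y - c • x) := by
      rw [hψ, add_smul, mul_smul, smul_sub, algebraMap_smul, smul_comm v c x]
      abel
    rw [this]
    exact add_mem hy h7
  obtain ⟨r, hr⟩ := key ⊥ φ hφ
  have hr' : ∀ x, φ x = r • x := by
    intro x
    have := hr x
    rw [Submodule.bot_smul, Submodule.mem_bot, sub_eq_zero] at this
    exact this
  refine ⟨r, hr', ?_⟩
  intro r' hr''
  -- uniqueness: F is free and nontrivial
  let b := Module.Free.chooseBasis R F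
  obtain ⟨e, he⟩ := exists_ne (0 : E)
  obtain ⟨x, rfl⟩ := hsurj e
  have hx : x ≠ 0 := fun h => he (by rw [h, map_zero])
  have hrep : b.repr x ≠ 0 := fun h => hx (by simpa using h)
  obtain ⟨i, hi⟩ := Finsupp.ne_iff.1 hrep
  have h8 : (r' - r) • b i = 0 := by
    rw [sub_smul, ← hr', ← hr'', sub_self]
  have h9 := congrArg (fun z => b.repr z i) h8
  simp only [map_smul, Finsupp.smul_apply, Module.Basis.repr_self, Finsupp.single_eq_same,
    smul_eq_mul, mul_one, map_zero, Finsupp.zero_apply] at h9
  exact sub_eq_zero.1 h9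

end Main

end Groth.Agent.Lib.Lead.DefModEnd
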