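import Mathlib

/-!
# Irreducibility of base changes `L ⊗[K] E` of a `D`-module along field extensions (lead)
-/

set_option autoImplicit false

namespace Groth.Agent.Lib.Lead.DefModIrr

open scoped TensorProduct

section

variable (K : Type*) [Field K] (D : Type*) [Ring D] [Algebra K D]
  (E : Type*) [AddCommGroup E] [Module K E] [Module D E] [IsScalarTower K D E]

/-- `L ⊗[K] E` is nonzero and has no proper nonzero `D`-stable `L`-subspace. -/
def Irr (L : Type*) [Field L] [Algebra K L] : Prop :=
  Nontrivial (L ⊗[K] E) ∧ ∀ N : Submodule L (L ⊗[K] E),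
    (∀ (d : D) (x : L ⊗[K] E), x ∈ N → (DistribSMul.toLinearMap K E d).baseChange L x ∈ N) →
      N = ⊥ ∨ N = ⊤

variable {K D E}
variable {L : Type*} [Field L] [Algebra K L] {Ω : Type*} [Field Ω] [Algebra K Ω]

/-- The `σ`-semilinear map `L ⊗ E → Ω ⊗ E`. -/
noncomputable def jmap (σ : L →ₐ[K] Ω) : L ⊗[K] E →ₗ[K] Ω ⊗[K] E :=
  LinearMap.rTensor E σ.toLinearMap

@[simp] lemma jmap_tmul (σ : L →ₐ[K] Ω) (l : L) (e : E) :
    jmap (E := E) σ (l ⊗ₜ[K] e) = σ l ⊗ₜ[K] e := by
  simp [jmap]

lemma jmap_smul (σ : L →ₐ[K] Ω) (l : L) (w : L ⊗[K] E) :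
    jmap σ (l • w) = σ l • jmap σ w := by
  induction w using TensorProduct.induction_on with
  | zero => simp
  | tmul a e =>
    rw [TensorProduct.smul_tmul', jmap_tmul, jmap_tmul, TensorProduct.smul_tmul', smul_eq_mul,
      smul_eq_mul, map_mul]
  | add x y hx hy => rw [smul_add, map_add, hx, hy, map_add, smul_add]

lemma jmap_baseChange (σ : L →ₐ[K] Ω) (d : D) (w : L ⊗[K] E) :
    jmap σ ((DistribSMul.toLinearMap K E d).baseChange L w) =
      (DistribSMul.toLinearMap K E d).baseChange Ω (jmap σ w) := by
  induction w using TensorProduct.induction_on with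
  | zero => simp
  | tmul a e => simp
  | add x y hx hy => rw [map_add, map_add, hx, hy, map_add, map_add]

lemma jmap_injective (σ : L →ₐ[K] Ω) : Function.Injective (jmap (E := E) σ) := by
  apply Module.Flat.rTensor_preserves_injective_linearMap
  exact σ.toRingHom.injective

lemma nontrivial_of_nontrivial_tensor (h : Nontrivial (L ⊗[K] E)) : Nontrivial E := by
  by_contra hE
  rw [not_nontrivial_iff_subsingleton] at hE
  have : Subsingleton (L ⊗[K] E) := inferInstance
  exact not_subsingleton _ this

lemma nontrivial_tensor_of_nontrivial [Nontrivial E] : Nontrivial (L ⊗[K] E) := by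
  have hinj : Function.Injective (TensorProduct.mk K L E 1) :=
    Module.FaithfullyFlat.tensorProduct_mk_injective (A := K) (B := L) E
  exact hinj.nontrivial

/-- Irreducibility descends along a field embedding. -/
theorem irr_of_algHom (σ : L →ₐ[K] Ω) (h : Irr K D E Ω) : Irr K D E L := by
  classical
  obtain ⟨hnt, hirr⟩ := h
  have := nontrivial_of_nontrivial_tensor hnt
  refine ⟨nontrivial_tensor_of_nontrivial, fun N hN => ?_⟩
  let N' : Submodule Ω (Ω ⊗[K] E) := Submodule.span Ω (jmap σ '' (N : Set (L ⊗[K] E)))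
  have hN' : ∀ (d : D) (x : Ω ⊗[K] E), x ∈ N' →
      (DistribSMul.toLinearMap K E d).baseChange Ω x ∈ N' := by
    intro d x hx
    refine Submodule.span_induction (p := fun x _ => (DistribSMul.toLinearMap K E d).baseChange Ω x ∈ N')
      ?_ ?_ ?_ ?_ hx
    · rintro _ ⟨w, hw, rfl⟩
      rw [← jmap_baseChange]
      exact Submodule.subset_span ⟨_, hN d w hw, rfl⟩
    · simp
    · intro x y _ _ hx hy
      rw [map_add]
      exact add_mem hx hy
    · intro a x _ hx
      rw [map_smul]
      exact Submodule.smul_mem _ _ hx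
  rcases hirr N' hN' with h0 | h1
  · left
    rw [eq_bot_iff]
    intro w hw
    have : jmap σ w ∈ N' := Submodule.subset_span ⟨w, hw, rfl⟩
    rw [h0, Submodule.mem_bot] at this
    rw [Submodule.mem_bot]
    exact jmap_injective σ (by rw [this, map_zero])
  · right
    by_contra hne
    obtain ⟨lam, hl0, hlN⟩ := Submodule.exists_le_ker_of_lt_top N (lt_top_iff_ne_top.2 hne)
    -- extend lam to Ω ⊗ E
    let μ : E →ₗ[K] Ω := σ.toLinearMap ∘ₗ (lam.restrictScalars K) ∘ₗ (TensorProduct.mk K L E 1)
    let lam' : Ω ⊗[K] E →ₗ[Ω] Ω := LinearMap.liftBaseChange Ω μ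
    have hlam' : ∀ w : L ⊗[K] E, lam' (jmap σ w) = σ (lam w) := by
      intro w
      induction w using TensorProduct.induction_on with
      | zero => simp
      | tmul l e =>
        rw [jmap_tmul]
        simp only [lam', LinearMap.liftBaseChange_tmul, μ, LinearMap.comp_apply,
          TensorProduct.mk_apply, LinearMap.coe_restrictScalars, AlgHom.toLinearMap_apply]
        rw [smul_eq_mul, ← map_mul, ← smul_eq_mul, ← map_smul, TensorProduct.smul_tmul',
          smul_eq_mul, mul_one]
      | add x y hx hy => rw [map_add, map_add, hx, hy, map_add, map_add]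
    have hzero : ∀ x ∈ N', lam' x = 0 := by
      intro x hx
      refine Submodule.span_induction (p := fun x _ => lam' x = 0) ?_ ?_ ?_ ?_ hx
      · rintro _ ⟨w, hw, rfl⟩
        rw [hlam', (LinearMap.mem_ker.1 (hlN hw)), map_zero]
      · simp
      · intro x y _ _ hx hy
        rw [map_add, hx, hy, add_zero]
      · intro a x _ hx
        rw [map_smul, hx, smul_zero]
    apply hl0
    refine LinearMap.ext fun w => ?_
    have := hzero (jmap σ w) (by rw [h1]; exact Submodule.mem_top)
    rw [hlam'] at this
    rw [LinearMap.zero_apply]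
    exact (map_eq_zero σ).1 this

end

section Ascend

universe u v w

variable {K : Type u} [Field K] {D : Type v} [Ring D] [Algebra K D]
  {E : Type w} [AddCommGroup E] [Module K E] [Module D E] [IsScalarTower K D E]
  {Ω : Type u} [Field Ω] [Algebra K Ω] [Algebra.IsAlgebraic K Ω]

lemma exists_finset_mem_range_jmap (n : Ω ⊗[K] E) :
    ∃ s : Finset Ω, n ∈ LinearMap.range
      (jmap (E := E) (IntermediateField.adjoin K (s : Set Ω)).val) := by
  classical
  induction n using TensorProduct.induction_on with
  | zero => exact ⟨∅, 0, map_zero _⟩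
  | tmul ω e =>
    refine ⟨{ω}, (⟨ω, IntermediateField.subset_adjoin K _ (by simp)⟩ : IntermediateField.adjoin K
      (({ω} : Finset Ω) : Set Ω)) ⊗ₜ[K] e, ?_⟩
    rw [jmap_tmul]
    rfl
  | add x y hx hy =>
    obtain ⟨s, a, ha⟩ := hx
    obtain ⟨t, b, hb⟩ := hy
    have hs : IntermediateField.adjoin K (s : Set Ω) ≤ IntermediateField.adjoin K ((s ∪ t : Finset Ω) : Set Ω) :=
      IntermediateField.adjoin.mono K _ _ (by simp)
    have ht : IntermediateField.adjoin K (t : Set Ω) ≤ IntermediateField.adjoin K ((s ∪ t : Finset Ω) : Set Ω) :=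
      IntermediateField.adjoin.mono K _ _ (by simp)
    refine ⟨s ∪ t, LinearMap.rTensor E (IntermediateField.inclusion hs).toLinearMap a +
      LinearMap.rTensor E (IntermediateField.inclusion ht).toLinearMap b, ?_⟩
    have hcomp : ∀ {L₁ L₂ : IntermediateField K Ω} (hle : L₁ ≤ L₂) (z : L₁ ⊗[K] E),
        jmap (E := E) L₂.val (LinearMap.rTensor E (IntermediateField.inclusion hle).toLinearMap z) =
          jmap (E := E) L₁.val z := by
      intro L₁ L₂ hle z
      induction z using TensorProduct.induction_on with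
      | zero => simp
      | tmul l e =>
        rw [LinearMap.rTensor_tmul, jmap_tmul, jmap_tmul]
        rfl
      | add x y hx hy => rw [map_add, map_add, hx, hy, map_add]
    rw [map_add, ← ha, ← hb, hcomp hs, hcomp ht]

theorem irr_of_forall_finite
    (h : ∀ (L : Type u) [Field L] [Algebra K L] [FiniteDimensional K L], Irr K D E L) :
    Irr K D E Ω := by
  classical
  have hE : Nontrivial E := by
    obtain ⟨hnt, -⟩ := h K
    exact nontrivial_of_nontrivial_tensor hnt
  refine ⟨nontrivial_tensor_of_nontrivial, fun N hN => ?_⟩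
  by_cases hbot : N = ⊥
  · exact Or.inl hbot
  right
  obtain ⟨n, hnN, hn0⟩ := Submodule.exists_mem_ne_zero_of_ne_bot hbot
  obtain ⟨s, nL, hnL⟩ := exists_finset_mem_range_jmap (K := K) (E := E) n
  have hfin : FiniteDimensional K (IntermediateField.adjoin K (s : Set Ω)) :=
    IntermediateField.finiteDimensional_adjoin fun x _ => Algebra.IsIntegral.isIntegral x
  obtain ⟨-, hirr⟩ := h (IntermediateField.adjoin K (s : Set Ω))
  let σ := (IntermediateField.adjoin K (s : Set Ω)).val
  let NL : Submodule (IntermediateField.adjoin K (s : Set Ω))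
      ((IntermediateField.adjoin K (s : Set Ω)) ⊗[K] E) :=
    { carrier := {w | jmap σ w ∈ N}
      add_mem' := fun {a b} ha hb => by
        simp only [Set.mem_setOf_eq, map_add] at ha hb ⊢
        exact add_mem ha hb
      zero_mem' := by simp
      smul_mem' := fun c x hx => by
        simp only [Set.mem_setOf_eq] at hx ⊢
        rw [jmap_smul]
        exact Submodule.smul_mem _ _ hx }
  have hNL : ∀ (d : D) (x : (IntermediateField.adjoin K (s : Set Ω)) ⊗[K] E), x ∈ NL →
      (DistribSMul.toLinearMap K E d).baseChange _ x ∈ NL := by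
    intro d x hx
    show jmap σ _ ∈ N
    rw [jmap_baseChange]
    exact hN d _ hx
  rcases hirr NL hNL with h0 | h1
  · exfalso
    have : nL ∈ NL := by
      show jmap σ nL ∈ N
      rw [hnL]; exact hnN
    rw [h0, Submodule.mem_bot] at this
    apply hn0
    rw [← hnL, this, map_zero]
  · rw [eq_top_iff]
    intro x _
    induction x using TensorProduct.induction_on with
    | zero => exact zero_mem _
    | tmul ω e =>
      have h2 : (1 : IntermediateField.adjoin K (s : Set Ω)) ⊗ₜ[K] e ∈ NL := by
        rw [h1]; exact Submodule.mem_top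
      have h3 : jmap σ ((1 : IntermediateField.adjoin K (s : Set Ω)) ⊗ₜ[K] e) ∈ N := h2
      rw [jmap_tmul, map_one] at h3
      have h4 : ω ⊗ₜ[K] e = ω • ((1 : Ω) ⊗ₜ[K] e) := by
        rw [TensorProduct.smul_tmul', smul_eq_mul, mul_one]
      rw [h4]
      exact Submodule.smul_mem _ _ h3
    | add x y hx hy => exact add_mem (hx Submodule.mem_top) (hy Submodule.mem_top)

end Ascend

end Groth.Agent.Lib.Lead.DefModIrr
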