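import Mathlib
import Groth.Agent.Lib.Lead.RefHull3
import Groth.Agent.Lib.Helper2.Hartogs4

/-!
# Hartogs extension for the sheaf Hom `RefHull.homSh F G` (lead)

`X` a scheme, `U ⊆ X` open, `F`, `G` arbitrary `O_X`-modules. If restriction `Γ(G, W) → Γ(G, W ∩ U)` is bijective for
every open `W` (i.e. `G ≅ j_* j^* G`), then the same holds for `𝓗om(F, G)`:
* `bijective_res_homSh`.
No quasi-coherence of `F` is needed.
-/

set_option autoImplicit false
set_option backward.isDefEq.respectTransparency false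
set_option linter.style.haveILetI false
set_option linter.unusedSectionVars false
universe u

open CategoryTheory CategoryTheory.Limits AlgebraicGeometry TopologicalSpace Opposite

namespace Groth.Agent.Lib.Lead.HomHartogs

open RefHull Groth.Agent.Lib.Lead.RH

variable {X : Scheme.{u}} (F G : X.Modules) (U : X.Opens)

/-- the Hartogs property of `G` with respect to `U` -/
def Hart : Prop :=
  ∀ W : X.Opens, Function.Bijective (G.presheaf.map (homOfLE (inf_le_left : W ⊓ U ≤ W)).op)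

variable {G U}

section inj

theorem injective_res_homSh (hG : Hart G U) (V : X.Opens) :
    Function.Injective ((homSh F G).presheaf.map (homOfLE (inf_le_left : V ⊓ U ≤ V)).op) := by
  rw [injective_iff_map_eq_zero]
  intro g hg
  refine Subtype.ext (funext fun y => LinearMap.ext fun v => ?_)
  obtain ⟨W₀, hyW₀, m₀, rfl⟩ := TopCat.Presheaf.exists_germ_eq F.presheaf v
  -- restrict to `W = W₀ ⊓ V`
  set W : X.Opens := W₀ ⊓ V with hW
  have hyW : y.1 ∈ W := ⟨hyW₀, y.2⟩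
  let i : W ⟶ V := homOfLE inf_le_right
  let m : Γ(F, W) := F.presheaf.map (homOfLE (inf_le_left : W₀ ⊓ V ≤ W₀)).op m₀
  have hm : F.presheaf.germ W y.1 hyW m = F.presheaf.germ W₀ y.1 hyW₀ m₀ :=
    TopCat.Presheaf.germ_res_apply F.presheaf (homOfLE (inf_le_left : W₀ ⊓ V ≤ W₀)) y.1 hyW m₀
  let n : Γ(G, W) := appSec F G ((homSh F G).presheaf.map i.op g) m
  have hn0 : n = 0 := by
    apply (hG W).1
    rw [map_zero]
    refine section_ext' G _ _ fun z hz => ?_
    rw [TopCat.Presheaf.germ_res_apply, map_zero, germ_appSec]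
    have h1 : ((homSh F G).presheaf.map (homOfLE (inf_le_left : V ⊓ U ≤ V)).op g).1
        ⟨z, ⟨hz.1.2, hz.2⟩⟩ = 0 := by rw [hg]; rfl
    have h2 : ((homSh F G).presheaf.map i.op g).1 ⟨z, hz.1⟩ = g.1 ⟨z, hz.1.2⟩ := rfl
    have h3 : ((homSh F G).presheaf.map (homOfLE (inf_le_left : V ⊓ U ≤ V)).op g).1
        ⟨z, ⟨hz.1.2, hz.2⟩⟩ = g.1 ⟨z, hz.1.2⟩ := rfl
    rw [h2, ← h3, h1, LinearMap.zero_apply]
  have h4 := germ_appSec F G ((homSh F G).presheaf.map i.op g) m y.1 hyW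
  have h5 : ((homSh F G).presheaf.map i.op g).1 ⟨y.1, hyW⟩ = g.1 y := rfl
  rw [h5, hm] at h4
  rw [← h4]
  change G.presheaf.germ W y.1 hyW n = 0
  rw [hn0, map_zero]

end inj

section surj

variable (hG : Hart G U) {V : X.Opens} (h : Γ(homSh F G, V ⊓ U))

/-- restriction of `h` to `W ⊓ U` for `W ≤ V` -/
noncomputable def hres (W : X.Opens) (hW : W ≤ V) : Γ(homSh F G, W ⊓ U) :=
  (homSh F G).presheaf.map (homOfLE (inf_le_inf_right U hW)).op h

include hG in
theorem exists_ext (W : X.Opens) (hW : W ≤ V) (m : Γ(F, W)) :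
    ∃ n : Γ(G, W), ∀ (z : X) (hz : z ∈ W ⊓ U),
      G.presheaf.germ W z hz.1 n = h.1 ⟨z, ⟨hW hz.1, hz.2⟩⟩ (F.presheaf.germ W z hz.1 m) := by
  obtain ⟨n, hn⟩ := (hG W).2 (appSec F G (hres F h W hW)
    (F.presheaf.map (homOfLE (inf_le_left : W ⊓ U ≤ W)).op m))
  refine ⟨n, fun z hz => ?_⟩
  have h1 := germ_appSec F G (hres F h W hW)
    (F.presheaf.map (homOfLE (inf_le_left : W ⊓ U ≤ W)).op m) z hz
  rw [← hn, TopCat.Presheaf.germ_res_apply, TopCat.Presheaf.germ_res_apply] at h1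
  exact h1

/-- the extension operator -/
noncomputable def ext (W : X.Opens) (hW : W ≤ V) (m : Γ(F, W)) : Γ(G, W) :=
  (exists_ext F hG h W hW m).choose

theorem germ_ext (W : X.Opens) (hW : W ≤ V) (m : Γ(F, W)) (z : X) (hz : z ∈ W ⊓ U) :
    G.presheaf.germ W z hz.1 (ext F hG h W hW m) =
      h.1 ⟨z, ⟨hW hz.1, hz.2⟩⟩ (F.presheaf.germ W z hz.1 m) :=
  (exists_ext F hG h W hW m).choose_spec z hz

theorem ext_unique (W : X.Opens) (hW : W ≤ V) (m : Γ(F, W)) (n : Γ(G, W))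
    (hn : ∀ (z : X) (hz : z ∈ W ⊓ U),
      G.presheaf.germ W z hz.1 n = h.1 ⟨z, ⟨hW hz.1, hz.2⟩⟩ (F.presheaf.germ W z hz.1 m)) :
    n = ext F hG h W hW m := by
  apply (hG W).1
  refine section_ext' G _ _ fun z hz => ?_
  rw [TopCat.Presheaf.germ_res_apply, TopCat.Presheaf.germ_res_apply, hn z hz, germ_ext F hG h W hW m z hz]

theorem ext_res {W W' : X.Opens} (hW : W ≤ V) (i : W' ⟶ W) (m : Γ(F, W)) :
    G.presheaf.map i.op (ext F hG h W hW m) = ext F hG h W' (i.le.trans hW) (F.presheaf.map i.op m) := by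
  refine ext_unique F hG h W' _ _ _ fun z hz => ?_
  rw [TopCat.Presheaf.germ_res_apply, TopCat.Presheaf.germ_res_apply]
  exact germ_ext F hG h W hW m z ⟨i.le hz.1, hz.2⟩

theorem ext_add (W : X.Opens) (hW : W ≤ V) (m m' : Γ(F, W)) :
    ext F hG h W hW (m + m') = ext F hG h W hW m + ext F hG h W hW m' := by
  symm
  refine ext_unique F hG h W hW _ _ fun z hz => ?_
  rw [map_add, map_add, map_add, germ_ext F hG h W hW m z hz, germ_ext F hG h W hW m' z hz]

theorem ext_smul (W : X.Opens) (hW : W ≤ V) (r : Γ(X, W)) (m : Γ(F, W)) :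
    ext F hG h W hW (r • m) = r • ext F hG h W hW m := by
  symm
  refine ext_unique F hG h W hW _ _ fun z hz => ?_
  rw [Mero.germ_smul, Mero.germ_smul, map_smul, germ_ext F hG h W hW m z hz]

/-- a chosen representative of a germ, on an open inside `V` -/
theorem exists_rep (y : V) (v : F.presheaf.stalk y.1) :
    ∃ (W : X.Opens) (hW : W ≤ V) (hy : y.1 ∈ W) (m : Γ(F, W)), F.presheaf.germ W y.1 hy m = v := by
  obtain ⟨W₀, hyW₀, m₀, rfl⟩ := TopCat.Presheaf.exists_germ_eq F.presheaf v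
  exact ⟨W₀ ⊓ V, inf_le_right, ⟨hyW₀, y.2⟩,
    F.presheaf.map (homOfLE (inf_le_left : W₀ ⊓ V ≤ W₀)).op m₀,
    TopCat.Presheaf.germ_res_apply F.presheaf (homOfLE (inf_le_left : W₀ ⊓ V ≤ W₀)) y.1 _ m₀⟩

/-- the extended family, as a function -/
noncomputable def gfun (y : V) (v : F.presheaf.stalk y.1) : G.presheaf.stalk y.1 :=
  G.presheaf.germ (exists_rep F y v).choose y.1 (exists_rep F y v).choose_spec.choose_spec.choose
    (ext F hG h (exists_rep F y v).choose (exists_rep F y v).choose_spec.choose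
      (exists_rep F y v).choose_spec.choose_spec.choose_spec.choose)

theorem gfun_germ (y : V) (W : X.Opens) (hW : W ≤ V) (hy : y.1 ∈ W) (m : Γ(F, W)) :
    gfun F hG h y (F.presheaf.germ W y.1 hy m) = G.presheaf.germ W y.1 hy (ext F hG h W hW m) := by
  set v := F.presheaf.germ W y.1 hy m with hv
  have hW₀ := (exists_rep F y v).choose_spec.choose
  have hy₀ := (exists_rep F y v).choose_spec.choose_spec.choose
  have hm₀ := (exists_rep F y v).choose_spec.choose_spec.choose_spec.choose_spec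
  obtain ⟨W', hyW', i₀, i, e⟩ := TopCat.Presheaf.germ_eq F.presheaf y.1 hy₀ hy _ m hm₀
  unfold gfun
  rw [← TopCat.Presheaf.germ_res_apply G.presheaf i₀ y.1 hyW', ext_res F hG h hW₀ i₀, e,
    ← ext_res F hG h hW i, TopCat.Presheaf.germ_res_apply]

/-- the extended family of stalk maps -/
noncomputable def gfam (y : V) : StalkHom F G y.1 where
  toFun := gfun F hG h y
  map_add' v v' := by
    obtain ⟨W₁, hW₁, hy₁, m₁, rfl⟩ := exists_rep F y v
    obtain ⟨W₂, hW₂, hy₂, m₂, rfl⟩ := exists_rep F y v'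
    have hy : y.1 ∈ W₁ ⊓ W₂ := ⟨hy₁, hy₂⟩
    have hW : W₁ ⊓ W₂ ≤ V := inf_le_left.trans hW₁
    have e₁ := TopCat.Presheaf.germ_res_apply F.presheaf (homOfLE (inf_le_left : W₁ ⊓ W₂ ≤ W₁)) y.1 hy m₁
    have e₂ := TopCat.Presheaf.germ_res_apply F.presheaf (homOfLE (inf_le_right : W₁ ⊓ W₂ ≤ W₂)) y.1 hy m₂
    rw [← e₁, ← e₂, ← map_add, gfun_germ F hG h y _ hW, gfun_germ F hG h y _ hW, gfun_germ F hG h y _ hW,
      ext_add, map_add]
  map_smul' a v := by
    obtain ⟨W₁, hy₁, r, rfl⟩ := TopCat.Presheaf.exists_germ_eq X.presheaf a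
    obtain ⟨W₂, hW₂, hy₂, m₂, rfl⟩ := exists_rep F y v
    have hy : y.1 ∈ W₁ ⊓ W₂ := ⟨hy₁, hy₂⟩
    have hW : W₁ ⊓ W₂ ≤ V := inf_le_right.trans hW₂
    have e₁ := TopCat.Presheaf.germ_res_apply X.presheaf (homOfLE (inf_le_left : W₁ ⊓ W₂ ≤ W₁)) y.1 hy r
    have e₂ := TopCat.Presheaf.germ_res_apply F.presheaf (homOfLE (inf_le_right : W₁ ⊓ W₂ ≤ W₂)) y.1 hy m₂
    rw [RingHom.id_apply, ← e₁, ← e₂, ← Mero.germ_smul, gfun_germ F hG h y _ hW, gfun_germ F hG h y _ hW,
      ext_smul, Mero.germ_smul]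

theorem isLocSect_gfam : IsLocSect F G (gfam F hG h) := by
  intro V₁ i m x
  refine ⟨V₁, x.2, 𝟙 V₁, ext F hG h V₁ i.le m, fun y => ?_⟩
  exact gfun_germ F hG h ⟨y.1, i.le y.2⟩ V₁ i.le y.2 m

/-- the extended section -/
noncomputable def gsec : Γ(homSh F G, V) := ⟨gfam F hG h, isLocSect_gfam F hG h⟩

theorem res_gsec :
    (homSh F G).presheaf.map (homOfLE (inf_le_left : V ⊓ U ≤ V)).op (gsec F hG h) = h := by
  refine Subtype.ext (funext fun z => LinearMap.ext fun v => ?_)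
  obtain ⟨W, hW, hz, m, rfl⟩ := exists_rep F (⟨z.1, z.2.1⟩ : V) v
  have h1 : ((homSh F G).presheaf.map (homOfLE (inf_le_left : V ⊓ U ≤ V)).op (gsec F hG h)).1 z =
      gfam F hG h ⟨z.1, z.2.1⟩ := rfl
  rw [h1]
  change gfun F hG h ⟨z.1, z.2.1⟩ _ = _
  rw [gfun_germ F hG h ⟨z.1, z.2.1⟩ W hW hz m]
  exact germ_ext F hG h W hW m z.1 ⟨hz, z.2.2⟩

end surj

/-- **Hartogs for the sheaf Hom**: if `G` has the Hartogs property with respect to `U`, so has `𝓗om(F, G)`. -/
theorem hart_homSh (hG : Hart G U) : Hart (homSh F G) U := fun V =>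
  ⟨injective_res_homSh F hG V, fun h => ⟨gsec F hG h, res_gsec F hG h⟩⟩

end Groth.Agent.Lib.Lead.HomHartogs

namespace Groth.Agent.Lib.Lead.HomHartogs

open RefHull ZClos Groth.Agent.Lib.helper2

variable {X : Scheme.{u}} (F G : X.Modules) (U : X.Opens)

theorem hart_iff_isIso : Hart G U ↔ IsIso ((resPushUnit U).app G) := by
  rw [ModSec.isIso_iff_bijective_app]
  refine forall_congr' fun V => ?_
  rw [resPushUnit_app_app]
  exact (ZClosLib.res_bij_iff_of_eq G (ZClosLib.image_preimage_eq' U V) _ _).symm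

/-- **Hartogs for the sheaf Hom, global form**: if `G ⟶ j_* j^* G` is an isomorphism then so is
`𝓗om(F, G) ⟶ j_* j^* 𝓗om(F, G)`, for every `O_X`-module `F`. -/
theorem isIso_resPushUnit_homSh (hG : IsIso ((resPushUnit U).app G)) :
    IsIso ((resPushUnit U).app (homSh F G)) :=
  (hart_iff_isIso (homSh F G) U).1 (hart_homSh F ((hart_iff_isIso G U).2 hG))

/-- Hartogs for duals: if `O_X ⟶ j_* j^* O_X` is an isomorphism then so is `F^* ⟶ j_* j^* F^*`. -/
theorem isIso_resPushUnit_dual (hO : IsIso ((resPushUnit U).app (Coh.structureModule X))) :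
    IsIso ((resPushUnit U).app (RefHull.dual F)) :=
  isIso_resPushUnit_homSh F (Coh.structureModule X) U hO

end Groth.Agent.Lib.Lead.HomHartogs
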