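import Mathlib
import Groth.Prelude.Def_CInt
import Groth.Prelude.Def_ExtPow2
import Groth.Agent.Lib.Lead.HomHartogs
import Groth.Agent.Lib.Lead.RefExt
import Groth.Agent.Lib.Lead.RefHull8
import Groth.Agent.Lib.Helper20.ExtPowCoh2
import Groth.Agent.Lib.Helper16.FLF6
import Groth.Agent.Lib.Helper17.FibreDim
import Groth.Agent.Lib.Helper17.CurveFamNormal
import Groth.Agent.Lib.Helper26.Depth7

/-!
# Determinants over big opens (lead)

* `two_le_depth_of_smooth`: for `f : P ⟶ S` smooth, `S` locally Noetherian, `depth O_{P,y} ≥ 2`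
  whenever the local ring of the fibre at `y` has dimension `≥ 2`.
* `isReflexiveAt_extPow_of_free`: the stalks of an exterior power (`ExtPow.IsExtPow`) of a
  quasi-coherent module are free (hence reflexive) at points near which the module is free.
-/

set_option autoImplicit false
set_option backward.isDefEq.respectTransparency false
set_option linter.style.haveILetI false
universe u
open CategoryTheory CategoryTheory.Limits AlgebraicGeometry TopologicalSpace Opposite

namespace Groth.Agent.Lib.Lead.DetBig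

open Groth.Agent.Lib.helper16.CohStalk Groth.Agent.Lib.helper16.FLF

/-- depth `≥ 2` of the local rings of the total space of a smooth morphism to a locally Noetherian
scheme at points whose fibre local ring has dimension `≥ 2` -/
theorem two_le_depth_of_smooth {P S : Scheme.{u}} (f : P ⟶ S) [Smooth f] [IsLocallyNoetherian S]
    (y : P)
    (hy : (2 : WithBot ℕ∞) ≤ ringKrullDim ↑(CInt.fiberStalk f y)) :
    (2 : ℕ∞) ≤ LocCoh.depth (P.presheaf.stalk y) (P.presheaf.stalk y) := by
  haveI : IsLocallyNoetherian P := LocallyOfFiniteType.isLocallyNoetherian f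
  haveI : IsNoetherianRing (P.presheaf.stalk y) := inferInstance
  haveI : IsNoetherianRing (S.presheaf.stalk (f y)) := inferInstance
  rw [Groth.Agent.Lib.helper17.FibreDim.depth_stalk_eq f y (Flat.stalkMap f y)]
  haveI : Smooth (f.fiberToSpecResidueField (f y)) :=
    MorphismProperty.pullback_snd (P := @Smooth) f (S.fromSpecResidueField (f y)) inferInstance
  haveI : IsRegularLocalRing ((f.fiber (f y)).presheaf.stalk (f.asFiber y)) :=
    Groth.Agent.Lib.helper17.CurveFamNormal.isRegularLocalRing_stalk_of_smooth_field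
      (K := S.residueField (f y)) (f.fiberToSpecResidueField (f y)) (f.asFiber y)
  have h1 := Groth.Agent.Lib.helper26.Depth.depth_eq_ringKrullDim_of_isRegularLocalRing
    (A := (f.fiber (f y)).presheaf.stalk (f.asFiber y))
  have h2 : (2 : WithBot ℕ∞) ≤
      ringKrullDim ((f.fiber (f y)).presheaf.stalk (f.asFiber y)) := hy
  rw [← h1] at h2
  have h3 : (2 : ℕ∞) ≤ LocCoh.depth ((f.fiber (f y)).presheaf.stalk (f.asFiber y))
      ((f.fiber (f y)).presheaf.stalk (f.asFiber y)) := WithBot.coe_le_coe.mp h2
  exact le_trans h3 le_add_self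

/-- stalks of an exterior power are free at points near which the module is free -/
theorem isReflexiveAt_extPow_of_free {P : Scheme.{u}} (F L : P.Modules) [F.IsQuasicoherent]
    [L.IsQuasicoherent] (h : ℕ) (hL : ExtPow.IsExtPow h F L) {V : P.Opens} (n : ℕ)
    (iso : F.restrict V.ι ≅ FlatMod.freeMod (↑V) n) (x : P) (hxV : x ∈ V) :
    Module.IsReflexive (P.presheaf.stalk x) (L.presheaf.stalk x) := by
  obtain ⟨W, hW, hxW, hWV⟩ := Opens.isBasis_iff_nbhd.mp P.isBasis_affineOpens hxV
  obtain ⟨iso'⟩ := restrict_iso_freeMod_of_le F hWV n iso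
  obtain ⟨e⟩ := sections_of_restrict_iso_freeMod F hW n iso'
  obtain ⟨φ, -⟩ := hL
  haveI : Module.Free Γ(P, W) Γ(F, W) := Module.Free.of_equiv e.symm
  haveI : Module.Finite Γ(P, W) Γ(F, W) := Module.Finite.equiv e.symm
  let φW : Γ(L, W) ≃ₗ[Γ(P, W)] ⋀[Γ(P, W)]^h Γ(F, W) := φ ⟨W, hW⟩
  haveI : Module.Free Γ(P, W) Γ(L, W) := Module.Free.of_equiv φW.symm
  haveI : Module.Finite Γ(P, W) Γ(L, W) := Module.Finite.equiv φW.symm
  letI := TopCat.Presheaf.algebra_section_stalk P.presheaf (⟨x, hxW⟩ : W)
  letI := modStalk L x hxW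
  haveI := isScalarTower_stalk L x hxW
  haveI : IsLocalization.AtPrime (P.presheaf.stalk x) (hW.primeIdealOf ⟨x, hxW⟩).asIdeal :=
    hW.isLocalization_stalk ⟨x, hxW⟩
  haveI := isLocalizedModule_stalk L hW x hxW
  haveI : Module.Free (P.presheaf.stalk x) (L.presheaf.stalk x) :=
    Module.free_of_isLocalizedModule (hW.primeIdealOf ⟨x, hxW⟩).asIdeal.primeCompl
      (germLin L x hxW)
  haveI : Module.Finite (P.presheaf.stalk x) (L.presheaf.stalk x) :=
    Module.Finite.of_isLocalizedModule (hW.primeIdealOf ⟨x, hxW⟩).asIdeal.primeCompl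
      (germLin L x hxW)
  infer_instance

end Groth.Agent.Lib.Lead.DetBig
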