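import Mathlib
import Groth.Agent.S10963
import Groth.Agent.Lib.Helper18.PtSection
import Groth.Agent.Lib.Helper18.SemiLocalGen

/-!
# Gluing an invertible module from a cover whose pairwise intersections lie in a fixed open (lead; Stacks 09NR)

Setting: `U ⊆ X` open, `cov : ι → X.Opens` a cover with `cov a ⊓ cov b ≤ U` for `a ≠ b`, and a "functional" cocycle
`cc a b O : Γ(X, O)ˣ` defined for every open `O ≤ cov a ⊓ cov b ⊓ U`, compatible with restriction (`IsRes`) and
multiplicative (`IsMul`).

* `exists_glue`: an invertible `L` with generators `s a` over `cov a` such that `s a = cc a b O • s b` on every such `O`.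
* `exists_invertible_section_of_cover`: given functions `F a ∈ Γ(X, cov a)` invertible on `cov a ⊓ U` and such that every
  point outside `U` lies in some `cov a` on which `F a` vanishes at it: an invertible `L` with a global section `s` such
  that `genLocus L s = U`.
-/

set_option autoImplicit false
set_option backward.isDefEq.respectTransparency false
set_option linter.style.haveILetI false
set_option linter.unusedSectionVars false

universe u
open CategoryTheory AlgebraicGeometry TopologicalSpace Opposite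

namespace Groth.Agent.Lib.Lead.DiscCompl

variable {X : Scheme.{u}}

section Core

variable (U : X.Opens) {ι : Type u} (cov : ι → X.Opens)
  (hpair : ∀ a b : ι, a ≠ b → cov a ⊓ cov b ≤ U)
  (cc : ∀ (a b : ι) (O : X.Opens), O ≤ cov a → O ≤ cov b → O ≤ U → (Γ(X, O))ˣ)

/-- restriction compatibility of a functional cocycle -/
def IsRes : Prop :=
  ∀ (a b : ι) (O O' : X.Opens) (h : O' ≤ O) (ha : O ≤ cov a) (hb : O ≤ cov b) (hU : O ≤ U),
    (X.presheaf.map (homOfLE h).op).hom ((cc a b O ha hb hU : (Γ(X, O))ˣ) : Γ(X, O)) =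
      ((cc a b O' (h.trans ha) (h.trans hb) (h.trans hU) : (Γ(X, O'))ˣ) : Γ(X, O'))

/-- multiplicativity of a functional cocycle -/
def IsMul : Prop :=
  ∀ (a b c : ι) (O : X.Opens) (ha : O ≤ cov a) (hb : O ≤ cov b) (hc : O ≤ cov c) (hU : O ≤ U),
    cc a c O ha hc hU = cc a b O ha hb hU * cc b c O hb hc hU

variable {U cov cc} in
theorem cc_self (hmul : IsMul U cov cc) (a : ι) (O : X.Opens) (ha : O ≤ cov a) (hU : O ≤ U) :
    cc a a O ha ha hU = 1 := by
  have h := hmul a a a O ha ha ha hU
  exact (mul_left_cancel (a := cc a a O ha ha hU) (by rw [mul_one]; exact h)).symm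

open Classical in
/-- the Čech cocycle on the cover `cov` -/
noncomputable def eta (a b : ι) : (Γ(X, cov a ⊓ cov b))ˣ :=
  if h : a = b then 1 else cc a b (cov a ⊓ cov b) inf_le_left inf_le_right (hpair a b h)

theorem eta_self (a : ι) : eta U cov hpair cc a a = 1 := dif_pos rfl

theorem eta_ne {a b : ι} (h : a ≠ b) :
    eta U cov hpair cc a b = cc a b (cov a ⊓ cov b) inf_le_left inf_le_right (hpair a b h) := dif_neg h

theorem eta_cocycle (hres : IsRes U cov cc) (hmul : IsMul U cov cc) (i j k : ι) :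
    X.presheaf.map (homOfLE (inf_le_inf_right (cov k) inf_le_left :
        cov i ⊓ cov j ⊓ cov k ≤ cov i ⊓ cov k)).op
        (eta U cov hpair cc i k : Γ(X, cov i ⊓ cov k)) =
      X.presheaf.map (homOfLE (inf_le_left : cov i ⊓ cov j ⊓ cov k ≤ cov i ⊓ cov j)).op
          (eta U cov hpair cc i j : Γ(X, cov i ⊓ cov j)) *
        X.presheaf.map (homOfLE (inf_le_inf_right (cov k) inf_le_right :
          cov i ⊓ cov j ⊓ cov k ≤ cov j ⊓ cov k)).op
          (eta U cov hpair cc j k : Γ(X, cov j ⊓ cov k)) := by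
  by_cases hij : i = j
  · subst hij
    rw [eta_self]
    simp only [Units.val_one, map_one, one_mul]
  by_cases hjk : j = k
  · subst hjk
    rw [eta_self U cov hpair cc j]
    simp only [Units.val_one, map_one, mul_one]
  by_cases hik : i = k
  · subst hik
    rw [eta_self, eta_ne U cov hpair cc hij, eta_ne U cov hpair cc hjk]
    simp only [Units.val_one, map_one]
    have h1 := hres i j (cov i ⊓ cov j) (cov i ⊓ cov j ⊓ cov i) inf_le_left inf_le_left inf_le_right
      (hpair i j hij)
    have h2 := hres j i (cov j ⊓ cov i) (cov i ⊓ cov j ⊓ cov i) (inf_le_inf_right (cov i) inf_le_right)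
      inf_le_left inf_le_right (hpair j i hjk)
    refine Eq.trans ?_ (congrArg₂ (· * ·) h1 h2).symm
    rw [← Units.val_mul, ← hmul, cc_self hmul, Units.val_one]
  · rw [eta_ne U cov hpair cc hik, eta_ne U cov hpair cc hij, eta_ne U cov hpair cc hjk]
    have h0 := hres i k (cov i ⊓ cov k) (cov i ⊓ cov j ⊓ cov k) (inf_le_inf_right (cov k) inf_le_left)
      inf_le_left inf_le_right (hpair i k hik)
    have h1 := hres i j (cov i ⊓ cov j) (cov i ⊓ cov j ⊓ cov k) inf_le_left inf_le_left inf_le_right
      (hpair i j hij)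
    have h2 := hres j k (cov j ⊓ cov k) (cov i ⊓ cov j ⊓ cov k) (inf_le_inf_right (cov k) inf_le_right)
      inf_le_left inf_le_right (hpair j k hjk)
    refine h0.trans (Eq.trans ?_ (congrArg₂ (· * ·) h1 h2).symm)
    rw [← Units.val_mul, ← hmul]

include hpair in
/-- **gluing an invertible module** from a functional cocycle on a cover with pairwise intersections in `U` -/
theorem exists_glue (hres : IsRes U cov cc) (hmul : IsMul U cov cc) (hcov : iSup cov = ⊤) :
    ∃ (L : X.Modules) (s : ∀ a : ι, Γ(L, cov a)), PicF.IsInvertible L ∧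
      (∀ (a : ι) (V : X.Opens) (h : V ≤ cov a),
        Function.Bijective (fun r : Γ(X, V) => r • L.presheaf.map (homOfLE h).op (s a))) ∧
      ∀ (a b : ι) (O : X.Opens) (ha : O ≤ cov a) (hb : O ≤ cov b) (hU : O ≤ U),
        L.presheaf.map (homOfLE ha).op (s a) =
          ((cc a b O ha hb hU : (Γ(X, O))ˣ) : Γ(X, O)) • L.presheaf.map (homOfLE hb).op (s b) := by
  obtain ⟨L, s, hL, hbij, hrel⟩ := Groth.Agent.S10963.result X cov hcov (eta U cov hpair cc)
    (eta_cocycle U cov hpair cc hres hmul)
  refine ⟨L, s, hL, hbij, ?_⟩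
  intro a b O ha hb hU
  by_cases hab : a = b
  · subst hab
    rw [cc_self hmul, Units.val_one, one_smul]
  · have e1 : L.presheaf.map (homOfLE (le_inf ha hb)).op
        (L.presheaf.map (homOfLE (inf_le_left : cov a ⊓ cov b ≤ cov a)).op (s a)) =
        L.presheaf.map (homOfLE ha).op (s a) := by
      rw [← ConcreteCategory.comp_apply, ← Functor.map_comp]
      rfl
    have e2 : L.presheaf.map (homOfLE (le_inf ha hb)).op
        (L.presheaf.map (homOfLE (inf_le_right : cov a ⊓ cov b ≤ cov b)).op (s b)) =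
        L.presheaf.map (homOfLE hb).op (s b) := by
      rw [← ConcreteCategory.comp_apply, ← Functor.map_comp]
      rfl
    have e3 := Scheme.Modules.map_smul L (homOfLE (le_inf ha hb))
      ((eta U cov hpair cc a b : (Γ(X, cov a ⊓ cov b))ˣ) : Γ(X, cov a ⊓ cov b))
      (L.presheaf.map (homOfLE (inf_le_right : cov a ⊓ cov b ≤ cov b)).op (s b))
    have e4 : (X.presheaf.map (homOfLE (le_inf ha hb)).op).hom
        ((eta U cov hpair cc a b : (Γ(X, cov a ⊓ cov b))ˣ) : Γ(X, cov a ⊓ cov b)) =
        ((cc a b O ha hb hU : (Γ(X, O))ˣ) : Γ(X, O)) := by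
      rw [eta_ne U cov hpair cc hab]
      exact hres a b (cov a ⊓ cov b) O (le_inf ha hb) inf_le_left inf_le_right (hpair a b hab)
    rw [← e1, hrel a b]
    refine e3.trans ?_
    rw [e2]
    exact congrArg (· • L.presheaf.map (homOfLE hb).op (s b)) e4

end Core

section SectionCase

open Groth.Agent.Lib.Helper18.PtSection
open Groth.Agent.Lib.helper11.IsoLocus Groth.Agent.Lib.helper11.GenLocus

variable (U : X.Opens) {ι : Type u} (cov : ι → X.Opens)
  (F : ∀ a : ι, Γ(X, cov a))
  (hF : ∀ a : ι, ∀ y ∈ cov a, y ∈ U → y ∈ X.basicOpen (F a))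

/-- the functional cocycle `F a ⁻¹ * F b` -/
noncomputable def ccF (a b : ι) (O : X.Opens) (ha : O ≤ cov a) (hb : O ≤ cov b) (hU : O ≤ U) : (Γ(X, O))ˣ :=
  (uf (F a) (hF a) O ha hU)⁻¹ * uf (F b) (hF b) O hb hU

theorem isRes_ccF : IsRes U cov (ccF U cov F hF) := by
  intro a b O O' h ha hb hU
  simp only [ccF, Units.val_mul, map_mul]
  rw [res_uf_inv (F a) (hF a) h ha hU, res_uf (F b) (hF b) h hb hU]

theorem isMul_ccF : IsMul U cov (ccF U cov F hF) := by
  intro a b c O ha hb hc hU
  simp only [ccF]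
  group

include hF in
/-- **an invertible module with a section whose non-vanishing locus is `U`** -/
theorem exists_invertible_section_of_cover (hcov : iSup cov = ⊤)
    (hpair : ∀ a b : ι, a ≠ b → cov a ⊓ cov b ≤ U)
    (hZ : ∀ y : X, y ∉ U → ∃ a : ι, y ∈ cov a ∧ y ∉ X.basicOpen (F a)) :
    ∃ (L : X.Modules) (s : Coh.structureModule X ⟶ L), PicF.IsInvertible L ∧ CohB1.genLocus L s = U := by
  obtain ⟨L, g, hL, hbij, hrel⟩ := exists_glue U cov hpair (ccF U cov F hF) (isRes_ccF U cov F hF)
    (isMul_ccF U cov F hF) hcov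
  let t : ∀ a : ι, Γ(L, cov a) := fun a => F a • g a
  let Fs : TopCat.Sheaf Ab X := ⟨L.presheaf, L.isSheaf⟩
  have compat : TopCat.Presheaf.IsCompatible Fs.1 cov t := by
    intro a b
    by_cases hab : a = b
    · subst hab
      rfl
    · have hO : cov a ⊓ cov b ≤ U := hpair a b hab
      have h1 := Scheme.Modules.map_smul L (homOfLE (inf_le_left : cov a ⊓ cov b ≤ cov a)) (F a) (g a)
      have h2 := Scheme.Modules.map_smul L (homOfLE (inf_le_right : cov a ⊓ cov b ≤ cov b)) (F b) (g b)
      refine h1.trans (Eq.trans ?_ h2.symm)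
      rw [hrel a b (cov a ⊓ cov b) inf_le_left inf_le_right hO, ← mul_smul]
      congr 1
      have e1 : (X.presheaf.map (homOfLE (inf_le_left : cov a ⊓ cov b ≤ cov a)).op).hom (F a) =
          ((uf (F a) (hF a) (cov a ⊓ cov b) inf_le_left hO : (Γ(X, cov a ⊓ cov b))ˣ) :
            Γ(X, cov a ⊓ cov b)) := rfl
      have e2 : (X.presheaf.map (homOfLE (inf_le_right : cov a ⊓ cov b ≤ cov b)).op).hom (F b) =
          ((uf (F b) (hF b) (cov a ⊓ cov b) inf_le_right hO : (Γ(X, cov a ⊓ cov b))ˣ) :
            Γ(X, cov a ⊓ cov b)) := rfl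
      refine Eq.trans (congrArg (· * _) e1) (Eq.trans ?_ e2.symm)
      simp only [ccF, Units.val_mul]
      rw [← mul_assoc, Units.mul_inv, one_mul]
  obtain ⟨σ, hσ, -⟩ := Fs.existsUnique_gluing' cov ⊤ (fun i => homOfLE le_top)
    (by rw [hcov]) t compat
  let s : Coh.structureModule X ⟶ L := Groth.Agent.Lib.Helper20.SplitH1.homOfGlobal L σ
  have hsec : ∀ O : X.Opens, sec s O = L.presheaf.map (homOfLE (le_top : O ≤ ⊤)).op σ := fun O =>
    Groth.Agent.Lib.Helper20.SplitH1.homOfGlobal_app_one L σ (op O)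
  have hsecA : ∀ a : ι, sec s (cov a) = F a • g a := by
    intro a
    rw [hsec (cov a)]
    exact hσ a
  have hsecO : ∀ (a : ι) (O : X.Opens) (h : O ≤ cov a), sec s O =
      (X.presheaf.map (homOfLE h).op).hom (F a) • L.presheaf.map (homOfLE h).op (g a) := by
    intro a O h
    rw [← res_sec s (homOfLE h), hsecA a]
    exact Scheme.Modules.map_smul L (homOfLE h) (F a) (g a)
  refine ⟨L, s, hL, ?_⟩
  rw [genLocus_eq_isoLocus]
  apply le_antisymm
  · intro y hy
    by_contra hyU
    obtain ⟨a, hya, hyF⟩ := hZ y hyU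
    exact hyF (mem_basicOpen_of_mem_isoLocus s (F a) (g a) (hbij a) (hsecA a) y hya hy)
  · have key : ∀ a : ι, cov a ⊓ U ≤ isoLocus s := by
      intro a
      rw [le_isoLocus_iff, isIso_restrict_iff_app]
      intro O hO
      rw [ConcreteCategory.isIso_iff_bijective]
      have hOa : O ≤ cov a := hO.trans inf_le_left
      have hOU : O ≤ U := hO.trans inf_le_right
      have key2 : ∀ r : Γ(X, O), (s.app O).hom (r : Γ(Coh.structureModule X, O)) =
          r • ((X.presheaf.map (homOfLE hOa).op).hom (F a) • L.presheaf.map (homOfLE hOa).op (g a)) :=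
        fun r => by rw [app_apply, hsecO a O hOa]
      have hb := Groth.Agent.Lib.Helper18.SemiLocalGen.bijective_smul_of_isUnit
        (L.presheaf.map (homOfLE hOa).op (g a)) (hbij a O hOa)
        ((X.presheaf.map (homOfLE hOa).op).hom (F a)) (isUnit_res (F a) (hF a) O hOa hOU)
      constructor
      · intro r r' hrr
        exact hb.1 ((key2 r).symm.trans (hrr.trans (key2 r')))
      · intro m
        obtain ⟨r, hr⟩ := hb.2 m
        exact ⟨r, (key2 r).trans hr⟩
    intro y hyU
    have hy : y ∈ (iSup cov : X.Opens) := by rw [hcov]; trivial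
    obtain ⟨a, hya⟩ := Opens.mem_iSup.mp hy
    exact key a ⟨hya, hyU⟩

end SectionCase

end Groth.Agent.Lib.Lead.DiscCompl
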