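import Mathlib
import Groth.Agent.Lib.Lead.DiscCompl2
import Groth.Agent.Lib.Lead.DiscCompl3
import Groth.Agent.Lib.Helper18.PicGlue2

/-!
# Stacks 09NR (lead): both halves

* `exists_invertible_section`: `U ⊆ X` retrocompact open with discrete complement whose points have Noetherian local
  rings of dimension `≤ 1`: there are an invertible `L` and a global section `s` with `genLocus L s = U`.
* `exists_isTrivOn_nbhd`: an invertible module on `U` is trivial on a punctured neighbourhood of every point of the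
  complement.
* `pic_surjective`: every invertible module on `U` is the restriction of an invertible module on `X`.
-/

set_option autoImplicit false
set_option backward.isDefEq.respectTransparency false
set_option linter.style.haveILetI false
set_option linter.unusedSectionVars false

universe u
open CategoryTheory AlgebraicGeometry TopologicalSpace Opposite

namespace Groth.Agent.Lib.Lead.DiscCompl

variable {X : Scheme.{u}}

section PartOne

/-- the cover `{U} ∪ {W x}` -/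
def covO (U : X.Opens) {Z : Type u} (W : Z → X.Opens) : Option Z → X.Opens
  | none => U
  | some x => W x

/-- the functions `1` on `U` and `f x` on `W x` -/
noncomputable def FO (U : X.Opens) {Z : Type u} (W : Z → X.Opens) (f : ∀ x : Z, Γ(X, W x)) :
    ∀ a : Option Z, Γ(X, covO U W a)
  | none => (1 : Γ(X, U))
  | some x => f x

/-- **Stacks 09NR (1)** -/
theorem exists_invertible_section (U : X.Opens) [QuasiCompact U.ι]
    (hdisc : DiscreteTopology ↥((U : Set X)ᶜ))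
    (hloc : ∀ x : X, x ∉ U →
      IsNoetherianRing (X.presheaf.stalk x) ∧ ringKrullDim (X.presheaf.stalk x) ≤ 1) :
    ∃ (L : X.Modules) (s : Coh.structureModule X ⟶ L),
      PicF.IsInvertible L ∧ CohB1.genLocus L s = U := by
  have hex : ∀ x : {x : X // x ∉ U}, ∃ (W : X.Opens) (f : Γ(X, W)), IsAffineOpen W ∧ x.1 ∈ W ∧
      (∀ y ∈ W, y ∉ U → y = x.1) ∧ (∀ y ∈ W, y ≠ x.1 → y ∈ X.basicOpen f) ∧ x.1 ∉ X.basicOpen f :=
    fun x => exists_good_nbhd U hdisc x.1 x.2 (hloc x.1 x.2).1 (hloc x.1 x.2).2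
  choose W f _ hxW hWU hf hxf using hex
  refine exists_invertible_section_of_cover U (covO U W) (FO U W f) ?_ ?_ ?_ ?_
  · rintro (_ | x) y hy hyU
    · show y ∈ X.basicOpen (1 : Γ(X, U))
      rw [X.basicOpen_of_isUnit isUnit_one]
      exact hyU
    · exact hf x y hy (fun h => x.2 (h ▸ hyU))
  · rw [eq_top_iff]
    intro y _
    by_cases hy : y ∈ U
    · exact Opens.mem_iSup.mpr ⟨none, hy⟩
    · exact Opens.mem_iSup.mpr ⟨some ⟨y, hy⟩, hxW ⟨y, hy⟩⟩
  · rintro (_ | x) (_ | x') hab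
    · exact absurd rfl hab
    · exact inf_le_left
    · exact inf_le_right
    · intro y hy
      by_contra hyU
      have h1 := hWU x y hy.1 hyU
      have h2 := hWU x' y hy.2 hyU
      exact hab (congrArg some (Subtype.ext (h1.symm.trans h2)))
  · intro y hy
    exact ⟨some ⟨y, hy⟩, hxW ⟨y, hy⟩, hxf ⟨y, hy⟩⟩

end PartOne

section PartTwo

open Groth.Agent.Lib.helper11.InvMod Groth.Agent.Lib.Helper18.PicGlue
open Groth.Agent.Lib.Helper18.SemiLocalGen

/-- an invertible module on `U` is trivial on a punctured neighbourhood of a point of the complement -/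
theorem exists_isTrivOn_nbhd (U : X.Opens) (x : X) (hx : x ∉ U)
    (hN : IsNoetherianRing (X.presheaf.stalk x)) (hdim : ringKrullDim (X.presheaf.stalk x) ≤ 1)
    (W : X.Opens) (f : Γ(X, W)) (hW : IsAffineOpen W) (hxW : x ∈ W)
    (hWU : ∀ y ∈ W, y ∉ U → y = x)
    (hf : ∀ y ∈ W, y ≠ x → y ∈ X.basicOpen f) (hxf : x ∉ X.basicOpen f)
    (N : (↑U : Scheme.{u}).Modules) (hNinv : PicF.IsInvertible N) :
    ∃ W' : X.Opens, W' ≤ W ∧ x ∈ W' ∧ IsTrivOn N (U.ι ⁻¹ᵁ W') := by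
  classical
  set px := hW.primeIdealOf ⟨x, hxW⟩ with hpx
  have hfx : hW.fromSpec px = x := hW.fromSpec_primeIdealOf ⟨x, hxW⟩
  letI := TopCat.Presheaf.algebra_section_stalk X.presheaf (⟨x, hxW⟩ : W)
  haveI := hW.isLocalization_stalk ⟨x, hxW⟩
  have hfpx : f ∈ px.asIdeal := by
    by_contra h
    exact hxf ((mem_basicOpen_iff_primeIdealOf hW f x hxW).mpr h)
  have hPU : X.basicOpen f ≤ U := by
    intro y hy
    by_contra hyU
    have := hWU y (X.basicOpen_le f hy) hyU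
    exact hxf (this ▸ hy)
  have hP'aff : IsAffineOpen (U.ι ⁻¹ᵁ X.basicOpen f) :=
    (hW.basicOpen f).preimage_of_isOpenImmersion U.ι (by rw [Scheme.Opens.opensRange_ι]; exact hPU)
  have hGfin := finite_primes_lt px.asIdeal (X.presheaf.stalk x) hdim
  have hptP : ∀ (q : Ideal Γ(X, W)) (hq : q.IsPrime), q < px.asIdeal →
      hW.fromSpec ⟨q, hq⟩ ∈ X.basicOpen f := by
    intro q hq hlt
    apply hf _ (fromSpec_mem' hW _)
    intro h
    have h1 : (⟨q, hq⟩ : PrimeSpectrum Γ(X, W)) = px :=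
      hW.fromSpec.isOpenEmbedding.injective (h.trans hfx.symm)
    have h2 : q = px.asIdeal := congrArg PrimeSpectrum.asIdeal h1
    exact hlt.ne h2
  let pr : {q // q ∈ hGfin.toFinset} → PrimeSpectrum Γ((↑U : Scheme.{u}), U.ι ⁻¹ᵁ X.basicOpen f) :=
    fun q => hP'aff.primeIdealOf
      ⟨(⟨hW.fromSpec ⟨q.1, (hGfin.mem_toFinset.mp q.2).1⟩,
        hPU (hptP q.1 (hGfin.mem_toFinset.mp q.2).1 (hGfin.mem_toFinset.mp q.2).2)⟩ : U),
        hptP q.1 (hGfin.mem_toFinset.mp q.2).1 (hGfin.mem_toFinset.mp q.2).2⟩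
  have hprpt : ∀ q : {q // q ∈ hGfin.toFinset},
      U.ι (hP'aff.fromSpec (pr q)) = hW.fromSpec ⟨q.1, (hGfin.mem_toFinset.mp q.2).1⟩ := by
    intro q
    have := hP'aff.fromSpec_primeIdealOf
      ⟨(⟨hW.fromSpec ⟨q.1, (hGfin.mem_toFinset.mp q.2).1⟩,
        hPU (hptP q.1 (hGfin.mem_toFinset.mp q.2).1 (hGfin.mem_toFinset.mp q.2).2)⟩ : U),
        hptP q.1 (hGfin.mem_toFinset.mp q.2).1 (hGfin.mem_toFinset.mp q.2).2⟩
    exact congrArg (fun z : U => z.1) this
  let T : Finset (PrimeSpectrum Γ((↑U : Scheme.{u}), U.ι ⁻¹ᵁ X.basicOpen f)) :=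
    hGfin.toFinset.attach.image pr
  have hinc : ∀ p ∈ T, ∀ q ∈ T, q.asIdeal ≤ p.asIdeal → q = p := by
    intro p hp q hq hle
    obtain ⟨a, -, rfl⟩ := Finset.mem_image.1 hp
    obtain ⟨b, -, rfl⟩ := Finset.mem_image.1 hq
    have h1 : pr b ⤳ pr a := (PrimeSpectrum.le_iff_specializes _ _).1 hle
    have h2 : U.ι (hP'aff.fromSpec (pr b)) ⤳ U.ι (hP'aff.fromSpec (pr a)) :=
      (h1.map hP'aff.fromSpec.continuous).map U.ι.continuous
    rw [hprpt, hprpt] at h2
    have h3 := hW.fromSpec.isOpenEmbedding.isInducing.specializes_iff.mp h2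
    have h4 : b.1 ≤ a.1 := (PrimeSpectrum.le_iff_specializes
      (⟨b.1, (hGfin.mem_toFinset.mp b.2).1⟩ : PrimeSpectrum Γ(X, W))
      ⟨a.1, (hGfin.mem_toFinset.mp a.2).1⟩).2 h3
    have h5 := eq_of_le_of_lt px.asIdeal (X.presheaf.stalk x) hdim b.1 a.1
      (hGfin.mem_toFinset.mp b.2).1 (hGfin.mem_toFinset.mp a.2).1
      (hGfin.mem_toFinset.mp b.2).2 (hGfin.mem_toFinset.mp a.2).2 h4
    have : b = a := Subtype.ext h5
    rw [this]
  obtain ⟨D, ℓ, hℓ, hD⟩ := exists_isGen_of_finset hNinv hP'aff T hinc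
  -- the closed complement of `D` inside `W`
  have hopen : IsOpen (hW.fromSpec ⁻¹' ((U.ι ''ᵁ D : X.Opens) : Set X)) :=
    (U.ι ''ᵁ D).isOpen.preimage hW.fromSpec.continuous
  obtain ⟨J, hJ⟩ := (PrimeSpectrum.isClosed_iff_zeroLocus_ideal _).mp hopen.isClosed_compl
  have hJq : ∀ q : Ideal Γ(X, W), q.IsPrime → q ≤ px.asIdeal → f ∉ q → ¬ J ≤ q := by
    intro q hq hle hfq hJle
    have hlt : q < px.asIdeal := lt_of_le_of_ne hle (by rintro rfl; exact hfq hfpx)
    have hmem : q ∈ hGfin.toFinset := hGfin.mem_toFinset.mpr ⟨hq, hlt⟩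
    have h1 := hD (pr ⟨q, hmem⟩) (Finset.mem_image.mpr ⟨⟨q, hmem⟩, Finset.mem_attach _ _, rfl⟩)
    have h2 : hW.fromSpec ⟨q, hq⟩ ∈ U.ι ''ᵁ D := ⟨_, h1, hprpt ⟨q, hmem⟩⟩
    have h3 : (⟨q, hq⟩ : PrimeSpectrum Γ(X, W)) ∈ PrimeSpectrum.zeroLocus (J : Set Γ(X, W)) := hJle
    rw [← hJ] at h3
    exact h3 h2
  obtain ⟨h', hh'p, n, hn⟩ := exists_mul_pow_mem px.asIdeal f J hJq
  refine ⟨X.basicOpen h', X.basicOpen_le h', (mem_basicOpen_iff_primeIdealOf hW h' x hxW).mpr hh'p, ?_⟩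
  refine (isTrivOn_of_isGen hℓ).of_le ?_
  intro z hz
  have hzh : z.1 ∈ X.basicOpen h' := hz
  have hzW : z.1 ∈ W := X.basicOpen_le h' hzh
  have hzx : z.1 ≠ x := fun h => hx (h ▸ z.2)
  have hzf : z.1 ∈ X.basicOpen f := hf _ hzW hzx
  have hnJ : ¬ J ≤ (hW.primeIdealOf ⟨z.1, hzW⟩).asIdeal := by
    intro hle
    have h1 := hle hn
    rcases (hW.primeIdealOf ⟨z.1, hzW⟩).isPrime.mem_or_mem h1 with h | h
    · exact (mem_basicOpen_iff_primeIdealOf hW h' z.1 hzW).mp hzh h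
    · exact (mem_basicOpen_iff_primeIdealOf hW f z.1 hzW).mp hzf
        ((hW.primeIdealOf ⟨z.1, hzW⟩).isPrime.mem_of_pow_mem n h)
  have h2 : hW.primeIdealOf ⟨z.1, hzW⟩ ∉ PrimeSpectrum.zeroLocus (J : Set Γ(X, W)) := hnJ
  rw [← hJ, Set.mem_compl_iff, not_not, Set.mem_preimage, hW.fromSpec_primeIdealOf ⟨z.1, hzW⟩] at h2
  exact (Scheme.Opens.mem_ι_image_iff (x := z)).mp h2

/-- **Stacks 09NR (2)**: `Pic X → Pic U` is surjective -/
theorem pic_surjective (U : X.Opens) [QuasiCompact U.ι]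
    (hdisc : DiscreteTopology ↥((U : Set X)ᶜ))
    (hloc : ∀ x : X, x ∉ U →
      IsNoetherianRing (X.presheaf.stalk x) ∧ ringKrullDim (X.presheaf.stalk x) ≤ 1)
    (N : (↑U : Scheme.{u}).Modules) (hN : PicF.IsInvertible N) :
    ∃ L : X.Modules, PicF.IsInvertible L ∧ Nonempty (L.restrict U.ι ≅ N) := by
  have hex : ∀ y : X, ∃ O : X.Opens, y ∈ O ∧ IsTrivOn N (U.ι ⁻¹ᵁ O) ∧ (∀ z ∈ O, z ∉ U → z = y) := by
    intro y
    by_cases hy : y ∈ U
    · obtain ⟨V', -, hyV', -, hT⟩ := exists_affine_isTrivOn hN (⟨y, hy⟩ : U) ⊤ trivial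
      refine ⟨U.ι ''ᵁ V', ⟨⟨y, hy⟩, hyV', rfl⟩, ?_, ?_⟩
      · rw [Scheme.Hom.preimage_image_eq]
        exact hT
      · rintro z ⟨z', -, rfl⟩ hzU
        exact absurd z'.2 hzU
    · obtain ⟨W, f, hW, hxW, hWU, hf, hxf⟩ :=
        exists_good_nbhd U hdisc y hy (hloc y hy).1 (hloc y hy).2
      obtain ⟨W', hW'W, hyW', hT⟩ := exists_isTrivOn_nbhd U y hy (hloc y hy).1 (hloc y hy).2 W f hW hxW
        hWU hf hxf N hN
      exact ⟨W', hyW', hT, fun z hz hzU => hWU z (hW'W hz) hzU⟩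
  choose cov hycov hT hcovU using hex
  have hV : IsIso (U.ι ∣_ U) := by
    delta morphismRestrict
    infer_instance
  have hcov : iSup cov = ⊤ := by
    rw [eq_top_iff]
    intro y _
    exact Opens.mem_iSup.mpr ⟨y, hycov y⟩
  have hpair : ∀ a b : X, a ≠ b → cov a ⊓ cov b ≤ U := by
    intro a b hab z hz
    by_contra hzU
    exact hab ((hcovU a z hz.1 hzU).symm.trans (hcovU b z hz.2 hzU))
  obtain ⟨L, hL, ⟨e⟩⟩ := exists_invertible_pullback_of_cover U.ι U hV cov hcov hpair hT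
  exact ⟨L, hL, ⟨(Scheme.Modules.restrictFunctorIsoPullback U.ι).app L ≪≫ e⟩⟩

end PartTwo

end Groth.Agent.Lib.Lead.DiscCompl
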