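import Mathlib
import Groth.Agent.Lib.Lead.VBCurve23
import Groth.Agent.Lib.Helper11.FibLift1
import Groth.Prelude.Def_KLin

/-!
# The pairing `Hom(A, F) × H¹(A) → H¹(F)` and invertible quotients with non-vanishing `H¹` (lead)

* `homPairing k A F : (A ⟶ F) →ₗ[k] (H¹(A) →ₗ[k] H¹(F))`, `φ ↦ H¹(φ)`.
* `secToHom k e ε E : H⁰(E ⊗ N) →ₗ[k] (A ⟶ E)` for mutually inverse `A`, `N`; it is injective.
* `exists_hom_ne_zero_comp_eq_zero`: if `h¹(A) < h⁰(E ⊗ N)` then every linear form `lam` on `H¹(E)` kills the image of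
  `H¹(φ)` for some nonzero `φ : A ⟶ E`.
-/

set_option autoImplicit false
set_option linter.style.haveILetI false
set_option linter.unusedSectionVars false
set_option backward.isDefEq.respectTransparency false
universe u
open CategoryTheory CategoryTheory.Limits AlgebraicGeometry Opposite TopologicalSpace Module

namespace Groth.Agent.Lib.Lead.VBCurve

open Groth.Agent.Lib.Lead.ModTensor Groth.Agent.Lib.Helper20.TensorEquiv Groth.Agent.Lib.Helper18
open Groth.Agent.Lib.helper9.CurveVanish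

section pairing

variable (k : Type u) [Field k] {X : Scheme.{u}} [X.Over (Spec (CommRingCat.of k))]

/-- `φ ↦ H¹(φ)` is `k`-linear in `φ` -/
noncomputable def homPairing (A F : X.Modules) :
    (A ⟶ F) →ₗ[k] (Coh.HH X A 1 →ₗ[k] Coh.HH X F 1) where
  toFun φ := HH.mapOver k φ 1
  map_add' φ ψ := by
    ext ξ
    change HH.map (φ + ψ) 1 ξ = HH.map φ 1 ξ + HH.map ψ 1 ξ
    rw [HH.map_add]
    rfl
  map_smul' a φ := by
    ext ξ
    change HH.map (a • φ) 1 ξ = a • HH.map φ 1 ξ
    rw [KLin.smul_def, HH.map_comp_apply]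
    have h1 : HH.map (Formal.smulMod k A a) 1 ξ = a • ξ := rfl
    rw [h1]
    exact (HH.mapOver k φ 1).map_smul a ξ

lemma homPairing_apply (A F : X.Modules) (φ : A ⟶ F) (ξ : Coh.HH X A 1) :
    homPairing k A F φ ξ = HH.map φ 1 ξ := rfl

variable {A N : X.Modules} (e : CohB1.tensorMod A N ≅ Coh.structureModule X)
  (ε : CohB1.tensorMod N A ≅ Coh.structureModule X)

/-- `(E ⊗ N) ⊗ A ≅ E` -/
noncomputable def untwist (E : X.Modules) : CohB1.tensorMod (CohB1.tensorMod E N) A ≅ E :=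
  assoc E N A ≪≫ tensorIso (Iso.refl E) ε ≪≫ rightUnitor E

include e in
lemma tensorMap_add_left {M M' : X.Modules} (f g : M ⟶ M') :
    tensorMap (f + g) (𝟙 A) = tensorMap f (𝟙 A) + tensorMap g (𝟙 A) := by
  haveI := isEquivalence_tensorRight e
  haveI := preservesZeroMorphisms_tensorRight e
  haveI : (tensorRight A).Additive := Functor.additive_of_preserves_binary_products _
  exact (tensorRight A).map_add

/-- sections of `E ⊗ N` as morphisms `A ⟶ E` -/
noncomputable def secToHom (E : X.Modules) : Coh.HH X (CohB1.tensorMod E N) 0 →ₗ[k] (A ⟶ E) where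
  toFun x := (leftUnitor A).inv ≫ tensorMap (secHom _ x) (𝟙 A) ≫ (untwist ε E).hom
  map_add' x y := by
    rw [secHom_add, tensorMap_add_left e, Preadditive.add_comp, Preadditive.comp_add]
  map_smul' a x := by
    have h1 : (a • x : Coh.HH X (CohB1.tensorMod E N) 0) =
      (Coh.toGlobal (X ↘ Spec (CommRingCat.of k)) a) • x := rfl
    have hs : secHom _ (a • x) = secHom _ x ≫
        Formal.smulModΓ (CohB1.tensorMod E N) (Coh.toGlobal (X ↘ Spec (CommRingCat.of k)) a) := by
      rw [h1, secHom_smul]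
    have ht : tensorMap (secHom _ x ≫
        Formal.smulModΓ (CohB1.tensorMod E N) (Coh.toGlobal (X ↘ Spec (CommRingCat.of k)) a)) (𝟙 A) =
        tensorMap (secHom _ x) (𝟙 A) ≫ Formal.smulModΓ (CohB1.tensorMod (CohB1.tensorMod E N) A)
          (Coh.toGlobal (X ↘ Spec (CommRingCat.of k)) a) := by
      have h2 := tensorMap_comp (secHom _ x)
        (Formal.smulModΓ (CohB1.tensorMod E N) (Coh.toGlobal (X ↘ Spec (CommRingCat.of k)) a)) (𝟙 A) (𝟙 A)
      rw [Category.comp_id] at h2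
      rw [h2, Groth.Agent.Lib.helper11.FibLift.tensorMap_smulModΓ_left]
    have hf := KLin.comp_smulModΓ
      ((leftUnitor A).inv ≫ tensorMap (secHom _ x) (𝟙 A) ≫ (untwist ε E).hom)
      (Coh.toGlobal (X ↘ Spec (CommRingCat.of k)) a)
    have hθ := KLin.comp_smulModΓ (untwist ε E).hom (Coh.toGlobal (X ↘ Spec (CommRingCat.of k)) a)
    change (leftUnitor A).inv ≫ tensorMap (secHom _ (a • x)) (𝟙 A) ≫ (untwist ε E).hom =
      Formal.smulModΓ A (Coh.toGlobal (X ↘ Spec (CommRingCat.of k)) a) ≫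
        ((leftUnitor A).inv ≫ tensorMap (secHom _ x) (𝟙 A) ≫ (untwist ε E).hom)
    rw [← hf, hs, ht, Category.assoc, ← hθ]
    simp only [Category.assoc]

include e in
lemma secToHom_injective (E : X.Modules) : Function.Injective (secToHom k e ε E) := by
  rw [injective_iff_map_eq_zero]
  intro x hx
  by_contra hx0
  have hs : secHom _ x ≠ 0 := fun h => hx0 ((secHom_eq_zero_iff _ x).mp h)
  haveI := isEquivalence_tensorRight e
  have hT : tensorMap (secHom _ x) (𝟙 A) ≠ 0 := by
    intro h0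
    apply hs
    apply (tensorRight A).map_injective
    have h1 : (tensorRight A).map (secHom _ x) = tensorMap (secHom _ x) (𝟙 A) := rfl
    rw [h1, h0]
    exact (tensorMap_zero e _ _).symm
  apply hT
  have h1 : (leftUnitor A).inv ≫ tensorMap (secHom _ x) (𝟙 A) ≫ (untwist ε E).hom = 0 := hx
  have h2 : tensorMap (secHom _ x) (𝟙 A) ≫ (untwist ε E).hom = 0 :=
    (cancel_epi (leftUnitor A).inv).mp (h1.trans comp_zero.symm)
  exact (cancel_mono (untwist ε E).hom).mp (h2.trans zero_comp.symm)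

end pairing

section curve

variable (k : Type u) [Field k] (X : Scheme.{u}) [X.Over (Spec (CommRingCat.of k))]
  [IsProper (X ↘ Spec (CommRingCat.of k))] [IsIntegral X]

/-- if `h¹(A) < h⁰(E ⊗ N)` (`A`, `N` mutually inverse), every linear form on `H¹(E)` kills the image of `H¹(φ)` for some
nonzero `φ : A ⟶ E` -/
theorem exists_hom_ne_zero_comp_eq_zero {A N : X.Modules}
    (e : CohB1.tensorMod A N ≅ Coh.structureModule X) (ε : CohB1.tensorMod N A ≅ Coh.structureModule X)
    (E : X.Modules) (hA : Coh.IsCoh A) (hEN : Coh.IsCoh (CohB1.tensorMod E N))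
    (hlt : finrank k (Coh.HH X A 1) < finrank k (Coh.HH X (CohB1.tensorMod E N) 0))
    (lam : Module.Dual k (Coh.HH X E 1)) :
    ∃ φ : A ⟶ E, φ ≠ 0 ∧ ∀ ξ : Coh.HH X A 1, lam (HH.map φ 1 ξ) = 0 := by
  haveI : Module.Finite k (Coh.HH X A 1) := Groth.Agent.Lib.Lead.ProperEuler.finite_HH k X _ hA 1
  haveI : Module.Finite k (Coh.HH X (CohB1.tensorMod E N) 0) :=
    Groth.Agent.Lib.Lead.ProperEuler.finite_HH k X _ hEN 0
  let Ψ : Coh.HH X (CohB1.tensorMod E N) 0 →ₗ[k] Module.Dual k (Coh.HH X A 1) :=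
    (LinearMap.llcomp k _ _ _ lam) ∘ₗ (homPairing k A E) ∘ₗ (secToHom k e ε E)
  have hker : LinearMap.ker Ψ ≠ ⊥ := by
    apply LinearMap.ker_ne_bot_of_finrank_lt
    rw [Subspace.dual_finrank_eq]
    exact hlt
  obtain ⟨x, hx, hx0⟩ := (Submodule.ne_bot_iff _).mp hker
  refine ⟨secToHom k e ε E x,
    fun h => hx0 (secToHom_injective k e ε E (h.trans (map_zero _).symm)), fun ξ => ?_⟩
  have h1 : Ψ x = 0 := hx
  exact LinearMap.congr_fun h1 ξ

include k in
/-- **Saturation containing a given submodule**: a finite locally free submodule `G ⊂ E` of rank `s` is contained in a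
rank `s` submodule `G₁ ⊂ E` with finite locally free cokernel. -/
theorem exists_saturation (hP : PIDStalks X) (hdim : topologicalKrullDim X ≤ 1) {G E : X.Modules} {s r : ℕ}
    (hG : FlatMod.IsFinLocFreeOfRank s G) (hE : FlatMod.IsFinLocFreeOfRank r E) (ι : G ⟶ E) [Mono ι] :
    ∃ (G₁ : X.Modules) (l : G ⟶ G₁) (ι₁ : G₁ ⟶ E) (t : ℕ), Mono ι₁ ∧ l ≫ ι₁ = ι ∧
      FlatMod.IsFinLocFreeOfRank s G₁ ∧ r = s + t ∧ FlatMod.IsFinLocFreeOfRank t (cokernel ι₁) := by
  haveI := Groth.Agent.Lib.Lead.CurveEuler.isNoetherian k X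
  have hEc := Groth.Agent.Lib.Lead.RankAdd.isCoh_of_isFinLocFreeOfRank hE
  let P : ℤ → Prop := fun d => ∃ (G' : X.Modules) (l : G ⟶ G') (ι' : G' ⟶ E), Mono ι' ∧ l ≫ ι' = ι ∧
    FlatMod.IsFinLocFreeOfRank s G' ∧ Curv2.deg k X G' s = d
  obtain ⟨d₁, ⟨G₁, l₁, ι₁, hm₁, hl₁, hG₁, hd₁⟩, hmax⟩ := Int.exists_greatest_of_bdd (P := P)
    ⟨(finrank k (Coh.HH X E 0) : ℤ) - (s : ℤ) * Curv2.euler k X (Coh.structureModule X), by
      rintro d ⟨G', l, ι', hm', -, hG', rfl⟩
      haveI := hm'
      exact deg_le_of_mono k X hdim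
        (Groth.Agent.Lib.Lead.RankAdd.isCoh_of_isFinLocFreeOfRank hG').1 hEc ι' s⟩
    ⟨_, G, 𝟙 G, ι, inferInstance, Category.id_comp _, hG, rfl⟩
  haveI := hm₁
  have hQ : FlatMod.IsFinLocFree (cokernel ι₁) := by
    by_contra hQ
    obtain ⟨G', l', ι', hm', hl', hG', hni⟩ := exists_enlarge hP hG₁ hE ι₁ hQ
    haveI := hm'
    haveI : Mono l' := mono_of_mono_fac hl'
    have hlt : Curv2.deg k X G₁ s < Curv2.deg k X G' s :=
      lt_of_le_of_ne (deg_le k X hdim hG₁ hG' l')
        (fun h => hni (isIso_of_deg_eq k X hdim hG₁ hG' l' h))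
    have h2 := hmax _ ⟨G', l₁ ≫ l', ι', hm', by rw [Category.assoc, hl', hl₁], hG', rfl⟩
    rw [← hd₁] at h2
    exact absurd h2 (not_le.mpr hlt)
  obtain ⟨t, ht⟩ := exists_rank_of_isFinLocFree hQ
  have hS := shortExact_cokernel X ι₁
  have hrk : r = s + t := Groth.Agent.Lib.Lead.RankAdd.rank_add_of_shortExact _ hS s r t hG₁ hE ht
  exact ⟨G₁, l₁, ι₁, t, hm₁, hl₁, hG₁, hrk, ht⟩

end curve

section algClosed

variable (k : Type u) [Field k] [IsAlgClosed k] (X : Scheme.{u}) [X.Over (Spec (CommRingCat.of k))]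
  [IsProper (X ↘ Spec (CommRingCat.of k))] [IsIntegral X]

include k in
open Groth.Agent.Lib.helper11.InvMod in
/-- **Invertible quotients carrying `H¹`** (duality-free substitute for `H¹(E)^∨ = Hom(E, ω)`): on an integral proper
curve with PID stalks over an algebraically closed field, a finite locally free module `E` with `H¹(E) ≠ 0` has an
invertible quotient `M` with `H¹(M) ≠ 0`. -/
theorem exists_invertible_quotient_of_H1_nontrivial (hP : PIDStalks X) (hdim : topologicalKrullDim X = 1) :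
    ∀ (r : ℕ) (E : X.Modules), FlatMod.IsFinLocFreeOfRank r E → Nontrivial (Coh.HH X E 1) →
      ∃ (M : X.Modules) (π : E ⟶ M), Epi π ∧ PicF.IsInvertible M ∧ Nontrivial (Coh.HH X M 1) := by
  haveI := Groth.Agent.Lib.Lead.CurveEuler.isNoetherian k X
  have h0 := finrank_H0_structureModule_eq_one k X
  intro r
  induction r using Nat.strong_induction_on with
  | _ r ih =>
  intro E hE h1
  rcases r with _ | _ | r
  · exfalso
    have hz := isZero_of_isFinLocFreeOfRank_zero hE
    have := subsingleton_HH_of_isZero hz 1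
    exact not_subsingleton _ this
  · exact ⟨E, 𝟙 E, inferInstance,
      (Groth.Agent.Lib.helper16.FLF.isInvertible_iff_isFinLocFreeOfRank_one _).mpr hE, h1⟩
  · -- rank `r + 2`
    have hEc := Groth.Agent.Lib.Lead.RankAdd.isCoh_of_isFinLocFreeOfRank hE
    haveI : Module.Free k (Coh.HH X E 1) := Module.Free.of_divisionRing k _
    haveI : Module.Projective k (Coh.HH X E 1) := Module.Projective.of_free
    obtain ⟨v, hv⟩ := exists_ne (0 : Coh.HH X E 1)
    obtain ⟨lam, hlam⟩ : ∃ lam : Module.Dual k (Coh.HH X E 1), lam v ≠ 0 := by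
      by_contra hcon
      push Not at hcon
      exact hv ((Module.forall_dual_apply_eq_zero_iff k v).mp hcon)
    -- the twisting module
    set g : ℤ := (Curv2.genus k X : ℤ) with hg
    set d : ℤ := Curv2.deg k X E (r + 2) with hd
    set n : ℤ := |d| + ((r : ℤ) + 3) * g + 1 with hn
    have hg0 : 0 ≤ g := Int.natCast_nonneg _
    have hn1 : 1 ≤ n := by
      have := abs_nonneg d
      have : 0 ≤ ((r : ℤ) + 3) * g := mul_nonneg (by positivity) hg0
      linarith
    obtain ⟨N, hN, hdN⟩ := exists_invertible_deg k X hP hdim n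
    obtain ⟨A, hA, hNA, hAN⟩ := Groth.Agent.Lib.helper12.InvDual.exists_inverse hN
    obtain ⟨ε⟩ := hNA
    obtain ⟨e⟩ := hAN
    have hdA : Curv2.deg k X A 1 = -n := by
      have := deg_add_deg_of_isInverseOf k X hdim.le hN hA ⟨e⟩
      linarith
    have hAc := Groth.Agent.Lib.Lead.CurveInv.isCoh_of_isInvertible X hA
    obtain ⟨hENr, hENd⟩ := deg_tensor_invertible k X hdim.le hE hN
    have hENc := Groth.Agent.Lib.Lead.RankAdd.isCoh_of_isFinLocFreeOfRank hENr
    -- `h⁰(A) = 0`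
    have hA0 : finrank k (Coh.HH X A 0) = 0 := by
      by_contra hne
      obtain ⟨s, hs⟩ := Groth.Agent.Lib.Lead.CurveSec.exists_hom_ne_zero_of_finrank_pos k X A
        (Nat.pos_of_ne_zero hne)
      have := Groth.Agent.Lib.Lead.CurveInv.deg_le k X hdim.le (isInvertible_structureModule X) hA s hs
      rw [Groth.Agent.Lib.Lead.CurveEuler.deg_structureModule k X, hdA] at this
      linarith
    have hrrA := Groth.Agent.Lib.Lead.CurveEuler.riemann_roch' k X hdim.le h0 A hAc.1 1
    have hrrE := Groth.Agent.Lib.Lead.CurveEuler.riemann_roch' k X hdim.le h0 _ hENc.1 (r + 2)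
    rw [hENd, hdN, ← hd] at hrrE
    rw [hdA, hA0] at hrrA
    have hlt : finrank k (Coh.HH X A 1) < finrank k (Coh.HH X (CohB1.tensorMod E N) 0) := by
      have h3 : (0 : ℤ) ≤ (finrank k (Coh.HH X (CohB1.tensorMod E N) 1) : ℤ) := Int.natCast_nonneg _
      have h4 : -d ≤ |d| := neg_le_abs d
      have h5 : (0 : ℤ) ≤ (r : ℤ) := Int.natCast_nonneg _
      have h6 : n ≤ ((r : ℤ) + 1) * n := by nlinarith
      push_cast at hrrA hrrE
      have : (finrank k (Coh.HH X A 1) : ℤ) < (finrank k (Coh.HH X (CohB1.tensorMod E N) 0) : ℤ) := by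
        nlinarith
      exact_mod_cast this
    obtain ⟨φ, hφ0, hφ⟩ := exists_hom_ne_zero_comp_eq_zero k X e ε E hAc hENc hlt lam
    -- `φ` is a monomorphism
    have hA1 := (Groth.Agent.Lib.helper16.FLF.isInvertible_iff_isFinLocFreeOfRank_one _).mp hA
    haveI : Mono φ := by
      obtain ⟨rK, rI, -, -, hrr, -, hpos, hmono, -⟩ := kernel_image_data k X hP hA1 hE φ
      have := hpos hφ0
      exact hmono (by omega)
    obtain ⟨A₁, l, ι₁, t, hm₁, hl, hA₁, hrk, hQ⟩ := exists_saturation k X hP hdim.le hA1 hE φ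
    haveI := hm₁
    haveI : Mono l := mono_of_mono_fac hl
    have hsurj : Function.Surjective (HH.map l 1) :=
      HH.surjective_map_f (shortExact_cokernel X l) 1 (subsingleton_HH_cokernel k X hdim.le hA1 hA₁ l 0)
    have hQ1 : Nontrivial (Coh.HH X (cokernel ι₁) 1) := by
      by_contra hcon
      rw [not_nontrivial_iff_subsingleton] at hcon
      obtain ⟨w, hw⟩ := HH.surjective_map_f (shortExact_cokernel X ι₁) 1 hcon v
      obtain ⟨u, hu⟩ := hsurj w
      apply hlam
      have h2 := hφ u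
      rw [← hl, HH.map_comp_apply, hu] at h2
      rw [← hw]
      exact h2
    have ht : t = r + 1 := by omega
    subst ht
    obtain ⟨M, π, hπ, hM, hM1⟩ := ih (r + 1) (by omega) _ hQ hQ1
    haveI := hπ
    exact ⟨M, cokernel.π ι₁ ≫ π, epi_comp _ _, hM, hM1⟩

/-- a bundle `E` of rank `r + 1` with `H¹(E) ≠ 0` has a submodule `K` of rank `r`, with invertible quotient, such that
`deg E ≤ deg K + 2g − 2` -/
theorem exists_sub_of_H1_nontrivial (hP : PIDStalks X) (hdim : topologicalKrullDim X = 1) {r : ℕ} {E : X.Modules}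
    (hE : FlatMod.IsFinLocFreeOfRank (r + 1) E) (h1 : Nontrivial (Coh.HH X E 1)) :
    ∃ (K : X.Modules) (ι : K ⟶ E), Mono ι ∧ FlatMod.IsFinLocFreeOfRank r K ∧
      Curv2.deg k X E (r + 1) ≤ Curv2.deg k X K r + (2 * (Curv2.genus k X : ℤ) - 2) := by
  haveI := Groth.Agent.Lib.Lead.CurveEuler.isNoetherian k X
  have h0 := finrank_H0_structureModule_eq_one k X
  obtain ⟨M, π, hπ, hM, hM1⟩ := exists_invertible_quotient_of_H1_nontrivial k X hP hdim _ E hE h1
  haveI := hπ
  have hdM := deg_le_of_H1_nontrivial k X hdim.le h0 hM hM1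
  have hM1' := (Groth.Agent.Lib.helper16.FLF.isInvertible_iff_isFinLocFreeOfRank_one _).mp hM
  have hEc := Groth.Agent.Lib.Lead.RankAdd.isCoh_of_isFinLocFreeOfRank hE
  have hMc := Groth.Agent.Lib.Lead.CurveInv.isCoh_of_isInvertible X hM
  have hKc : Coh.IsCoh (kernel π) := Groth.Agent.Lib.helper7.CohKer.isCoh_kernel hEc hMc π
  have hK := isFinLocFree_of_mono hP hKc
    (Groth.Agent.Lib.helper16.FLF.isFinLocFree_of_isFinLocFreeOfRank hE) (kernel.ι π)
  obtain ⟨rK, hrK⟩ := exists_rank_of_isFinLocFree hK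
  have hS : (ShortComplex.mk (kernel.ι π) π (kernel.condition π)).ShortExact :=
    { exact := ShortComplex.exact_kernel π
      mono_f := inferInstanceAs (Mono (kernel.ι π))
      epi_g := inferInstanceAs (Epi π) }
  have hrk : r + 1 = rK + 1 :=
    Groth.Agent.Lib.Lead.RankAdd.rank_add_of_shortExact _ hS rK (r + 1) 1 hrK hE hM1'
  have hrr : rK = r := by omega
  subst hrr
  have hdeg := Groth.Agent.Lib.Lead.ProperEuler.deg_additive k hS hKc hMc rK (rK + 1) 1 rfl
  refine ⟨kernel π, kernel.ι π, inferInstance, hrK, ?_⟩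
  simp only at hdeg
  linarith

end algClosed

end Groth.Agent.Lib.Lead.VBCurve
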