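import Mathlib
import Groth.Agent.Lib.Lead.VBCurve24

/-!
# Bounds for `h⁰` of bundles with bounded sub-slopes; twists of globally generated bundles (lead)

`X` an integral proper curve with PID stalks over an algebraically closed field `k`, of genus `g`.
* `kernel_data_of_epi`: the kernel of an epimorphism from a rank `r + 1` bundle onto an invertible module is a rank `r`
  bundle, with additive degrees.
* `finrank_H0_mul_le`: if all subbundles `H ⊂ G` have `deg H · r ≤ D · rk H` and `2 g r ≤ D + r (1 - g)`, then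
  `h⁰(G) · r ≤ rk G · (D + r (1 - g))`.
* `deg_nonneg_of_epi_freeMod`: an invertible quotient of `O^N` has degree `≥ 0`.
* `subsingleton_H1_tensor_of_epi_freeMod`: `H¹(F ⊗ N) = 0` for a bundle quotient `F` of `O^m` and `N` invertible of
  degree `> 2g - 2`.
-/

set_option autoImplicit false
set_option linter.style.haveILetI false
set_option linter.unusedSectionVars false
set_option backward.isDefEq.respectTransparency false
universe u
open CategoryTheory CategoryTheory.Limits AlgebraicGeometry Opposite TopologicalSpace Module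

namespace Groth.Agent.Lib.Lead.VBCurve

open Groth.Agent.Lib.Lead.ModTensor Groth.Agent.Lib.Helper20.TensorEquiv Groth.Agent.Lib.Helper18
open Groth.Agent.Lib.helper9.CurveVanish

section curve

variable (k : Type u) [Field k] (X : Scheme.{u}) [X.Over (Spec (CommRingCat.of k))]
  [IsProper (X ↘ Spec (CommRingCat.of k))] [IsIntegral X]

/-- the kernel of an epimorphism from a bundle of rank `r + 1` onto an invertible module -/
theorem kernel_data_of_epi (hP : PIDStalks X) {r : ℕ} {E M : X.Modules}
    (hE : FlatMod.IsFinLocFreeOfRank (r + 1) E) (hM : PicF.IsInvertible M) (π : E ⟶ M) [Epi π] :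
    (ShortComplex.mk (kernel.ι π) π (kernel.condition π)).ShortExact ∧
      FlatMod.IsFinLocFreeOfRank r (kernel π) ∧
      Curv2.deg k X E (r + 1) = Curv2.deg k X (kernel π) r + Curv2.deg k X M 1 := by
  haveI := Groth.Agent.Lib.Lead.CurveEuler.isNoetherian k X
  have hM1' := (Groth.Agent.Lib.helper16.FLF.isInvertible_iff_isFinLocFreeOfRank_one _).mp hM
  have hEc := Groth.Agent.Lib.Lead.RankAdd.isCoh_of_isFinLocFreeOfRank hE
  have hMc := Groth.Agent.Lib.Lead.CurveInv.isCoh_of_isInvertible X hM
  have hKc : Coh.IsCoh (kernel π) := Groth.Agent.Lib.helper7.CohKer.isCoh_kernel hEc hMc π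
  have hK := isFinLocFree_of_mono hP hKc
    (Groth.Agent.Lib.helper16.FLF.isFinLocFree_of_isFinLocFreeOfRank hE) (kernel.ι π)
  obtain ⟨rK, hrK⟩ := exists_rank_of_isFinLocFree hK
  have hS : (ShortComplex.mk (kernel.ι π) π (kernel.condition π)).ShortExact :=
    { exact := ShortComplex.exact_kernel π
      mono_f := inferInstanceAs (Mono (kernel.ι π))
      epi_g := inferInstanceAs (Epi π) }
  have hrk : r + 1 = rK + 1 :=
    Groth.Agent.Lib.Lead.RankAdd.rank_add_of_shortExact _ hS rK (r + 1) 1 hrK hE hM1'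
  have hrr : rK = r := by omega
  subst hrr
  have hdeg := Groth.Agent.Lib.Lead.ProperEuler.deg_additive k hS hKc hMc rK (rK + 1) 1 rfl
  exact ⟨hS, hrK, hdeg⟩

open Groth.Agent.Lib.helper11.InvMod in
/-- an invertible quotient of `O^N` has nonnegative degree -/
theorem deg_nonneg_of_epi_freeMod (hdim : topologicalKrullDim X ≤ 1) {N : ℕ} {M : X.Modules}
    (hM : PicF.IsInvertible M) (p : FlatMod.freeMod X N ⟶ M) [Epi p] : 0 ≤ Curv2.deg k X M 1 := by
  obtain ⟨j, hj⟩ : ∃ j : Fin N, Sigma.ι (fun _ : Fin N => Coh.structureModule X) j ≫ p ≠ 0 := by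
    by_contra hall
    push Not at hall
    have hp : p = 0 := by
      refine Sigma.hom_ext _ _ (fun j => ?_)
      rw [hall j, comp_zero]
    apply not_isZero_of_isInvertible X hM
    rw [IsZero.iff_id_eq_zero, ← cancel_epi p, hp, zero_comp, zero_comp]
  have := Groth.Agent.Lib.Lead.CurveInv.deg_le k X hdim (isInvertible_structureModule X) hM _ hj
  rw [Groth.Agent.Lib.Lead.CurveEuler.deg_structureModule k X] at this
  exact this

end curve

section algClosed

variable (k : Type u) [Field k] [IsAlgClosed k] (X : Scheme.{u}) [X.Over (Spec (CommRingCat.of k))]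
  [IsProper (X ↘ Spec (CommRingCat.of k))] [IsIntegral X]

open Groth.Agent.Lib.helper11.InvMod in
/-- **`h⁰` bound from sub-slope bounds.** -/
theorem finrank_H0_mul_le (hP : PIDStalks X) (hdim : topologicalKrullDim X = 1) (r : ℕ) (D : ℤ)
    (hD : 2 * (Curv2.genus k X : ℤ) * r ≤ D + r * (1 - (Curv2.genus k X : ℤ))) :
    ∀ (r' : ℕ) (G : X.Modules), FlatMod.IsFinLocFreeOfRank r' G →
      (∀ (H : X.Modules) (n : ℕ) (i : H ⟶ G), Mono i → 0 < n → FlatMod.IsFinLocFreeOfRank n H →
        Curv2.deg k X H n * (r : ℤ) ≤ D * n) →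
      (finrank k (Coh.HH X G 0) : ℤ) * r ≤ r' * (D + r * (1 - (Curv2.genus k X : ℤ))) := by
  haveI := Groth.Agent.Lib.Lead.CurveEuler.isNoetherian k X
  have h0 := finrank_H0_structureModule_eq_one k X
  intro r'
  induction r' with
  | zero =>
    intro G hG _
    have hz := isZero_of_isFinLocFreeOfRank_zero hG
    haveI := subsingleton_HH_of_isZero hz 0
    rw [finrank_zero_of_subsingleton]
    simp
  | succ r' ih =>
    intro G hG hsub
    have hGc := Groth.Agent.Lib.Lead.RankAdd.isCoh_of_isFinLocFreeOfRank hG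
    have hrr := Groth.Agent.Lib.Lead.CurveEuler.riemann_roch' k X hdim.le h0 G hGc.1 (r' + 1)
    rcases subsingleton_or_nontrivial (Coh.HH X G 1) with h1 | h1
    · have hz1 : finrank k (Coh.HH X G 1) = 0 := finrank_zero_of_subsingleton
      rw [hz1] at hrr
      have h2 := hsub G (r' + 1) (𝟙 G) inferInstance (Nat.succ_pos _) hG
      push_cast at hrr h2 ⊢
      have h3 : (finrank k (Coh.HH X G 0) : ℤ) =
          Curv2.deg k X G (r' + 1) + ((r' : ℤ) + 1) * (1 - (Curv2.genus k X : ℤ)) := by linarith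
      rw [h3]
      nlinarith
    · obtain ⟨M, π, hπ, hM, hM1⟩ :=
        exists_invertible_quotient_of_H1_nontrivial k X hP hdim _ G hG h1
      haveI := hπ
      obtain ⟨hS, hK, -⟩ := kernel_data_of_epi k X hP hG hM π
      have hdM := deg_le_of_H1_nontrivial k X hdim.le h0 hM hM1
      have hMc := Groth.Agent.Lib.Lead.CurveInv.isCoh_of_isInvertible X hM
      have hKc := Groth.Agent.Lib.Lead.RankAdd.isCoh_of_isFinLocFreeOfRank hK
      have hadd := finrank_H0_le_add k X hS hKc hGc hMc
      simp only at hadd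
      -- `h⁰(M) ≤ 2g`
      have hM0 : (finrank k (Coh.HH X M 0) : ℤ) ≤ 2 * (Curv2.genus k X : ℤ) := by
        rcases Nat.eq_zero_or_pos (finrank k (Coh.HH X M 0)) with hz | hpos
        · rw [hz]
          have : (0 : ℤ) ≤ (Curv2.genus k X : ℤ) := Int.natCast_nonneg _
          push_cast
          linarith
        · obtain ⟨s, hs⟩ := Groth.Agent.Lib.Lead.CurveSec.exists_hom_ne_zero_of_finrank_pos k X M hpos
          have := Groth.Agent.Lib.Lead.CurveSec.finrank_H0_le k X hdim.le hM s hs
          rw [h0] at this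
          push_cast at this
          linarith
      have hK0 := ih (kernel π) hK (fun H n i hi hn hH => by
        haveI := hi
        exact hsub H n (i ≫ kernel.ι π) (mono_comp _ _) hn hH)
      have hadd' : (finrank k (Coh.HH X G 0) : ℤ) ≤
          (finrank k (Coh.HH X (kernel π) 0) : ℤ) + (finrank k (Coh.HH X M 0) : ℤ) := by
        exact_mod_cast hadd
      have hr0 : (0 : ℤ) ≤ (r : ℤ) := Int.natCast_nonneg _
      push_cast
      nlinarith

/-- `H¹(F ⊗ N) = 0` for a bundle `F` which is a quotient of `O^m` and `N` invertible of degree `> 2g - 2` -/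
theorem subsingleton_H1_tensor_of_epi_freeMod (hP : PIDStalks X) (hdim : topologicalKrullDim X = 1)
    {r m : ℕ} {F N : X.Modules} (hF : FlatMod.IsFinLocFreeOfRank r F) (q : FlatMod.freeMod X m ⟶ F) [Epi q]
    (hN : PicF.IsInvertible N) (hdeg : 2 * (Curv2.genus k X : ℤ) - 2 < Curv2.deg k X N 1) :
    Subsingleton (Coh.HH X (CohB1.tensorMod F N) 1) := by
  have h0 := finrank_H0_structureModule_eq_one k X
  by_contra hcon
  rw [not_subsingleton_iff_nontrivial] at hcon
  obtain ⟨hFN, -⟩ := deg_tensor_invertible k X hdim.le hF hN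
  obtain ⟨M, π, hπ, hM, hM1⟩ :=
    exists_invertible_quotient_of_H1_nontrivial k X hP hdim _ _ hFN hcon
  haveI := hπ
  have hdM := deg_le_of_H1_nontrivial k X hdim.le h0 hM hM1
  obtain ⟨A, hA, hNA, hAN⟩ := Groth.Agent.Lib.helper12.InvDual.exists_inverse hN
  obtain ⟨ε⟩ := hNA
  obtain ⟨e⟩ := hAN
  haveI : Epi (tensorMap π (𝟙 A)) := epi_tensorMap e π
  let p : FlatMod.freeMod X m ⟶ CohB1.tensorMod M A :=
    q ≫ (untwist ε F).inv ≫ tensorMap π (𝟙 A)
  haveI : Epi p := epi_comp _ _
  have hMA := Groth.Agent.Lib.helper12.TensorInv.isInvertible_tensorMod hM hA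
  have h1 := deg_nonneg_of_epi_freeMod k X hdim.le hMA p
  rw [Groth.Agent.Lib.helper9.CurveDegAdd.deg_tensorMod k X hdim.le hM hA] at h1
  have h2 := deg_add_deg_of_isInverseOf k X hdim.le hN hA ⟨e⟩
  linarith

end algClosed

end Groth.Agent.Lib.Lead.VBCurve
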