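import Mathlib
import Groth.Agent.Lib.Lead.VBCurve25
import Groth.Agent.Lib.Lead.TorsPure
import Groth.Agent.Lib.Helper11.IdealGG2
import Groth.Agent.Lib.Helper8.StalkExact

/-!
# Global generation of bundles on curves via elementary modifications (lead)

`X` an integral proper curve with PID stalks over an algebraically closed field `k`.
* `TorsOn U W`: all stalks of `W` at points of the open `U` vanish; calculus (`of_epi`, `of_mono`, vanishing of `H^{n+1}`,
  additivity and positivity of `h⁰`).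
* `exists_simple_quotient`: a nonzero coherent module `T` with `TorsOn U T` (`U ≠ ∅`) has a coherent quotient `S` with
  `TorsOn U S` and `h⁰(S) = 1`.
* `exists_invertible_quotient`: every bundle of positive rank has an invertible quotient.
* `exists_finite_sections_map`: a map `c : O^m ⟶ E` through which every section `O ⟶ E` factors.
* `exists_modification_of_not_epi`: if `c : O^m ⟶ E` is not an epimorphism, it factors through a submodule `E'' ⊂ E`
  of the same rank and of degree `deg E - 1`.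
* `isGloballyGenerated_of_modifications`: if `H¹(E) = 0` and `H¹(E'') = 0` for all such `E''`, then `E` is globally
  generated.
-/

set_option autoImplicit false
set_option linter.style.haveILetI false
set_option linter.unusedSectionVars false
set_option backward.isDefEq.respectTransparency false
universe u
open CategoryTheory CategoryTheory.Limits AlgebraicGeometry Opposite TopologicalSpace Module

namespace Groth.Agent.Lib.Lead.VBCurve

open Groth.Agent.Lib.Lead.ModTensor Groth.Agent.Lib.Helper20.TensorEquiv Groth.Agent.Lib.Helper18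
open Groth.Agent.Lib.helper9.CurveVanish Groth.Agent.Lib.helper17.FlatOver7
open Groth.Agent.Lib.Helper20.SplitH1

section general

variable {X : Scheme.{u}}

/-- all stalks of `W` at points of `U` vanish -/
def TorsOn (U : X.Opens) (W : X.Modules) : Prop := ∀ x ∈ U, Subsingleton (W.presheaf.stalk x)

theorem TorsOn.of_epi {U : X.Opens} {W S : X.Modules} (h : TorsOn U W) (q : W ⟶ S) [Epi q] :
    TorsOn U S := by
  intro x hx
  haveI := h x hx
  refine ⟨fun a b => ?_⟩
  obtain ⟨a', rfl⟩ := Groth.Agent.Lib.helper25.StalkEpi.stalkAdd_surjective_of_epi q x a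
  obtain ⟨b', rfl⟩ := Groth.Agent.Lib.helper25.StalkEpi.stalkAdd_surjective_of_epi q x b
  rw [Subsingleton.elim a' b']

theorem TorsOn.of_mono {U : X.Opens} {W T : X.Modules} (h : TorsOn U W) (j : T ⟶ W) [Mono j] :
    TorsOn U T := by
  intro x hx
  haveI := h x hx
  exact (Groth.Agent.Lib.helper8.StalkLen.stalkAdd_injective_of_mono j x).subsingleton

theorem TorsOn.sections {U : X.Opens} {W : X.Modules} (h : TorsOn U W) (O : X.Opens) (hO : O ≤ U) :
    Subsingleton Γ(W, O) :=
  subsingleton_sections_of_stalks W O (fun x hx => h x (hO hx))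

end general

section curve

variable (k : Type u) [Field k] (X : Scheme.{u}) [X.Over (Spec (CommRingCat.of k))]
  [IsProper (X ↘ Spec (CommRingCat.of k))] [IsIntegral X]

include k in
theorem TorsOn.subsingleton_HH (hdim : topologicalKrullDim X ≤ 1) {U : X.Opens}
    (hU : (U : Set X).Nonempty) {W : X.Modules} (h : TorsOn U W) (n : ℕ) :
    Subsingleton (Coh.HH X W (n + 1)) := by
  haveI := Groth.Agent.Lib.Lead.CurveEuler.isNoetherian k X
  exact Groth.Agent.Lib.Lead.DimOneVanish.subsingleton_HH_of_sections_vanish W U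
    (fun x hx => Groth.Agent.Lib.Lead.CurveInv.isClosed_singleton_of_not_mem hdim U hU x hx)
    (fun O hO => h.sections O hO) n

theorem TorsOn.euler_eq (hdim : topologicalKrullDim X ≤ 1) {U : X.Opens}
    (hU : (U : Set X).Nonempty) {W : X.Modules} (h : TorsOn U W) :
    Curv2.euler k X W = (finrank k (Coh.HH X W 0) : ℤ) := by
  rw [Groth.Agent.Lib.Helper18.HH.euler_eq_sum k W 0 (fun i hi => by
    obtain ⟨m, rfl⟩ : ∃ m, i = m + 1 := ⟨i - 1, by omega⟩
    exact h.subsingleton_HH k X hdim hU m)]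
  simp

theorem TorsOn.finrank_H0_add (hdim : topologicalKrullDim X ≤ 1) {U : X.Opens}
    (hU : (U : Set X).Nonempty) {S : ShortComplex X.Modules} (hS : S.ShortExact)
    (h₁ : Coh.IsCoh S.X₁) (h₃ : Coh.IsCoh S.X₃)
    (t₁ : TorsOn U S.X₁) (t₂ : TorsOn U S.X₂) (t₃ : TorsOn U S.X₃) :
    finrank k (Coh.HH X S.X₂ 0) = finrank k (Coh.HH X S.X₁ 0) + finrank k (Coh.HH X S.X₃ 0) := by
  have h := Groth.Agent.Lib.Lead.ProperEuler.euler_additive k hS h₁ h₃
  rw [t₁.euler_eq k X hdim hU, t₂.euler_eq k X hdim hU, t₃.euler_eq k X hdim hU] at h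
  exact_mod_cast h

theorem TorsOn.finrank_H0_pos (hdim : topologicalKrullDim X ≤ 1) {U : X.Opens}
    (hU : (U : Set X).Nonempty) {W : X.Modules} (hW : Coh.IsCoh W) (h : TorsOn U W) (hne : ¬ IsZero W) :
    0 < finrank k (Coh.HH X W 0) := by
  haveI := Groth.Agent.Lib.Lead.CurveEuler.isNoetherian k X
  haveI : Module.Finite k (Coh.HH X W 0) := Groth.Agent.Lib.Lead.ProperEuler.finite_HH k X _ hW 0
  by_contra hcon
  apply hne
  have h0 : finrank k (Coh.HH X W 0) = 0 := by omega
  haveI : Subsingleton (Coh.HH X W 0) := Module.finrank_zero_iff.mp h0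
  have htop : Subsingleton Γ(W, ⊤) := by
    refine ⟨fun a b => ?_⟩
    have ha : a = HH.equiv₀ W ((HH.equiv₀ W).symm a) := (LinearEquiv.apply_symm_apply _ _).symm
    have hb : b = HH.equiv₀ W ((HH.equiv₀ W).symm b) := (LinearEquiv.apply_symm_apply _ _).symm
    rw [ha, hb, Subsingleton.elim ((HH.equiv₀ W).symm a) ((HH.equiv₀ W).symm b)]
  exact Groth.Agent.Lib.Lead.DimOneVanish.isZero_of_sections_vanish W U
    (fun x hx => Groth.Agent.Lib.Lead.CurveInv.isClosed_singleton_of_not_mem hdim U hU x hx)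
    (fun O hO => h.sections O hO) htop

open Groth.Agent.Lib.helper11.InvMod in
/-- **Simple quotients of torsion modules.** -/
theorem exists_simple_quotient [IsAlgClosed k] (hP : PIDStalks X) (hdim : topologicalKrullDim X = 1)
    (U : X.Opens) (hU : (U : Set X).Nonempty) :
    ∀ (n : ℕ) (T : X.Modules), Coh.IsCoh T → TorsOn U T → finrank k (Coh.HH X T 0) = n → ¬ IsZero T →
      ∃ (S : X.Modules) (q : T ⟶ S), Epi q ∧ Coh.IsCoh S ∧ TorsOn U S ∧
        finrank k (Coh.HH X S 0) = 1 := by
  haveI := Groth.Agent.Lib.Lead.CurveEuler.isNoetherian k X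
  have hO := isInvertible_structureModule X
  have hO1 := (Groth.Agent.Lib.helper16.FLF.isInvertible_iff_isFinLocFreeOfRank_one _).mp hO
  have hOc := Groth.Agent.Lib.Lead.RankAdd.isCoh_of_isFinLocFreeOfRank hO1
  intro n
  induction n using Nat.strong_induction_on with
  | _ n ih =>
  intro T hT hTU hn hne
  have hpos := hTU.finrank_H0_pos k X hdim.le hU hT hne
  rcases Nat.lt_or_ge 1 n with h2 | h1
  swap
  · exact ⟨T, 𝟙 T, inferInstance, hT, hTU, by omega⟩
  obtain ⟨t, ht⟩ := Groth.Agent.Lib.Lead.CurveSec.exists_hom_ne_zero_of_finrank_pos k X T hpos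
  by_cases hj : IsIso (Abelian.image.ι t)
  · -- cyclic case
    haveI := hj
    haveI : Epi t := by
      rw [← Abelian.image.fac t]
      exact epi_comp _ _
    haveI : T.IsQuasicoherent := hT.1
    haveI : (Coh.structureModule X).IsQuasicoherent := hOc.1
    haveI : CompactSpace X := Groth.Agent.Lib.Lead.ProperEuler.compactSpace k X
    obtain ⟨p, hp, q, hq⟩ := exists_skyscraper_quotient_of_epi t hne
    haveI : Epi q := by
      haveI : Epi (t ≫ q) := by
        rw [hq]
        infer_instance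
      exact epi_of_epi t q
    obtain ⟨hI1, hId⟩ := idealMod_closedPoint k X hP hdim hp
    have hIc := Groth.Agent.Lib.Lead.RankAdd.isCoh_of_isFinLocFreeOfRank hI1
    haveI : Mono (ClSub.idealModι (Scheme.IdealSheafData.vanishingIdeal ⟨{p}, hp⟩)) :=
      inferInstanceAs (Mono (kernel.ι _))
    refine ⟨skyMod hp, q, inferInstance,
      Groth.Agent.Lib.helper7.CohKer.isCoh_cokernel hIc hOc _, hTU.of_epi q, ?_⟩
    have h3 := deg_sub_deg k X hdim.le hI1 hO1
      (ClSub.idealModι (Scheme.IdealSheafData.vanishingIdeal ⟨{p}, hp⟩))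
    rw [hId, Groth.Agent.Lib.Lead.CurveEuler.deg_structureModule k X] at h3
    have h4 : (finrank k (Coh.HH X (skyMod hp) 0) : ℤ) = 1 := by
      rw [← h3]
      norm_num
    exact_mod_cast h4
  · -- the image of `t` is a proper nonzero submodule
    have hQc : Coh.IsCoh (cokernel t) := Groth.Agent.Lib.helper7.CohKer.isCoh_cokernel hOc hT t
    have hIc : Coh.IsCoh (Abelian.image t) :=
      Groth.Agent.Lib.helper7.CohKer.isCoh_kernel hT hQc (cokernel.π t)
    have hT2c : Coh.IsCoh (cokernel (Abelian.image.ι t)) :=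
      Groth.Agent.Lib.helper7.CohKer.isCoh_cokernel hIc hT _
    have hS := shortExact_cokernel X (Abelian.image.ι t)
    have hT1U : TorsOn U (Abelian.image t) := hTU.of_mono (Abelian.image.ι t)
    have hT2U : TorsOn U (cokernel (Abelian.image.ι t)) := hTU.of_epi (cokernel.π (Abelian.image.ι t))
    have hT2ne : ¬ IsZero (cokernel (Abelian.image.ι t)) := by
      intro hz
      apply hj
      haveI : Epi (Abelian.image.ι t) := Preadditive.epi_of_isZero_cokernel _ hz
      exact isIso_of_mono_of_epi _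
    have hT1ne : ¬ IsZero (Abelian.image t) := by
      intro hz
      apply ht
      rw [← Abelian.image.fac t, hz.eq_of_tgt (Abelian.factorThruImage t) 0, zero_comp]
    have hadd := TorsOn.finrank_H0_add k X hdim.le hU hS hIc hT2c hT1U hTU hT2U
    simp only at hadd
    have hp1 := hT1U.finrank_H0_pos k X hdim.le hU hIc hT1ne
    obtain ⟨S, q₂, hq₂, hSc, hSU, hS1⟩ := ih _ (by omega) _ hT2c hT2U rfl hT2ne
    haveI := hq₂
    exact ⟨S, cokernel.π (Abelian.image.ι t) ≫ q₂, epi_comp _ _, hSc, hSU, hS1⟩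

end curve

section sections

variable {X : Scheme.{u}}

theorem secHom_surjective (F : X.Modules) (s : Coh.structureModule X ⟶ F) : ∃ x, secHom F x = s := by
  refine ⟨(HH.equiv₀ F).symm ((s.val.app (op ⊤)).hom (1 : X.ringCatSheaf.obj.obj (op ⊤))), ?_⟩
  apply hom_ext_top
  rw [secHom_top, LinearEquiv.apply_symm_apply]

/-- `secHom` as an additive map -/
noncomputable def secHomAdd (F : X.Modules) : Coh.HH X F 0 →+ (Coh.structureModule X ⟶ F) where
  toFun := secHom F
  map_zero' := (secHom_eq_zero_iff F 0).mpr rfl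
  map_add' := secHom_add F

end sections

section algClosed

variable (k : Type u) [Field k] [IsAlgClosed k] (X : Scheme.{u}) [X.Over (Spec (CommRingCat.of k))]
  [IsProper (X ↘ Spec (CommRingCat.of k))] [IsIntegral X]

include k in
omit [IsAlgClosed k] [IsIntegral X] in
/-- a map `O^m ⟶ E` through which every section of `E` factors -/
theorem exists_finite_sections_map (E : X.Modules) (hE : Coh.IsCoh E) :
    ∃ (m : ℕ) (c : FlatMod.freeMod X m ⟶ E), ∀ s : Coh.structureModule X ⟶ E,
      ∃ t : Coh.structureModule X ⟶ FlatMod.freeMod X m, t ≫ c = s := by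
  haveI : Module.Finite k (Coh.HH X E 0) := Groth.Agent.Lib.Lead.ProperEuler.finite_HH k X _ hE 0
  let b := Module.finBasis k (Coh.HH X E 0)
  let c : FlatMod.freeMod X (finrank k (Coh.HH X E 0)) ⟶ E := Sigma.desc (fun i => secHom E (b i))
  refine ⟨_, c, fun s => ?_⟩
  obtain ⟨x, rfl⟩ := secHom_surjective E s
  refine ⟨∑ i, Formal.smulModΓ (Coh.structureModule X)
    (Coh.toGlobal (X ↘ Spec (CommRingCat.of k)) (b.repr x i)) ≫
      Sigma.ι (fun _ : Fin (finrank k (Coh.HH X E 0)) => Coh.structureModule X) i, ?_⟩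
  rw [Preadditive.sum_comp]
  have hx : x = ∑ i, b.repr x i • b i := (b.sum_repr x).symm
  have h1 : secHom E x = ∑ i, secHom E (b.repr x i • b i) := by
    conv_lhs => rw [hx]
    exact map_sum (secHomAdd E) _ _
  rw [h1]
  refine Finset.sum_congr rfl (fun i _ => ?_)
  have h2 : (b.repr x i • b i : Coh.HH X E 0) =
      (Coh.toGlobal (X ↘ Spec (CommRingCat.of k)) (b.repr x i)) • b i := rfl
  rw [h2, secHom_smul, KLin.comp_smulModΓ, Category.assoc]
  congr 1
  exact colimit.ι_desc _ _

include k in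
open Groth.Agent.Lib.helper11.InvMod in
/-- every bundle of positive rank has an invertible quotient -/
theorem exists_invertible_quotient (hP : PIDStalks X) (hdim : topologicalKrullDim X = 1) {r : ℕ}
    {G : X.Modules} (hG : FlatMod.IsFinLocFreeOfRank (r + 1) G) :
    ∃ (M : X.Modules) (π : G ⟶ M), Epi π ∧ PicF.IsInvertible M := by
  have h0 := finrank_H0_structureModule_eq_one k X
  obtain ⟨g, hg⟩ : ∃ g : ℤ, g = (Curv2.genus k X : ℤ) := ⟨_, rfl⟩
  obtain ⟨d, hd⟩ : ∃ d : ℤ, d = Curv2.deg k X G (r + 1) := ⟨_, rfl⟩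
  obtain ⟨n, hn⟩ : ∃ n : ℤ, n = |d| + ((r : ℤ) + 1) * |1 - g| + 1 := ⟨_, rfl⟩
  obtain ⟨A, hA, hdA⟩ := exists_invertible_deg k X hP hdim (-n)
  obtain ⟨N, hN, ⟨ε⟩, ⟨e⟩⟩ := Groth.Agent.Lib.helper12.InvDual.exists_inverse hA
  obtain ⟨hGA, hdGA⟩ := deg_tensor_invertible k X hdim.le hG hA
  have hGAc := Groth.Agent.Lib.Lead.RankAdd.isCoh_of_isFinLocFreeOfRank hGA
  have hrr := Groth.Agent.Lib.Lead.CurveEuler.riemann_roch' k X hdim.le h0 _ hGAc.1 (r + 1)
  rw [hdGA, hdA, ← hd, ← hg] at hrr
  have h1 : Nontrivial (Coh.HH X (CohB1.tensorMod G A) 1) := by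
    by_contra hcon
    rw [not_nontrivial_iff_subsingleton] at hcon
    have hz : finrank k (Coh.HH X (CohB1.tensorMod G A) 1) = 0 := finrank_zero_of_subsingleton
    rw [hz] at hrr
    have h3 : (0 : ℤ) ≤ (finrank k (Coh.HH X (CohB1.tensorMod G A) 0) : ℤ) := Int.natCast_nonneg _
    have h4 : d ≤ |d| := le_abs_self d
    have h5 : 1 - g ≤ |1 - g| := le_abs_self _
    have h6 : (0 : ℤ) ≤ (r : ℤ) := Int.natCast_nonneg _
    have h7 : (0 : ℤ) ≤ |d| := abs_nonneg d
    have h8 : (0 : ℤ) ≤ |1 - g| := abs_nonneg _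
    have h9 : (0 : ℤ) ≤ ((r : ℤ) + 1) * |1 - g| := mul_nonneg (by linarith) h8
    have h10 : ((r : ℤ) + 1) * (1 - g) ≤ ((r : ℤ) + 1) * |1 - g| :=
      mul_le_mul_of_nonneg_left h5 (by linarith)
    have h11 : n ≤ ((r : ℤ) + 1) * n := by nlinarith
    push_cast at hrr
    nlinarith
  obtain ⟨M', π', hπ', hM', -⟩ := exists_invertible_quotient_of_H1_nontrivial k X hP hdim _ _ hGA h1
  haveI := hπ'
  haveI : Epi (tensorMap π' (𝟙 N)) := epi_tensorMap e π'
  exact ⟨CohB1.tensorMod M' N, (untwist ε G).inv ≫ tensorMap π' (𝟙 N), epi_comp _ _,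
    Groth.Agent.Lib.helper12.TensorInv.isInvertible_tensorMod hM' hN⟩

omit [IsIntegral X] [IsAlgClosed k] [IsProper (X ↘ Spec (CommRingCat.of k))] [X.Over (Spec (CommRingCat.of k))] in
theorem torsOn_of_sections_vanish {U : X.Opens} {W : X.Modules}
    (h : ∀ O : X.Opens, O ≤ U → Subsingleton Γ(W, O)) : TorsOn U W := by
  intro x hx
  have key : ∀ m : W.presheaf.stalk x, m = 0 := by
    intro m
    obtain ⟨V, hxV, s, rfl⟩ := W.presheaf.exists_germ_eq m
    have hx' : x ∈ V ⊓ U := ⟨hxV, hx⟩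
    have h2 := TopCat.Presheaf.germ_res_apply W.presheaf (homOfLE (inf_le_left : V ⊓ U ≤ V)) x hx' s
    rw [← h2]
    haveI := h (V ⊓ U) inf_le_right
    rw [Subsingleton.elim (W.presheaf.map (homOfLE (inf_le_left : V ⊓ U ≤ V)).op s) 0, map_zero]
  exact ⟨fun a b => by rw [key a, key b]⟩

include k in
open Groth.Agent.Lib.helper11.InvMod in
/-- **Elementary modification containing the image of a non-surjective `c : O^m ⟶ E`.** -/
theorem exists_modification_of_not_epi (hP : PIDStalks X) (hdim : topologicalKrullDim X = 1) {r m : ℕ}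
    {E : X.Modules} (hE : FlatMod.IsFinLocFreeOfRank (r + 1) E) (c : FlatMod.freeMod X m ⟶ E)
    (hc : ¬ Epi c) :
    ∃ (E'' : X.Modules) (ι'' : E'' ⟶ E) (c'' : FlatMod.freeMod X m ⟶ E''), Mono ι'' ∧ c'' ≫ ι'' = c ∧
      FlatMod.IsFinLocFreeOfRank (r + 1) E'' ∧
      Curv2.deg k X E'' (r + 1) = Curv2.deg k X E (r + 1) - 1 := by
  haveI := Groth.Agent.Lib.Lead.CurveEuler.isNoetherian k X
  have hFree := Groth.Agent.Lib.helper16.FLF.isFinLocFreeOfRank_freeMod X m
  have hEc := Groth.Agent.Lib.Lead.RankAdd.isCoh_of_isFinLocFreeOfRank hE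
  obtain ⟨rK, rI, -, hI, -, -, -, -, -⟩ := kernel_image_data k X hP hFree hE c
  have hIc := Groth.Agent.Lib.Lead.RankAdd.isCoh_of_isFinLocFreeOfRank hI
  have hfac : Abelian.factorThruImage c ≫ Abelian.image.ι c = c := Abelian.image.fac c
  have hnotiso : ¬ IsIso (Abelian.image.ι c) := by
    intro h
    apply hc
    rw [← hfac]
    exact epi_comp _ _
  obtain ⟨K, l, ιK, t, hm, hl, hK, hrk, hG⟩ := exists_saturation k X hP hdim.le hI hE (Abelian.image.ι c)
  haveI := hm
  haveI : Mono l := mono_of_mono_fac hl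
  have hKc := Groth.Agent.Lib.Lead.RankAdd.isCoh_of_isFinLocFreeOfRank hK
  rcases t with _ | t
  · -- the image has full rank
    have hrI : rI = r + 1 := by omega
    subst hrI
    have hz := isZero_of_isFinLocFreeOfRank_zero hG
    haveI : Epi ιK := Preadditive.epi_of_isZero_cokernel _ hz
    haveI : IsIso ιK := isIso_of_mono_of_epi _
    have hlni : ¬ IsIso l := by
      intro h
      apply hnotiso
      rw [← hl]
      infer_instance
    have hTc : Coh.IsCoh (cokernel l) := Groth.Agent.Lib.helper7.CohKer.isCoh_cokernel hIc hKc l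
    obtain ⟨U, hU, h0⟩ := exists_open_sections_cokernel_vanish hI hK l
    have hTU : TorsOn U (cokernel l) := torsOn_of_sections_vanish X h0
    have hTne : ¬ IsZero (cokernel l) := by
      intro hz'
      apply hlni
      haveI : Epi l := Preadditive.epi_of_isZero_cokernel _ hz'
      exact isIso_of_mono_of_epi _
    obtain ⟨S, q, hq, hSc, hSU, hS1⟩ := exists_simple_quotient k X hP hdim U hU _ _ hTc hTU rfl hTne
    haveI := hq
    let ψ : K ⟶ S := cokernel.π l ≫ q
    haveI : Epi ψ := epi_comp _ _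
    have hKerc : Coh.IsCoh (kernel ψ) := Groth.Agent.Lib.helper7.CohKer.isCoh_kernel hKc hSc ψ
    have hKerf := isFinLocFree_of_mono hP hKerc
      (Groth.Agent.Lib.helper16.FLF.isFinLocFree_of_isFinLocFreeOfRank hK) (kernel.ι ψ)
    obtain ⟨n'', hn''⟩ := exists_rank_of_isFinLocFree hKerf
    have hlψ : l ≫ ψ = 0 := by
      change l ≫ cokernel.π l ≫ q = 0
      rw [← Category.assoc, cokernel.condition, zero_comp]
    let l'' : Abelian.image c ⟶ kernel ψ := kernel.lift ψ l hlψ
    have hl'' : l'' ≫ kernel.ι ψ = l := kernel.lift_ι _ _ _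
    haveI : Mono l'' := mono_of_mono_fac hl''
    have hle1 := rank_le_of_mono X hI hn'' l''
    have hle2 := rank_le_of_mono X hn'' hK (kernel.ι ψ)
    have hnn : n'' = r + 1 := by omega
    subst hnn
    have hS : (ShortComplex.mk (kernel.ι ψ) ψ (kernel.condition ψ)).ShortExact :=
      { exact := ShortComplex.exact_kernel ψ
        mono_f := inferInstanceAs (Mono (kernel.ι ψ))
        epi_g := inferInstanceAs (Epi ψ) }
    have heul := Groth.Agent.Lib.Lead.ProperEuler.euler_additive k hS hKerc hSc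
    simp only at heul
    rw [hSU.euler_eq k X hdim.le hU, hS1] at heul
    have hdK := Groth.Agent.Lib.Lead.CurveEuler.deg_eq_of_iso k X (asIso ιK) (r + 1)
    refine ⟨kernel ψ, kernel.ι ψ ≫ ιK, Abelian.factorThruImage c ≫ l'', mono_comp _ _, ?_, hn'', ?_⟩
    · rw [Category.assoc, ← Category.assoc l'', hl'', hl, hfac]
    · rw [← hdK]
      unfold Curv2.deg
      rw [heul]
      push_cast
      ring
  · -- the image has smaller rank: use an invertible quotient of `E / K`
    obtain ⟨M, π, hπ, hM⟩ := exists_invertible_quotient k X hP hdim hG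
    haveI := hπ
    let ρ : E ⟶ M := cokernel.π ιK ≫ π
    haveI : Epi ρ := epi_comp _ _
    obtain ⟨hS, hKer, hdeg⟩ := kernel_data_of_epi k X hP hE hM ρ
    obtain ⟨p, hp⟩ : ∃ p : X, IsClosed ({p} : Set X) := by
      obtain ⟨y, -, hy⟩ := IsClosed.exists_closed_singleton (isClosed_univ (X := X)) Set.univ_nonempty
      exact ⟨y, hy⟩
    obtain ⟨hI1, hId⟩ := idealMod_closedPoint k X hP hdim hp
    obtain ⟨M', hM', ⟨e⟩, -⟩ := Groth.Agent.Lib.helper12.InvDual.exists_inverse hM
    haveI : Mono (ClSub.idealModι (Scheme.IdealSheafData.vanishingIdeal ⟨{p}, hp⟩)) :=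
      inferInstanceAs (Mono (kernel.ι _))
    haveI : Mono (tensorMap (ClSub.idealModι (Scheme.IdealSheafData.vanishingIdeal ⟨{p}, hp⟩)) (𝟙 M)) :=
      mono_tensorMap e _
    let j : CohB1.tensorMod (ClSub.idealMod (Scheme.IdealSheafData.vanishingIdeal ⟨{p}, hp⟩)) M ⟶ M :=
      tensorMap (ClSub.idealModι (Scheme.IdealSheafData.vanishingIdeal ⟨{p}, hp⟩)) (𝟙 M) ≫ (leftUnitor M).hom
    haveI : Mono j := mono_comp _ _
    obtain ⟨hIM, hdIM⟩ := deg_tensor_invertible k X hdim.le hI1 hM
    have hMc := Groth.Agent.Lib.Lead.CurveInv.isCoh_of_isInvertible X hM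
    obtain ⟨P, a, f', g', ha, hfa, -, -, hPr, hPd⟩ :=
      preimage_data k X hP _ hS hMc.1 hKer hE hIM j
    have hc0 : c ≫ ρ = 0 := by
      change c ≫ cokernel.π ιK ≫ π = 0
      rw [← hfac, ← hl]
      simp only [Category.assoc]
      rw [← Category.assoc ιK, cokernel.condition, zero_comp, comp_zero, comp_zero]
    refine ⟨P, a, kernel.lift ρ c hc0 ≫ f', ha, ?_, hPr, ?_⟩
    · rw [Category.assoc, hfa]
      exact kernel.lift_ι _ _ _
    · simp only at hPd
      rw [hPd, hdIM, hId, hdeg]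
      push_cast
      ring

include k in
/-- **Global generation from vanishing of `H¹` of elementary modifications.** -/
theorem isGloballyGenerated_of_modifications (hP : PIDStalks X) (hdim : topologicalKrullDim X = 1) {r : ℕ}
    {E : X.Modules} (hE : FlatMod.IsFinLocFreeOfRank (r + 1) E) (h1 : Subsingleton (Coh.HH X E 1))
    (hmod : ∀ (E'' : X.Modules) (ι'' : E'' ⟶ E), Mono ι'' → FlatMod.IsFinLocFreeOfRank (r + 1) E'' →
      Curv2.deg k X E'' (r + 1) = Curv2.deg k X E (r + 1) - 1 → Subsingleton (Coh.HH X E'' 1)) :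
    Curv2.IsGloballyGenerated E := by
  have h0 := finrank_H0_structureModule_eq_one k X
  have hEc := Groth.Agent.Lib.Lead.RankAdd.isCoh_of_isFinLocFreeOfRank hE
  obtain ⟨m, c, hcs⟩ := exists_finite_sections_map k X E hEc
  by_cases hc : Epi c
  · exact Groth.Agent.Lib.helper11.IdealGG2.isGloballyGenerated_of_epi_freeMod c
  exfalso
  obtain ⟨E'', ι'', c'', hι'', hcc, hE'', hdeg⟩ := exists_modification_of_not_epi k X hP hdim hE c hc
  haveI := hι''
  have h1'' := hmod E'' ι'' hι'' hE'' hdeg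
  have hE''c := Groth.Agent.Lib.Lead.RankAdd.isCoh_of_isFinLocFreeOfRank hE''
  have hsurj : Function.Surjective (HH.mapOver k ι'' 0) := by
    intro x
    obtain ⟨t, ht⟩ := hcs (secHom E x)
    refine ⟨(HH.equiv₀ E'').symm (((t ≫ c'').val.app (op ⊤)).hom (1 : X.ringCatSheaf.obj.obj (op ⊤))), ?_⟩
    change HH.map ι'' 0 _ = x
    rw [HH.equiv₀_symm_naturality]
    apply (HH.equiv₀ E).injective
    rw [LinearEquiv.apply_symm_apply, ← secHom_top E x, ← ht, ← hcc]
    rfl
  haveI : Module.Finite k (Coh.HH X E'' 0) := Groth.Agent.Lib.Lead.ProperEuler.finite_HH k X _ hE''c 0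
  have hle := LinearMap.finrank_le_finrank_of_surjective hsurj
  have hrr := Groth.Agent.Lib.Lead.CurveEuler.riemann_roch' k X hdim.le h0 E hEc.1 (r + 1)
  have hrr'' := Groth.Agent.Lib.Lead.CurveEuler.riemann_roch' k X hdim.le h0 E'' hE''c.1 (r + 1)
  have hz : finrank k (Coh.HH X E 1) = 0 := finrank_zero_of_subsingleton
  have hz'' : finrank k (Coh.HH X E'' 1) = 0 := finrank_zero_of_subsingleton
  rw [hz] at hrr
  rw [hz'', hdeg] at hrr''
  have hle' : (finrank k (Coh.HH X E 0) : ℤ) ≤ (finrank k (Coh.HH X E'' 0) : ℤ) := by exact_mod_cast hle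
  push_cast at hrr hrr''
  linarith

end algClosed

end Groth.Agent.Lib.Lead.VBCurve
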