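import Mathlib
import Groth.Agent.Lib.Lead.VBCurve26

/-!
# Twisted endomorphisms `φ : E ⟶ E ⊗ L` of bundles on curves (lead)

`X` an integral proper curve with PID stalks over a field `k`.
* `exists_untwist_sub`: a finite locally free submodule `H ⊂ G ⊗ N` (`N` invertible) gives a submodule `H' ⊂ G` of the
  same rank with `deg H' = deg H - rk H · deg N`.
* `sub_cokernel_slope_lt`: if `E₁ ⊂ E` has maximal slope and, among those, maximal rank, then `E/E₁` is finite locally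
  free and all its submodules have slope `< μ(E₁)`.
* `exists_lift_tensorRight`: `- ⊗ L` (`L` invertible) is exact: lifting through `A ⊗ L ⟶ B ⊗ L`.
* `semistable_of_semistablePair_deg_zero`: if `deg L = 0` and every `φ`-invariant submodule of `E` satisfies the slope
  inequality, so does every submodule.
* `deg_nonneg_of_semistablePair_ne_zero`: a semistable pair `(E, φ)` with `φ ≠ 0` has `deg L ≥ 0`.
-/

set_option autoImplicit false
set_option linter.style.haveILetI false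
set_option linter.unusedSectionVars false
set_option backward.isDefEq.respectTransparency false
universe u
open CategoryTheory CategoryTheory.Limits AlgebraicGeometry Opposite TopologicalSpace Module

namespace Groth.Agent.Lib.Lead.VBCurve

open Groth.Agent.Lib.Lead.ModTensor Groth.Agent.Lib.Helper20.TensorEquiv

section curve

variable (k : Type u) [Field k] (X : Scheme.{u}) [X.Over (Spec (CommRingCat.of k))]
  [IsProper (X ↘ Spec (CommRingCat.of k))] [IsIntegral X]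

/-- a submodule of `G ⊗ N` untwists to a submodule of `G` -/
theorem exists_untwist_sub (hdim : topologicalKrullDim X ≤ 1) {G N : X.Modules}
    (hN : PicF.IsInvertible N) {H : X.Modules} {r' : ℕ} (hH : FlatMod.IsFinLocFreeOfRank r' H)
    (i : H ⟶ CohB1.tensorMod G N) [Mono i] :
    ∃ (H' : X.Modules) (i' : H' ⟶ G), Mono i' ∧ FlatMod.IsFinLocFreeOfRank r' H' ∧
      Curv2.deg k X H' r' = Curv2.deg k X H r' - (r' : ℤ) * Curv2.deg k X N 1 := by
  obtain ⟨N', hN', hinv, hinv'⟩ := Groth.Agent.Lib.helper12.InvDual.exists_inverse hN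
  obtain ⟨ε⟩ := hinv
  obtain ⟨e⟩ := hinv'
  haveI : Mono (tensorMap i (𝟙 N')) := mono_tensorMap e i
  let θ : CohB1.tensorMod (CohB1.tensorMod G N) N' ≅ G :=
    assoc G N N' ≪≫ tensorIso (Iso.refl G) ε ≪≫ rightUnitor G
  obtain ⟨hH', hdH'⟩ := deg_tensor_invertible k X hdim hH hN'
  have hdN' : Curv2.deg k X N' 1 = - Curv2.deg k X N 1 := by
    have := deg_add_deg_of_isInverseOf k X hdim hN hN' ⟨e⟩
    linarith
  refine ⟨CohB1.tensorMod H N', tensorMap i (𝟙 N') ≫ θ.hom, inferInstance, hH', ?_⟩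
  rw [hdH', hdN']
  ring

/-- if `E₁ ⊂ E` has maximal slope and, among the submodules of maximal slope, maximal rank, then the quotient is finite
locally free and all its submodules have slope `< μ(E₁)` -/
theorem sub_cokernel_slope_lt (hP : PIDStalks X) (hdim : topologicalKrullDim X ≤ 1) {E E₁ : X.Modules} {r r₁ : ℕ}
    (hE : FlatMod.IsFinLocFreeOfRank r E) (hE₁ : FlatMod.IsFinLocFreeOfRank r₁ E₁) (hr₁ : 0 < r₁)
    (i₁ : E₁ ⟶ E) [Mono i₁]
    (hmax : ∀ (G : X.Modules) (r' : ℕ) (j : G ⟶ E), Mono j → 0 < r' → FlatMod.IsFinLocFreeOfRank r' G →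
      Curv2.deg k X G r' * (r₁ : ℤ) ≤ Curv2.deg k X E₁ r₁ * (r' : ℤ))
    (hrk : ∀ (G : X.Modules) (r' : ℕ) (j : G ⟶ E), Mono j → 0 < r' → FlatMod.IsFinLocFreeOfRank r' G →
      Curv2.deg k X G r' * (r₁ : ℤ) = Curv2.deg k X E₁ r₁ * (r' : ℤ) → r' ≤ r₁) :
    ∃ t : ℕ, r = r₁ + t ∧ FlatMod.IsFinLocFreeOfRank t (cokernel i₁) ∧
      ∀ (H : X.Modules) (s : ℕ) (i : H ⟶ cokernel i₁), Mono i → 0 < s → FlatMod.IsFinLocFreeOfRank s H →
        Curv2.deg k X H s * (r₁ : ℤ) < Curv2.deg k X E₁ r₁ * (s : ℤ) := by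
  have hr₁' : (0 : ℤ) < (r₁ : ℤ) := by exact_mod_cast hr₁
  have hmaxdeg : ∀ (G' : X.Modules) (ι' : G' ⟶ E), Mono ι' → FlatMod.IsFinLocFreeOfRank r₁ G' →
      Curv2.deg k X G' r₁ ≤ Curv2.deg k X E₁ r₁ := by
    intro G' ι' hm hG'
    have := hmax G' r₁ ι' hm hr₁ hG'
    exact le_of_mul_le_mul_right this hr₁'
  obtain ⟨t, hrt, ht, -⟩ := cokernel_data_of_maxDeg k X hP hdim hE₁ hE i₁ hmaxdeg
  refine ⟨t, hrt, ht, ?_⟩
  intro H s i hi hs hH
  haveI := hi
  have hS := shortExact_cokernel X i₁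
  have hq : (cokernel i₁).IsQuasicoherent :=
    (Groth.Agent.Lib.Lead.RankAdd.isCoh_of_isFinLocFreeOfRank ht).1
  obtain ⟨P, a, f', g', ha, -, -, -, hPr, hPd⟩ :=
    preimage_data k X hP (ShortComplex.mk i₁ (cokernel.π i₁) (cokernel.condition i₁)) hS hq hE₁ hE hH i
  have h1 := hmax P (r₁ + s) a ha (by omega) hPr
  change Curv2.deg k X P (r₁ + s) = Curv2.deg k X E₁ r₁ + Curv2.deg k X H s at hPd
  rw [hPd] at h1
  push_cast at h1
  have hle : Curv2.deg k X H s * (r₁ : ℤ) ≤ Curv2.deg k X E₁ r₁ * (s : ℤ) := by nlinarith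
  refine lt_of_le_of_ne hle (fun heq => ?_)
  have h2 := hrk P (r₁ + s) a ha (by omega) hPr (by
    rw [hPd]
    push_cast
    nlinarith)
  omega

omit [X.Over (Spec (CommRingCat.of k))] [IsProper (X ↘ Spec (CommRingCat.of k))] [IsIntegral X] in
/-- `- ⊗ L` is exact for invertible `L`: lifting through `A ⊗ L ⟶ B ⊗ L` -/
theorem exists_lift_tensorRight {L L' : X.Modules} (e : CohB1.tensorMod L L' ≅ Coh.structureModule X)
    {S : ShortComplex X.Modules} (hS : S.ShortExact) {T : X.Modules} (f : T ⟶ CohB1.tensorMod S.X₂ L)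
    (hf : f ≫ tensorMap S.g (𝟙 L) = 0) :
    ∃ χ : T ⟶ CohB1.tensorMod S.X₁ L, χ ≫ tensorMap S.f (𝟙 L) = f := by
  have h := shortExact_mapSC e hS
  haveI := h.mono_f
  exact ⟨h.exact.lift f hf, h.exact.lift_f f hf⟩

/-- semistability of an `L`-twisted pair with `deg L = 0` implies semistability of the underlying module -/
theorem semistable_of_semistablePair_deg_zero (hP : PIDStalks X) (hdim : topologicalKrullDim X ≤ 1)
    {L : X.Modules} (hL : PicF.IsInvertible L) (hL0 : Curv2.deg k X L 1 = 0)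
    {r : ℕ} (hr : 0 < r) {E : X.Modules} (hE : FlatMod.IsFinLocFreeOfRank r E) (φ : E ⟶ CohB1.tensorMod E L)
    (hss : ∀ (G : X.Modules) (n : ℕ) (j : G ⟶ E) (χ : G ⟶ CohB1.tensorMod G L), Mono j → 0 < n →
      FlatMod.IsFinLocFreeOfRank n G → χ ≫ tensorMap j (𝟙 L) = j ≫ φ →
      Curv2.deg k X G n * (r : ℤ) ≤ Curv2.deg k X E r * (n : ℤ)) :
    ∀ (G : X.Modules) (n : ℕ) (j : G ⟶ E), Mono j → 0 < n → FlatMod.IsFinLocFreeOfRank n G →
      Curv2.deg k X G n * (r : ℤ) ≤ Curv2.deg k X E r * (n : ℤ) := by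
  obtain ⟨E₁, r₁, i₁, hm₁, hr₁, hE₁, hmax, hrk⟩ := exists_maxSlope k X hdim hr hE
  haveI := hm₁
  have hr₁' : (0 : ℤ) < (r₁ : ℤ) := by exact_mod_cast hr₁
  obtain ⟨t, hrt, ht, hlt⟩ := sub_cokernel_slope_lt k X hP hdim hE hE₁ hr₁ i₁ hmax hrk
  obtain ⟨L', hL', hinv, -⟩ := Groth.Agent.Lib.helper12.InvDual.exists_inverse hL
  obtain ⟨e⟩ := hinv
  -- `E₁` is semistable
  have hE₁ss : ∀ (G : X.Modules) (r' : ℕ) (i : G ⟶ E₁), Mono i → 0 < r' → FlatMod.IsFinLocFreeOfRank r' G →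
      Curv2.deg k X G r' * (r₁ : ℤ) ≤ Curv2.deg k X E₁ r₁ * (r' : ℤ) := by
    intro G r' i hi hr' hG
    haveI := hi
    exact hmax G r' (i ≫ i₁) (mono_comp _ _) hr' hG
  -- the composite `E₁ ⟶ E ⟶ E ⊗ L ⟶ (E/E₁) ⊗ L` vanishes
  obtain ⟨hQL, hQLd⟩ := deg_tensor_invertible k X hdim ht hL
  have hzero : (i₁ ≫ φ) ≫ tensorMap (cokernel.π i₁) (𝟙 L) = 0 := by
    by_contra hne
    obtain ⟨rK, rI, hrI, -, -, hI, -, hIle, -⟩ := slope_image_ge k X hP hE₁ hQL hE₁ss _ hne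
    obtain ⟨H', i', hi', hH', hdH'⟩ := exists_untwist_sub k X hdim hL hI
      (Abelian.image.ι ((i₁ ≫ φ) ≫ tensorMap (cokernel.π i₁) (𝟙 L)))
    have h3 := hlt H' rI i' hi' hrI hH'
    rw [hdH', hL0] at h3
    have hr' : (0 : ℤ) < (rI : ℤ) := by exact_mod_cast hrI
    nlinarith
  obtain ⟨χ, hχ⟩ := exists_lift_tensorRight X e (shortExact_cokernel X i₁) (i₁ ≫ φ) hzero
  have h1 := hss E₁ r₁ i₁ χ hm₁ hr₁ hE₁ hχ
  intro G n j hj hn hG
  have h2 := hmax G n j hj hn hG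
  have hn' : (0 : ℤ) < (n : ℤ) := by exact_mod_cast hn
  have hr' : (0 : ℤ) < (r : ℤ) := by exact_mod_cast hr
  by_contra hcon
  push Not at hcon
  nlinarith

/-- a semistable `L`-twisted pair `(E, φ)` with `φ ≠ 0` has `deg L ≥ 0` -/
theorem deg_nonneg_of_semistablePair_ne_zero (hP : PIDStalks X) (hdim : topologicalKrullDim X ≤ 1)
    {L : X.Modules} (hL : PicF.IsInvertible L)
    {r : ℕ} (hr : 0 < r) {E : X.Modules} (hE : FlatMod.IsFinLocFreeOfRank r E) (φ : E ⟶ CohB1.tensorMod E L)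
    (hss : ∀ (G : X.Modules) (n : ℕ) (j : G ⟶ E) (χ : G ⟶ CohB1.tensorMod G L), Mono j → 0 < n →
      FlatMod.IsFinLocFreeOfRank n G → χ ≫ tensorMap j (𝟙 L) = j ≫ φ →
      Curv2.deg k X G n * (r : ℤ) ≤ Curv2.deg k X E r * (n : ℤ))
    (hφ : φ ≠ 0) : 0 ≤ Curv2.deg k X L 1 := by
  by_contra hneg
  push Not at hneg
  obtain ⟨E₁, r₁, i₁, hm₁, hr₁, hE₁, hmax, hrk⟩ := exists_maxSlope k X hdim hr hE
  haveI := hm₁
  have hr₁' : (0 : ℤ) < (r₁ : ℤ) := by exact_mod_cast hr₁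
  have hr' : (0 : ℤ) < (r : ℤ) := by exact_mod_cast hr
  obtain ⟨L', hL', hinv, -⟩ := Groth.Agent.Lib.helper12.InvDual.exists_inverse hL
  obtain ⟨e⟩ := hinv
  have hE₁ss : ∀ (G : X.Modules) (r' : ℕ) (i : G ⟶ E₁), Mono i → 0 < r' → FlatMod.IsFinLocFreeOfRank r' G →
      Curv2.deg k X G r' * (r₁ : ℤ) ≤ Curv2.deg k X E₁ r₁ * (r' : ℤ) := by
    intro G r' i hi hr' hG
    haveI := hi
    exact hmax G r' (i ≫ i₁) (mono_comp _ _) hr' hG
  obtain ⟨hEL, hELd⟩ := deg_tensor_invertible k X hdim hE hL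
  -- `φ` kills `E₁`
  have hzero : i₁ ≫ φ = 0 := by
    by_contra hne
    obtain ⟨rK, rI, hrI, -, -, hI, -, hIle, -⟩ := slope_image_ge k X hP hE₁ hEL hE₁ss _ hne
    obtain ⟨H', i', hi', hH', hdH'⟩ := exists_untwist_sub k X hdim hL hI (Abelian.image.ι (i₁ ≫ φ))
    have h3 := hmax H' rI i' hi' hrI hH'
    rw [hdH'] at h3
    have hrI' : (0 : ℤ) < (rI : ℤ) := by exact_mod_cast hrI
    nlinarith [mul_pos hrI' hr₁', mul_pos (mul_pos hrI' hr₁') (neg_pos.mpr hneg)]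
  have h1 := hss E₁ r₁ i₁ 0 hm₁ hr₁ hE₁ (by rw [zero_comp, hzero])
  -- `E` is semistable
  have hEss : ∀ (G : X.Modules) (n : ℕ) (j : G ⟶ E), Mono j → 0 < n → FlatMod.IsFinLocFreeOfRank n G →
      Curv2.deg k X G n * (r : ℤ) ≤ Curv2.deg k X E r * (n : ℤ) := by
    intro G n j hj hn hG
    have h2 := hmax G n j hj hn hG
    have hn' : (0 : ℤ) < (n : ℤ) := by exact_mod_cast hn
    by_contra hcon
    push Not at hcon
    nlinarith
  obtain ⟨rK, rI, hrI, -, -, hI, -, hIle, -⟩ := slope_image_ge k X hP hE hEL hEss φ hφ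
  obtain ⟨H', i', hi', hH', hdH'⟩ := exists_untwist_sub k X hdim hL hI (Abelian.image.ι φ)
  have h3 := hEss H' rI i' hi' hrI hH'
  rw [hdH'] at h3
  have hrI' : (0 : ℤ) < (rI : ℤ) := by exact_mod_cast hrI
  nlinarith [mul_pos hrI' hr', mul_pos (mul_pos hrI' hr') (neg_pos.mpr hneg)]

end curve

end Groth.Agent.Lib.Lead.VBCurve
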