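import Mathlib
import Groth.Agent.Lib.Lead.VBCurve27
import Groth.Agent.Lib.Helper18.GenusZeroPts
import Groth.Agent.Lib.Helper11.Bidual2
import Groth.Agent.Lib.Helper11.FibLift1

/-!
# Bundles on curves over an arbitrary field: invertible quotients carrying `H¹`, vanishing of `H¹(A ⊗ B^∨)`,
# splitting of extensions (lead)

`X` an integral proper curve with PID stalks over an ARBITRARY field `k` with `h⁰(O_X) = 1`.
* `exists_invertible_deg_ge`: invertible modules of arbitrarily large degree exist.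
* `exists_invertible_quotient_of_H1_nontrivial'`: `H¹(E) ≠ 0` ⇒ `E` has an invertible quotient `M` with `H¹(M) ≠ 0`
  (version of `exists_invertible_quotient_of_H1_nontrivial` without `IsAlgClosed`).
* `secHom_naturality`.
* `isSplitEpi_of_subsingleton_H1_dual`: `0 → A → E → B → 0` with `B` finite locally free and `H¹(A ⊗ B^∨) = 0` splits.
* `subsingleton_H1_tensor_dual`: if `A` is semistable and every submodule `H ⊂ B` has `μ(H) + 2g − 2 < μ(A)` then
  `H¹(A ⊗ B^∨) = 0` (duality-free form of `Ext¹(B, A) = Hom(A, B ⊗ ω)^∨ = 0`).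
* `isSplitEpi_of_slope_gt_genus_one`, `semistable_of_indecomposable_genus_one`.
-/

set_option autoImplicit false
set_option linter.style.haveILetI false
set_option linter.unusedSectionVars false
set_option backward.isDefEq.respectTransparency false
universe u
open CategoryTheory CategoryTheory.Limits AlgebraicGeometry Opposite TopologicalSpace Module

namespace Groth.Agent.Lib.Lead.VBCurve

open Groth.Agent.Lib.Lead.ModTensor Groth.Agent.Lib.Helper20.TensorEquiv Groth.Agent.Lib.Helper18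
open Groth.Agent.Lib.helper9.CurveVanish Groth.Agent.Lib.helper21.FLFDual Groth.Agent.Lib.helper11.Bidual
open Groth.Agent.Lib.helper11.FibLift Groth.Agent.Lib.helper12.InvDual Groth.Agent.Lib.Helper21.TensorAdj
open Groth.Agent.Lib.helper7 Groth.Agent.Lib.helper7.IdealMod Groth.Agent.Lib.helper16.FLF

section sections

variable {X : Scheme.{u}}

theorem secHom_naturality {F G : X.Modules} (g : F ⟶ G) (x : Coh.HH X F 0) :
    secHom G (HH.map g 0 x) = secHom F x ≫ g := by
  apply Groth.Agent.Lib.Helper20.SplitH1.hom_ext_top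
  rw [secHom_top, HH.equiv₀_naturality]
  change _ = (g.val.app (op ⊤)).hom (((secHom F x).val.app (op ⊤)).hom (1 : X.ringCatSheaf.obj.obj (op ⊤)))
  rw [secHom_top]

set_option maxHeartbeats 1600000 in
/-- `0 → A → E → B → 0` with `B` finite locally free and `H¹(A ⊗ B^∨) = 0` splits -/
theorem isSplitEpi_of_subsingleton_H1_dual (S : ShortComplex X.Modules) (hS : S.ShortExact)
    (hB : FlatMod.IsFinLocFree S.X₃)
    (h1 : Subsingleton (Coh.HH X (CohB1.tensorMod S.X₁ (dualMod S.X₃)) 1)) : IsSplitEpi S.g := by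
  haveI : PreservesFiniteLimits (tens X.sheaf (dualMod S.X₃)) := preservesFiniteLimits_tens_dualMod hB
  haveI : PreservesFiniteColimits (tens X.sheaf (dualMod S.X₃)) := preservesFiniteColimits_tens (dualMod S.X₃)
  haveI : (tens X.sheaf (dualMod S.X₃)).Additive := additive_tens' _
  have hS' : (S.map (tens X.sheaf (dualMod S.X₃))).ShortExact := hS.map_of_exact _
  have hsurj := HH.surjective_map_g hS' 0 h1
  obtain ⟨x, hx⟩ := secHom_surjective _ (secEquiv hB S.X₃ (𝟙 S.X₃))
  obtain ⟨y, hy⟩ := hsurj x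
  have h2 : secHom _ (HH.map ((tens X.sheaf (dualMod S.X₃)).map S.g) 0 y) =
      secHom _ y ≫ (tens X.sheaf (dualMod S.X₃)).map S.g := secHom_naturality _ y
  have ht : secHom _ y ≫ (tens X.sheaf (dualMod S.X₃)).map S.g = secEquiv hB S.X₃ (𝟙 S.X₃) :=
    h2.symm.trans ((congrArg (secHom _) hy).trans hx)
  refine ⟨⟨(secEquiv hB S.X₂).symm (secHom _ y), ?_⟩⟩
  apply (secEquiv hB S.X₃).injective
  rw [secEquiv_comp, Equiv.apply_symm_apply, ← Groth.Agent.Lib.helper11.Bidual.tens_map]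
  exact ht

end sections

section curve

variable (k : Type u) [Field k] (X : Scheme.{u}) [X.Over (Spec (CommRingCat.of k))]
  [IsProper (X ↘ Spec (CommRingCat.of k))] [IsIntegral X]

omit [IsIntegral X] in
/-- `h⁰(O_X / m_y) > 0` for a closed point `y` of a proper scheme over a field -/
theorem finrank_H0_quotMod_closedPoint_pos {y : X} (hy : IsClosed ({y} : Set X)) :
    0 < finrank k (Coh.HH X (ClSub.quotMod (Scheme.IdealSheafData.vanishingIdeal ⟨{y}, hy⟩)) 0) := by
  set I := Scheme.IdealSheafData.vanishingIdeal ⟨{y}, hy⟩ with hI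
  letI : I.subscheme.Over (Spec (CommRingCat.of k)) := ⟨I.subschemeι ≫ (X ↘ Spec (CommRingCat.of k))⟩
  haveI : I.subschemeι.IsOver (Spec (CommRingCat.of k)) := ⟨rfl⟩
  haveI : IsProper (I.subscheme ↘ Spec (CommRingCat.of k)) :=
    inferInstanceAs (IsProper (I.subschemeι ≫ (X ↘ Spec (CommRingCat.of k))))
  haveI : IsReduced I.subscheme :=
    Groth.Agent.Lib.helper4.ClosureProper.isReduced_subscheme_vanishingIdeal ⟨{y}, hy⟩
  have hrange : Set.range I.subschemeι = {y} := by
    rw [Scheme.IdealSheafData.range_subschemeι, hI, Scheme.IdealSheafData.coe_support_vanishingIdeal]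
    rfl
  have hinj : Function.Injective I.subschemeι := I.subschemeι.isClosedEmbedding.injective
  haveI : Nonempty I.subscheme := by
    have : y ∈ Set.range I.subschemeι := by rw [hrange]; rfl
    obtain ⟨z, -⟩ := this
    exact ⟨z⟩
  haveI : Subsingleton I.subscheme := ⟨fun a b => hinj (by
    have ha : I.subschemeι a ∈ Set.range I.subschemeι := ⟨a, rfl⟩
    have hb : I.subschemeι b ∈ Set.range I.subschemeι := ⟨b, rfl⟩
    rw [hrange] at ha hb
    exact ha.trans hb.symm)⟩
  haveI : IrreducibleSpace I.subscheme :=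
    { toPreirreducibleSpace := ⟨(Set.subsingleton_of_subsingleton).isPreirreducible⟩
      toNonempty := inferInstance }
  haveI : IsIntegral I.subscheme := isIntegral_of_irreducibleSpace_of_isReduced _
  have h1 := Groth.Agent.Lib.Helper18.GenusZeroPts.finrank_H0_structureModule_pos k I.subscheme
  haveI : (Coh.structureModule I.subscheme).IsQuasicoherent := inferInstance
  have h2 := Groth.Agent.Lib.Helper18.HH.finrank_push I.subschemeι (Coh.structureModule I.subscheme) k 0
  rw [h2]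
  exact h1

/-- the ideal sheaf of a closed point on an integral proper curve with PID stalks is invertible of negative degree -/
theorem idealMod_closedPoint_neg (hP : PIDStalks X) (hdim : topologicalKrullDim X = 1) {y : X}
    (hy : IsClosed ({y} : Set X)) :
    FlatMod.IsFinLocFreeOfRank 1 (ClSub.idealMod (Scheme.IdealSheafData.vanishingIdeal ⟨{y}, hy⟩)) ∧
      Curv2.deg k X (ClSub.idealMod (Scheme.IdealSheafData.vanishingIdeal ⟨{y}, hy⟩)) 1 ≤ -1 := by
  set I := Scheme.IdealSheafData.vanishingIdeal ⟨{y}, hy⟩ with hI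
  haveI := Groth.Agent.Lib.Lead.CurveEuler.isNoetherian k X
  have hO1 : FlatMod.IsFinLocFreeOfRank 1 (Coh.structureModule X) :=
    (Groth.Agent.Lib.helper16.FLF.isInvertible_iff_isFinLocFreeOfRank_one _).mp
      (Groth.Agent.Lib.helper11.InvMod.isInvertible_structureModule X)
  have hOc := Groth.Agent.Lib.Lead.RankAdd.isCoh_of_isFinLocFreeOfRank hO1
  have hQc : Coh.IsCoh (ClSub.quotMod I) :=
    Groth.Agent.Lib.helper8.Dev.isCoh_push_structureModule I.subschemeι
  have hIc : Coh.IsCoh (ClSub.idealMod I) :=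
    Groth.Agent.Lib.helper7.CohKer.isCoh_kernel hOc hQc (ClSub.toSubscheme I)
  have hIf : FlatMod.IsFinLocFree (ClSub.idealMod I) :=
    isFinLocFree_of_mono hP hIc (Groth.Agent.Lib.helper16.FLF.isFinLocFree_of_isFinLocFreeOfRank hO1)
      (ClSub.idealModι I)
  obtain ⟨n, hn⟩ := exists_rank_of_isFinLocFree hIf
  have hn1 : n ≤ 1 := rank_le_of_mono X hn hO1 (ClSub.idealModι I)
  obtain ⟨x, hxy⟩ := exists_ne_of_topologicalKrullDim_eq_one hdim y
  have hn0 : n ≠ 0 := by
    rintro rfl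
    exact not_isZero_idealMod_of_ne hy hxy (isZero_of_isFinLocFreeOfRank_zero hn)
  have hn' : n = 1 := by omega
  subst hn'
  refine ⟨hn, ?_⟩
  have h1 := deg_sub_deg k X hdim.le hn hO1 (ClSub.idealModι I)
  rw [Groth.Agent.Lib.Lead.CurveEuler.deg_structureModule k X,
    Groth.Agent.Lib.helper9.CurveTwist.finrank_HH_eq_of_iso k (cokernelIdealModιIso I) 0] at h1
  have h2 := finrank_H0_quotMod_closedPoint_pos k X hy
  have h2' : (1 : ℤ) ≤ (finrank k (Coh.HH X (ClSub.quotMod I) 0) : ℤ) := by exact_mod_cast h2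
  linarith

/-- invertible modules of arbitrarily large degree exist -/
theorem exists_invertible_deg_ge (hP : PIDStalks X) (hdim : topologicalKrullDim X = 1) (n : ℤ) :
    ∃ L : X.Modules, PicF.IsInvertible L ∧ n ≤ Curv2.deg k X L 1 := by
  haveI := Groth.Agent.Lib.Lead.CurveEuler.isNoetherian k X
  obtain ⟨y, hy⟩ : ∃ y : X, IsClosed ({y} : Set X) := by
    obtain ⟨y, -, hy⟩ := IsClosed.exists_closed_singleton (isClosed_univ (X := X)) Set.univ_nonempty
    exact ⟨y, hy⟩
  obtain ⟨h1, h2⟩ := idealMod_closedPoint_neg k X hP hdim hy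
  have hL₀ := (Groth.Agent.Lib.helper16.FLF.isInvertible_iff_isFinLocFreeOfRank_one _).mpr h1
  obtain ⟨L₁, hL₁, hinv, hinv'⟩ := Groth.Agent.Lib.helper12.InvDual.exists_inverse hL₀
  have hd₁ : 1 ≤ Curv2.deg k X L₁ 1 := by
    have := deg_add_deg_of_isInverseOf k X hdim.le hL₀ hL₁ hinv'
    linarith
  refine ⟨CohB1.tensorPow L₁ n.toNat, Groth.Agent.Lib.helper12.TensorInv.isInvertible_tensorPow hL₁ _, ?_⟩
  rw [Groth.Agent.Lib.helper9.CurveDegAdd.deg_tensorPow k X hdim.le hL₁ n.toNat]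
  have h3 : n ≤ (n.toNat : ℤ) := Int.self_le_toNat n
  have h4 : (0 : ℤ) ≤ (n.toNat : ℤ) := Int.natCast_nonneg _
  nlinarith

include k in
open Groth.Agent.Lib.helper11.InvMod in
/-- **Invertible quotients carrying `H¹`**, over an arbitrary field with `h⁰(O) = 1` -/
theorem exists_invertible_quotient_of_H1_nontrivial'
    (h0 : finrank k (Coh.HH X (Coh.structureModule X) 0) = 1)
    (hP : PIDStalks X) (hdim : topologicalKrullDim X = 1) :
    ∀ (r : ℕ) (E : X.Modules), FlatMod.IsFinLocFreeOfRank r E → Nontrivial (Coh.HH X E 1) →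
      ∃ (M : X.Modules) (π : E ⟶ M), Epi π ∧ PicF.IsInvertible M ∧ Nontrivial (Coh.HH X M 1) := by
  haveI := Groth.Agent.Lib.Lead.CurveEuler.isNoetherian k X
  intro r
  induction r using Nat.strong_induction_on with
  | _ r ih =>
  intro E hE h1
  rcases r with _ | _ | r
  · exfalso
    have hz := isZero_of_isFinLocFreeOfRank_zero hE
    have := subsingleton_HH_of_isZero hz 1
    exact not_subsingleton _ this
  · exact ⟨E, 𝟙 E, inferInstance,
      (Groth.Agent.Lib.helper16.FLF.isInvertible_iff_isFinLocFreeOfRank_one _).mpr hE, h1⟩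
  · have hEc := Groth.Agent.Lib.Lead.RankAdd.isCoh_of_isFinLocFreeOfRank hE
    haveI : Module.Free k (Coh.HH X E 1) := Module.Free.of_divisionRing k _
    haveI : Module.Projective k (Coh.HH X E 1) := Module.Projective.of_free
    obtain ⟨v, hv⟩ := exists_ne (0 : Coh.HH X E 1)
    obtain ⟨lam, hlam⟩ : ∃ lam : Module.Dual k (Coh.HH X E 1), lam v ≠ 0 := by
      by_contra hcon
      push Not at hcon
      exact hv ((Module.forall_dual_apply_eq_zero_iff k v).mp hcon)
    set g : ℤ := (Curv2.genus k X : ℤ) with hg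
    set d : ℤ := Curv2.deg k X E (r + 2) with hd
    have hg0 : 0 ≤ g := Int.natCast_nonneg _
    obtain ⟨N, hN, hdN⟩ := exists_invertible_deg_ge k X hP hdim (|d| + ((r : ℤ) + 3) * g + 1)
    set n : ℤ := Curv2.deg k X N 1 with hn
    have hn1 : 1 ≤ n := by
      have := abs_nonneg d
      have : 0 ≤ ((r : ℤ) + 3) * g := mul_nonneg (by positivity) hg0
      linarith
    obtain ⟨A, hA, hNA, hAN⟩ := Groth.Agent.Lib.helper12.InvDual.exists_inverse hN
    obtain ⟨ε⟩ := hNA
    obtain ⟨e⟩ := hAN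
    have hdA : Curv2.deg k X A 1 = -n := by
      have := deg_add_deg_of_isInverseOf k X hdim.le hN hA ⟨e⟩
      linarith
    have hAc := Groth.Agent.Lib.Lead.CurveInv.isCoh_of_isInvertible X hA
    obtain ⟨hENr, hENd⟩ := deg_tensor_invertible k X hdim.le hE hN
    have hENc := Groth.Agent.Lib.Lead.RankAdd.isCoh_of_isFinLocFreeOfRank hENr
    have hA0 : finrank k (Coh.HH X A 0) = 0 := by
      by_contra hne
      obtain ⟨s, hs⟩ := Groth.Agent.Lib.Lead.CurveSec.exists_hom_ne_zero_of_finrank_pos k X A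
        (Nat.pos_of_ne_zero hne)
      have := Groth.Agent.Lib.Lead.CurveInv.deg_le k X hdim.le (isInvertible_structureModule X) hA s hs
      rw [Groth.Agent.Lib.Lead.CurveEuler.deg_structureModule k X, hdA] at this
      linarith
    have hrrA := Groth.Agent.Lib.Lead.CurveEuler.riemann_roch' k X hdim.le h0 A hAc.1 1
    have hrrE := Groth.Agent.Lib.Lead.CurveEuler.riemann_roch' k X hdim.le h0 _ hENc.1 (r + 2)
    rw [hENd, ← hn, ← hd] at hrrE
    rw [hdA, hA0] at hrrA
    have hlt : finrank k (Coh.HH X A 1) < finrank k (Coh.HH X (CohB1.tensorMod E N) 0) := by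
      have h3 : (0 : ℤ) ≤ (finrank k (Coh.HH X (CohB1.tensorMod E N) 1) : ℤ) := Int.natCast_nonneg _
      have h4 : -d ≤ |d| := neg_le_abs d
      have h5 : (0 : ℤ) ≤ (r : ℤ) := Int.natCast_nonneg _
      have h6 : n ≤ ((r : ℤ) + 1) * n := by nlinarith
      push_cast at hrrA hrrE
      have : (finrank k (Coh.HH X A 1) : ℤ) < (finrank k (Coh.HH X (CohB1.tensorMod E N) 0) : ℤ) := by
        nlinarith
      exact_mod_cast this
    obtain ⟨φ, hφ0, hφ⟩ := exists_hom_ne_zero_comp_eq_zero k X e ε E hAc hENc hlt lam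
    have hA1 := (Groth.Agent.Lib.helper16.FLF.isInvertible_iff_isFinLocFreeOfRank_one _).mp hA
    haveI : Mono φ := by
      obtain ⟨rK, rI, -, -, hrr, -, hpos, hmono, -⟩ := kernel_image_data k X hP hA1 hE φ
      have := hpos hφ0
      exact hmono (by omega)
    obtain ⟨A₁, l, ι₁, t, hm₁, hl, hA₁, hrk, hQ⟩ := exists_saturation k X hP hdim.le hA1 hE φ
    haveI := hm₁
    haveI : Mono l := mono_of_mono_fac hl
    have hsurj : Function.Surjective (HH.map l 1) :=
      HH.surjective_map_f (shortExact_cokernel X l) 1 (subsingleton_HH_cokernel k X hdim.le hA1 hA₁ l 0)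
    have hQ1 : Nontrivial (Coh.HH X (cokernel ι₁) 1) := by
      by_contra hcon
      rw [not_nontrivial_iff_subsingleton] at hcon
      obtain ⟨w, hw⟩ := HH.surjective_map_f (shortExact_cokernel X ι₁) 1 hcon v
      obtain ⟨u, hu⟩ := hsurj w
      apply hlam
      have h2 := hφ u
      rw [← hl, HH.map_comp_apply, hu] at h2
      rw [← hw]
      exact h2
    have ht : t = r + 1 := by omega
    subst ht
    obtain ⟨M, π, hπ, hM, hM1⟩ := ih (r + 1) (by omega) _ hQ hQ1
    haveI := hπ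
    exact ⟨M, cokernel.π ι₁ ≫ π, epi_comp _ _, hM, hM1⟩

/-- if `A` is semistable and every submodule `H ⊂ B` has `μ(H) + 2g − 2 < μ(A)`, then `H¹(A ⊗ B^∨) = 0` -/
theorem subsingleton_H1_tensor_dual (h0 : finrank k (Coh.HH X (Coh.structureModule X) 0) = 1)
    (hP : PIDStalks X) (hdim : topologicalKrullDim X = 1) {A B : X.Modules} {a b : ℕ} (ha : 0 < a)
    (hA : FlatMod.IsFinLocFreeOfRank a A) (hB : FlatMod.IsFinLocFreeOfRank b B)
    (hAss : ∀ (G : X.Modules) (r' : ℕ) (i : G ⟶ A), Mono i → 0 < r' → FlatMod.IsFinLocFreeOfRank r' G →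
      Curv2.deg k X G r' * (a : ℤ) ≤ Curv2.deg k X A a * (r' : ℤ))
    (hlt : ∀ (H : X.Modules) (s : ℕ) (i : H ⟶ B), Mono i → 0 < s → FlatMod.IsFinLocFreeOfRank s H →
      (Curv2.deg k X H s + (s : ℤ) * (2 * (Curv2.genus k X : ℤ) - 2)) * (a : ℤ) < Curv2.deg k X A a * (s : ℤ)) :
    Subsingleton (Coh.HH X (CohB1.tensorMod A (dualMod B)) 1) := by
  by_contra hcon
  rw [not_subsingleton_iff_nontrivial] at hcon
  have hBf := Groth.Agent.Lib.helper16.FLF.isFinLocFree_of_isFinLocFreeOfRank hB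
  obtain ⟨b', hB'⟩ := exists_rank_of_isFinLocFree (isFinLocFree_dualMod hBf)
  have hAB := Groth.Agent.Lib.Helper18.EffCartierCurve.isFinLocFreeOfRank_tensor hA hB'
  obtain ⟨M, π, hπ, hM, hM1⟩ := exists_invertible_quotient_of_H1_nontrivial' k X h0 hP hdim _ _ hAB hcon
  haveI := hπ
  have hdM := deg_le_of_H1_nontrivial k X hdim.le h0 hM hM1
  have hMnz := not_isZero_of_isInvertible (X := X) hM
  have hπ0 : π ≠ 0 := by
    intro h
    apply hMnz
    rw [IsZero.iff_id_eq_zero, ← cancel_epi π, h]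
    simp
  -- the adjoint map `A ⟶ M ⊗ B`
  let adj := tensDualAdj' hBf
  haveI : (tens X.sheaf (dualMod B)).Additive := additive_tens' _
  let ψ : A ⟶ CohB1.tensorMod M B := adj.homEquiv A M π
  have hψ0 : ψ ≠ 0 := by
    intro h
    apply hπ0
    have h2 : π = (adj.homEquiv A M).symm ψ := ((adj.homEquiv A M).symm_apply_apply π).symm
    rw [h2, h, Adjunction.homEquiv_counit, Functor.map_zero, zero_comp]
  let ψ' : A ⟶ CohB1.tensorMod B M := ψ ≫ (braid M B).hom
  have hψ'0 : ψ' ≠ 0 := by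
    intro h
    apply hψ0
    have : ψ = ψ' ≫ (braid M B).inv := by simp [ψ']
    rw [this, h, zero_comp]
  obtain ⟨hBM, hBMd⟩ := deg_tensor_invertible k X hdim.le hB hM
  obtain ⟨rK, rI, hrI, -, -, hI, -, hIle, -⟩ := slope_image_ge k X hP hA hBM hAss ψ' hψ'0
  obtain ⟨H', i', hi', hH', hdH'⟩ := exists_untwist_sub k X hdim.le hM hI (Abelian.image.ι ψ')
  have h3 := hlt H' rI i' hi' hrI hH'
  rw [hdH'] at h3
  have hrI' : (0 : ℤ) < (rI : ℤ) := by exact_mod_cast hrI
  have ha' : (0 : ℤ) < (a : ℤ) := by exact_mod_cast ha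
  have h4 : (0 : ℤ) ≤ (2 * (Curv2.genus k X : ℤ) - 2 - Curv2.deg k X M 1) * ((rI : ℤ) * (a : ℤ)) :=
    mul_nonneg (by linarith) (mul_pos hrI' ha').le
  nlinarith

/-- on a curve of genus one, an extension of a semistable `B` by a semistable `A` with `μ(A) > μ(B)` splits -/
theorem isSplitEpi_of_slope_gt_genus_one (h0 : finrank k (Coh.HH X (Coh.structureModule X) 0) = 1)
    (hg : Curv2.genus k X = 1)
    (hP : PIDStalks X) (hdim : topologicalKrullDim X = 1) (T : ShortComplex X.Modules) (hT : T.ShortExact)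
    {a b : ℕ} (ha : 0 < a) (hb : 0 < b)
    (hA : FlatMod.IsFinLocFreeOfRank a T.X₁) (hB : FlatMod.IsFinLocFreeOfRank b T.X₃)
    (hAss : ∀ (G : X.Modules) (r' : ℕ) (i : G ⟶ T.X₁), Mono i → 0 < r' → FlatMod.IsFinLocFreeOfRank r' G →
      Curv2.deg k X G r' * (a : ℤ) ≤ Curv2.deg k X T.X₁ a * (r' : ℤ))
    (hBss : ∀ (G : X.Modules) (r' : ℕ) (i : G ⟶ T.X₃), Mono i → 0 < r' → FlatMod.IsFinLocFreeOfRank r' G →
      Curv2.deg k X G r' * (b : ℤ) ≤ Curv2.deg k X T.X₃ b * (r' : ℤ))
    (hslope : Curv2.deg k X T.X₃ b * (a : ℤ) < Curv2.deg k X T.X₁ a * (b : ℤ)) :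
    IsSplitEpi T.g := by
  apply isSplitEpi_of_subsingleton_H1_dual T hT
    (Groth.Agent.Lib.helper16.FLF.isFinLocFree_of_isFinLocFreeOfRank hB)
  apply subsingleton_H1_tensor_dual k X h0 hP hdim ha hA hB hAss
  intro H s i hi hs hH
  have h1 := hBss H s i hi hs hH
  rw [hg]
  have hs' : (0 : ℤ) < (s : ℤ) := by exact_mod_cast hs
  have ha' : (0 : ℤ) < (a : ℤ) := by exact_mod_cast ha
  have hb' : (0 : ℤ) < (b : ℤ) := by exact_mod_cast hb
  push_cast
  by_contra hcon
  push Not at hcon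
  nlinarith [mul_pos hs' ha', mul_pos hs' hb', mul_pos ha' hb']

/-- on a curve of genus one, indecomposable bundles are semistable -/
theorem semistable_of_indecomposable_genus_one (h0 : finrank k (Coh.HH X (Coh.structureModule X) 0) = 1)
    (hg : Curv2.genus k X = 1)
    (hP : PIDStalks X) (hdim : topologicalKrullDim X = 1) {r : ℕ} (hr : 0 < r) {E : X.Modules}
    (hE : FlatMod.IsFinLocFreeOfRank r E)
    (hind : ∀ (E₁ E₂ : X.Modules), Nonempty (E ≅ E₁ ⊞ E₂) → IsZero E₁ ∨ IsZero E₂) :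
    ∀ (G : X.Modules) (r' : ℕ) (i : G ⟶ E), Mono i → 0 < r' → FlatMod.IsFinLocFreeOfRank r' G →
      Curv2.deg k X G r' * (r : ℤ) ≤ Curv2.deg k X E r * (r' : ℤ) := by
  obtain ⟨E₁, r₁, i₁, hm₁, hr₁, hE₁, hmax, hrk⟩ := exists_maxSlope k X hdim.le hr hE
  haveI := hm₁
  have hr₁' : (0 : ℤ) < (r₁ : ℤ) := by exact_mod_cast hr₁
  obtain ⟨t, hrt, ht, hlt⟩ := sub_cokernel_slope_lt k X hP hdim.le hE hE₁ hr₁ i₁ hmax hrk
  have hE₁ss : ∀ (G : X.Modules) (r' : ℕ) (i : G ⟶ E₁), Mono i → 0 < r' → FlatMod.IsFinLocFreeOfRank r' G →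
      Curv2.deg k X G r' * (r₁ : ℤ) ≤ Curv2.deg k X E₁ r₁ * (r' : ℤ) := by
    intro G r' i hi hr' hG
    haveI := hi
    exact hmax G r' (i ≫ i₁) (mono_comp _ _) hr' hG
  have hS := shortExact_cokernel X i₁
  have h1 : Subsingleton (Coh.HH X (CohB1.tensorMod E₁ (dualMod (cokernel i₁))) 1) := by
    apply subsingleton_H1_tensor_dual k X h0 hP hdim hr₁ hE₁ ht hE₁ss
    intro H s i hi hs hH
    rw [hg]
    have := hlt H s i hi hs hH
    push_cast
    linarith
  have hsplit : IsSplitEpi (cokernel.π i₁) :=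
    isSplitEpi_of_subsingleton_H1_dual (ShortComplex.mk i₁ (cokernel.π i₁) (cokernel.condition i₁)) hS
      (Groth.Agent.Lib.helper16.FLF.isFinLocFree_of_isFinLocFreeOfRank ht) h1
  obtain ⟨⟨s, hs⟩⟩ := hsplit
  have hsp : (ShortComplex.mk i₁ (cokernel.π i₁) (cokernel.condition i₁)).Splitting :=
    ShortComplex.Splitting.ofExactOfSection _ hS.exact s hs hm₁
  have hiso : E ≅ E₁ ⊞ cokernel i₁ := hsp.isoBinaryBiproduct
  have hE₁nz : ¬ IsZero E₁ := not_isZero_of_rank_pos hr₁ hE₁
  have hQz : IsZero (cokernel i₁) := (hind _ _ ⟨hiso⟩).resolve_left hE₁nz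
  haveI : Epi i₁ := by
    have h2 : cokernel.π i₁ = 0 := hQz.eq_of_tgt _ _
    exact Abelian.epi_of_cokernel_π_eq_zero _ h2
  haveI : IsIso i₁ := isIso_of_mono_of_epi i₁
  have hE' : FlatMod.IsFinLocFreeOfRank r₁ E := isFinLocFreeOfRank_of_iso (asIso i₁) hE₁
  have hle1 : r₁ ≤ r := rank_le_of_mono X hE' hE (𝟙 E)
  have hle2 : r ≤ r₁ := rank_le_of_mono X hE hE' (𝟙 E)
  have hrr : r₁ = r := le_antisymm hle1 hle2
  subst hrr
  have hd1 : Curv2.deg k X E₁ r₁ ≤ Curv2.deg k X E r₁ := deg_le k X hdim.le hE₁ hE i₁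
  intro G r' j hj hr' hG
  have h2 := hmax G r' j hj hr' hG
  have hr'' : (0 : ℤ) < (r' : ℤ) := by exact_mod_cast hr'
  nlinarith

end curve

end Groth.Agent.Lib.Lead.VBCurve
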