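import Mathlib
import Groth.Agent.Lib.Lead.VBCurve28

/-!
# Stable twisted pairs of rank two in genus one (lead)

* `nonempty_iso_structureModule_of_iso_tensor`: `A ≅ A ⊗ M` with `A` invertible forces `M ≅ O`.
* `nonempty_iso_tensor_of_not_invariant`: in `0 → A → E → B → 0` with `A`, `B` invertible of the same degree, `deg L = 0`,
  if `A` is not `φ`-invariant then `A ≅ B ⊗ L`.
* `stable_of_stablePair_rank_two_genus_one`: genus one, `deg L = 0`, `L ⊗ L ≇ O`: a stable pair of rank two has a stable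
  underlying module.
-/

set_option autoImplicit false
set_option linter.style.haveILetI false
set_option linter.unusedSectionVars false
set_option backward.isDefEq.respectTransparency false
universe u
open CategoryTheory CategoryTheory.Limits AlgebraicGeometry Opposite TopologicalSpace Module

namespace Groth.Agent.Lib.Lead.VBCurve

open Groth.Agent.Lib.Lead.ModTensor Groth.Agent.Lib.Helper20.TensorEquiv

section general

variable {X : Scheme.{u}}

/-- cancelling an invertible module: `A ≅ A ⊗ M` forces `M ≅ O` -/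
theorem nonempty_iso_structureModule_of_iso_tensor {A M : X.Modules} (hA : PicF.IsInvertible A)
    (e : A ≅ CohB1.tensorMod A M) : Nonempty (M ≅ Coh.structureModule X) := by
  obtain ⟨A', hA', -, ⟨ε⟩⟩ := Groth.Agent.Lib.helper12.InvDual.exists_inverse hA
  exact ⟨(leftUnitor M).symm ≪≫ tensorIso ε.symm (Iso.refl M) ≪≫ assoc A' A M ≪≫
    tensorIso (Iso.refl A') e.symm ≪≫ ε⟩

end general

section curve

variable (k : Type u) [Field k] (X : Scheme.{u}) [X.Over (Spec (CommRingCat.of k))]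
  [IsProper (X ↘ Spec (CommRingCat.of k))] [IsIntegral X]

/-- in `0 → A → E → B → 0` with `A`, `B` invertible of the same degree and `deg L = 0`: if `A` is not `φ`-invariant, then
`A ≅ B ⊗ L` -/
theorem nonempty_iso_tensor_of_not_invariant (hP : PIDStalks X) (hdim : topologicalKrullDim X ≤ 1)
    {L : X.Modules} (hL : PicF.IsInvertible L) (hL0 : Curv2.deg k X L 1 = 0)
    (S : ShortComplex X.Modules) (hS : S.ShortExact) (hA : PicF.IsInvertible S.X₁)
    (hB : PicF.IsInvertible S.X₃) (hdeg : Curv2.deg k X S.X₁ 1 = Curv2.deg k X S.X₃ 1)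
    (φ : S.X₂ ⟶ CohB1.tensorMod S.X₂ L)
    (hni : ¬ ∃ χ : S.X₁ ⟶ CohB1.tensorMod S.X₁ L, χ ≫ tensorMap S.f (𝟙 L) = S.f ≫ φ) :
    Nonempty (S.X₁ ≅ CohB1.tensorMod S.X₃ L) := by
  obtain ⟨L', hL', ⟨e⟩, -⟩ := Groth.Agent.Lib.helper12.InvDual.exists_inverse hL
  have hB1 := (Groth.Agent.Lib.helper16.FLF.isInvertible_iff_isFinLocFreeOfRank_one _).mp hB
  obtain ⟨hBL, hBLd⟩ := deg_tensor_invertible k X hdim hB1 hL
  have hBLinv := (Groth.Agent.Lib.helper16.FLF.isInvertible_iff_isFinLocFreeOfRank_one _).mpr hBL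
  have hne : (S.f ≫ φ) ≫ tensorMap S.g (𝟙 L) ≠ 0 := by
    intro h0
    exact hni (exists_lift_tensorRight X e hS (S.f ≫ φ) h0)
  haveI := isIso_of_isInvertible_of_deg_eq k X hP hdim hA hBLinv _ hne (by
    rw [hBLd, hL0, hdeg]
    push_cast
    ring)
  exact ⟨asIso ((S.f ≫ φ) ≫ tensorMap S.g (𝟙 L))⟩

/-- genus one, `deg L = 0`, `L ⊗ L ≇ O`: a stable `L`-twisted pair of rank two has a stable underlying module -/
theorem stable_of_stablePair_rank_two_genus_one [IsAlgClosed k] (hP : PIDStalks X)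
    (hdim : topologicalKrullDim X = 1) (hg : Curv2.genus k X = 1)
    {L : X.Modules} (hL : PicF.IsInvertible L) (hL0 : Curv2.deg k X L 1 = 0)
    (hL2 : ¬ Nonempty (CohB1.tensorMod L L ≅ Coh.structureModule X))
    {E : X.Modules} (hE : FlatMod.IsFinLocFreeOfRank 2 E) (φ : E ⟶ CohB1.tensorMod E L)
    (hst : ∀ (G : X.Modules) (j : G ⟶ E) (χ : G ⟶ CohB1.tensorMod G L), Mono j →
      FlatMod.IsFinLocFreeOfRank 1 G → χ ≫ tensorMap j (𝟙 L) = j ≫ φ →
      Curv2.deg k X G 1 * 2 < Curv2.deg k X E 2) :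
    ∀ (G : X.Modules) (j : G ⟶ E), Mono j → FlatMod.IsFinLocFreeOfRank 1 G →
      Curv2.deg k X G 1 * 2 < Curv2.deg k X E 2 := by
  have hd := hdim.le
  -- `E` is semistable
  have hss : ∀ (G : X.Modules) (n : ℕ) (j : G ⟶ E), Mono j → 0 < n → FlatMod.IsFinLocFreeOfRank n G →
      Curv2.deg k X G n * ((2 : ℕ) : ℤ) ≤ Curv2.deg k X E 2 * (n : ℤ) := by
    refine semistable_of_semistablePair_deg_zero k X hP hd hL hL0 (by norm_num) hE φ ?_
    intro G n j χ hj hn hG hχ
    haveI := hj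
    have hle := rank_le_of_mono X hG hE j
    interval_cases n
    · have := hst G j χ hj hG hχ
      push_cast
      linarith
    · have := deg_le k X hd hG hE j
      push_cast
      linarith
  intro G j hj hG
  haveI := hj
  by_contra hcon
  push Not at hcon
  obtain ⟨A, l, ι, t, hm, hl, hA, hrk, hQ⟩ := exists_saturation k X hP hd hG hE j
  haveI := hm
  have ht : t = 1 := by omega
  subst ht
  haveI : Mono l := mono_of_mono_fac hl
  have hGA := deg_le k X hd hG hA l
  have hAss := hss A 1 ι hm one_pos hA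
  push_cast at hAss
  have hAeq : Curv2.deg k X A 1 * 2 = Curv2.deg k X E 2 := by linarith
  have hS := shortExact_cokernel X ι
  have hAc := Groth.Agent.Lib.Lead.RankAdd.isCoh_of_isFinLocFreeOfRank hA
  have hQc := Groth.Agent.Lib.Lead.RankAdd.isCoh_of_isFinLocFreeOfRank hQ
  have hadd := Groth.Agent.Lib.Lead.ProperEuler.deg_additive k hS hAc hQc 1 2 1 rfl
  change Curv2.deg k X E 2 = Curv2.deg k X A 1 + Curv2.deg k X (cokernel ι) 1 at hadd
  have hQd : Curv2.deg k X A 1 = Curv2.deg k X (cokernel ι) 1 := by linarith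
  have hAinv := (Groth.Agent.Lib.helper16.FLF.isInvertible_iff_isFinLocFreeOfRank_one _).mpr hA
  have hQinv := (Groth.Agent.Lib.helper16.FLF.isInvertible_iff_isFinLocFreeOfRank_one _).mpr hQ
  -- `A` is not invariant
  have hniA : ¬ ∃ χ : A ⟶ CohB1.tensorMod A L, χ ≫ tensorMap ι (𝟙 L) = ι ≫ φ := by
    rintro ⟨χ, hχ⟩
    have := hst A ι χ hm hA hχ
    linarith
  obtain ⟨e1⟩ := nonempty_iso_tensor_of_not_invariant k X hP hd hL hL0
    (ShortComplex.mk ι (cokernel.π ι) (cokernel.condition ι)) hS hAinv hQinv hQd φ hniA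
  by_cases hsp : IsSplitEpi (cokernel.π ι)
  · -- split case
    obtain ⟨⟨s, hs⟩⟩ := hsp
    let sp := ShortComplex.Splitting.ofExactOfSection
      (ShortComplex.mk ι (cokernel.π ι) (cokernel.condition ι)) hS.exact s hs hm
    have hsr : s ≫ sp.r = 0 := sp.s_r
    let sp' : (ShortComplex.mk s sp.r hsr).Splitting :=
      { r := cokernel.π ι
        s := ι
        f_r := hs
        s_g := sp.f_r
        id := by
          have := sp.id
          change sp.r ≫ ι + cokernel.π ι ≫ s = 𝟙 E at this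
          change cokernel.π ι ≫ s + sp.r ≫ ι = 𝟙 E
          rw [add_comm]
          exact this }
    have hS' := sp'.shortExact
    haveI hms : Mono s := hS'.mono_f
    have hniQ : ¬ ∃ χ : cokernel ι ⟶ CohB1.tensorMod (cokernel ι) L, χ ≫ tensorMap s (𝟙 L) = s ≫ φ := by
      rintro ⟨χ, hχ⟩
      have := hst (cokernel ι) s χ hms hQ hχ
      linarith
    obtain ⟨e2⟩ := nonempty_iso_tensor_of_not_invariant k X hP hd hL hL0
      (ShortComplex.mk s sp.r hsr) hS' hQinv hAinv hQd.symm φ hniQ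
    -- `A ≅ Q ⊗ L ≅ (A ⊗ L) ⊗ L ≅ A ⊗ (L ⊗ L)`
    exact hL2 (nonempty_iso_structureModule_of_iso_tensor hAinv
      (e1 ≪≫ tensorIso e2 (Iso.refl L) ≪≫ assoc A L L))
  · -- non-split case
    obtain ⟨e3⟩ := nonempty_iso_of_not_isSplitEpi_of_deg_eq k X hP hdim hg
      (ShortComplex.mk ι (cokernel.π ι) (cokernel.condition ι)) hS hAinv hQinv hQd hsp
    obtain ⟨e4⟩ := nonempty_iso_structureModule_of_iso_tensor hQinv (e3.symm ≪≫ e1)
    exact hL2 ⟨tensorIso e4 e4 ≪≫ leftUnitor _⟩

end curve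

end Groth.Agent.Lib.Lead.VBCurve
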