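import Mathlib
import Groth.Agent.Lib.Lead.VBCurve29

/-!
# Morphisms of twisted tuples (lead)

* `exists_invariant_image`, `exists_invariant_kernel`: for `f : E ⟶ F` compatible with `φ : E ⟶ E ⊗ L`, `ψ : F ⟶ F ⊗ L`
  (`L` invertible), the image of `f` is `ψ`-invariant and the kernel is `φ`-invariant.
* `slope_le_of_ne_zero_hom_semistableTuple`: a nonzero compatible morphism between semistable tuples forces
  `μ(E) ≤ μ(F)`.
-/

set_option autoImplicit false
set_option linter.style.haveILetI false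
set_option linter.unusedSectionVars false
set_option backward.isDefEq.respectTransparency false
universe u
open CategoryTheory CategoryTheory.Limits AlgebraicGeometry Opposite TopologicalSpace Module

namespace Groth.Agent.Lib.Lead.VBCurve

open Groth.Agent.Lib.Lead.ModTensor Groth.Agent.Lib.Helper20.TensorEquiv

section general

variable {X : Scheme.{u}}

/-- the image of a compatible morphism is invariant -/
theorem exists_invariant_image {L L' : X.Modules} (e : CohB1.tensorMod L L' ≅ Coh.structureModule X)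
    {E F : X.Modules} (φ : E ⟶ CohB1.tensorMod E L) (ψ : F ⟶ CohB1.tensorMod F L) (f : E ⟶ F)
    (hf : f ≫ ψ = φ ≫ tensorMap f (𝟙 L)) :
    ∃ χ : Abelian.image f ⟶ CohB1.tensorMod (Abelian.image f) L,
      χ ≫ tensorMap (Abelian.image.ι f) (𝟙 L) = Abelian.image.ι f ≫ ψ := by
  refine exists_lift_tensorRight X e (shortExact_cokernel X (Abelian.image.ι f)) (Abelian.image.ι f ≫ ψ) ?_
  change (Abelian.image.ι f ≫ ψ) ≫ tensorMap (cokernel.π (Abelian.image.ι f)) (𝟙 L) = 0
  have hfac : Abelian.factorThruImage f ≫ Abelian.image.ι f = f := Abelian.image.fac f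
  rw [← cancel_epi (Abelian.factorThruImage f), comp_zero, Category.assoc, reassoc_of% hfac,
    reassoc_of% hf]
  have h := tensorMap_comp f (cokernel.π (Abelian.image.ι f)) (𝟙 L) (𝟙 L)
  rw [Category.comp_id] at h
  rw [← h]
  have h0 : f ≫ cokernel.π (Abelian.image.ι f) = 0 := by
    calc f ≫ cokernel.π (Abelian.image.ι f)
        = Abelian.factorThruImage f ≫ Abelian.image.ι f ≫ cokernel.π (Abelian.image.ι f) := by
          rw [reassoc_of% hfac]
      _ = 0 := by rw [cokernel.condition, comp_zero]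
  rw [h0, tensorMap_zero e, comp_zero]

/-- the kernel of a compatible morphism is invariant -/
theorem exists_invariant_kernel {L L' : X.Modules} (e : CohB1.tensorMod L L' ≅ Coh.structureModule X)
    {E F : X.Modules} (φ : E ⟶ CohB1.tensorMod E L) (ψ : F ⟶ CohB1.tensorMod F L) (f : E ⟶ F)
    (hf : f ≫ ψ = φ ≫ tensorMap f (𝟙 L)) :
    ∃ χ : kernel f ⟶ CohB1.tensorMod (kernel f) L,
      χ ≫ tensorMap (kernel.ι f) (𝟙 L) = kernel.ι f ≫ φ := by
  refine exists_lift_tensorRight X e (shortExact_kernel_image f) (kernel.ι f ≫ φ) ?_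
  change (kernel.ι f ≫ φ) ≫ tensorMap (Abelian.factorThruImage f) (𝟙 L) = 0
  haveI : Mono (tensorMap (Abelian.image.ι f) (𝟙 L)) := mono_tensorMap e (Abelian.image.ι f)
  rw [← cancel_mono (tensorMap (Abelian.image.ι f) (𝟙 L)), zero_comp, Category.assoc, Category.assoc]
  have h := tensorMap_comp (Abelian.factorThruImage f) (Abelian.image.ι f) (𝟙 L) (𝟙 L)
  rw [Category.comp_id, Abelian.image.fac] at h
  rw [← h, ← hf, kernel.condition_assoc, zero_comp]

end general

section curve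

variable (k : Type u) [Field k] (X : Scheme.{u}) [X.Over (Spec (CommRingCat.of k))]
  [IsProper (X ↘ Spec (CommRingCat.of k))] [IsIntegral X]

/-- a nonzero compatible morphism between semistable tuples forces `μ(E) ≤ μ(F)` -/
theorem slope_le_of_ne_zero_hom_semistableTuple (hP : PIDStalks X)
    {ι : Type*} (L : ι → X.Modules) (hL : ∀ i, PicF.IsInvertible (L i))
    {r s : ℕ} (hr : 0 < r) (hs : 0 < s) {E F : X.Modules}
    (hE : FlatMod.IsFinLocFreeOfRank r E) (hF : FlatMod.IsFinLocFreeOfRank s F)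
    (φ : ∀ i, E ⟶ CohB1.tensorMod E (L i)) (ψ : ∀ i, F ⟶ CohB1.tensorMod F (L i))
    (hEss : ∀ (G : X.Modules) (n : ℕ) (j : G ⟶ E), Mono j → 0 < n → FlatMod.IsFinLocFreeOfRank n G →
      (∀ i, ∃ χ : G ⟶ CohB1.tensorMod G (L i), χ ≫ tensorMap j (𝟙 (L i)) = j ≫ φ i) →
      Curv2.deg k X G n * (r : ℤ) ≤ Curv2.deg k X E r * (n : ℤ))
    (hFss : ∀ (G : X.Modules) (n : ℕ) (j : G ⟶ F), Mono j → 0 < n → FlatMod.IsFinLocFreeOfRank n G →
      (∀ i, ∃ χ : G ⟶ CohB1.tensorMod G (L i), χ ≫ tensorMap j (𝟙 (L i)) = j ≫ ψ i) →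
      Curv2.deg k X G n * (s : ℤ) ≤ Curv2.deg k X F s * (n : ℤ))
    (f : E ⟶ F) (hf : ∀ i, f ≫ ψ i = φ i ≫ tensorMap f (𝟙 (L i))) (hne : f ≠ 0) :
    Curv2.deg k X E r * (s : ℤ) ≤ Curv2.deg k X F s * (r : ℤ) := by
  obtain ⟨rK, rI, hK, hI, hrr, hdeg, hpos, -, hK0⟩ := kernel_image_data k X hP hE hF f
  have hrI := hpos hne
  have hinvI : ∀ i, ∃ χ : Abelian.image f ⟶ CohB1.tensorMod (Abelian.image f) (L i),
      χ ≫ tensorMap (Abelian.image.ι f) (𝟙 (L i)) = Abelian.image.ι f ≫ ψ i := by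
    intro i
    obtain ⟨L', -, ⟨e⟩, -⟩ := Groth.Agent.Lib.helper12.InvDual.exists_inverse (hL i)
    exact exists_invariant_image e (φ i) (ψ i) f (hf i)
  have hinvK : ∀ i, ∃ χ : kernel f ⟶ CohB1.tensorMod (kernel f) (L i),
      χ ≫ tensorMap (kernel.ι f) (𝟙 (L i)) = kernel.ι f ≫ φ i := by
    intro i
    obtain ⟨L', -, ⟨e⟩, -⟩ := Groth.Agent.Lib.helper12.InvDual.exists_inverse (hL i)
    exact exists_invariant_kernel e (φ i) (ψ i) f (hf i)
  have h1 := hFss (Abelian.image f) rI (Abelian.image.ι f) inferInstance hrI hI hinvI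
  have h2 : Curv2.deg k X (kernel f) rK * (r : ℤ) ≤ Curv2.deg k X E r * (rK : ℤ) := by
    rcases Nat.eq_zero_or_pos rK with h0 | h0
    · rw [hK0 h0, h0]
      simp
    · exact hEss (kernel f) rK (kernel.ι f) inferInstance h0 hK hinvK
  have hr' : (r : ℤ) = (rK : ℤ) + (rI : ℤ) := by exact_mod_cast hrr
  have hrI' : (0 : ℤ) < (rI : ℤ) := by exact_mod_cast hrI
  have hs' : (0 : ℤ) < (s : ℤ) := by exact_mod_cast hs
  have hr0 : (0 : ℤ) < (r : ℤ) := by exact_mod_cast hr
  -- `deg E * rI ≤ deg I * r`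
  have h3 : Curv2.deg k X E r * (rI : ℤ) ≤ Curv2.deg k X (Abelian.image f) rI * (r : ℤ) := by
    have : Curv2.deg k X (kernel f) rK = Curv2.deg k X E r - Curv2.deg k X (Abelian.image f) rI := by
      linarith
    rw [this, hr'] at h2
    rw [hr']
    ring_nf at h2 ⊢
    linarith
  by_contra hcon
  push Not at hcon
  nlinarith [mul_pos hrI' hs', mul_pos hrI' hr0]

end curve

end Groth.Agent.Lib.Lead.VBCurve
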