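import Mathlib
import Groth.Agent.Lib.Lead.VBCurve30

/-!
# Harder–Narasimhan type arguments for twisted pairs (lead)

`X` an integral proper curve with PID stalks over a field `k`, `L` invertible, `φ : E ⟶ E ⊗ L`.
* `IsInvariant φ j`: the submodule `j : G ⟶ E` is `φ`-invariant.
* `isInvariant_iff_comp_zero`: criterion via the quotient.
* `eq_of_comp_eq_of_rank_eq`: a full-rank submodule is "dense" for maps into bundles.
* `isInvariant_saturation`, `isInvariant_preimage`.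
* `exists_maxSlope_invariant`: maximal destabilising invariant submodule (saturated).
* `semistablePair_of_commuting_endo`: if every submodule invariant under `φ` and a commuting endomorphism `ψ` satisfies
  the slope inequality, so does every `φ`-invariant submodule.
-/

set_option autoImplicit false
set_option linter.style.haveILetI false
set_option linter.unusedSectionVars false
set_option backward.isDefEq.respectTransparency false
universe u
open CategoryTheory CategoryTheory.Limits AlgebraicGeometry Opposite TopologicalSpace Module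

namespace Groth.Agent.Lib.Lead.VBCurve

open Groth.Agent.Lib.Lead.ModTensor Groth.Agent.Lib.Helper20.TensorEquiv

section general

variable {X : Scheme.{u}}

/-- `j : G ⟶ E` is `φ`-invariant -/
def IsInvariant {E L : X.Modules} (φ : E ⟶ CohB1.tensorMod E L) {G : X.Modules} (j : G ⟶ E) : Prop :=
  ∃ χ : G ⟶ CohB1.tensorMod G L, χ ≫ tensorMap j (𝟙 L) = j ≫ φ

lemma tmR_comp {A B C : X.Modules} (f : A ⟶ B) (g : B ⟶ C) (L : X.Modules) :
    tensorMap (f ≫ g) (𝟙 L) = tensorMap f (𝟙 L) ≫ tensorMap g (𝟙 L) := by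
  have h := tensorMap_comp f g (𝟙 L) (𝟙 L)
  rwa [Category.comp_id] at h

lemma isInvariant_id {E L : X.Modules} (φ : E ⟶ CohB1.tensorMod E L) : IsInvariant φ (𝟙 E) :=
  ⟨φ, by rw [tensorMap_id, Category.comp_id, Category.id_comp]⟩

/-- criterion for invariance via the quotient -/
theorem isInvariant_iff_comp_zero {L L' : X.Modules} (e : CohB1.tensorMod L L' ≅ Coh.structureModule X)
    (S : ShortComplex X.Modules) (hS : S.ShortExact) (φ : S.X₂ ⟶ CohB1.tensorMod S.X₂ L) :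
    IsInvariant φ S.f ↔ (S.f ≫ φ) ≫ tensorMap S.g (𝟙 L) = 0 := by
  constructor
  · rintro ⟨χ, hχ⟩
    rw [← hχ, Category.assoc, ← tmR_comp, S.zero, tensorMap_zero e, comp_zero]
  · intro h
    exact exists_lift_tensorRight X e hS (S.f ≫ φ) h

/-- invariance is transitive -/
theorem IsInvariant.comp {E L : X.Modules} {φ : E ⟶ CohB1.tensorMod E L} {G : X.Modules} {j : G ⟶ E}
    {χ : G ⟶ CohB1.tensorMod G L} (hχ : χ ≫ tensorMap j (𝟙 L) = j ≫ φ) {K : X.Modules} {κ : K ⟶ G}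
    (hK : IsInvariant χ κ) : IsInvariant φ (κ ≫ j) := by
  obtain ⟨χK, hχK⟩ := hK
  exact ⟨χK, by rw [tmR_comp, reassoc_of% hχK, hχ, Category.assoc]⟩

end general

section curve

variable (k : Type u) [Field k] (X : Scheme.{u}) [X.Over (Spec (CommRingCat.of k))]
  [IsProper (X ↘ Spec (CommRingCat.of k))] [IsIntegral X]

include k in
/-- two maps from a bundle into a bundle that agree on a submodule of full rank agree -/
theorem eq_of_comp_eq_of_rank_eq (hP : PIDStalks X) {G G₁ T : X.Modules} {s t : ℕ}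
    (hG : FlatMod.IsFinLocFreeOfRank s G) (hG₁ : FlatMod.IsFinLocFreeOfRank s G₁)
    (hT : FlatMod.IsFinLocFreeOfRank t T) (l : G ⟶ G₁) [Mono l] (a b : G₁ ⟶ T) (h : l ≫ a = l ≫ b) :
    a = b := by
  rw [← sub_eq_zero]
  by_contra hne
  obtain ⟨rK, rI, hK, hI, hrr, -, hpos, -, -⟩ := kernel_image_data k X hP hG₁ hT (a - b)
  have hrI := hpos hne
  have hl0 : l ≫ (a - b) = 0 := by rw [Preadditive.comp_sub, h, sub_self]
  haveI : Mono (kernel.lift (a - b) l hl0) := mono_of_mono_fac (kernel.lift_ι _ _ _)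
  have := rank_le_of_mono X hG hK (kernel.lift (a - b) l hl0)
  omega

include k in
/-- the saturation of an invariant submodule is invariant -/
theorem isInvariant_saturation (hP : PIDStalks X) (hdim : topologicalKrullDim X ≤ 1)
    {L : X.Modules} (hL : PicF.IsInvertible L)
    {E : X.Modules} (φ : E ⟶ CohB1.tensorMod E L) {G G₁ : X.Modules} {s t : ℕ}
    (hG : FlatMod.IsFinLocFreeOfRank s G) (hG₁ : FlatMod.IsFinLocFreeOfRank s G₁)
    (ι : G ⟶ E) (l : G ⟶ G₁) (ι₁ : G₁ ⟶ E) [Mono ι₁] (hl : l ≫ ι₁ = ι) [Mono ι]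
    (hQ : FlatMod.IsFinLocFreeOfRank t (cokernel ι₁)) (hinv : IsInvariant φ ι) : IsInvariant φ ι₁ := by
  obtain ⟨L', -, ⟨e⟩, -⟩ := Groth.Agent.Lib.helper12.InvDual.exists_inverse hL
  haveI : Mono l := mono_of_mono_fac (hl.trans rfl)
  obtain ⟨hQL, -⟩ := deg_tensor_invertible k X hdim hQ hL
  refine (isInvariant_iff_comp_zero e (ShortComplex.mk ι₁ (cokernel.π ι₁) (cokernel.condition ι₁))
    (shortExact_cokernel X ι₁) φ).mpr ?_
  change (ι₁ ≫ φ) ≫ tensorMap (cokernel.π ι₁) (𝟙 L) = 0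
  refine eq_of_comp_eq_of_rank_eq k X hP hG hG₁ hQL l _ 0 ?_
  obtain ⟨χ, hχ⟩ := hinv
  rw [comp_zero, Category.assoc, reassoc_of% hl, ← reassoc_of% hχ, ← tmR_comp, ← hl, Category.assoc,
    cokernel.condition, comp_zero, tensorMap_zero e, comp_zero]

/-- the preimage of an invariant submodule of the quotient pair is invariant -/
theorem isInvariant_preimage {L L' : X.Modules} (e : CohB1.tensorMod L L' ≅ Coh.structureModule X)
    (S : ShortComplex X.Modules) (hS : S.ShortExact) (φ : S.X₂ ⟶ CohB1.tensorMod S.X₂ L)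
    (φbar : S.X₃ ⟶ CohB1.tensorMod S.X₃ L) (hφbar : S.g ≫ φbar = φ ≫ tensorMap S.g (𝟙 L))
    {H P : X.Modules} (i : H ⟶ S.X₃) (hi : IsInvariant φbar i)
    (a : P ⟶ S.X₂) [Mono a] (f' : S.X₁ ⟶ P) (g' : P ⟶ H) [Epi g'] (hf' : f' ≫ a = S.f)
    (hag : a ≫ S.g = g' ≫ i) : IsInvariant φ a := by
  haveI := hS.epi_g
  refine (isInvariant_iff_comp_zero e (ShortComplex.mk a (cokernel.π a) (cokernel.condition a))
    (shortExact_cokernel X a) φ).mpr ?_
  change (a ≫ φ) ≫ tensorMap (cokernel.π a) (𝟙 L) = 0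
  -- `cokernel.π a` factors through `S.g`
  have h0 : S.f ≫ cokernel.π a = 0 := by rw [← hf', Category.assoc, cokernel.condition, comp_zero]
  let q : S.X₃ ⟶ cokernel a := hS.exact.desc (cokernel.π a) h0
  have hq : S.g ≫ q = cokernel.π a := hS.exact.g_desc _ _
  have hiq : i ≫ q = 0 := by
    rw [← cancel_epi g', comp_zero, ← reassoc_of% hag, hq, cokernel.condition]
  obtain ⟨χH, hχH⟩ := hi
  rw [← hq, tmR_comp, Category.assoc, ← reassoc_of% hφbar, reassoc_of% hag, ← reassoc_of% hχH, ← tmR_comp,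
    hiq, tensorMap_zero e, comp_zero, comp_zero]

/-- existence of a saturated invariant submodule of maximal slope and, among those, of maximal rank -/
theorem exists_maxSlope_invariant (hP : PIDStalks X) (hdim : topologicalKrullDim X ≤ 1)
    {L : X.Modules} (hL : PicF.IsInvertible L) {E : X.Modules} {r : ℕ} (hr : 0 < r)
    (hE : FlatMod.IsFinLocFreeOfRank r E) (φ : E ⟶ CohB1.tensorMod E L) :
    ∃ (E₁ : X.Modules) (r₁ t : ℕ) (i₁ : E₁ ⟶ E), Mono i₁ ∧ 0 < r₁ ∧ FlatMod.IsFinLocFreeOfRank r₁ E₁ ∧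
      IsInvariant φ i₁ ∧ r = r₁ + t ∧ FlatMod.IsFinLocFreeOfRank t (cokernel i₁) ∧
      (∀ (G : X.Modules) (r' : ℕ) (j : G ⟶ E), Mono j → 0 < r' → FlatMod.IsFinLocFreeOfRank r' G →
        IsInvariant φ j → Curv2.deg k X G r' * (r₁ : ℤ) ≤ Curv2.deg k X E₁ r₁ * (r' : ℤ)) ∧
      (∀ (G : X.Modules) (r' : ℕ) (j : G ⟶ E), Mono j → 0 < r' → FlatMod.IsFinLocFreeOfRank r' G →
        IsInvariant φ j → Curv2.deg k X G r' * (r₁ : ℤ) = Curv2.deg k X E₁ r₁ * (r' : ℤ) → r' ≤ r₁) := by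
  have hEc := Groth.Agent.Lib.Lead.RankAdd.isCoh_of_isFinLocFreeOfRank hE
  let S : ℤ → ℕ → Prop := fun d r' => ∃ (G : X.Modules) (j : G ⟶ E), Mono j ∧ 0 < r' ∧
    FlatMod.IsFinLocFreeOfRank r' G ∧ IsInvariant φ j ∧ Curv2.deg k X G r' = d
  obtain ⟨d₁, r₁, ⟨E₀, i₀, hm₀, hr₁, hE₀, hinv₀, hd₀⟩, hmax, hrk⟩ := exists_max_pair S r
    ((finrank k (Coh.HH X E 0) : ℤ) + (r : ℤ) * |Curv2.euler k X (Coh.structureModule X)|)
    (by
      rintro d r' ⟨G, j, hj, hr', hG, -, rfl⟩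
      haveI := hj
      have hle := rank_le_of_mono X hG hE j
      exact ⟨hr', hle, deg_le_of_mono_of_rank_le k X hdim
        (Groth.Agent.Lib.Lead.RankAdd.isCoh_of_isFinLocFreeOfRank hG).1 hEc j r' r hle⟩)
    ⟨_, r, E, 𝟙 E, inferInstance, hr, hE, isInvariant_id φ, rfl⟩
  haveI := hm₀
  obtain ⟨E₁, l, i₁, t, hm₁, hl, hE₁, hrt, hQ⟩ := exists_saturation k X hP hdim hE₀ hE i₀
  haveI := hm₁
  haveI : Mono l := mono_of_mono_fac (hl.trans rfl)
  have hinv₁ := isInvariant_saturation k X hP hdim hL φ hE₀ hE₁ i₀ l i₁ hl hQ hinv₀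
  have hle := deg_le k X hdim hE₀ hE₁ l
  have hr₁' : (0 : ℤ) < (r₁ : ℤ) := by exact_mod_cast hr₁
  have h1 := hmax _ r₁ ⟨E₁, i₁, hm₁, hr₁, hE₁, hinv₁, rfl⟩
  have hd₁ : Curv2.deg k X E₁ r₁ = d₁ := by
    have : Curv2.deg k X E₁ r₁ ≤ d₁ := le_of_mul_le_mul_right h1 hr₁'
    rw [hd₀] at hle
    exact le_antisymm this hle
  refine ⟨E₁, r₁, t, i₁, hm₁, hr₁, hE₁, hinv₁, hrt, hQ, fun G r' j hj hr' hG hinv => ?_,
    fun G r' j hj hr' hG hinv heq => ?_⟩
  · rw [hd₁]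
    exact hmax _ r' ⟨G, j, hj, hr', hG, hinv, rfl⟩
  · rw [hd₁] at heq
    exact hrk _ r' ⟨G, j, hj, hr', hG, hinv, rfl⟩ heq

/-- **commuting endomorphisms do not change semistability of pairs**: if every submodule invariant under `φ` and under
an endomorphism `ψ` commuting with `φ` satisfies the slope inequality, so does every `φ`-invariant submodule. -/
theorem semistablePair_of_commuting_endo (hP : PIDStalks X) (hdim : topologicalKrullDim X ≤ 1)
    {L : X.Modules} (hL : PicF.IsInvertible L) {E : X.Modules} {r : ℕ} (hr : 0 < r)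
    (hE : FlatMod.IsFinLocFreeOfRank r E) (φ : E ⟶ CohB1.tensorMod E L) (ψ : E ⟶ E)
    (hcomm : ψ ≫ φ = φ ≫ tensorMap ψ (𝟙 L))
    (hss : ∀ (G : X.Modules) (n : ℕ) (j : G ⟶ E) (χ : G ⟶ CohB1.tensorMod G L) (ψ' : G ⟶ G), Mono j → 0 < n →
      FlatMod.IsFinLocFreeOfRank n G → χ ≫ tensorMap j (𝟙 L) = j ≫ φ → ψ' ≫ j = j ≫ ψ →
      Curv2.deg k X G n * (r : ℤ) ≤ Curv2.deg k X E r * (n : ℤ)) :
    ∀ (G : X.Modules) (n : ℕ) (j : G ⟶ E) (χ : G ⟶ CohB1.tensorMod G L), Mono j → 0 < n →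
      FlatMod.IsFinLocFreeOfRank n G → χ ≫ tensorMap j (𝟙 L) = j ≫ φ →
      Curv2.deg k X G n * (r : ℤ) ≤ Curv2.deg k X E r * (n : ℤ) := by
  obtain ⟨L', -, ⟨e⟩, -⟩ := Groth.Agent.Lib.helper12.InvDual.exists_inverse hL
  obtain ⟨E₁, r₁, t, i₁, hm₁, hr₁, hE₁, ⟨χ₁, hχ₁⟩, hrt, hQ, hmax, hrk⟩ :=
    exists_maxSlope_invariant k X hP hdim hL hr hE φ
  haveI := hm₁
  have hS := shortExact_cokernel X i₁
  have hr₁' : (0 : ℤ) < (r₁ : ℤ) := by exact_mod_cast hr₁
  have hr' : (0 : ℤ) < (r : ℤ) := by exact_mod_cast hr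
  -- the quotient pair
  have hφ0 : i₁ ≫ φ ≫ tensorMap (cokernel.π i₁) (𝟙 L) = 0 := by
    rw [← reassoc_of% hχ₁, ← tmR_comp, cokernel.condition, tensorMap_zero e, comp_zero]
  let φbar : cokernel i₁ ⟶ CohB1.tensorMod (cokernel i₁) L :=
    cokernel.desc i₁ (φ ≫ tensorMap (cokernel.π i₁) (𝟙 L)) hφ0
  have hφbar : cokernel.π i₁ ≫ φbar = φ ≫ tensorMap (cokernel.π i₁) (𝟙 L) := cokernel.π_desc _ _ _
  -- invariant submodules of the quotient have smaller slope
  have hlt : ∀ (H : X.Modules) (s : ℕ) (i : H ⟶ cokernel i₁), Mono i → 0 < s → FlatMod.IsFinLocFreeOfRank s H →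
      IsInvariant φbar i → Curv2.deg k X H s * (r₁ : ℤ) < Curv2.deg k X E₁ r₁ * (s : ℤ) := by
    intro H s i hi hs hH hinvH
    haveI := hi
    have hq : (cokernel i₁).IsQuasicoherent :=
      (Groth.Agent.Lib.Lead.RankAdd.isCoh_of_isFinLocFreeOfRank hQ).1
    obtain ⟨P, a, f', g', ha, hf', hag, hg', hPr, hPd⟩ :=
      preimage_data k X hP (ShortComplex.mk i₁ (cokernel.π i₁) (cokernel.condition i₁)) hS hq hE₁ hE hH i
    haveI := ha
    haveI := hg'
    have hinvP : IsInvariant φ a :=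
      isInvariant_preimage X e (ShortComplex.mk i₁ (cokernel.π i₁) (cokernel.condition i₁)) hS φ φbar hφbar
        i hinvH a f' g' hf' hag
    have h1 := hmax P (r₁ + s) a ha (by omega) hPr hinvP
    change Curv2.deg k X P (r₁ + s) = Curv2.deg k X E₁ r₁ + Curv2.deg k X H s at hPd
    rw [hPd] at h1
    push_cast at h1
    have e1 : (Curv2.deg k X E₁ r₁ + Curv2.deg k X H s) * (r₁ : ℤ) =
        Curv2.deg k X E₁ r₁ * (r₁ : ℤ) + Curv2.deg k X H s * (r₁ : ℤ) := by ring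
    have e2 : Curv2.deg k X E₁ r₁ * ((r₁ : ℤ) + (s : ℤ)) =
        Curv2.deg k X E₁ r₁ * (r₁ : ℤ) + Curv2.deg k X E₁ r₁ * (s : ℤ) := by ring
    have hle : Curv2.deg k X H s * (r₁ : ℤ) ≤ Curv2.deg k X E₁ r₁ * (s : ℤ) := by linarith
    refine lt_of_le_of_ne hle (fun heq => ?_)
    have h2 := hrk P (r₁ + s) a ha (by omega) hPr hinvP (by
      rw [hPd]
      push_cast
      linarith)
    omega
  -- `E₁` is `ψ`-invariant
  have hc0 : (i₁ ≫ ψ) ≫ cokernel.π i₁ = 0 := by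
    by_contra hne
    set c : E₁ ⟶ cokernel i₁ := (i₁ ≫ ψ) ≫ cokernel.π i₁ with hc
    have hcc : c ≫ φbar = χ₁ ≫ tensorMap c (𝟙 L) := by
      rw [hc, Category.assoc, Category.assoc, hφbar, reassoc_of% hcomm, ← reassoc_of% hχ₁, ← tmR_comp,
        ← tmR_comp, Category.assoc]
    obtain ⟨rK, rI, hK, hI, hrr, hdeg, hpos, -, hK0⟩ := kernel_image_data k X hP hE₁ hQ c
    have hrI := hpos hne
    have hrI' : (0 : ℤ) < (rI : ℤ) := by exact_mod_cast hrI
    have h1 := hlt (Abelian.image c) rI (Abelian.image.ι c) inferInstance hrI hI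
      (exists_invariant_image e χ₁ φbar c hcc)
    have h2 : Curv2.deg k X (kernel c) rK * (r₁ : ℤ) ≤ Curv2.deg k X E₁ r₁ * (rK : ℤ) := by
      rcases Nat.eq_zero_or_pos rK with h0 | h0
      · rw [hK0 h0, h0]
        simp
      · exact hmax (kernel c) rK (kernel.ι c ≫ i₁) (mono_comp _ _) h0 hK
          (IsInvariant.comp hχ₁ (exists_invariant_kernel e χ₁ φbar c hcc))
    have hr₁eq : (r₁ : ℤ) = (rK : ℤ) + (rI : ℤ) := by exact_mod_cast hrr
    have : Curv2.deg k X (kernel c) rK = Curv2.deg k X E₁ r₁ - Curv2.deg k X (Abelian.image c) rI := by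
      linarith
    rw [this, hr₁eq] at h2
    rw [hr₁eq] at h1
    ring_nf at h1 h2
    linarith
  let ψ' : E₁ ⟶ E₁ := hS.exact.lift (i₁ ≫ ψ) hc0
  have hψ' : ψ' ≫ i₁ = i₁ ≫ ψ := hS.exact.lift_f _ _
  have h3 := hss E₁ r₁ i₁ χ₁ ψ' hm₁ hr₁ hE₁ hχ₁ hψ'
  intro G n j χ hj hn hG hχ
  have h4 := hmax G n j hj hn hG ⟨χ, hχ⟩
  have hn' : (0 : ℤ) < (n : ℤ) := by exact_mod_cast hn
  by_contra hcon
  push Not at hcon
  have a1 := mul_le_mul_of_nonneg_right h4 hr'.le
  have a2 := mul_le_mul_of_nonneg_right h3 hn'.le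
  have a3 := mul_lt_mul_of_pos_right hcon hr₁'
  linarith

end curve

end Groth.Agent.Lib.Lead.VBCurve
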