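import Mathlib
import Groth.Agent.Lib.Lead.VBCurve31
import Groth.Agent.Lib.Helper18.DegCalc
import Groth.Agent.Lib.Helper7.IdealCartier
import Groth.Agent.Lib.Helper7.CohKer
import Groth.Agent.Lib.Helper18.HHLES
import Groth.Agent.Lib.Helper18.HHZero
import Groth.Prelude.Def_ParBun2

/-!
# Generalised parabolic bundles on curves, part 1 (lead)

* `exists_mono_kernel_cokernel`: snake lemma consequence: for a morphism of short exact sequences with mono middle map,
  `ker τ₃ ↪ coker τ₁`.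
* `braid_naturality`, `shortExact_tensor_left`: `E ⊗ −` is exact for `E` finite locally free.
* `koszTw_tensorMap_eq`, `hhlin_eq`: bridges from the Prelude's `KoszTw.tensorMap`, `Canon.HHlin` to the library versions.
* `mem_range_of_map_eq_zero`: left exactness of `H⁰`.
* `finrank_ker_fibDMap_le`: for a monomorphism `i : G ⟶ E` of bundles of the same rank on a curve and an effective Cartier
  divisor `D`, `dim ker (H⁰(G ⊗ O_D) → H⁰(E ⊗ O_D)) ≤ deg E − deg G`.
-/

set_option autoImplicit false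
set_option linter.style.haveILetI false
set_option linter.unusedSectionVars false
set_option backward.isDefEq.respectTransparency false
universe u
open CategoryTheory CategoryTheory.Limits AlgebraicGeometry Opposite TopologicalSpace Module

namespace Groth.Agent.Lib.Lead.GPB

open Groth.Agent.Lib.Lead.ModTensor Groth.Agent.Lib.Helper20.TensorEquiv Groth.Agent.Lib.Lead.VBCurve

section abstract

variable {C : Type*} [Category C] [Abelian C]

/-- snake lemma consequence -/
theorem exists_mono_kernel_cokernel {S₁ S₂ : ShortComplex C} (h₁ : S₁.ShortExact) (h₂ : S₂.ShortExact)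
    (φ : S₁ ⟶ S₂) [Mono φ.τ₂] : ∃ δ : kernel φ.τ₃ ⟶ cokernel φ.τ₁, Mono δ := by
  let S : ShortComplex.SnakeInput C :=
    { L₀ := kernel φ, L₁ := S₁, L₂ := S₂, L₃ := cokernel φ
      v₀₁ := kernel.ι φ, v₁₂ := φ, v₂₃ := cokernel.π φ
      w₀₂ := kernel.condition φ, w₁₃ := cokernel.condition φ
      h₀ := kernelIsKernel φ, h₃ := cokernelIsCokernel φ
      L₁_exact := h₁.exact, epi_L₁_g := h₁.epi_g, L₂_exact := h₂.exact, mono_L₂_f := h₂.mono_f }
  haveI : Mono S.v₁₂.τ₂ := inferInstanceAs (Mono φ.τ₂)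
  have hz : IsZero S.L₀.X₂ := KernelFork.IsLimit.isZero_of_mono S.h₀τ₂
  haveI := S.mono_δ hz
  let e₀ : kernel φ.τ₃ ≅ S.L₀.X₃ := IsLimit.conePointUniqueUpToIso (limit.isLimit (parallelPair φ.τ₃ 0)) S.h₀τ₃
  let e₃ : S.L₃.X₁ ≅ cokernel φ.τ₁ :=
    IsColimit.coconePointUniqueUpToIso S.h₃τ₁ (colimit.isColimit (parallelPair φ.τ₁ 0))
  exact ⟨e₀.hom ≫ S.δ ≫ e₃.hom, inferInstance⟩

end abstract

section tensor

variable {X : Scheme.{u}}

lemma braid_naturality {M M' N N' : X.Modules} (f : M ⟶ M') (g : N ⟶ N') :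
    tensorMap f g ≫ (braid M' N').hom = (braid M N).hom ≫ tensorMap g f := by
  unfold tensorMap braid
  simp only [Functor.mapIso_hom]
  rw [← (L X).map_comp, ← (L X).map_comp]
  congr 1
  exact BraidedCategory.braiding_naturality _ _

/-- `E ⊗ −` is exact for `E` finite locally free -/
theorem shortExact_tensor_left (S : ShortComplex X.Modules) (hS : S.ShortExact) {n : ℕ} {E : X.Modules}
    (hE : FlatMod.IsFinLocFreeOfRank n E) :
    ∃ w, (ShortComplex.mk (tensorMap (𝟙 E) S.f) (tensorMap (𝟙 E) S.g) w).ShortExact := by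
  obtain ⟨w, hw⟩ := Groth.Agent.Lib.Helper18.DegCalc.shortExact_tensor S hS hE
  have e1 : tensorMap (𝟙 E) S.f = (braid E S.X₁).hom ≫ tensorMap S.f (𝟙 E) ≫ (braid E S.X₂).inv := by
    rw [← Category.assoc, ← braid_naturality, Category.assoc, Iso.hom_inv_id, Category.comp_id]
  have e2 : tensorMap (𝟙 E) S.g = (braid E S.X₂).hom ≫ tensorMap S.g (𝟙 E) ≫ (braid E S.X₃).inv := by
    rw [← Category.assoc, ← braid_naturality, Category.assoc, Iso.hom_inv_id, Category.comp_id]
  have w' : tensorMap (𝟙 E) S.f ≫ tensorMap (𝟙 E) S.g = 0 := by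
    rw [e1, e2]
    simp only [Category.assoc, Iso.inv_hom_id_assoc]
    rw [reassoc_of% w, zero_comp, comp_zero]
  refine ⟨w', ?_⟩
  let e : ShortComplex.mk (tensorMap S.f (𝟙 E)) (tensorMap S.g (𝟙 E)) w ≅
      ShortComplex.mk (tensorMap (𝟙 E) S.f) (tensorMap (𝟙 E) S.g) w' :=
    ShortComplex.isoMk (braid S.X₁ E) (braid S.X₂ E) (braid S.X₃ E)
      (by dsimp; exact (braid_naturality S.f (𝟙 E)).symm) (by dsimp; exact (braid_naturality S.g (𝟙 E)).symm)
  exact ShortComplex.shortExact_of_iso e hw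

lemma koszTw_tensorMap_eq {M M' N N' : X.Modules} (f : M ⟶ M') (g : N ⟶ N') :
    KoszTw.tensorMap f g = tensorMap f g := by
  unfold KoszTw.tensorMap tensorMap
  rw [MonoidalCategory.tensorHom_def, Functor.map_comp]
  rfl

end tensor

section HH

variable {X : Scheme.{u}}

open Groth.Agent.Lib.Helper18

lemma hhlin_eq (A : Type u) [CommRing A] [X.Over (Spec (CommRingCat.of A))] {F G : X.Modules} (φ : F ⟶ G)
    (r : ℕ) : Canon.HHlin A φ r = HH.mapOver A φ r := by
  ext x; rfl

/-- left exactness of `H⁰` -/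
theorem mem_range_of_map_eq_zero {F G : X.Modules} (ψ : F ⟶ G) (x : Coh.HH X F 0)
    (hx : HH.map ψ 0 x = 0) : ∃ y : Coh.HH X (kernel ψ) 0, HH.map (kernel.ι ψ) 0 y = x := by
  have h1 : (ψ.val.app (op ⊤)).hom (HH.equiv₀ F x) = 0 := by
    rw [← HH.equiv₀_naturality, hx, map_zero]
  obtain ⟨t, ht⟩ := Groth.Agent.Lib.helper7.KerSections.exists_kernel_section ψ ⊤ (HH.equiv₀ F x) h1
  refine ⟨(HH.equiv₀ (kernel ψ)).symm t, ?_⟩
  rw [HH.equiv₀_symm_naturality]
  apply (HH.equiv₀ F).injective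
  rw [LinearEquiv.apply_symm_apply]
  exact ht

/-- monomorphisms are injective on `H⁰` -/
theorem injective_map_zero_of_mono {F G : X.Modules} (ψ : F ⟶ G) [Mono ψ] :
    Function.Injective (HH.map ψ 0) :=
  HH.injective_map_f_zero (S := ShortComplex.mk ψ (cokernel.π ψ) (cokernel.condition ψ))
    (shortExact_cokernel X ψ)

end HH

section curve

variable (k : Type u) [Field k] (X : Scheme.{u}) [X.Over (Spec (CommRingCat.of k))]
  [IsProper (X ↘ Spec (CommRingCat.of k))] [IsIntegral X]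

open Groth.Agent.Lib.Helper18

/-- **Key lemma**: for a monomorphism `i : G ⟶ E` of bundles of the same rank and an effective Cartier divisor `D`,
`dim ker (H⁰(G ⊗ O_D) → H⁰(E ⊗ O_D)) ≤ deg E − deg G`. -/
theorem finrank_ker_fibDMap_le (hdim : topologicalKrullDim X ≤ 1) (I : X.IdealSheafData)
    (hD : FGA.IsEffCartier I) {G E : X.Modules} {n : ℕ} (hG : FlatMod.IsFinLocFreeOfRank n G)
    (hE : FlatMod.IsFinLocFreeOfRank n E) (i : G ⟶ E) [Mono i] :
    (finrank k (LinearMap.ker (ParSh.fibDMap k X I i)) : ℤ) ≤ Curv2.deg k X E n - Curv2.deg k X G n := by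
  haveI := Groth.Agent.Lib.Lead.CurveEuler.isNoetherian k X
  have hN : PicF.IsInvertible (ClSub.idealMod I) :=
    Groth.Agent.Lib.helper7.IdealCartier.invertible_of_effCartier I (fun x => hD x)
  have hGc := Groth.Agent.Lib.Lead.RankAdd.isCoh_of_isFinLocFreeOfRank hG
  have hEc := Groth.Agent.Lib.Lead.RankAdd.isCoh_of_isFinLocFreeOfRank hE
  let S₀ := Groth.Agent.Lib.helper7.IdealMod.idealSeq I
  have hS₀ : S₀.ShortExact := Groth.Agent.Lib.helper7.IdealMod.idealSeq_shortExact I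
  obtain ⟨wG, hRG⟩ := shortExact_tensor_left S₀ hS₀ hG
  obtain ⟨wE, hRE⟩ := shortExact_tensor_left S₀ hS₀ hE
  let φ : ShortComplex.mk _ _ wG ⟶ ShortComplex.mk _ _ wE :=
    ShortComplex.homMk (tensorMap i (𝟙 S₀.X₁)) (tensorMap i (𝟙 S₀.X₂)) (tensorMap i (𝟙 S₀.X₃))
      (by dsimp; rw [← tensorMap_comp, ← tensorMap_comp, Category.id_comp, Category.comp_id,
        Category.id_comp, Category.comp_id])
      (by dsimp; rw [← tensorMap_comp, ← tensorMap_comp, Category.id_comp, Category.comp_id,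
        Category.id_comp, Category.comp_id])
  haveI : Mono φ.τ₂ := Groth.Agent.Lib.helper11.TwistH1.mono_tensorMap_left i
    (Groth.Agent.Lib.helper11.InvMod.isInvertible_structureModule X)
  obtain ⟨δ, hδ⟩ := exists_mono_kernel_cokernel hRG hRE φ
  -- the two ends
  let ψ : CohB1.tensorMod G (ClSub.quotMod I) ⟶ CohB1.tensorMod E (ClSub.quotMod I) :=
    tensorMap i (𝟙 (ClSub.quotMod I))
  let η : CohB1.tensorMod G (ClSub.idealMod I) ⟶ CohB1.tensorMod E (ClSub.idealMod I) :=
    tensorMap i (𝟙 (ClSub.idealMod I))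
  let δ' : kernel ψ ⟶ cokernel η := δ
  haveI : Mono δ' := hδ
  -- degrees
  obtain ⟨hGN, hGd⟩ := deg_tensor_invertible k X hdim hG hN
  obtain ⟨hEN, hEd⟩ := deg_tensor_invertible k X hdim hE hN
  haveI : Mono η := Groth.Agent.Lib.helper11.TwistH1.mono_tensorMap_left i hN
  have hdeg := deg_sub_deg k X hdim hGN hEN η
  rw [hGd, hEd] at hdeg
  have hdeg' : (finrank k (Coh.HH X (cokernel η) 0) : ℤ) = Curv2.deg k X E n - Curv2.deg k X G n := by
    linarith
  rw [← hdeg']
  -- finiteness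
  have hGNc := Groth.Agent.Lib.Lead.RankAdd.isCoh_of_isFinLocFreeOfRank hGN
  have hENc := Groth.Agent.Lib.Lead.RankAdd.isCoh_of_isFinLocFreeOfRank hEN
  have hCc : Coh.IsCoh (cokernel η) := Groth.Agent.Lib.helper7.CohKer.isCoh_cokernel hGNc hENc η
  haveI : Module.Finite k (Coh.HH X (cokernel η) 0) :=
    Groth.Agent.Lib.Lead.ProperEuler.finite_HH k X (cokernel η) hCc 0
  -- `H⁰(ker ψ) ↪ H⁰(coker η)`
  have hinj : Function.Injective (HH.mapOver k δ' 0) := injective_map_zero_of_mono δ'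
  haveI : Module.Finite k (Coh.HH X (kernel ψ) 0) := Module.Finite.of_injective _ hinj
  have h1 : finrank k (Coh.HH X (kernel ψ) 0) ≤ finrank k (Coh.HH X (cokernel η) 0) :=
    LinearMap.finrank_le_finrank_of_injective hinj
  -- `ker F₀(i) ≤ range H⁰(ker ψ → G ⊗ O_D)`
  have hfib : ParSh.fibDMap k X I i = HH.mapOver k ψ 0 := by
    change Canon.HHlin k (KoszTw.tensorMap i (𝟙 _)) 0 = _
    rw [koszTw_tensorMap_eq, hhlin_eq]
  have h2 : LinearMap.ker (ParSh.fibDMap k X I i) ≤ LinearMap.range (HH.mapOver k (kernel.ι ψ) 0) := by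
    intro x hx
    rw [LinearMap.mem_ker, hfib] at hx
    obtain ⟨y, hy⟩ := mem_range_of_map_eq_zero ψ x hx
    exact ⟨y, hy⟩
  have h3 : finrank k (LinearMap.ker (ParSh.fibDMap k X I i)) ≤
      finrank k (LinearMap.range (HH.mapOver k (kernel.ι ψ) 0)) := by
    haveI : Module.Finite k (LinearMap.range (HH.mapOver k (kernel.ι ψ) 0)) :=
      Module.Finite.range _
    exact Submodule.finrank_mono h2
  have h4 : finrank k (LinearMap.range (HH.mapOver k (kernel.ι ψ) 0)) ≤
      finrank k (Coh.HH X (kernel ψ) 0) := LinearMap.finrank_range_le _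
  exact_mod_cast h3.trans (h4.trans h1)

end curve

end Groth.Agent.Lib.Lead.GPB
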