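import Mathlib
import Groth.Prelude.Def_Canon
import Groth.Prelude.Def_ZClos
import Groth.Agent.Lib.Lead.DimOneVanish
import Groth.Agent.Lib.Lead.VBCurve3
import Groth.Agent.Lib.Lead.GPB1
import Groth.Agent.Lib.Lead.HomHartogs
import Groth.Agent.Lib.Helper18.HHLoc2
import Groth.Agent.Lib.Helper18.HHConseq
import Groth.Agent.Lib.Helper7.QCohPushQC
import Groth.Agent.Lib.Helper7.CohKer
import Groth.Agent.Lib.Helper2.ZClosLib7
import Groth.Agent.Lib.Helper8.ZConn1

/-!
# Hartogs property of a dualizing module (lead)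

Let `A` be a domain, `X` a Noetherian scheme over `Spec A` and `(ω, tr)` a `1`-dualizing pair of `X` over `A`
(`Canon.IsRDualOver A X 1 ω tr`).  Let `U ⊆ X` be open, with complement consisting of closed points, and containing
`X_a` for some nonzero `a ∈ A`.  Then `ω ⟶ j_* j^* ω` is an isomorphism (`isIso_unit_of_isRDualOver`).

* `subsingleton_sections_kernel_unit`, `subsingleton_sections_cokernel_unit`: the kernel and cokernel of
  `F ⟶ j_* j^* F` have no sections over opens inside `U`.
* `isIso_unit_of_retraction`: a retraction of `F ⟶ j_* j^* F` is an inverse.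
* `exists_pow_smul_HH_zero`: global sections of a quasi-coherent module vanishing on `X_a` are `a`-power torsion.
* `isIso_unit_of_isRDualOver_local`: the case of `X` proper over a Noetherian local domain which is not a field.
-/

set_option autoImplicit false
set_option linter.style.haveILetI false
set_option linter.unusedSectionVars false
set_option backward.isDefEq.respectTransparency false
universe u
open CategoryTheory CategoryTheory.Limits AlgebraicGeometry Opposite TopologicalSpace

namespace Groth.Agent.Lib.Lead.DualHartogs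

open ZClos Groth.Agent.Lib.Lead.DimOneVanish Groth.Agent.Lib.Helper18

variable {X : Scheme.{u}}

/-- the unit `F ⟶ j_* j^* F` is injective on sections over opens inside `U` -/
theorem injective_unit_app (F : X.Modules) (U O : X.Opens) (hO : O ≤ U) :
    Function.Injective (((resPushUnit U).app F).app O) := by
  have : ((resPushUnit U).app F).app O = F.presheaf.map (homOfLE (U.ι.image_preimage_le O)).op :=
    Scheme.Modules.restrictAdjunction_unit_app_app U.ι F O
  rw [this]
  apply res_injective_of_le_of_ge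
  intro x hx
  exact ⟨⟨x, hO hx⟩, hx, rfl⟩

/-- the kernel of `F ⟶ j_* j^* F` has no sections over opens inside `U` -/
theorem subsingleton_sections_kernel_unit (F : X.Modules) (U O : X.Opens) (hO : O ≤ U) :
    Subsingleton Γ(kernel ((resPushUnit U).app F), O) := by
  set η := (resPushUnit U).app F
  refine ⟨fun a b => ?_⟩
  apply Groth.Agent.Lib.helper16.Satur.injective_app_of_mono (kernel.ι η) O
  apply injective_unit_app F U O hO
  have h : (kernel.ι η ≫ η).app O = 0 := by rw [kernel.condition]; rfl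
  have ha := congrArg (fun φ => φ a) h
  have hb := congrArg (fun φ => φ b) h
  simp only [Scheme.Modules.Hom.comp_app] at ha hb
  exact ha.trans hb.symm

/-- the cokernel of `F ⟶ j_* j^* F` has no sections over opens inside `U` -/
theorem subsingleton_sections_cokernel_unit (F : X.Modules) (U O : X.Opens) (hO : O ≤ U) :
    Subsingleton Γ(cokernel ((resPushUnit U).app F), O) := by
  set η := (resPushUnit U).app F
  let L := Scheme.Modules.restrictFunctor U.ι
  let adj := Scheme.Modules.restrictAdjunction U.ι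
  have hLη : IsIso (L.map η) := Groth.Agent.Lib.helper2.ZClosLib.isIso_restrict_unit U F
  have hLC : IsZero (L.obj (cokernel η)) := by
    haveI : PreservesColimitsOfSize.{0, 0} L := adj.leftAdjoint_preservesColimits
    have e : L.obj (cokernel η) ≅ cokernel (L.map η) := PreservesCokernel.iso L η
    haveI : Epi (L.map η) := IsIso.epi_of_iso _
    exact IsZero.of_iso (isZero_cokernel_of_epi (L.map η)) e
  have h1 : Subsingleton Γ(L.obj (cokernel η), U.ι ⁻¹ᵁ O) :=
    subsingleton_sections_of_isZero hLC _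
  have hle : U.ι ''ᵁ (U.ι ⁻¹ᵁ O) ≤ O := U.ι.image_preimage_le O
  have hge : O ≤ U.ι ''ᵁ (U.ι ⁻¹ᵁ O) := fun x hx => ⟨⟨x, hO hx⟩, hx, rfl⟩
  haveI : Subsingleton ↑((cokernel η).presheaf.obj (op (U.ι ''ᵁ U.ι ⁻¹ᵁ O))) := h1
  exact (res_injective_of_le_of_ge (cokernel η) hle hge).subsingleton

/-- a retraction of the unit `F ⟶ j_* j^* F` is an inverse -/
theorem isIso_unit_of_retraction (F : X.Modules) (U : X.Opens)
    (r : (resPush U).obj F ⟶ F) (hr : (resPushUnit U).app F ≫ r = 𝟙 F) :
    IsIso ((resPushUnit U).app F) := by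
  set η := (resPushUnit U).app F
  let L := Scheme.Modules.restrictFunctor U.ι
  let adj := Scheme.Modules.restrictAdjunction U.ι
  have hLη : IsIso (L.map η) := Groth.Agent.Lib.helper2.ZClosLib.isIso_restrict_unit U F
  have h1 : L.map η ≫ L.map r = 𝟙 _ := by rw [← L.map_comp, hr]; exact L.map_id F
  have h2 : L.map r ≫ L.map η = 𝟙 _ := by
    haveI : Epi (L.map η) := IsIso.epi_of_iso _
    have : L.map r = inv (L.map η) := by
      rw [← cancel_epi (L.map η), h1, IsIso.hom_inv_id]
    rw [this, IsIso.inv_hom_id]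
  have h3 : r ≫ η = 𝟙 _ := by
    apply (adj.homEquiv _ _).symm.injective
    rw [Adjunction.homEquiv_counit, Adjunction.homEquiv_counit, L.map_comp, h2]; exact congrArg (· ≫ _) (L.map_id _).symm
  exact ⟨r, hr, h3⟩

/-- sections over `⊤` of a quasi-coherent module that vanish on `X_a` are killed by a power of `a` -/
theorem exists_pow_smul_HH_zero (A : Type u) [CommRing A] [X.Over (Spec (CommRingCat.of A))]
    [CompactSpace X] (Q : X.Modules) [Q.IsQuasicoherent] (a : A)
    (h0 : Subsingleton Γ(Q, X.basicOpen (Coh.toGlobal (X ↘ Spec (CommRingCat.of A)) a)))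
    (s : Coh.HH X Q 0) : ∃ n : ℕ, a ^ n • s = 0 := by
  set f : Γ(X, ⊤) := Coh.toGlobal (X ↘ Spec (CommRingCat.of A)) a with hf
  obtain ⟨n, hn⟩ := HHLoc.exists_pow_smul_eq_zero' f Q (X.basicOpen f) rfl (HH.equiv₀ Q s)
    (Subsingleton.elim _ _)
  refine ⟨n, ?_⟩
  apply (HH.equiv₀ Q).injective
  rw [map_zero, HH.smul_over_def, map_pow, map_smul]
  exact hn

/-- **Hartogs for a dualizing module**: `ω ⟶ j_* j^* ω` is an isomorphism for a `1`-dualizing pair `(ω, tr)` over a
domain `A`, when `X ∖ U` consists of closed points and `U ⊇ X_a`, `a ≠ 0`. -/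
theorem isIso_unit_of_isRDualOver (A : Type u) [CommRing A] [IsDomain A]
    [X.Over (Spec (CommRingCat.of A))] [IsNoetherian X]
    (ω : X.Modules) (tr : Coh.HH X ω 1 →ₗ[A] A) (hω : Canon.IsRDualOver A X 1 ω tr)
    (U : X.Opens) (hcl : ∀ x : X, x ∉ U → IsClosed ({x} : Set X))
    (a : A) (ha : a ≠ 0)
    (haU : X.basicOpen (Coh.toGlobal (X ↘ Spec (CommRingCat.of A)) a) ≤ U) :
    IsIso ((resPushUnit U).app ω) := by
  haveI : ω.IsQuasicoherent := hω.1
  set η : ω ⟶ (resPush U).obj ω := (resPushUnit U).app ω with hη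
  haveI : QuasiCompact U.ι := inferInstance
  haveI : ((resPush U).obj ω).IsQuasicoherent :=
    Groth.Agent.Lib.helper7.QCohPushQC.isQuasicoherent_pushforward U.ι (ω.restrict U.ι)
  have hK : ∀ m : ℕ, Subsingleton (Coh.HH X (kernel η) (m + 1)) :=
    subsingleton_HH_of_sections_vanish (kernel η) U hcl
      (fun O hO => subsingleton_sections_kernel_unit ω U O hO)
  have hQ : ∀ m : ℕ, Subsingleton (Coh.HH X (cokernel η) (m + 1)) :=
    subsingleton_HH_of_sections_vanish (cokernel η) U hcl
      (fun O hO => subsingleton_sections_cokernel_unit ω U O hO)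
  haveI : (cokernel η).IsQuasicoherent := Groth.Agent.Lib.helper7.CohKer.isQuasicoherent_cokernel η
  let p : ω ⟶ Abelian.image η := Abelian.factorThruImage η
  let i : Abelian.image η ⟶ (resPush U).obj ω := Abelian.image.ι η
  have hpi : p ≫ i = η := Abelian.image.fac η
  have hS₁ := Groth.Agent.Lib.Lead.VBCurve.shortExact_kernel_image η
  let S₂ : ShortComplex X.Modules := ShortComplex.mk i (cokernel.π η) (kernel.condition _)
  have hS₂ : S₂.ShortExact :=
    { exact := ShortComplex.exact_kernel (cokernel.π η)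
      mono_f := inferInstanceAs (Mono (kernel.ι (cokernel.π η)))
      epi_g := inferInstanceAs (Epi (cokernel.π η)) }
  have hp_inj : Function.Injective (HH.map p 1) := HH.injective_map_g hS₁ 1 (hK 0)
  have hexact : Function.Exact (HH.δ hS₂ 0) (HH.map i 1) := HH.exact₁ hS₂ 0
  have hmapη : ∀ w : Coh.HH X ω 1, HH.map η 1 w = HH.map i 1 (HH.map p 1 w) := by
    intro w
    rw [← HH.map_comp_apply, hpi]
  have hker : ∀ w : Coh.HH X ω 1, HH.map η 1 w = 0 → tr w = 0 := by
    intro w hw
    have h1 : HH.map i 1 (HH.map p 1 w) = 0 := by rw [← hmapη]; exact hw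
    obtain ⟨s, hs⟩ := (hexact _).1 h1
    obtain ⟨n, hn⟩ := exists_pow_smul_HH_zero A (cokernel η) a
      (subsingleton_sections_cokernel_unit ω U _ haU) s
    have h2 : HH.map p 1 (a ^ n • w) = 0 := by
      have e1 : HH.mapOver A p 1 (a ^ n • w) = a ^ n • HH.mapOver A p 1 w := map_smul _ _ _
      rw [HH.mapOver_apply, HH.mapOver_apply] at e1
      have e2 : HH.δOver hS₂ A 0 (a ^ n • s) = a ^ n • HH.δOver hS₂ A 0 s := map_smul _ _ _
      rw [HH.δOver_apply, HH.δOver_apply] at e2
      rw [e1, ← hs, ← e2, hn, map_zero]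
    have h3 : a ^ n • w = 0 := hp_inj (h2.trans (map_zero _).symm)
    have h4 : a ^ n • tr w = 0 := by rw [← map_smul, h3, map_zero]
    exact (smul_eq_zero.mp h4).resolve_left (pow_ne_zero n ha)
  have hsurj : Function.Surjective (HH.mapOver A η 1) := by
    intro y
    obtain ⟨z, hz⟩ := HH.surjective_map_f hS₂ 1 (hQ 0) y
    obtain ⟨w, hw⟩ := HH.surjective_map_g hS₁ 1 (hK 1) z
    refine ⟨w, ?_⟩
    rw [HH.mapOver_apply, hmapη]
    exact (congrArg _ hw).trans hz
  let f : Coh.HH X ω 1 →ₗ[A] Coh.HH X ((resPush U).obj ω) 1 := HH.mapOver A η 1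
  have hle : LinearMap.ker f ≤ LinearMap.ker tr := fun w hw => by
    rw [LinearMap.mem_ker] at hw ⊢
    exact hker w hw
  let lam : Coh.HH X ((resPush U).obj ω) 1 →ₗ[A] A :=
    (LinearMap.ker f).liftQ tr hle ∘ₗ (f.quotKerEquivOfSurjective hsurj).symm.toLinearMap
  have hlam : ∀ w : Coh.HH X ω 1, lam (f w) = tr w := by
    intro w
    have h1 : (f.quotKerEquivOfSurjective hsurj).symm (f w) = (LinearMap.ker f).mkQ w := by
      rw [LinearEquiv.symm_apply_eq]
      rfl
    change (LinearMap.ker f).liftQ tr hle ((f.quotKerEquivOfSurjective hsurj).symm (f w)) = tr w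
    rw [h1]
    rfl
  obtain ⟨r, hr⟩ := (hω.2 ((resPush U).obj ω) inferInstance).2 lam
  have hcomp : η ≫ r = 𝟙 ω := by
    apply (hω.2 ω hω.1).1
    apply LinearMap.ext
    intro w
    have e1 : Canon.dualityMap A X 1 ω tr ω (η ≫ r) w = lam (f w) := by
      rw [← hr]
      change tr (HH.map (η ≫ r) 1 w) = tr (HH.map r 1 (HH.map η 1 w))
      rw [HH.map_comp_apply]
    have e2 : Canon.dualityMap A X 1 ω tr ω (𝟙 ω) w = tr w := by
      change tr (HH.map (𝟙 ω) 1 w) = tr w
      rw [HH.map_id]
      rfl
    rw [e1, e2, hlam]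
  exact isIso_unit_of_retraction ω U r hcomp


/-- **Hartogs for a dualizing module over a local domain**: for `X` proper over a Noetherian local domain `R`
which is not a field, `(ω, tr)` a `1`-dualizing pair and `U` an open whose complement consists of closed points,
`ω ⟶ j_* j^* ω` is an isomorphism. -/
theorem isIso_unit_of_isRDualOver_local (R : Type u) [CommRing R] [IsDomain R] [IsLocalRing R]
    [IsNoetherianRing R] (hR : ¬ IsField R)
    [X.Over (Spec (CommRingCat.of R))] [IsProper (X ↘ Spec (CommRingCat.of R))]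
    (ω : X.Modules) (tr : Coh.HH X ω 1 →ₗ[R] R) (hω : Canon.IsRDualOver R X 1 ω tr)
    (U : X.Opens) (hcl : ∀ x : X, x ∉ U → IsClosed ({x} : Set X)) :
    IsIso ((resPushUnit U).app ω) := by
  haveI : IsLocallyNoetherian X :=
    LocallyOfFiniteType.isLocallyNoetherian (X ↘ Spec (CommRingCat.of R))
  haveI : CompactSpace X :=
    QuasiCompact.compactSpace_of_compactSpace (X ↘ Spec (CommRingCat.of R))
  haveI : IsNoetherian X := {}
  have hm : IsLocalRing.maximalIdeal R ≠ ⊥ := fun h =>
    hR (IsLocalRing.isField_iff_maximalIdeal_eq.mpr h)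
  obtain ⟨a, ham, ha⟩ := Submodule.exists_mem_ne_zero_of_ne_bot hm
  refine isIso_unit_of_isRDualOver R ω tr hω U hcl a ha (fun x hx => ?_)
  by_contra hxU
  have hc : IsClosed ({x} : Set X) := hcl x hxU
  have hcm : IsClosedMap (X ↘ Spec (CommRingCat.of R)) :=
    (X ↘ Spec (CommRingCat.of R)).isClosedMap
  have hc' : IsClosed ({(X ↘ Spec (CommRingCat.of R)) x} : Set (Spec (CommRingCat.of R))) := by
    have := hcm _ hc
    rwa [Set.image_singleton] at this
  have hmax : ((X ↘ Spec (CommRingCat.of R)) x).asIdeal.IsMaximal :=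
    (PrimeSpectrum.isClosed_singleton_iff_isMaximal _).mp hc'
  have heq : ((X ↘ Spec (CommRingCat.of R)) x).asIdeal = IsLocalRing.maximalIdeal R :=
    IsLocalRing.eq_maximalIdeal hmax
  have hx' := (Groth.Agent.Lib.helper8.ZConn.mem_basicOpen_toGlobal_iff
    (X ↘ Spec (CommRingCat.of R)) a x).mp hx
  rw [heq] at hx'
  exact hx' ham

end Groth.Agent.Lib.Lead.DualHartogs
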