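import Mathlib
import Groth.Agent.Lib.Helper23.DualSch4
import Groth.Agent.Lib.Helper26.ReflexiveCrit3
import Groth.Agent.Lib.Helper9.UnramConn
import Groth.Agent.Lib.Lead.RefHull8

/-!
# The dualizing sheaf of a normal connected Noetherian scheme is reflexive (lead)

* `isReflexive_of_normal_of_hasSk`: over a Noetherian normal domain, a finite torsion-free module
  satisfying `(S_2)` is reflexive.
* `finite_stalk_HD_chart`: stalks of the cohomology sheaves of a dualizing complex are finite.
* `dualizingSheaf_isReflexive` (S7877).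
-/

set_option autoImplicit false
set_option linter.style.haveILetI false
universe u
open CategoryTheory CategoryTheory.Limits AlgebraicGeometry
attribute [local instance] HasDerivedCategory.standard

namespace Groth.Agent.Lib.Lead.DualRefl

open LocCoh Groth.Agent.Lib.Lead.RH

section Alg

variable {R : Type u} [CommRing R] [IsDomain R] [IsNoetherianRing R] [IsIntegrallyClosed R]
  (M : Type u) [AddCommGroup M] [Module R M] [Module.Finite R M] [Module.IsTorsionFree R M]

/-- over a Noetherian normal domain, a finite torsion-free module with `(S_2)` is reflexive -/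
theorem isReflexive_of_normal_of_hasSk (hS : HasSk 2 R M) : Module.IsReflexive R M := by
  apply Groth.Agent.Lib.helper26.Depth.isReflexive_of_forall_localization_or_depth
  intro p _
  have htf : Module.IsTorsionFree (Localization.AtPrime p) (LocalizedModule p.primeCompl M) :=
    Groth.Agent.Lib.helper23.SkLoc.isTorsionFree_of_semilinear_localization M M (RingEquiv.refl R)
      (AddEquiv.refl M) (fun _ _ => rfl) p (Localization.AtPrime p)
      (LocalizedModule p.primeCompl M) (LocalizedModule.mkLinearMap p.primeCompl M) inferInstance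
  haveI : IsIntegrallyClosed (Localization.AtPrime p) :=
    isIntegrallyClosed_of_isLocalization (Localization.AtPrime p) p.primeCompl
      p.primeCompl_le_nonZeroDivisors
  by_cases hd : (2 : WithBot ℕ∞) ≤ ringKrullDim (Localization.AtPrime p)
  · by_cases hne : Subsingleton (LocalizedModule p.primeCompl M)
    · left
      haveI : Module.Free (Localization.AtPrime p) (LocalizedModule p.primeCompl M) :=
        Module.Free.of_subsingleton _ _
      infer_instance
    · right
      rw [not_subsingleton_iff_nontrivial] at hne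
      have h1 := hS p
      have hann : Module.annihilator (Localization.AtPrime p)
          (LocalizedModule p.primeCompl M) = ⊥ := by
        rw [eq_bot_iff]
        intro a ha
        rw [Module.mem_annihilator] at ha
        rw [Submodule.mem_bot]
        by_contra ha0
        obtain ⟨m, hm⟩ := exists_ne (0 : LocalizedModule p.primeCompl M)
        have hreg : IsSMulRegular (LocalizedModule p.primeCompl M) a :=
          Module.IsTorsionFree.isSMulRegular (IsRegular.of_ne_zero ha0)
        exact hm (hreg (by change a • m = a • 0; rw [ha m, smul_zero]))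
      have hsd : Module.supportDim (Localization.AtPrime p) (LocalizedModule p.primeCompl M) =
          ringKrullDim (Localization.AtPrime p) := by
        rw [Module.supportDim_eq_ringKrullDim_quotient_annihilator, hann]
        exact ringKrullDim_eq_of_ringEquiv (RingEquiv.quotientBot _)
      simp only [Nat.cast_ofNat] at h1
      rw [hsd, min_eq_left hd] at h1
      exact WithBot.coe_le_coe.mp h1
  · left
    have hd1 : ringKrullDim (Localization.AtPrime p) ≤ 1 := withBot_enat_le_one_of_not_two_le _ hd
    haveI : IsPrincipalIdealRing (Localization.AtPrime p) :=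
      isPrincipalIdealRing_of_normal_dim_le_one _ hd1
    haveI : Module.Free (Localization.AtPrime p) (LocalizedModule p.primeCompl M) :=
      free_of_torsionFree_of_pid (B := Localization.AtPrime p) (LocalizedModule p.primeCompl M)
    infer_instance

end Alg

section Sch

open Groth.Agent.Lib.helper23.DualSch Groth.Agent.Lib.helper16.CohStalk

variable {X : Scheme.{u}}
  [∀ (U : Scheme.{u}) (j : U ⟶ X) [IsOpenImmersion j],
    PreservesFiniteLimits (Scheme.Modules.restrictFunctor j)]
  [∀ (R : CommRingCat.{u}), PreservesFiniteLimits (tilde.functor R)]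

/-- finiteness of the stalks of the cohomology sheaves of a dualizing complex, on a chart -/
theorem finite_stalk_HD_chart (K : DCoh.D X) (n : ℤ) (R : CommRingCat.{u})
    (j : Spec (CommRingCat.of R) ⟶ X) [IsOpenImmersion j]
    (ωA : DerivedCategory (ModuleCat.{u} R))
    (hωA : Dual.IsDualizing R ωA) [(DCoh.HD K n).IsQuasicoherent]
    (e : (DCoh.restrictD j).obj K ≅ (DCoh.tildeD R).obj ωA) (y : PrimeSpectrum R) :
    Module.Finite (X.presheaf.stalk (j y)) ((DCoh.HD K n).presheaf.stalk (j y)) := by
  classical
  haveI : IsNoetherianRing R := hωA.isNoetherianRing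
  haveI : Module.Finite R ((DerivedCategory.homologyFunctor (ModuleCat.{u} R) n).obj ωA) :=
    hωA.finite_cohomology n
  let F := DCoh.HD K n
  let M := (DerivedCategory.homologyFunctor (ModuleCat.{u} R) n).obj ωA
  let φ := restrictHDIso K R j ωA e n
  let G := (Scheme.Modules.restrictFunctor j).obj F
  let ψ : M ≅ moduleSpecΓFunctor.obj G :=
    tilde.toTildeΓNatIso.app M ≪≫ moduleSpecΓFunctor.mapIso φ.symm
  let U : X.Opens := j ''ᵁ ⊤
  have hU : IsAffineOpen U := (isAffineOpen_top (Spec (CommRingCat.of R))).image_of_isOpenImmersion j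
  have hx : j y ∈ U := ⟨y, trivial, rfl⟩
  let σ : R ≃+* Γ(X, U) :=
    ((Scheme.ΓSpecIso R).symm ≪≫ (j.appIso ⊤).symm).commRingCatIsoToRingEquiv
  let τ : M ≃+ Γ(F, U) := ψ.toLinearEquiv.toAddEquiv
  have h3 : (Spec R).presheaf.map (⊤ : (Spec R).Opens).leTop.op = 𝟙 _ := by
    have : (⊤ : (Spec R).Opens).leTop = 𝟙 _ := Subsingleton.elim _ _
    rw [this, op_id, CategoryTheory.Functor.map_id]
  have h4 : ∀ a : Γ(Spec R, ⊤), (Spec R).presheaf.map (⊤ : (Spec R).Opens).leTop.op a = a := by
    intro a
    rw [h3]
    rfl
  have hG : ∀ (a : Γ(Spec (CommRingCat.of R), ⊤)) (z : Γ(G, ⊤)),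
      a • z = ((j.appIso ⊤).inv a) • (show Γ(F, U) from z) := fun a z => rfl
  have hR : ∀ (r : R) (z : Γ(G, ⊤)), r • z = ((Scheme.ΓSpecIso R).inv r) • z := by
    intro r z
    rw [Scheme.Modules.smul_Spec_def, h4]
  have hτ : ∀ (r : R) (m : M), τ (r • m) = σ r • τ m := by
    intro r m
    have h1 : ψ.toLinearEquiv (r • m) = r • ψ.toLinearEquiv m := ψ.toLinearEquiv.map_smul r m
    exact h1.trans ((hR r _).trans (hG _ _))
  letI := TopCat.Presheaf.algebra_section_stalk X.presheaf (⟨j y, hx⟩ : U)
  letI := modStalk F (j y) hx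
  haveI := isScalarTower_stalk F (j y) hx
  haveI : IsLocalization.AtPrime (X.presheaf.stalk (j y)) (hU.primeIdealOf ⟨j y, hx⟩).asIdeal :=
    hU.isLocalization_stalk ⟨j y, hx⟩
  haveI := isLocalizedModule_stalk F hU (j y) hx
  haveI : Module.Finite Γ(X, U) Γ(F, U) := by
    obtain ⟨s, hs⟩ := (Module.Finite.fg_top : (⊤ : Submodule R M).FG)
    refine ⟨⟨s.image τ, ?_⟩⟩
    rw [eq_top_iff]
    intro z _
    have key : ∀ m : M, m ∈ Submodule.span R (s : Set M) →
        τ m ∈ Submodule.span Γ(X, U) ((s.image τ : Finset Γ(F, U)) : Set Γ(F, U)) := by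
      intro m hm
      induction hm using Submodule.span_induction with
      | mem x hx => exact Submodule.subset_span (Finset.mem_coe.2 (Finset.mem_image_of_mem τ hx))
      | zero => rw [map_zero]; exact Submodule.zero_mem _
      | add a b _ _ ha hb => rw [map_add]; exact Submodule.add_mem _ ha hb
      | smul r a _ ha => rw [hτ]; exact Submodule.smul_mem _ _ ha
    have := key (τ.symm z) (by rw [hs]; trivial)
    rwa [τ.apply_symm_apply] at this
  exact Module.Finite.of_isLocalizedModule (hU.primeIdealOf ⟨j y, hx⟩).asIdeal.primeCompl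
    (germLin F (j y) hx)

/-- S7877: the dualizing sheaf of a normal connected Noetherian scheme has reflexive stalks -/
theorem dualizingSheaf_isReflexive [IsNoetherian X] [ConnectedSpace X] (hX : Pi1.IsNormalScheme X)
    (K : DCoh.D X) (hK : Dual2.IsDualizingSch X K) (n : ℤ)
    (hlt : ∀ i : ℤ, i < n → IsZero (DCoh.HD K i)) (x : X) :
    Module.IsReflexive (X.presheaf.stalk x) ((DCoh.HD K n).presheaf.stalk x) := by
  haveI : IsIntegral X := Groth.Agent.Lib.helper9.UnramGeom.isIntegral_of_connected_of_isDomain_stalk (fun y => (hX y).1)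
  haveI := isQuasicoherent_HD K hK n
  obtain ⟨hS2, htf⟩ := dualizingSheaf_S2_torsionFree K hK n hlt
  haveI : Module.IsTorsionFree (X.presheaf.stalk x) ((DCoh.HD K n).presheaf.stalk x) :=
    htf inferInstance x
  haveI : IsDomain (X.presheaf.stalk x) := (hX x).1
  haveI : IsIntegrallyClosed (X.presheaf.stalk x) := (hX x).2
  haveI : Module.Finite (X.presheaf.stalk x) ((DCoh.HD K n).presheaf.stalk x) := by
    obtain ⟨R, j, hj, ωA, hωA, e, y, rfl⟩ := exists_chart K hK x
    exact finite_stalk_HD_chart K n R j ωA hωA e y
  exact isReflexive_of_normal_of_hasSk _ (hS2 x)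

end Sch

end Groth.Agent.Lib.Lead.DualRefl
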