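import Mathlib

/-!
# Exactness of `lim_k M / I^(k+1) M` on towers presented by a module (lead)

`Pres I M T`: a tower of abelian groups `T k` with transition maps, together with surjections
`ρ k : M → T k` with kernel `I^(k+1) M`, compatible with the transitions.  For a short exact sequence
`0 → M' → M → M'' → 0` of modules over a Noetherian ring with `M` finite, and presented towers
`T'`, `T`, `T''` with level maps compatible with the presentations, the induced maps on compatible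
families are injective / exact in the middle / surjective (Artin–Rees).
-/

set_option autoImplicit false
universe u v w

namespace Groth.Agent.Lib.Lead.FCompl1

section AR

variable {A : Type u} [CommRing A] [IsNoetherianRing A] (I : Ideal A)
  {M : Type v} [AddCommGroup M] [Module A M] [Module.Finite A M]

/-- Artin–Rees: there is `c` with `I^(n+c) M ⊓ N ≤ I^n N` for all `n`. -/
theorem ar_sub (N : Submodule A M) :
    ∃ c : ℕ, ∀ n : ℕ, (I ^ (n + c) • (⊤ : Submodule A M)) ⊓ N ≤ I ^ n • N := by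
  obtain ⟨k, hk⟩ := Ideal.exists_pow_inf_eq_pow_smul I N
  refine ⟨k, fun n => ?_⟩
  rw [hk (n + k) (Nat.le_add_left k n), Nat.add_sub_cancel]
  exact Submodule.smul_mono (le_refl _) inf_le_right

end AR

variable {A : Type u} [CommRing A] (I : Ideal A)

/-- a tower `T k` of abelian groups presented as the quotients `M / I^(k+1) M` -/
structure Pres (M : Type v) [AddCommGroup M] [Module A M] (T : ℕ → Type w)
    [∀ k, AddCommGroup (T k)] where
  /-- transition maps -/
  tr : ∀ k, T (k + 1) →+ T k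
  /-- the presentations -/
  ρ : ∀ k, M →+ T k
  surj : ∀ k, Function.Surjective (ρ k)
  ker : ∀ k m, ρ k m = 0 ↔ m ∈ I ^ (k + 1) • (⊤ : Submodule A M)
  compat : ∀ k m, tr k (ρ (k + 1) m) = ρ k m

namespace Pres

variable {I}
variable {M : Type v} [AddCommGroup M] [Module A M] {T : ℕ → Type w} [∀ k, AddCommGroup (T k)]
  (P : Pres I M T)

theorem ρ_eq_iff (k : ℕ) (m m' : M) :
    P.ρ k m = P.ρ k m' ↔ m - m' ∈ I ^ (k + 1) • (⊤ : Submodule A M) := by
  rw [← P.ker, map_sub, sub_eq_zero]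

theorem ρ_of_le {x : ∀ k, T k} (hx : ∀ k, P.tr k (x (k + 1)) = x k) :
    ∀ (c k : ℕ) (m : M), P.ρ (k + c) m = x (k + c) → P.ρ k m = x k
  | 0, _, _, h => h
  | c + 1, k, m, h => by
    refine ρ_of_le hx c k m ?_
    have h' : P.ρ (k + c + 1) m = x (k + c + 1) := h
    have h1 := congrArg (P.tr (k + c)) h'
    rw [hx, P.compat] at h1
    exact h1

end Pres

section Main

variable {I}
variable {M' : Type v} {M : Type v} {M'' : Type v}
  [AddCommGroup M'] [Module A M'] [AddCommGroup M] [Module A M] [AddCommGroup M''] [Module A M'']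
  {T' T T'' : ℕ → Type w} [∀ k, AddCommGroup (T' k)] [∀ k, AddCommGroup (T k)]
  [∀ k, AddCommGroup (T'' k)]
  (P' : Pres I M' T') (P : Pres I M T) (P'' : Pres I M'' T'')
  (f : M' →ₗ[A] M) (g : M →ₗ[A] M'')
  (φ : ∀ k, T' k →+ T k) (ψ : ∀ k, T k →+ T'' k)
  (hφ : ∀ k m, φ k (P'.ρ k m) = P.ρ k (f m))
  (hψ : ∀ k m, ψ k (P.ρ k m) = P''.ρ k (g m))

omit [∀ k, AddCommGroup (T' k)] [∀ k, AddCommGroup (T k)] [∀ k, AddCommGroup (T'' k)] in
theorem mem_map_of_inf [IsNoetherianRing A] [Module.Finite A M] (hf : Function.Injective f) :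
    ∃ c : ℕ, ∀ (n : ℕ) (m' : M'), f m' ∈ I ^ (n + c) • (⊤ : Submodule A M) →
      m' ∈ I ^ n • (⊤ : Submodule A M') := by
  obtain ⟨c, hc⟩ := ar_sub I (LinearMap.range f)
  refine ⟨c, fun n m' hm => ?_⟩
  have h1 : f m' ∈ I ^ n • LinearMap.range f := hc n ⟨hm, ⟨m', rfl⟩⟩
  rw [← Submodule.map_top, ← Submodule.map_smul''] at h1
  obtain ⟨m₁, hm₁, h2⟩ := h1
  rw [← hf h2]
  exact hm₁

include hφ in
/-- injectivity on compatible families -/
theorem inj [IsNoetherianRing A] [Module.Finite A M] (hf : Function.Injective f)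
    (x' : ∀ k, T' k) (hx' : ∀ k, P'.tr k (x' (k + 1)) = x' k) (h0 : ∀ k, φ k (x' k) = 0) :
    ∀ k, x' k = 0 := by
  obtain ⟨c, hc⟩ := mem_map_of_inf (I := I) f hf
  intro k
  obtain ⟨m', hm'⟩ := P'.surj (k + c) (x' (k + c))
  have h1 : P.ρ (k + c) (f m') = 0 := by rw [← hφ, hm', h0]
  rw [P.ker] at h1
  have h2 : k + c + 1 = (k + 1) + c := Nat.add_right_comm k c 1
  rw [h2] at h1
  have h3 := hc (k + 1) m' h1
  rw [← P'.ρ_of_le hx' c k m' hm']
  exact (P'.ker k m').mpr h3

include hφ hψ in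
/-- exactness in the middle on compatible families -/
theorem mid [IsNoetherianRing A] [Module.Finite A M] (hf : Function.Injective f)
    (hg : Function.Surjective g) (hfg : Function.Exact f g)
    (x : ∀ k, T k) (hx : ∀ k, P.tr k (x (k + 1)) = x k) (h0 : ∀ k, ψ k (x k) = 0) :
    ∃ x' : ∀ k, T' k, (∀ k, P'.tr k (x' (k + 1)) = x' k) ∧ ∀ k, φ k (x' k) = x k := by
  obtain ⟨c, hc⟩ := mem_map_of_inf (I := I) f hf
  have hex : ∀ k, ∃ m' : M', P.ρ (k + c) (f m') = x (k + c) := by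
    intro k
    obtain ⟨n, hn⟩ := P.surj (k + c) (x (k + c))
    have h1 : P''.ρ (k + c) (g n) = 0 := by rw [← hψ, hn, h0]
    rw [P''.ker] at h1
    have h2 : (I ^ (k + c + 1) • (⊤ : Submodule A M'')) =
        Submodule.map g (I ^ (k + c + 1) • (⊤ : Submodule A M)) := by
      rw [Submodule.map_smul'', Submodule.map_top, LinearMap.range_eq_top.mpr hg]
    rw [h2] at h1
    obtain ⟨δ, hδ, hgδ⟩ := h1
    have h3 : g (n - δ) = 0 := by rw [map_sub, hgδ, sub_self]
    obtain ⟨m', hm'⟩ := (hfg (n - δ)).mp h3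
    refine ⟨m', ?_⟩
    rw [hm', map_sub, hn, (P.ker (k + c) δ).mpr hδ, sub_zero]
  choose m' hm' using hex
  refine ⟨fun k => P'.ρ k (m' k), fun k => ?_, fun k => ?_⟩
  · rw [P'.compat, P'.ρ_eq_iff]
    apply hc (k + 1)
    have h2 : (k + 1) + c = k + c + 1 := (Nat.add_right_comm k c 1).symm
    rw [h2, map_sub, ← P.ρ_eq_iff, hm' k]
    have h3 : P.ρ (k + 1 + c) (f (m' (k + 1))) = x (k + 1 + c) := hm' (k + 1)
    rw [h2] at h3
    have h4 := congrArg (P.tr (k + c)) h3
    rw [P.compat, hx] at h4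
    exact h4
  · rw [hφ]
    exact P.ρ_of_le hx c k _ (hm' k)

include hψ in
/-- surjectivity on compatible families -/
theorem surj' (hg : Function.Surjective g)
    (x'' : ∀ k, T'' k) (hx'' : ∀ k, P''.tr k (x'' (k + 1)) = x'' k) :
    ∃ x : ∀ k, T k, (∀ k, P.tr k (x (k + 1)) = x k) ∧ ∀ k, ψ k (x k) = x'' k := by
  have hex : ∀ k, ∃ n'' : M'', P''.ρ k n'' = x'' k := fun k => P''.surj k (x'' k)
  choose n'' hn'' using hex
  have hd : ∀ k, ∃ δ : M, δ ∈ I ^ (k + 1) • (⊤ : Submodule A M) ∧ g δ = n'' (k + 1) - n'' k := by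
    intro k
    have h1 : n'' (k + 1) - n'' k ∈ I ^ (k + 1) • (⊤ : Submodule A M'') := by
      rw [← P''.ρ_eq_iff, hn'' k, ← P''.compat, hn'' (k + 1), hx'']
    have h2 : (I ^ (k + 1) • (⊤ : Submodule A M'')) =
        Submodule.map g (I ^ (k + 1) • (⊤ : Submodule A M)) := by
      rw [Submodule.map_smul'', Submodule.map_top, LinearMap.range_eq_top.mpr hg]
    rw [h2] at h1
    obtain ⟨δ, hδ, hgδ⟩ := h1
    exact ⟨δ, hδ, hgδ⟩
  choose δ hδ hgδ using hd
  obtain ⟨m₀, hm₀⟩ := hg (n'' 0)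
  let m : ℕ → M := fun k => m₀ + ∑ j ∈ Finset.range k, δ j
  have hm_succ : ∀ k, m (k + 1) = m k + δ k := fun k => by
    change m₀ + ∑ j ∈ Finset.range (k + 1), δ j = m₀ + ∑ j ∈ Finset.range k, δ j + δ k
    rw [Finset.sum_range_succ, add_assoc]
  have hgm : ∀ k, g (m k) = n'' k := by
    intro k
    induction k with
    | zero =>
      change g (m₀ + ∑ j ∈ Finset.range 0, δ j) = n'' 0
      rw [Finset.sum_range_zero, add_zero, hm₀]
    | succ k ih =>
      rw [hm_succ, map_add, ih, hgδ]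
      abel
  refine ⟨fun k => P.ρ k (m k), fun k => ?_, fun k => ?_⟩
  · change P.tr k (P.ρ (k + 1) (m (k + 1))) = P.ρ k (m k)
    rw [P.compat, hm_succ, map_add, (P.ker k (δ k)).mpr (hδ k), add_zero]
  · change ψ k (P.ρ k (m k)) = x'' k
    rw [hψ, hgm, hn'']

end Main

end Groth.Agent.Lib.Lead.FCompl1
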