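import Mathlib
import Groth.Agent.Lib.Helper11.ModTop

/-!
# Sheaves of modules on a topological space: exactness on a basis of opens (lead)

* `injective_app_of_mono`: a monomorphism of sheaves of modules is injective on sections;
* `exact_of_exact_on_basis`: a short complex which is exact on sections over a basis of opens is exact;
* `shortExact_of_basis`: short exactness from injectivity / exactness / surjectivity on a basis.
-/

set_option autoImplicit false
set_option linter.style.haveILetI false
universe u
open CategoryTheory CategoryTheory.Limits TopologicalSpace Opposite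
open Groth.Agent.Lib.helper11.ModTop

namespace Groth.Agent.Lib.Lead.FCompl2

variable {T : TopCat.{u}} {R : Sheaf (Opens.grothendieckTopology T) RingCat.{u}}

/-- a monomorphism of sheaves of modules is injective on sections -/
theorem injective_app_of_mono {F G : SheafOfModules.{u} R} (p : F ⟶ G) [Mono p] (D : Opens T) :
    Function.Injective (p.val.app (op D)).hom := by
  have h1 : Mono ((SheafOfModules.evaluation R (op D)).map p) := inferInstance
  exact (ModuleCat.mono_iff_injective _).mp h1

/-- a short complex of sheaves of modules which is exact on sections over a basis is exact -/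
theorem exact_of_exact_on_basis (S : ShortComplex (SheafOfModules.{u} R)) (𝔅 : Set (Opens T))
    (h𝔅 : Opens.IsBasis 𝔅)
    (h : ∀ D ∈ 𝔅, ∀ y : S.X₂.val.obj (op D), (S.g.val.app (op D)).hom y = 0 →
      ∃ x : S.X₁.val.obj (op D), (S.f.val.app (op D)).hom x = y) : S.Exact := by
  rw [S.exact_iff_epi_kernel_lift]
  refine epi_of_surjective_on_basis _ 𝔅 h𝔅 (fun D hD s => ?_)
  have h1 : kernel.ι S.g ≫ S.g = 0 := kernel.condition _
  have h2 := congrArg (fun φ => (φ.val.app (op D)).hom s) h1
  obtain ⟨x, hx⟩ := h D hD ((kernel.ι S.g).val.app (op D) s) h2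
  refine ⟨x, ?_⟩
  apply injective_app_of_mono (kernel.ι S.g) D
  have h3 : kernel.lift S.g S.f S.zero ≫ kernel.ι S.g = S.f := kernel.lift_ι _ _ _
  have h4 := congrArg (fun φ => (φ.val.app (op D)).hom x) h3
  exact h4.trans hx

/-- short exactness from injectivity / exactness / surjectivity on sections over a basis -/
theorem shortExact_of_basis (S : ShortComplex (SheafOfModules.{u} R)) (𝔅 : Set (Opens T))
    (h𝔅 : Opens.IsBasis 𝔅)
    (hi : ∀ D ∈ 𝔅, Function.Injective (S.f.val.app (op D)).hom)
    (he : ∀ D ∈ 𝔅, ∀ y : S.X₂.val.obj (op D), (S.g.val.app (op D)).hom y = 0 →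
      ∃ x : S.X₁.val.obj (op D), (S.f.val.app (op D)).hom x = y)
    (hs : ∀ D ∈ 𝔅, Function.Surjective (S.g.val.app (op D)).hom) : S.ShortExact := by
  haveI := mono_of_injective_on_basis S.f 𝔅 h𝔅 hi
  haveI := epi_of_surjective_on_basis S.g 𝔅 h𝔅 hs
  exact ⟨exact_of_exact_on_basis S 𝔅 h𝔅 he⟩

end Groth.Agent.Lib.Lead.FCompl2
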