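import Mathlib
import Groth.Agent.Lib.Helper8.PullbackUnit2
import Groth.Agent.Lib.Helper11.FormalSpf2
import Groth.Agent.Lib.Helper11.FibMono2
import Groth.Agent.Lib.Helper11.Thick1

/-!
# The maps `ρ : Γ(A, U) → Γ(g^* A, V)`: composition, naturality, quotient maps (lead)

* `ρ_comp`: `ρ` along a composite `ι ≫ p = p'` in terms of `ρ` along `p` and along `ι`, through
  `pullbackComp ≪≫ pullbackCongr`;
* `ρ_naturality`: naturality of `ρ` in the module;
* `ρ_surjective`, `ρ_eq_zero_iff`: for `g` such that `Γ(X, U) → Γ(Y, V)` is surjective with kernel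
  `J` and `A` quasi-coherent, `U`, `V` affine: `ρ` is surjective with kernel `J Γ(A, U)`.
-/

set_option autoImplicit false
set_option backward.isDefEq.respectTransparency false
set_option linter.style.haveILetI false
set_option linter.unusedSectionVars false
universe u
open CategoryTheory AlgebraicGeometry TopologicalSpace Opposite
open Groth.Agent.Lib.helper8.PullbackUnit
open Scheme.Modules

namespace Groth.Agent.Lib.Lead.FCompl3

section Comp

variable {Y Z S : Scheme.{u}} (ι : Y ⟶ Z) (p : Z ⟶ S) (p' : Y ⟶ S) (hc : ι ≫ p = p')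
  {W : S.Opens} {V' : Z.Opens} {V : Y.Opens} (e₁ : V' ≤ p ⁻¹ᵁ W) (e₂ : V ≤ ι ⁻¹ᵁ V')
  (e₃ : V ≤ p' ⁻¹ᵁ W) (G : S.Modules)

theorem ρ_ρ_aux {B : Y.Modules} (E : (pullback ι).obj ((pullback p).obj G) ⟶ B) (m : Γ(G, W)) :
    (E.app V).hom (ρ ι e₂ ((pullback p).obj G) (ρ p e₁ G m)) =
      B.presheaf.map (homOfLE e₂).op (((pushforward ι).obj B).presheaf.map (homOfLE e₁).op
        ((((pullbackPushforwardAdjunction p).unit.app G ≫ (pushforward p).map
          ((pullbackPushforwardAdjunction ι).unit.app ((pullback p).obj G) ≫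
            (pushforward ι).map E)).app W).hom m)) := by
  have h1 := app_ρ ι e₂ (((pullbackPushforwardAdjunction ι).homEquiv _ _) E) (ρ p e₁ G m)
  rw [Equiv.symm_apply_apply] at h1
  rw [h1, ρv_apply]
  have h2 := app_ρ p e₁ (((pullbackPushforwardAdjunction p).homEquiv _ _)
    (((pullbackPushforwardAdjunction ι).homEquiv _ _) E)) m
  rw [Equiv.symm_apply_apply] at h2
  rw [h2, ρv_apply, Adjunction.homEquiv_unit, Adjunction.homEquiv_unit]
  rfl

theorem ρ_comp (m : Γ(G, W)) :
    ((((pullbackComp ι p).hom.app G ≫ (pullbackCongr hc).hom.app G).app V).hom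
      (ρ ι e₂ ((pullback p).obj G) (ρ p e₁ G m))) = ρ p' e₃ G m := by
  have h := Groth.Agent.Lib.helper11.FormalSpf.Tow.u_trans_aux ι p p' hc G
  obtain ⟨a, ha⟩ : ∃ a : G ⟶ (pushforward p).obj ((pushforward ι).obj ((pullback p').obj G)),
      a = (pullbackPushforwardAdjunction p).unit.app G ≫ (pushforward p).map
        ((pullbackPushforwardAdjunction ι).unit.app ((pullback p).obj G) ≫
          (pushforward ι).map ((pullbackComp ι p).hom.app G ≫ (pullbackCongr hc).hom.app G)) :=
    ⟨_, rfl⟩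
  have h' : a ≫ (pushforwardComp ι p).hom.app ((pullback p').obj G) ≫
      (pushforwardCongr hc).hom.app ((pullback p').obj G) =
      (pullbackPushforwardAdjunction p').unit.app G := by
    rw [ha, Category.assoc]
    exact h
  have h0 := ρ_ρ_aux ι p e₁ e₂ G (B := (pullback p').obj G)
    ((pullbackComp ι p).hom.app G ≫ (pullbackCongr hc).hom.app G) m
  rw [← ha] at h0
  refine h0.trans ?_
  rw [ρ_apply, ← h', Hom.comp_app, Hom.comp_app, pushforwardComp_hom_app_app,
    pushforwardCongr_hom_app_app]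
  change ((pullback p').obj G).presheaf.map _ (((pullback p').obj G).presheaf.map _
      ((AddCommGrpCat.Hom.hom (Hom.app a W)) m)) =
    ((pullback p').obj G).presheaf.map _ (((pullback p').obj G).presheaf.map _
      ((AddCommGrpCat.Hom.hom (Hom.app a W)) m))
  generalize (AddCommGrpCat.Hom.hom (Hom.app a W)) m = x
  rw [← ConcreteCategory.comp_apply, ← ConcreteCategory.comp_apply, ← Functor.map_comp,
    ← Functor.map_comp]
  rfl

/-- `ρ_comp` with the comparison isomorphism as a variable (so that its type is in the form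
`(pullback ι).obj ((pullback p).obj G) ⟶ (pullback p').obj G`) -/
theorem ρ_comp' (E : (pullback ι).obj ((pullback p).obj G) ⟶ (pullback p').obj G)
    (hE : E = (pullbackComp ι p).hom.app G ≫ (pullbackCongr hc).hom.app G) (m : Γ(G, W)) :
    (E.app V).hom (ρ ι e₂ ((pullback p).obj G) (ρ p e₁ G m)) = ρ p' e₃ G m := by
  subst hE
  exact ρ_comp ι p p' hc e₁ e₂ e₃ G m

end Comp

section Nat

variable {X Y : Scheme.{u}} (g : Y ⟶ X) {U : X.Opens} {V : Y.Opens} (e : V ≤ g ⁻¹ᵁ U)

theorem ρ_naturality {A B : X.Modules} (φ : A ⟶ B) (a : Γ(A, U)) :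
    (((pullback g).map φ).app V).hom (ρ g e A a) = ρ g e B ((φ.app U).hom a) := by
  rw [ρ_apply, ρ_apply, Groth.Agent.Lib.helper16.QCohEpi.app_map ((pullback g).map φ) e]
  congr 1
  have h1 := (pullbackPushforwardAdjunction g).unit.naturality φ
  have h2 := congrArg (fun ψ => (ψ.app U).hom a) h1
  exact h2.symm

end Nat

section Quot

variable {X Y : Scheme.{u}} (g : Y ⟶ X) {U : X.Opens} {V : Y.Opens} (hU : IsAffineOpen U)
  (hV : IsAffineOpen V) (e : V ≤ g ⁻¹ᵁ U) (A : X.Modules) [A.IsQuasicoherent]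
  (hsurj : Function.Surjective (g.appLE U V e).hom)

include hU hV hsurj in
theorem ρ_surjective : Function.Surjective (ρ g e A) := by
  letI := (g.appLE U V e).hom.toAlgebra
  exact Groth.Agent.Lib.helper11.Thick.surjective_of_isBC hsurj _ (isBC_ρ g hU hV e A)

include hU hV hsurj in
theorem ρ_eq_zero_iff (J : Ideal Γ(X, U)) (hJ : RingHom.ker (g.appLE U V e).hom = J) (a : Γ(A, U)) :
    ρ g e A a = 0 ↔ a ∈ J • (⊤ : Submodule Γ(X, U) Γ(A, U)) := by
  letI := (g.appLE U V e).hom.toAlgebra
  constructor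
  · intro h
    exact Groth.Agent.Lib.helper11.FibMono.mem_smul_top_of_isBC J hsurj hJ _
      (isBC_ρ g hU hV e A) a h
  · intro h
    exact Groth.Agent.Lib.helper11.FibMono.isBC_eq_zero_of_mem_smul_top J hJ _
      (isBC_ρ g hU hV e A) a h

end Quot

end Groth.Agent.Lib.Lead.FCompl3
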