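import Mathlib
import Groth.Prelude.Def_FSch5
import Groth.Agent.Lib.Helper11.CohTower
import Groth.Agent.Lib.Helper16.QCohEpi
import Groth.Agent.Lib.Helper16.CohFinite
import Groth.Agent.Lib.Helper17.FlatOver3
import Groth.Agent.Lib.Lead.FCompl1
import Groth.Agent.Lib.Lead.FCompl2
import Groth.Agent.Lib.Lead.FCompl3

/-!
# Sections of the completion `F^ = lim (u_k)_* i_k^* F` over the opens `i_0⁻¹ W`, `W` affine (lead)

`X` a scheme, `𝓘` an ideal sheaf, `𝔛 = completionAlong X 𝓘` (assumed formal), `p k = completionToX X 𝓘 k`.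
For `W` an affine open of `X` and `U0 W = (p 0)⁻¹ W`:
* `lv_eq`: `(p k)⁻¹ W = lvU k (U0 W)`;
* `r k W F : Γ(F, W) → Γ((p k)^* F, lvU k (U0 W))`, surjective with kernel `I^(k+1) Γ(F, W)`
  (`I = 𝓘.ideal W`) for `F` quasi-coherent, compatible with the transition maps of the sections of
  `complMod 𝓘 F` and natural in `F`: `pres` packages this as an `FCompl1.Pres`;
* `secProj_realModMap`: the projections of sections of `realMod` are natural;
* `isBasis_U0`: the `U0 W` form a basis of `X_0`.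
-/

set_option autoImplicit false
set_option backward.isDefEq.respectTransparency false
set_option linter.style.haveILetI false
set_option linter.unusedSectionVars false
universe u
open CategoryTheory CategoryTheory.Limits AlgebraicGeometry TopologicalSpace Opposite
open Groth.Agent.Lib.helper8.PullbackUnit
open Groth.Agent.Lib.helper11.RealLimSec Groth.Agent.Lib.helper11.FormalOpenTower
open Groth.Agent.Lib.helper11.CohTower
open Groth.Agent.Lib.Lead.FCompl1 Groth.Agent.Lib.Lead.FCompl3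
open Scheme.Modules

namespace Groth.Agent.Lib.Lead.FCompl4

variable {X : Scheme.{u}} (𝓘 : X.IdealSheafData) (h : (FSch.completionAlong X 𝓘).IsFormal)

/-- the open of the closed subscheme `X_0` over `W` -/
noncomputable abbrev U0 (W : X.Opens) : ((FSch.completionAlong X 𝓘).X 0).Opens :=
  FSch.completionToX X 𝓘 0 ⁻¹ᵁ W

theorem lv_eq (k : ℕ) (W : X.Opens) :
    FSch.completionToX X 𝓘 k ⁻¹ᵁ W = (FSch.completionAlong X 𝓘).lvU h k (U0 𝓘 W) :=
  FSch.lvU_p (FSch.completionAlong X 𝓘) h (FSch.completionToX X 𝓘) (FSch.completionToX_comm X 𝓘) k W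

/-- the base change maps `Γ(F, W) → Γ(i_k^* F, i_k⁻¹ W)` -/
noncomputable def r (k : ℕ) (W : X.Opens) (F : X.Modules) :
    Γ(F, W) →+ MU (FSch.completionAlong X 𝓘) h (U0 𝓘 W) (FSch.complMod 𝓘 F).F k :=
  ρ (FSch.completionToX X 𝓘 k) (lv_eq 𝓘 h k W).ge F

theorem r_naturality (k : ℕ) (W : X.Opens) {F G : X.Modules} (φ : F ⟶ G) (m : Γ(F, W)) :
    (((FSch.complModMap 𝓘 φ : FSch.ModSys.Hom _ _).app k).app
      ((FSch.completionAlong X 𝓘).lvU h k (U0 𝓘 W))).hom (r 𝓘 h k W F m) =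
      r 𝓘 h k W G ((φ.app W).hom m) :=
  ρ_naturality (FSch.completionToX X 𝓘 k) (lv_eq 𝓘 h k W).ge φ m

theorem iso_trans_app_hom {C D : Type*} [Category C] [Category D] {F G H : C ⥤ D} (α : F ≅ G)
    (β : G ≅ H) (X : C) : ((α ≪≫ β).app X).hom = α.hom.app X ≫ β.hom.app X := rfl

theorem complMod_e_hom (k : ℕ) (F : X.Modules) : ((FSch.complMod 𝓘 F).e k).hom =
      (pullbackComp ((FSch.completionAlong X 𝓘).ι k) (FSch.completionToX X 𝓘 (k + 1))).hom.app F ≫
        (pullbackCongr (FSch.completionToX_comm X 𝓘 k)).hom.app F :=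
  iso_trans_app_hom (pullbackComp ((FSch.completionAlong X 𝓘).ι k) (FSch.completionToX X 𝓘 (k + 1)))
    (pullbackCongr (FSch.completionToX_comm X 𝓘 k)) F

theorem trans_r (k : ℕ) (W : X.Opens) (F : X.Modules) (m : Γ(F, W)) :
    trans (FSch.completionAlong X 𝓘) h (U0 𝓘 W) (FSch.complMod 𝓘 F).F (FSch.complMod 𝓘 F).toPush k
      (r 𝓘 h (k + 1) W F m) = r 𝓘 h k W F m := by
  rw [trans_eq_e]
  have h1 := ρ_comp' ((FSch.completionAlong X 𝓘).ι k) (FSch.completionToX X 𝓘 (k + 1))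
    (FSch.completionToX X 𝓘 k) (FSch.completionToX_comm X 𝓘 k) (lv_eq 𝓘 h (k + 1) W).ge
    ((FSch.completionAlong X 𝓘).lvU_le h k (U0 𝓘 W)) (lv_eq 𝓘 h k W).ge F
    ((FSch.complMod 𝓘 F).e k).hom (complMod_e_hom 𝓘 k F) m
  have hx : (ρ ((FSch.completionAlong X 𝓘).ι k) ((FSch.completionAlong X 𝓘).lvU_le h k (U0 𝓘 W))
      ((FSch.complMod 𝓘 F).F (k + 1)) (r 𝓘 h (k + 1) W F m)) =
    (ρ ((FSch.completionAlong X 𝓘).ι k) ((FSch.completionAlong X 𝓘).lvU_le h k (U0 𝓘 W))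
      ((Scheme.Modules.pullback (FSch.completionToX X 𝓘 (k + 1))).obj F)
      (ρ (FSch.completionToX X 𝓘 (k + 1)) (lv_eq 𝓘 h (k + 1) W).ge F m)) := rfl
  rw [hx]
  exact h1

section Affine

variable {W : X.Opens} (hW : IsAffineOpen W)

include hW in
theorem isAffineOpen_lv (k : ℕ) :
    IsAffineOpen ((FSch.completionAlong X 𝓘).lvU h k (U0 𝓘 W)) := by
  rw [← lv_eq]
  exact hW.preimage (FSch.completionToX X 𝓘 k)

include hW in
theorem appLE_surjective (k : ℕ) :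
    Function.Surjective ((FSch.completionToX X 𝓘 k).appLE W
      ((FSch.completionAlong X 𝓘).lvU h k (U0 𝓘 W)) (lv_eq 𝓘 h k W).ge).hom :=
  appLE_surjective_of_eq (FSch.completionToX X 𝓘 k) W _ (lv_eq 𝓘 h k W) hW

theorem ker_appLE (k : ℕ) :
    RingHom.ker ((FSch.completionToX X 𝓘 k).appLE W
      ((FSch.completionAlong X 𝓘).lvU h k (U0 𝓘 W)) (lv_eq 𝓘 h k W).ge).hom =
      (𝓘.ideal ⟨W, hW⟩) ^ (k + 1) := by
  rw [ker_appLE_of_eq (FSch.completionToX X 𝓘 k) W _ (lv_eq 𝓘 h k W)]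
  have h1 := Scheme.IdealSheafData.ker_subschemeι_app (𝓘 ^ (k + 1)) ⟨W, hW⟩
  rw [Scheme.IdealSheafData.ideal_pow] at h1
  exact h1

/-- the presentation of the tower of sections of the levels of `F^` by `Γ(F, W)` -/
noncomputable def pres (F : X.Modules) [F.IsQuasicoherent] :
    Pres (𝓘.ideal ⟨W, hW⟩) Γ(F, W)
      (fun k => MU (FSch.completionAlong X 𝓘) h (U0 𝓘 W) (FSch.complMod 𝓘 F).F k) where
  tr k := trans (FSch.completionAlong X 𝓘) h (U0 𝓘 W) (FSch.complMod 𝓘 F).F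
    (FSch.complMod 𝓘 F).toPush k
  ρ k := r 𝓘 h k W F
  surj k := ρ_surjective (FSch.completionToX X 𝓘 k) hW (isAffineOpen_lv 𝓘 h hW k)
    (lv_eq 𝓘 h k W).ge F (appLE_surjective 𝓘 h hW k)
  ker k m := ρ_eq_zero_iff (FSch.completionToX X 𝓘 k) hW (isAffineOpen_lv 𝓘 h hW k)
    (lv_eq 𝓘 h k W).ge F (appLE_surjective 𝓘 h hW k) _ (ker_appLE 𝓘 h hW k) m
  compat k m := trans_r 𝓘 h k W F m

end Affine

/-- the projections of sections of `realMod` are natural in the system of modules -/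
theorem secProj_realModMap {𝔐 𝔑 : FSch.ModSys (FSch.completionAlong X 𝓘)} (Φ : 𝔐 ⟶ 𝔑)
    (U : ((FSch.completionAlong X 𝓘).X 0).Opens) (k : ℕ)
    (y : FU (FSch.completionAlong X 𝓘) h U 𝔐.F 𝔐.toPush) :
    secProj (FSch.completionAlong X 𝓘) h U 𝔑.F 𝔑.toPush k
      (((FSch.ModSys.realModMap h Φ).val.app (op U)).hom y) =
    (((Φ : FSch.ModSys.Hom _ _).app k).app ((FSch.completionAlong X 𝓘).lvU h k U)).hom
      (secProj (FSch.completionAlong X 𝓘) h U 𝔐.F 𝔐.toPush k y) := by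
  have h1 := FSch.realLimMap_realProj (FSch.completionAlong X 𝓘) h (Φ : FSch.ModSys.Hom _ _).app
    (FSch.ModSys.Hom.toPush_comm Φ) k
  have h2 := congrArg (fun ψ => (ψ.val.app (op U)).hom y) h1
  exact h2

/-- the opens `i_0⁻¹ W`, `W` affine, form a basis of `X_0` -/
theorem isBasis_U0 :
    Opens.IsBasis {D : ((FSch.completionAlong X 𝓘).X 0).Opens |
      ∃ W : X.Opens, IsAffineOpen W ∧ D = U0 𝓘 W} := by
  rw [Opens.isBasis_iff_nbhd]
  intro D x hx
  have hind : Topology.IsInducing (FSch.completionToX X 𝓘 0).base :=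
    (FSch.completionToX X 𝓘 0).isEmbedding.isInducing
  obtain ⟨O, hO, hOD⟩ := hind.isOpen_iff.mp D.isOpen
  have hxO : (FSch.completionToX X 𝓘 0).base x ∈ (⟨O, hO⟩ : X.Opens) := by
    change x ∈ (FSch.completionToX X 𝓘 0).base ⁻¹' O
    rw [hOD]
    exact hx
  obtain ⟨W, hW, hxW, hWO⟩ := Opens.isBasis_iff_nbhd.mp X.isBasis_affineOpens hxO
  refine ⟨U0 𝓘 W, ⟨W, hW, rfl⟩, hxW, ?_⟩
  intro z hz
  have h1 : (FSch.completionToX X 𝓘 0).base z ∈ O := hWO hz
  have h2 : z ∈ (FSch.completionToX X 𝓘 0).base ⁻¹' O := h1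
  rw [hOD] at h2
  exact h2

end Groth.Agent.Lib.Lead.FCompl4
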