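import Mathlib
import Groth.Agent.Lib.Lead.FCompl4

/-!
# Exactness of completion `F ↦ F^` on coherent modules (lead)

`shortExact_realMod_complMod`: for `X` locally Noetherian, `𝓘` an ideal sheaf with formal completion
and `0 → F' → F → F'' → 0` short exact of coherent modules, the completed sequence of
`O_𝔛`-modules has zero composite and is short exact (S13340).
-/

set_option autoImplicit false
set_option backward.isDefEq.respectTransparency false
set_option linter.style.haveILetI false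
set_option linter.unusedSectionVars false
universe u
open CategoryTheory CategoryTheory.Limits AlgebraicGeometry TopologicalSpace Opposite
open Groth.Agent.Lib.helper8.PullbackUnit
open Groth.Agent.Lib.helper11.RealLimSec Groth.Agent.Lib.helper11.FormalOpenTower
open Groth.Agent.Lib.helper11.CohTower Groth.Agent.Lib.helper11.ModTop
open Groth.Agent.Lib.Lead.FCompl1 Groth.Agent.Lib.Lead.FCompl2 Groth.Agent.Lib.Lead.FCompl3
open Groth.Agent.Lib.Lead.FCompl4
open Scheme.Modules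

namespace Groth.Agent.Lib.Lead.FCompl5

variable {X : Scheme.{u}} (𝓘 : X.IdealSheafData) (h : (FSch.completionAlong X 𝓘).IsFormal)

/-- sections of a morphism of modules as a linear map -/
noncomputable def appL {M N : X.Modules} (φ : M ⟶ N) (U : X.Opens) : Γ(M, U) →ₗ[Γ(X, U)] Γ(N, U) where
  toFun := (φ.app U).hom
  map_add' := map_add _
  map_smul' r x := Hom.app_smul φ r x

/-- the level maps on sections induced by a morphism of modules -/
noncomputable def lvl {F G : X.Modules} (φ : F ⟶ G) (W : X.Opens) (k : ℕ) :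
    MU (FSch.completionAlong X 𝓘) h (U0 𝓘 W) (FSch.complMod 𝓘 F).F k →+
      MU (FSch.completionAlong X 𝓘) h (U0 𝓘 W) (FSch.complMod 𝓘 G).F k :=
  (((FSch.complModMap 𝓘 φ : FSch.ModSys.Hom _ _).app k).app
    ((FSch.completionAlong X 𝓘).lvU h k (U0 𝓘 W))).hom

theorem lvl_r {F G : X.Modules} (φ : F ⟶ G) (W : X.Opens) (k : ℕ) (m : Γ(F, W)) :
    lvl 𝓘 h φ W k (r 𝓘 h k W F m) = r 𝓘 h k W G (appL φ W m) :=
  r_naturality 𝓘 h k W φ m

theorem secProj_map {F G : X.Modules} (φ : F ⟶ G) (W : X.Opens) (k : ℕ)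
    (y : FU (FSch.completionAlong X 𝓘) h (U0 𝓘 W) (FSch.complMod 𝓘 F).F (FSch.complMod 𝓘 F).toPush) :
    secProj (FSch.completionAlong X 𝓘) h (U0 𝓘 W) (FSch.complMod 𝓘 G).F (FSch.complMod 𝓘 G).toPush k
      (((FSch.ModSys.realModMap h (FSch.complModMap 𝓘 φ)).val.app (op (U0 𝓘 W))).hom y) =
    lvl 𝓘 h φ W k
      (secProj (FSch.completionAlong X 𝓘) h (U0 𝓘 W) (FSch.complMod 𝓘 F).F
        (FSch.complMod 𝓘 F).toPush k y) :=
  secProj_realModMap 𝓘 h (FSch.complModMap 𝓘 φ) (U0 𝓘 W) k y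

theorem lvl_comp_zero {F G H : X.Modules} (φ : F ⟶ G) (ψ : G ⟶ H) (hz : φ ≫ ψ = 0) (W : X.Opens)
    (k : ℕ) (x : MU (FSch.completionAlong X 𝓘) h (U0 𝓘 W) (FSch.complMod 𝓘 F).F k) :
    lvl 𝓘 h ψ W k (lvl 𝓘 h φ W k x) = 0 := by
  have h1 : (Scheme.Modules.pullback (FSch.completionToX X 𝓘 k)).map φ ≫
      (Scheme.Modules.pullback (FSch.completionToX X 𝓘 k)).map ψ = 0 := by
    rw [← Functor.map_comp, hz, Functor.map_zero]
  have h2 := congrArg (fun ξ => (ξ.app ((FSch.completionAlong X 𝓘).lvU h k (U0 𝓘 W))).hom x) h1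
  exact h2

section Main

variable [IsLocallyNoetherian X] {S : ShortComplex X.Modules} (hS : S.ShortExact)
  (h1 : Coh.IsCoh S.X₁) (h2 : Coh.IsCoh S.X₂) (h3 : Coh.IsCoh S.X₃)

/-- the basis of opens of `X_0` used below -/
def 𝔅 : Set ((FSch.completionAlong X 𝓘).X 0).Opens :=
  {D | ∃ W : X.Opens, IsAffineOpen W ∧ D = U0 𝓘 W}

include hS h1 h2 h3 in
theorem sections_facts {W : X.Opens} (hW : IsAffineOpen W) :
    (∀ y : FU (FSch.completionAlong X 𝓘) h (U0 𝓘 W) (FSch.complMod 𝓘 S.X₁).F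
        (FSch.complMod 𝓘 S.X₁).toPush,
      ((FSch.ModSys.realModMap h (FSch.complModMap 𝓘 S.f)).val.app (op (U0 𝓘 W))).hom y = 0 →
        y = 0) ∧
    (∀ y : FU (FSch.completionAlong X 𝓘) h (U0 𝓘 W) (FSch.complMod 𝓘 S.X₂).F
        (FSch.complMod 𝓘 S.X₂).toPush,
      ((FSch.ModSys.realModMap h (FSch.complModMap 𝓘 S.g)).val.app (op (U0 𝓘 W))).hom y = 0 →
        ∃ y', ((FSch.ModSys.realModMap h (FSch.complModMap 𝓘 S.f)).val.app (op (U0 𝓘 W))).hom y' =
          y) ∧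
    (∀ y : FU (FSch.completionAlong X 𝓘) h (U0 𝓘 W) (FSch.complMod 𝓘 S.X₃).F
        (FSch.complMod 𝓘 S.X₃).toPush,
      ∃ y', ((FSch.ModSys.realModMap h (FSch.complModMap 𝓘 S.g)).val.app (op (U0 𝓘 W))).hom y' =
        y) := by
  haveI : IsNoetherianRing Γ(X, W) := IsLocallyNoetherian.component_noetherian ⟨W, hW⟩
  haveI : Module.Finite Γ(X, W) Γ(S.X₂, W) :=
    Groth.Agent.Lib.helper16.CohFinite.finite_sections_of_isCoh S.X₂ h2 hW
  haveI : S.X₁.IsQuasicoherent := h1.1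
  haveI : S.X₂.IsQuasicoherent := h2.1
  haveI : S.X₃.IsQuasicoherent := h3.1
  haveI := hS.epi_g
  have hle := Groth.Agent.Lib.helper17.FlatOver3.sections_left_exact hS W
  have hf : Function.Injective (appL S.f W) := hle.1
  have hfg : Function.Exact (appL S.f W) (appL S.g W) := hle.2
  have hg : Function.Surjective (appL S.g W) :=
    Groth.Agent.Lib.helper16.QCohEpi.surjective_app_of_epi S.g hW
  refine ⟨fun y hy => ?_, fun y hy => ?_, fun y => ?_⟩
  · apply sec_ext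
    intro k
    rw [map_zero]
    refine inj (pres 𝓘 h hW S.X₁) (pres 𝓘 h hW S.X₂) (appL S.f W) (lvl 𝓘 h S.f W)
      (fun k m => lvl_r 𝓘 h S.f W k m) hf
      (fun k => secProj _ h (U0 𝓘 W) _ _ k y) (fun k => trans_secProj _ h (U0 𝓘 W) _ _ k y)
      (fun k => ?_) k
    rw [← secProj_map, hy, map_zero]
  · obtain ⟨x', hx', hφ⟩ := mid (pres 𝓘 h hW S.X₁) (pres 𝓘 h hW S.X₂) (pres 𝓘 h hW S.X₃)
      (appL S.f W) (appL S.g W) (lvl 𝓘 h S.f W) (lvl 𝓘 h S.g W)
      (fun k m => lvl_r 𝓘 h S.f W k m) (fun k m => lvl_r 𝓘 h S.g W k m) hf hg hfg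
      (fun k => secProj _ h (U0 𝓘 W) _ _ k y) (fun k => trans_secProj _ h (U0 𝓘 W) _ _ k y)
      (fun k => by rw [← secProj_map, hy, map_zero])
    obtain ⟨y', hy'⟩ := sec_exists _ h (U0 𝓘 W) _ _ x' hx'
    refine ⟨y', ?_⟩
    apply sec_ext
    intro k
    rw [secProj_map, hy' k, hφ k]
  · obtain ⟨x, hx, hψ⟩ := surj' (pres 𝓘 h hW S.X₂) (pres 𝓘 h hW S.X₃)
      (appL S.g W) (lvl 𝓘 h S.g W) (fun k m => lvl_r 𝓘 h S.g W k m) hg
      (fun k => secProj _ h (U0 𝓘 W) _ _ k y) (fun k => trans_secProj _ h (U0 𝓘 W) _ _ k y)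
    obtain ⟨y', hy'⟩ := sec_exists _ h (U0 𝓘 W) _ _ x hx
    refine ⟨y', ?_⟩
    apply sec_ext
    intro k
    rw [secProj_map, hy' k, hψ k]

theorem comp_zero' {S : ShortComplex X.Modules} :
    FSch.ModSys.realModMap h (FSch.complModMap 𝓘 S.f) ≫
      FSch.ModSys.realModMap h (FSch.complModMap 𝓘 S.g) = 0 := by
  refine eq_zero_of_basis _ (𝔅 𝓘) (isBasis_U0 𝓘) ?_
  rintro D ⟨W, hW, rfl⟩ s
  apply sec_ext
  intro k
  rw [map_zero]
  have e1 := secProj_map 𝓘 h S.g W k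
    (((FSch.ModSys.realModMap h (FSch.complModMap 𝓘 S.f)).val.app (op (U0 𝓘 W))).hom s)
  refine e1.trans ?_
  rw [secProj_map]
  exact lvl_comp_zero 𝓘 h S.f S.g S.zero W k _

include hS h1 h2 h3 in
/-- **Exactness of completion on coherent modules** -/
theorem shortExact_realMod_complMod :
    FSch.ModSys.realModMap h (FSch.complModMap 𝓘 S.f) ≫
        FSch.ModSys.realModMap h (FSch.complModMap 𝓘 S.g) = 0 ∧
      ∀ w : FSch.ModSys.realModMap h (FSch.complModMap 𝓘 S.f) ≫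
          FSch.ModSys.realModMap h (FSch.complModMap 𝓘 S.g) = 0,
        (ShortComplex.mk _ _ w).ShortExact := by
  refine ⟨comp_zero' 𝓘 h, fun w => ?_⟩
  refine shortExact_of_basis _ (𝔅 𝓘) (isBasis_U0 𝓘) ?_ ?_ ?_
  · rintro D ⟨W, hW, rfl⟩
    exact (injective_iff_map_eq_zero _).mpr (sections_facts 𝓘 h hS h1 h2 h3 hW).1
  · rintro D ⟨W, hW, rfl⟩ y hy
    exact (sections_facts 𝓘 h hS h1 h2 h3 hW).2.1 y hy
  · rintro D ⟨W, hW, rfl⟩ y
    exact (sections_facts 𝓘 h hS h1 h2 h3 hW).2.2 y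

end Main

end Groth.Agent.Lib.Lead.FCompl5
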