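import Mathlib
import Groth.Agent.Lib.Lead.FCompl5
import Groth.Agent.Lib.Helper7.CohKer
import Groth.Agent.Lib.Helper8.GESub
import Groth.Agent.Lib.Helper8.SupportProper
import Groth.Agent.Lib.Helper28.QCohSupport
import Groth.Agent.Lib.Helper11.FormalFree2
import Groth.Agent.Lib.Lead.ClosedPt

/-!
# Completion detects mono / epi for closed maps to `Spec A`, `A` adic Noetherian (lead)

* `mem_smul_of_isZero`: if `K^ = 0` then `Γ(K, W) = I Γ(K, W)` for `W` affine, `I = 𝓘.ideal W`;
* `isZero_of_isZero_completion`: `X` locally Noetherian with a closed map `f` to `Spec A`,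
  `A` `J`-adically complete, `𝓘 = (idealSpec A J).comap f`, `K` coherent with `K^ = 0` ⇒ `K = 0`;
* `mono_iff`, `epi_iff` (S13651).
-/

set_option autoImplicit false
set_option backward.isDefEq.respectTransparency false
set_option linter.style.haveILetI false
set_option linter.unusedSectionVars false
universe u
open CategoryTheory CategoryTheory.Limits AlgebraicGeometry TopologicalSpace Opposite
open Groth.Agent.Lib.helper11.RealLimSec
open Groth.Agent.Lib.Lead.FCompl1 Groth.Agent.Lib.Lead.FCompl4 Groth.Agent.Lib.Lead.FCompl5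

namespace Groth.Agent.Lib.Lead.FCompl6

section Top

variable {T : TopCat.{u}} {R : Sheaf (Opens.grothendieckTopology T) RingCat.{u}}

theorem sec_eq_zero_of_isZero {F : SheafOfModules.{u} R} (hF : IsZero F) (U : Opens T)
    (s : F.val.obj (op U)) : s = 0 := by
  have h1 : 𝟙 F = 0 := hF.eq_of_src _ _
  have h2 := congrArg (fun φ => (φ.val.app (op U)).hom s) h1
  exact h2

end Top

section Alg

/-- Nakayama at a prime containing `I` -/
theorem not_mem_support_of_eq_smul {R : Type*} [CommRing R] {M : Type*} [AddCommGroup M]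
    [Module R M] [Module.Finite R M] (I : Ideal R) (hM : ∀ m : M, m ∈ I • (⊤ : Submodule R M))
    (p : PrimeSpectrum R) (hp : I ≤ p.asIdeal) : p ∉ Module.support R M := by
  obtain ⟨r, hr1, hr2⟩ := Submodule.exists_sub_one_mem_and_smul_eq_zero_of_fg_of_le_smul I
    (⊤ : Submodule R M) Module.Finite.fg_top (fun m _ => hM m)
  intro hmem
  rw [Module.mem_support_iff_exists_annihilator] at hmem
  obtain ⟨m, hm⟩ := hmem
  have h1 : r ∈ (Submodule.span R {m}).annihilator := by
    rw [Submodule.mem_annihilator_span_singleton]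
    exact hr2 m Submodule.mem_top
  have h2 : r ∈ p.asIdeal := hm h1
  have h3 : r - 1 ∈ p.asIdeal := hp hr1
  have h4 : (1 : R) ∈ p.asIdeal := by
    have := p.asIdeal.sub_mem h2 h3
    rwa [sub_sub_cancel] at this
  exact p.isPrime.ne_top ((Ideal.eq_top_iff_one _).mpr h4)

end Alg

variable {X : Scheme.{u}} (𝓘 : X.IdealSheafData) (h : (FSch.completionAlong X 𝓘).IsFormal)

theorem mem_smul_of_isZero (K : X.Modules) [K.IsQuasicoherent]
    (hz : IsZero ((FSch.complMod 𝓘 K).realMod h)) {W : X.Opens} (hW : IsAffineOpen W)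
    (m : Γ(K, W)) : m ∈ (𝓘.ideal ⟨W, hW⟩) • (⊤ : Submodule Γ(X, W) Γ(K, W)) := by
  obtain ⟨y, hy⟩ := sec_exists _ h (U0 𝓘 W) _ _ (fun k => r 𝓘 h k W K m)
    (fun k => trans_r 𝓘 h k W K m)
  have hy0 : y = 0 := sec_eq_zero_of_isZero hz _ y
  have h0 := hy 0
  rw [hy0, map_zero] at h0
  have h1 := ((pres 𝓘 h hW K).ker 0 m).mp h0.symm
  rw [zero_add, pow_one] at h1
  exact h1

section Closed

variable {A : Type u} [CommRing A] (J : Ideal A) [IsAdicComplete J A]
  (f : X ⟶ Spec (CommRingCat.of A)) (hf : IsClosedMap f.base)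

include hf in
/-- a nonempty closed subset of `X` meets the preimage of `V(J)` -/
theorem exists_mem_zeroLocus_of_isClosed (C : Set X) (hC : IsClosed C) (hne : C.Nonempty) :
    ∃ z ∈ C, (f.base z : PrimeSpectrum A) ∈ PrimeSpectrum.zeroLocus (J : Set A) := by
  have hcl : IsClosed (f.base '' C) := hf C hC
  obtain ⟨𝔞, h𝔞⟩ := (PrimeSpectrum.isClosed_iff_zeroLocus_ideal _).mp hcl
  have hne' : 𝔞 ≠ ⊤ := by
    rintro rfl
    obtain ⟨c, hc⟩ := hne
    have : f.base c ∈ PrimeSpectrum.zeroLocus ((⊤ : Ideal A) : Set A) := by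
      rw [← h𝔞]
      exact ⟨c, hc, rfl⟩
    rw [PrimeSpectrum.zeroLocus_empty_of_one_mem (Submodule.mem_top)] at this
    exact this
  obtain ⟨𝔪, h𝔪, hle⟩ := Ideal.exists_le_maximal 𝔞 hne'
  have hmem : (⟨𝔪, h𝔪.isPrime⟩ : PrimeSpectrum A) ∈ PrimeSpectrum.zeroLocus (𝔞 : Set A) := hle
  rw [← h𝔞] at hmem
  obtain ⟨z, hzC, hz⟩ := hmem
  refine ⟨z, hzC, ?_⟩
  rw [hz]
  intro a ha
  have h1 : J ≤ 𝔪 := (IsAdicComplete.le_jacobson_bot J).trans (sInf_le ⟨bot_le, h𝔪⟩)
  exact h1 ha

include hf in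
theorem isZero_of_isZero_completion [IsLocallyNoetherian X]
    (h𝓘 : 𝓘 = (FSch.idealSpec A J).comap f) (K : X.Modules) (hK : Coh.IsCoh K)
    (hz : IsZero ((FSch.complMod 𝓘 K).realMod h)) : IsZero K := by
  haveI : K.IsQuasicoherent := hK.1
  apply Groth.Agent.Lib.helper8.GESub.isZero_of_support_eq_empty
  by_contra hne
  have hne' : (CohB1.support K).Nonempty := Set.nonempty_iff_ne_empty.mpr hne
  have hcl : IsClosed (CohB1.support K) :=
    Groth.Agent.Lib.helper8.SchemeSupport.isClosed_support K hK.2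
  obtain ⟨z, hzS, hzJ⟩ := exists_mem_zeroLocus_of_isClosed J f hf _ hcl hne'
  obtain ⟨_, ⟨W, hW, rfl⟩, hzW, -⟩ :=
    X.isBasis_affineOpens.exists_subset_of_mem_open (Set.mem_univ z) isOpen_univ
  have hz𝓘 : z ∈ 𝓘.support := by
    rw [h𝓘, Scheme.IdealSheafData.support_comap]
    exact Groth.Agent.Lib.helper11.FormalFree.mem_support_idealSpec A J (f.base z) hzJ
  have hle : 𝓘.ideal ⟨W, hW⟩ ≤ (hW.primeIdealOf ⟨z, hzW⟩).asIdeal := by
    intro a ha
    have h1 := (Scheme.IdealSheafData.mem_support_iff_of_mem (I := 𝓘) (U := ⟨W, hW⟩) hzW).mp hz𝓘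
    rw [Scheme.mem_zeroLocus_iff] at h1
    have h2 := h1 a ha
    rw [Groth.Agent.Lib.Lead.ClosedPt.mem_basicOpen_iff_not_mem_primeIdealOf hW a z hzW] at h2
    exact not_not.mp h2
  haveI : Module.Finite Γ(X, W) Γ(K, W) :=
    Groth.Agent.Lib.helper16.CohFinite.finite_sections_of_isCoh K hK hW
  have hns := not_mem_support_of_eq_smul (𝓘.ideal ⟨W, hW⟩)
    (fun m => mem_smul_of_isZero 𝓘 h K hz hW m) (hW.primeIdealOf ⟨z, hzW⟩) hle
  exact hns ((Groth.Agent.Lib.helper28.primeIdealOf_mem_support_iff K hW z hzW).mpr hzS)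

end Closed

section MonoEpi

variable [IsLocallyNoetherian X] {F G : X.Modules} (hF : Coh.IsCoh F) (hG : Coh.IsCoh G)
  (u : F ⟶ G)

include hF hG in
theorem mono_realModMap_of_mono [Mono u] :
    Mono (FSch.ModSys.realModMap h (FSch.complModMap 𝓘 u)) := by
  have hS : (ShortComplex.mk u (cokernel.π u) (cokernel.condition u)).ShortExact :=
    ShortComplex.ShortExact.mk' (ShortComplex.exact_cokernel u) inferInstance inferInstance
  have hC := Groth.Agent.Lib.helper7.CohKer.isCoh_cokernel hF hG u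
  have key := shortExact_realMod_complMod 𝓘 h hS hF hG hC
  exact (key.2 key.1).mono_f

include hF hG in
theorem epi_realModMap_of_epi [Epi u] :
    Epi (FSch.ModSys.realModMap h (FSch.complModMap 𝓘 u)) := by
  have hS : (ShortComplex.mk (kernel.ι u) u (kernel.condition u)).ShortExact :=
    ShortComplex.ShortExact.mk' (ShortComplex.exact_kernel u) inferInstance inferInstance
  have hK := Groth.Agent.Lib.helper7.CohKer.isCoh_kernel hF hG u
  have key := shortExact_realMod_complMod 𝓘 h hS hK hF hG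
  exact (key.2 key.1).epi_g

variable {A : Type u} [CommRing A] (J : Ideal A) [IsAdicComplete J A]
  (f : X ⟶ Spec (CommRingCat.of A)) (hf : IsClosedMap f.base)
  (h𝓘 : 𝓘 = (FSch.idealSpec A J).comap f)

include hF hG hf h𝓘 in
theorem mono_iff :
    Mono (FSch.ModSys.realModMap h (FSch.complModMap 𝓘 u)) ↔ Mono u := by
  constructor
  · intro hm
    have hK := Groth.Agent.Lib.helper7.CohKer.isCoh_kernel hF hG u
    haveI := mono_realModMap_of_mono 𝓘 h hK hF (kernel.ι u)
    have hcz := comp_zero' 𝓘 h (S := ShortComplex.mk (kernel.ι u) u (kernel.condition u))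
    have h0 : FSch.ModSys.realModMap h (FSch.complModMap 𝓘 (kernel.ι u)) = 0 :=
      zero_of_comp_mono _ hcz
    have hz : IsZero ((FSch.complMod 𝓘 (kernel u)).realMod h) := IsZero.of_mono_eq_zero _ h0
    have hK0 := isZero_of_isZero_completion 𝓘 h J f hf h𝓘 (kernel u) hK hz
    exact Preadditive.mono_of_kernel_zero (hK0.eq_of_src _ _)
  · intro hm
    exact mono_realModMap_of_mono 𝓘 h hF hG u

include hF hG hf h𝓘 in
theorem epi_iff :
    Epi (FSch.ModSys.realModMap h (FSch.complModMap 𝓘 u)) ↔ Epi u := by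
  constructor
  · intro hm
    have hC := Groth.Agent.Lib.helper7.CohKer.isCoh_cokernel hF hG u
    haveI := epi_realModMap_of_epi 𝓘 h hG hC (cokernel.π u)
    have hcz := comp_zero' 𝓘 h (S := ShortComplex.mk u (cokernel.π u) (cokernel.condition u))
    have h0 : FSch.ModSys.realModMap h (FSch.complModMap 𝓘 (cokernel.π u)) = 0 :=
      zero_of_epi_comp _ hcz
    have hz : IsZero ((FSch.complMod 𝓘 (cokernel u)).realMod h) := IsZero.of_epi_eq_zero _ h0
    have hC0 := isZero_of_isZero_completion 𝓘 h J f hf h𝓘 (cokernel u) hC hz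
    exact Preadditive.epi_of_cokernel_zero (hC0.eq_of_tgt _ _)
  · intro hm
    exact epi_realModMap_of_epi 𝓘 h hF hG u

end MonoEpi

end Groth.Agent.Lib.Lead.FCompl6
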