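import Mathlib
import Groth.Agent.Lib.Helper11.SerreGG
import Groth.Agent.Lib.Helper11.LocGen
import Groth.Agent.Lib.Helper28.SymLineGenLocus
import Groth.Agent.Lib.Helper28.RestrictCover
import Groth.Agent.Lib.Helper8.FormalPrincipal

/-!
# Finite type submodules of quasi-coherent modules (lead)

* `genAtBy_of_locSpan`: local spanning sections over `W` (helper11 `LocGen.LocSpan`) generate `F|_W` at every point
  (helper11 `SerreGG.GenAtBy`), so `canonBy` is an epimorphism from a free module onto `F|_W`.
* `isQuasicoherent_of_isFT_mono`: a sub-`O_X`-module of finite type of a quasi-coherent module is quasi-coherent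
  (no Noetherian hypothesis).
-/

set_option autoImplicit false
set_option linter.style.haveILetI false
set_option linter.unusedSectionVars false
set_option backward.isDefEq.respectTransparency false
universe u
open CategoryTheory CategoryTheory.Limits AlgebraicGeometry Opposite TopologicalSpace

namespace Groth.Agent.Lib.Lead.FTSub

open Groth.Agent.Lib.helper11.SerreGG Groth.Agent.Lib.helper11.LocGen
  Groth.Agent.Lib.helper28.SymLineGenLocus Groth.Agent.Lib.helper12.TwistExtend
  Groth.Agent.Lib.helper11.OverGen

variable {S : Scheme.{u}}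

/-- local spanning sections over `W` generate the restriction to `W` at every point -/
theorem genAtBy_of_locSpan (F : S.Modules) (W : S.Opens) {I : Type u} (m : I → F.val.obj (op W))
    (hm : LocSpan (R := S.ringCatSheaf) F W m) (y : (W : Scheme.{u})) :
    GenAtBy (F.restrict W.ι) (fun i => topSec F W (m i)) y := by
  intro V σ hyV
  have hD : W.ι ''ᵁ V ≤ W := image_le W V
  obtain ⟨D', hD', hxD', hmem⟩ := hm (W.ι ''ᵁ V) hD σ (W.ι y) ⟨y, hyV, rfl⟩
  let W' : (↑W : Scheme.{u}).Opens := W.ι ⁻¹ᵁ D'
  have hW'V : W' ≤ V := by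
    intro z hz
    obtain ⟨v, hv, hvz⟩ := hD' hz
    have : v = z := W.ι.isOpenEmbedding.injective hvz
    exact this ▸ hv
  have hD'' : W.ι ''ᵁ W' ≤ D' := W.ι.image_preimage_le D'
  refine ⟨W', hW'V, hxD', ?_⟩
  have e1 : res (F.restrict W.ι) hW'V σ = res F hD'' (resM F hD' σ) :=
    (res_res F hD' hD'' σ).symm
  have key : ∀ z : F.val.obj (op D'),
      z ∈ Submodule.span (S.ringCatSheaf.obj.obj (op D'))
        (Set.range fun i => resM F (hD'.trans hD) (m i)) →
      res F hD'' z ∈ gsubBy (F.restrict W.ι) (fun i => topSec F W (m i)) W' := by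
    intro z hz
    induction hz using Submodule.span_induction with
    | mem x hx =>
      obtain ⟨i, rfl⟩ := hx
      have e2 : res F hD'' (resM F (hD'.trans hD) (m i)) =
          res (F.restrict W.ι) (le_top : W' ≤ ⊤) (topSec F W (m i)) := by
        rw [res_topSec]
        exact res_res F _ hD'' (m i)
      rw [e2]
      exact res_top_mem_gsubBy (F.restrict W.ι) _ W' i
    | zero => rw [res_zero]; exact Submodule.zero_mem _
    | add x y _ _ hx hy => rw [res_add]; exact Submodule.add_mem _ hx hy
    | smul r x _ hx =>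
      rw [res_smul]
      have e3 := Groth.Agent.Lib.helper7.IdealCartier.restrict_smul W F W'
        (show Γ((↑W : Scheme.{u}), W') from S.ringCatSheaf.obj.map (homOfLE hD'').op r)
        (res F hD'' x)
      exact e3 ▸ Submodule.smul_mem _ _ hx
  rw [e1]
  exact key _ hmem

/-- a finite type submodule of a quasi-coherent module is quasi-coherent -/
theorem isQuasicoherent_of_isFT_mono {F A : S.Modules} [A.IsQuasicoherent]
    (hF : CohB1.IsFT F) (ι : F ⟶ A) [Mono ι] : F.IsQuasicoherent := by
  haveI : SheafOfModules.IsFiniteType (R := S.ringCatSheaf) F := hF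
  have key : ∀ x : S, ∃ W : S.Opens, x ∈ W ∧ (F.restrict W.ι).IsQuasicoherent := by
    intro x
    obtain ⟨(W : S.Opens), hxW, I, hI, m, hm⟩ :=
      exists_locSpan_of_isFiniteType (R := S.ringCatSheaf) F x
    refine ⟨W, hxW, ?_⟩
    haveI : Epi (canonBy (F.restrict W.ι) (fun i => topSec F W (m i))) :=
      epi_of_genAtBy _ _ (fun y => genAtBy_of_locSpan F W m hm y)
    haveI : (Scheme.Modules.restrictFunctor W.ι).PreservesMonomorphisms := inferInstance
    haveI : Mono ((Scheme.Modules.restrictFunctor W.ι).map ι) := inferInstance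
    haveI : (A.restrict W.ι).IsQuasicoherent := inferInstance
    exact Groth.Agent.Lib.helper8.FF.isQuasicoherent_of_epi_mono
      (canonBy (F.restrict W.ι) (fun i => topSec F W (m i)))
      ((Scheme.Modules.restrictFunctor W.ι).map ι)
  choose W hxW hW using key
  exact Groth.Agent.Lib.helper28.RestrictCover.isQuasicoherent_of_restrict_cover F
    (fun x => ((W x : S.Opens) : Scheme.{u})) (fun x => (W x).ι)
    (fun x => ⟨x, ⟨⟨x, hxW x⟩, rfl⟩⟩) hW

end Groth.Agent.Lib.Lead.FTSub
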