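import Mathlib

/-!
# Flatness of `M ⧸ I M` over `R ⧸ I` from flatness of a base change (lead)

* `flat_quotient_of_isBaseChange`: if `R → R'` is a surjective algebra map with kernel `I`,
  `ψ : M → M'` is a base change to `R'` and `M'` is flat over `R'`, then `M ⧸ I • ⊤` is flat over
  `R ⧸ I`.
-/

set_option autoImplicit false
set_option linter.style.haveILetI false

namespace Groth.Agent.Lib.Lead.FlatQuot

open scoped TensorProduct

/-- If `R → R'` is a surjective algebra map with kernel `I`, `ψ : M → M'` exhibits `M'` as the base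
change of `M` to `R'`, and `M'` is flat over `R'`, then `M ⧸ I M` is flat over `R ⧸ I`. -/
theorem flat_quotient_of_isBaseChange {R R' M M' : Type*} [CommRing R] [CommRing R'] [Algebra R R']
    [AddCommGroup M] [Module R M] [AddCommGroup M'] [Module R M'] [Module R' M']
    [IsScalarTower R R' M']
    (hs : Function.Surjective (algebraMap R R')) (ψ : M →ₗ[R] M') (hψ : IsBaseChange R' ψ)
    [Module.Flat R' M'] (I : Ideal R) (hI : I = RingHom.ker (algebraMap R R')) :
    Module.Flat (R ⧸ I) (M ⧸ (I • (⊤ : Submodule R M))) := by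
  classical
  let φ : R ⧸ I →+* R' :=
    Ideal.Quotient.lift I (algebraMap R R') (fun a ha => by rw [hI] at ha; exact ha)
  have hφmk : ∀ r : R, φ (Ideal.Quotient.mk I r) = algebraMap R R' r := fun r => rfl
  have hφ : Function.Bijective φ := by
    constructor
    · rw [injective_iff_map_eq_zero]
      intro a ha
      obtain ⟨r, rfl⟩ := Ideal.Quotient.mk_surjective a
      rw [hφmk] at ha
      rw [Ideal.Quotient.eq_zero_iff_mem, hI]
      exact ha
    · intro r'
      obtain ⟨r, rfl⟩ := hs r'
      exact ⟨Ideal.Quotient.mk I r, rfl⟩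
  letI : Algebra (R ⧸ I) R' := φ.toAlgebra
  haveI : IsScalarTower R (R ⧸ I) R' := IsScalarTower.of_algebraMap_eq (fun r => rfl)
  letI : Module (R ⧸ I) M' := Module.compHom M' φ
  haveI : IsScalarTower (R ⧸ I) R' M' :=
    ⟨fun a r' m' => by
      show (φ a * r') • m' = φ a • (r' • m')
      rw [mul_smul]⟩
  haveI : IsScalarTower R (R ⧸ I) M' :=
    IsScalarTower.of_algebraMap_smul (fun r m' => by
      show φ (Ideal.Quotient.mk I r) • m' = r • m'
      rw [hφmk, algebraMap_smul])
  haveI : Module.Flat (R ⧸ I) R' := RingHom.Flat.of_bijective hφ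
  haveI : Module.Flat (R ⧸ I) M' := Module.Flat.trans (R ⧸ I) R' M'
  -- the `R`-linear equivalence `R ⧸ I ≃ R'`
  let e₁ : (R ⧸ I) ≃ₗ[R] R' :=
    LinearEquiv.ofBijective ((Algebra.linearMap (R ⧸ I) R').restrictScalars R) hφ
  let e : M' ≃ₗ[R] M ⧸ (I • (⊤ : Submodule R M)) :=
    (hψ.equiv.restrictScalars R).symm ≪≫ₗ
      (TensorProduct.congr e₁.symm (LinearEquiv.refl R M)) ≪≫ₗ
      TensorProduct.quotTensorEquivQuotSMul M I
  exact Module.Flat.of_linearEquiv
    ((e.extendScalarsOfSurjective Ideal.Quotient.mk_surjective).symm)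

end Groth.Agent.Lib.Lead.FlatQuot
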