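import Mathlib
import Groth.Prelude.Def_CInt
import Groth.Prelude.Def_TorSh
import Groth.Prelude.Def_FlatMod2
import Groth.Prelude.Def_CohB1
import Groth.Agent.S1393
import Groth.Agent.Lib.Helper17.StalkPullback
import Groth.Agent.Lib.Helper17.FibreStalk
import Groth.Agent.Lib.Helper17.CurveFamNormal
import Groth.Agent.Lib.Helper15.Regular
import Groth.Agent.Lib.Lead.RefHull8
import Groth.Agent.Lib.Lead.FlatQuot

/-!
# Fibrewise flatness criterion at points of small fibre dimension (lead)

* `flat_fibre_quotient`: flatness of `(ι^* F)_z` over the fibre local ring `O_{X_y, z}` gives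
  flatness of `F_x / m_y F_x` over `O_{X,x} / m_y O_{X,x}` (`x = ι z`), the hypothesis of the
  fibrewise criterion S1393.
* `exists_free_nhd_of_fibre_dim_le_one`: smooth `f`, `F` finitely presented, flat over the base,
  fibrewise torsion-free ⇒ `F` is free near points of fibre dimension `≤ 1`.
-/

set_option autoImplicit false
set_option backward.isDefEq.respectTransparency false
set_option linter.style.haveILetI false
universe u
open CategoryTheory CategoryTheory.Limits AlgebraicGeometry TopologicalSpace

namespace Groth.Agent.Lib.Lead.FibFlat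

open Groth.Agent.Lib.helper17.StalkPullback Groth.Agent.Lib.helper17.FibreStalk IsLocalRing

/-- flatness of the stalk of the restriction to the fibre over the fibre local ring, in the quotient
form `F_x / m_s F_x` over `O_{X,x} / m_s O_{X,x}` -/
theorem flat_fibre_quotient {P S : Scheme.{u}} (f : P ⟶ S) (F : P.Modules) [F.IsQuasicoherent]
    (y : S) (z : f.fiber y)
    (hflat : Module.Flat ((f.fiber y).presheaf.stalk z)
      (((Scheme.Modules.pullback (f.fiberι y)).obj F).presheaf.stalk z)) :
    Module.Flat (↑(P.presheaf.stalk (f.fiberι y z)) ⧸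
        Ideal.map (f.stalkMap (f.fiberι y z)).hom
          (IsLocalRing.maximalIdeal ↑(S.presheaf.stalk (f (f.fiberι y z)))))
      (↑(F.presheaf.stalk (f.fiberι y z)) ⧸
        (Ideal.map (f.stalkMap (f.fiberι y z)).hom
          (IsLocalRing.maximalIdeal ↑(S.presheaf.stalk (f (f.fiberι y z)))) •
          (⊤ : Submodule ↑(P.presheaf.stalk (f.fiberι y z))
            ↑(F.presheaf.stalk (f.fiberι y z))))) := by
  set ι := f.fiberι y with hι
  letI algSR : Algebra (P.presheaf.stalk (ι z)) ((f.fiber y).presheaf.stalk z) :=
    (ι.stalkMap z).hom.toAlgebra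
  letI modST : Module (P.presheaf.stalk (ι z))
      (((Scheme.Modules.pullback ι).obj F).presheaf.stalk z) :=
    FlatMod.moduleStalkOver ι ((Scheme.Modules.pullback ι).obj F) z
  haveI : IsScalarTower (P.presheaf.stalk (ι z)) ((f.fiber y).presheaf.stalk z)
      (((Scheme.Modules.pullback ι).obj F).presheaf.stalk z) :=
    isScalarTower_moduleStalkOver ι ((Scheme.Modules.pullback ι).obj F) z
  obtain ⟨ψ, hψ⟩ := exists_isBaseChange_stalk_pullback ι F z
  have hsurj : Function.Surjective
      (algebraMap (P.presheaf.stalk (ι z)) ((f.fiber y).presheaf.stalk z)) :=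
    ι.stalkMap_surjective z
  have hker : (maximalIdeal (S.presheaf.stalk (f (ι z)))).map (f.stalkMap (ι z)).hom =
      RingHom.ker (algebraMap (P.presheaf.stalk (ι z)) ((f.fiber y).presheaf.stalk z)) :=
    (ker_fiberι_stalkMap f y z).symm
  exact Groth.Agent.Lib.Lead.FlatQuot.flat_quotient_of_isBaseChange hsurj ψ hψ _ hker

/-- **Local freeness at points of fibre dimension `≤ 1`**: for `f : P ⟶ S` smooth (quasi-compact,
quasi-separated), a finitely presented module `F` on `P`, flat over `S`, whose restriction to every
fibre is torsion-free, is free of finite rank near every point whose fibre local ring has dimension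
`≤ 1`. -/
theorem exists_free_nhd_of_fibre_dim_le_one {P S : Scheme.{u}} (f : P ⟶ S) [Smooth f]
    [QuasiCompact f] [QuasiSeparated f]
    (F : P.Modules) (hfp : CohB1.IsFP F)
    (hfl : FlatMod.IsFlatOver f F)
    (htf : ∀ s : ↥S, TorSh.IsTorsionFree
      ((Scheme.Modules.pullback (f.fiberι s)).obj F))
    (x : ↥P)
    (hx : ringKrullDim ↑(CInt.fiberStalk f x) ≤ 1) :
    ∃ (V : P.Opens) (n : ℕ), x ∈ V ∧
      Nonempty (F.restrict V.ι ≅ FlatMod.freeMod (↑V) n) := by
  haveI : SheafOfModules.IsFinitePresentation (R := P.ringCatSheaf) F := hfp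
  haveI : F.IsQuasicoherent := SheafOfModules.instIsQuasicoherentOfIsFinitePresentation F
  haveI : Smooth (f.fiberToSpecResidueField (f x)) :=
    MorphismProperty.pullback_snd (P := @Smooth) f (S.fromSpecResidueField (f x)) inferInstance
  haveI : IsRegularLocalRing ((f.fiber (f x)).presheaf.stalk (f.asFiber x)) :=
    Groth.Agent.Lib.helper17.CurveFamNormal.isRegularLocalRing_stalk_of_smooth_field
      (K := S.residueField (f x)) (f.fiberToSpecResidueField (f x)) (f.asFiber x)
  haveI : IsDomain ((f.fiber (f x)).presheaf.stalk (f.asFiber x)) :=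
    Groth.Agent.Lib.helper15.isDomain_of_isRegularLocalRing _
  haveI : IsPrincipalIdealRing ((f.fiber (f x)).presheaf.stalk (f.asFiber x)) :=
    Groth.Agent.Lib.Lead.RH.isPrincipalIdealRing_of_regular_dim_le_one _ hx
  haveI : Module.IsTorsionFree ((f.fiber (f x)).presheaf.stalk (f.asFiber x))
      (((Scheme.Modules.pullback (f.fiberι (f x))).obj F).presheaf.stalk (f.asFiber x)) :=
    htf (f x) (f.asFiber x)
  have hflat : Module.Flat ((f.fiber (f x)).presheaf.stalk (f.asFiber x))
      (((Scheme.Modules.pullback (f.fiberι (f x))).obj F).presheaf.stalk (f.asFiber x)) :=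
    inferInstance
  have h2' := flat_fibre_quotient f F (f x) (f.asFiber x) hflat
  have h2 := Eq.mp (congrArg (fun x' : ↥P =>
    Module.Flat (↑(P.presheaf.stalk x') ⧸
        Ideal.map (f.stalkMap x').hom
          (IsLocalRing.maximalIdeal ↑(S.presheaf.stalk (f x'))))
      (↑(F.presheaf.stalk x') ⧸
        (Ideal.map (f.stalkMap x').hom
          (IsLocalRing.maximalIdeal ↑(S.presheaf.stalk (f x'))) •
          (⊤ : Submodule ↑(P.presheaf.stalk x')
            ↑(F.presheaf.stalk x'))))) (f.fiberι_asFiber x)) h2'
  exact Groth.Agent.S1393.result f F inferInstance hfp x (hfl x) h2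

end Groth.Agent.Lib.Lead.FibFlat
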