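import Mathlib
import Groth.Prelude.Def_ModelsG
import Groth.Agent.Lib.Lead.EulerLC4
import Groth.Agent.Lib.Lead.HilbPos4
import Groth.Agent.Lib.Lead.CurveInv
import Groth.Agent.Lib.Lead.ProperEuler
import Groth.Agent.Lib.Helper24.AssFib8
import Groth.Agent.Lib.Helper18.NNUnit
import Groth.Agent.Lib.Helper18.HHZero
import Groth.Agent.Lib.Helper8.PushSupp
import Groth.Agent.Lib.Helper9.CurveTwist
import Groth.Agent.Lib.Helper11.InvMod

/-! # Openness of `dim X_s = 1 ∧ h⁰(X_s, O) = 1` in a flat proper family (lead)

* `hRank_structureModule_pos`: `h⁰(Y, O_Y) > 0` for a nonempty proper scheme over a field.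
* `fibre_support_structureModule`, `hRank_eq_betti`: the pullback of `O_X` to a fibre is the structure sheaf of the fibre.
* `main`: for `f` flat proper lfp, `{s | dim X_s = 1 ∧ h⁰(X_s, O) = 1}` is open (fibre dimension locally constant by
  helper24's `isLocallyConstant_fibre_support_dim`; `h⁰ < 2` open by `EulerLC.isOpen_betti_lt`). -/

set_option autoImplicit false
set_option linter.style.haveILetI false
universe u
open CategoryTheory CategoryTheory.Limits AlgebraicGeometry Opposite

namespace Groth.Agent.Lib.Lead.FibH0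


/-- `h⁰(O) > 0` on a nonempty proper scheme over a field -/
theorem hRank_structureModule_pos (k : Type u) [Field k] (Y : Scheme.{u})
    (g : Y ⟶ Spec (CommRingCat.of k)) [IsProper g] [Nonempty Y] :
    0 < Models.hRank k Y g (Coh.structureModule Y) 0 := by
  unfold Models.hRank
  letI : Y.Over (Spec (CommRingCat.of k)) := ⟨g⟩
  haveI : IsProper (Y ↘ Spec (CommRingCat.of k)) := ‹IsProper g›
  have hOc := Groth.Agent.Lib.helper8.Dev.isCoh_structureModule Y
  haveI : Module.Finite k (Coh.HH Y (Coh.structureModule Y) 0) :=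
    Groth.Agent.Lib.Lead.ProperEuler.finite_HH k Y _ hOc 0
  haveI : Nonempty ↥(⊤ : Y.Opens) := ⟨⟨Classical.arbitrary Y, trivial⟩⟩
  haveI : Nontrivial ((Coh.structureModule Y).val.obj (op ⊤)) :=
    inferInstanceAs (Nontrivial Γ(Y, ⊤))
  haveI : Nontrivial (Coh.HH Y (Coh.structureModule Y) 0) :=
    (Groth.Agent.Lib.Helper18.HH.equiv₀ (Coh.structureModule Y)).toEquiv.nontrivial
  exact Module.finrank_pos

variable {X S : Scheme.{u}} (f : X ⟶ S)

/-- the support of the pullback of `O_X` to a fibre is the whole fibre -/
theorem fibre_support_structureModule (s : S) :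
    {z : ↥(f.fiber s) | Nontrivial
      (((Scheme.Modules.pullback (f.fiberι s)).obj (Coh.structureModule X)).presheaf.stalk z)} =
      Set.univ := by
  refine Set.eq_univ_of_forall (fun z => ?_)
  have h1 := Groth.Agent.Lib.Lead.HilbPos.mem_support_structureModule (f.fiber s) z
  rw [← Groth.Agent.Lib.helper8.StalkLen.support_eq_of_iso
    (Groth.Agent.Lib.helper11.InvMod.pullbackUnitIso (f.fiberι s))] at h1
  exact not_subsingleton_iff_nontrivial.mp h1

theorem hRank_eq_betti (s : S) :
    Models.hRank ↥(S.residueField s) (f.fiber s) (f.fiberToSpecResidueField s)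
        (Coh.structureModule (f.fiber s)) 0 = PerfAux.betti f (Coh.structureModule X) s 0 := by
  unfold Models.hRank PerfAux.betti
  letI : (f.fiber s).Over (Spec (CommRingCat.of (S.residueField s))) :=
    ⟨f.fiberToSpecResidueField s⟩
  exact (Groth.Agent.Lib.helper9.CurveTwist.finrank_HH_eq_of_iso (S.residueField s)
    (Groth.Agent.Lib.helper11.InvMod.pullbackUnitIso (f.fiberι s)) 0).symm

theorem main [Flat f] [IsProper f] [LocallyOfFinitePresentation f] :
    IsOpen {s : S | topologicalKrullDim ↥(f.fiber s) = 1 ∧
      Models.hRank ↥(S.residueField s) (f.fiber s) (f.fiberToSpecResidueField s)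
        (Coh.structureModule (f.fiber s)) 0 = 1} := by
  have hFP := Groth.Agent.Lib.Helper18.NNUnit.isFP_structureModule X
  have hflat := Groth.Agent.Lib.Helper18.NNUnit.isFlatOver_structureModule f
  have hdimLC := Groth.Agent.Lib.Helper24.AssFib.isLocallyConstant_fibre_support_dim f _ hFP hflat
  have hopenB := Groth.Agent.Lib.Lead.EulerLC.isOpen_betti_lt f _ hFP hflat 0 2
  have hg : ∀ s : S, topologicalKrullDim ↥{z : ↥(f.fiber s) | Nontrivial
      (((Scheme.Modules.pullback (f.fiberι s)).obj (Coh.structureModule X)).presheaf.stalk z)} =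
      topologicalKrullDim ↥(f.fiber s) := by
    intro s
    rw [fibre_support_structureModule f s]
    exact (Homeomorph.Set.univ _).isHomeomorph.topologicalKrullDim_eq
  have hset : {s : S | topologicalKrullDim ↥(f.fiber s) = 1 ∧
      Models.hRank ↥(S.residueField s) (f.fiber s) (f.fiberToSpecResidueField s)
        (Coh.structureModule (f.fiber s)) 0 = 1} =
      ((fun y : S => topologicalKrullDim ↥{z : ↥(f.fiber y) | Nontrivial
        (((Scheme.Modules.pullback (f.fiberι y)).obj (Coh.structureModule X)).presheaf.stalk z)}) ⁻¹'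
          {1}) ∩ {s : S | PerfAux.betti f (Coh.structureModule X) s 0 < 2} := by
    ext s
    simp only [Set.mem_ofPred_eq, Set.mem_inter_iff, Set.mem_preimage, Set.mem_singleton_iff]
    rw [hg s, hRank_eq_betti f s]
    constructor
    · rintro ⟨h1, h2⟩
      exact ⟨h1, by omega⟩
    · rintro ⟨h1, h2⟩
      refine ⟨h1, ?_⟩
      haveI : Nonempty ↥(f.fiber s) := by
        by_contra hne
        rw [not_nonempty_iff] at hne
        rw [Groth.Agent.Lib.Helper24.AssFib.topologicalKrullDim_eq_bot_of_isEmpty] at h1
        exact absurd h1 (by simp)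
      haveI : IsProper (f.fiberToSpecResidueField s) :=
        inferInstanceAs (IsProper (pullback.snd f (S.fromSpecResidueField s)))
      have hpos := hRank_structureModule_pos (S.residueField s) (f.fiber s)
        (f.fiberToSpecResidueField s)
      rw [hRank_eq_betti f s] at hpos
      omega
  rw [hset]
  exact (hdimLC.isOpen_fiber 1).inter hopenB

end Groth.Agent.Lib.Lead.FibH0
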