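import Mathlib
import Groth.Agent.Lib.Lead.FTSub
import Groth.Agent.Lib.Lead.RefExt
import Groth.Agent.Lib.Lead.FlatHartogs
import Groth.Agent.Lib.Lead.RefHull8
import Groth.Agent.Lib.Lead.ReflHom
import Groth.Agent.Lib.Helper8.StalkExact

/-!
# The bidual of a finite type submodule of a flat module on a normal scheme (lead)

* `isFlatAt_of_mono_flat_of_dim_le_one`: a coherent submodule of a flat module is flat at points of dimension `≤ 1`
  of a normal locally Noetherian scheme.
* `isReflexive_stalk_ddual`: stalks of `F^**` are reflexive (`F` coherent, normal locally Noetherian scheme,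
  not necessarily integral).
* `exists_ddual_iso_push_restrict`: `F^** ≅ j_* j^* F` compatibly with `F → F^**` and the unit, `j` the inclusion
  of the flat locus of `F ⊆ A`, `A` flat quasi-coherent, `F` of finite type (= S16486).
-/

set_option autoImplicit false
set_option linter.style.haveILetI false
set_option linter.unusedSectionVars false
set_option backward.isDefEq.respectTransparency false
universe u
open CategoryTheory CategoryTheory.Limits AlgebraicGeometry Opposite TopologicalSpace

namespace Groth.Agent.Lib.Lead.FlatLocus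

open RefHull Groth.Agent.Lib.Lead.RH Groth.Agent.Lib.helper16.CohStalk Groth.Agent.Lib.helper16.CohFinite

variable {S : Scheme.{u}} [IsLocallyNoetherian S]

/-- a coherent submodule of a flat module is flat at the points of dimension `≤ 1` of a normal scheme -/
theorem isFlatAt_of_mono_flat_of_dim_le_one (hS : Pi1.IsNormalScheme S) {F A : S.Modules}
    (hF : Coh.IsCoh F) (hAfl : FlatMod.IsFlat A) (ι : F ⟶ A) [Mono ι] (x : S)
    (hd : ringKrullDim (S.presheaf.stalk x) ≤ 1) : FlatMod.IsFlatAt F x := by
  haveI : IsDomain (S.presheaf.stalk x) := (hS x).1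
  haveI : IsIntegrallyClosed (S.presheaf.stalk x) := (hS x).2
  haveI : IsPrincipalIdealRing (S.presheaf.stalk x) :=
    isPrincipalIdealRing_of_normal_dim_le_one (S.presheaf.stalk x) hd
  haveI : Module.Finite (S.presheaf.stalk x) (F.presheaf.stalk x) := finite_stalk_of_isCoh F hF x
  haveI : Module.Flat (S.presheaf.stalk x) (A.presheaf.stalk x) := hAfl x
  have hinj : Function.Injective (stalkMapₗ ι x) :=
    Groth.Agent.Lib.helper8.StalkLen.stalkAdd_injective_of_mono ι x
  haveI : Module.IsTorsionFree (S.presheaf.stalk x) (A.presheaf.stalk x) := inferInstance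
  haveI : Module.IsTorsionFree (S.presheaf.stalk x) (F.presheaf.stalk x) :=
    Function.Injective.moduleIsTorsionFree (stalkMapₗ ι x) hinj (fun r m => map_smul _ r m)
  haveI : Module.Free (S.presheaf.stalk x) (F.presheaf.stalk x) := inferInstance
  show Module.Flat (S.presheaf.stalk x) (F.presheaf.stalk x)
  infer_instance

/-- the stalks of the bidual of a coherent module on a normal scheme are reflexive -/
theorem isReflexive_stalk_ddual (hS : Pi1.IsNormalScheme S) {F : S.Modules} (hF : Coh.IsCoh F) (x : S) :
    Module.IsReflexive (S.presheaf.stalk x) ((ddual F).presheaf.stalk x) := by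
  haveI : IsDomain (S.presheaf.stalk x) := (hS x).1
  have hD : Coh.IsCoh (dual F) := dual_isCoh F hF
  have hO : Coh.IsCoh (Coh.structureModule S) := isCoh_structureModule' S
  have hbij := evalStalk_bijective (dual F) (Coh.structureModule S)
    (isFinitePresentation_of_isCoh _ hD) x
  haveI : Module.IsReflexive (S.presheaf.stalk x) ((Coh.structureModule S).presheaf.stalk x) :=
    (isReflexive_iff_forall_isReflexiveAt _ hO).1
      (Groth.Agent.Lib.Lead.RefExt.isReflexive_structureModule S) x
  haveI := finite_stalk_of_isCoh (dual F) hD x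
  haveI := finite_stalk_of_isCoh (Coh.structureModule S) hO x
  haveI := Groth.Agent.Lib.Lead.ReflHom.isReflexive_linearMap (R := S.presheaf.stalk x)
    ((dual F).presheaf.stalk x) ((Coh.structureModule S).presheaf.stalk x)
  exact Module.equiv (LinearEquiv.ofBijective (RefHull.evalStalk (dual F) (Coh.structureModule S) x) hbij).symm

/-- **SGA3-type description of the bidual**: for `F ⊆ A` of finite type, `A` flat quasi-coherent on a Noetherian normal
scheme, `F^** ≅ j_* j^* F`, `j` the inclusion of the flat locus of `F`. -/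
theorem exists_ddual_iso_push_restrict (hS : Pi1.IsNormalScheme S) (A F : S.Modules)
    (hA : Coh.IsQCoh A) (hAfl : FlatMod.IsFlat A)
    (ι : F ⟶ A) [Mono ι] (hF : CohB1.IsFT F) (U : S.Opens)
    (hU : (U : Set S) = {s : S | FlatMod.IsFlatAt F s}) :
    ∃ e : RefHull.ddual F ≅ (Scheme.Modules.pushforward U.ι).obj (F.restrict U.ι),
      RefHull.bidualMap F ≫ e.hom = (Scheme.Modules.restrictAdjunction U.ι).unit.app F := by
  haveI : A.IsQuasicoherent := hA
  haveI : F.IsQuasicoherent := Groth.Agent.Lib.Lead.FTSub.isQuasicoherent_of_isFT_mono hF ι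
  have hFc : Coh.IsCoh F := ⟨inferInstance, hF⟩
  have hmemU : ∀ x : S, x ∈ U ↔ FlatMod.IsFlatAt F x := fun x => by
    have : x ∈ (U : Set S) ↔ x ∈ {s : S | FlatMod.IsFlatAt F s} := by rw [hU]
    exact this
  have hdepth : ∀ x : S, x ∉ U →
      (2 : ℕ∞) ≤ LocCoh.depth (S.presheaf.stalk x) (S.presheaf.stalk x) := by
    intro x hx
    refine Groth.Agent.Lib.Lead.FlatHartogs.two_le_depth_of_normal hS x (fun hd => hx ?_)
    exact (hmemU x).2 (isFlatAt_of_mono_flat_of_dim_le_one hS hFc hAfl ι x hd)
  have h1 : IsIso ((Scheme.Modules.restrictAdjunction U.ι).unit.app (ddual F)) :=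
    Groth.Agent.Lib.Lead.RefExt.isIso_unit_of_reflexive_of_depth (ddual F) (ddual_isCoh F hFc) U hdepth
      (fun x => isReflexive_stalk_ddual hS hFc x)
  have h2 : IsIso ((Scheme.Modules.restrictFunctor U.ι).map (bidualMap F)) := by
    refine Groth.Agent.Lib.Lead.RefExt.isIso_restrict_bidualMap F hFc U (fun x hx => ?_)
    haveI : Module.Flat (S.presheaf.stalk x) (F.presheaf.stalk x) := (hmemU x).1 hx
    haveI : Module.Finite (S.presheaf.stalk x) (F.presheaf.stalk x) := finite_stalk_of_isCoh F hFc x
    haveI : Module.Free (S.presheaf.stalk x) (F.presheaf.stalk x) :=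
      Module.free_of_flat_of_isLocalRing
    show Module.IsReflexive (S.presheaf.stalk x) (F.presheaf.stalk x)
    infer_instance
  let R := Scheme.Modules.restrictFunctor U.ι
  let P := Scheme.Modules.pushforward U.ι
  let adj := Scheme.Modules.restrictAdjunction U.ι
  haveI : IsIso (P.map (R.map (bidualMap F))) := inferInstance
  refine ⟨asIso (adj.unit.app (ddual F)) ≪≫ (asIso (P.map (R.map (bidualMap F)))).symm, ?_⟩
  have nat : adj.unit.app F ≫ P.map (R.map (bidualMap F)) = bidualMap F ≫ adj.unit.app (ddual F) :=
    (adj.unit.naturality (bidualMap F)).symm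
  change bidualMap F ≫ adj.unit.app (ddual F) ≫ inv (P.map (R.map (bidualMap F))) = adj.unit.app F
  rw [← Category.assoc, ← nat, Category.assoc, IsIso.hom_inv_id, Category.comp_id]

end Groth.Agent.Lib.Lead.FlatLocus
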