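import Mathlib
import Groth.Prelude.Def_Coh
import Groth.Prelude.Def_FlatMod2
import Groth.Agent.Lib.Helper25.PullFlatExact
import Groth.Agent.Lib.Helper7.QCohPushQC
import Groth.Agent.Lib.Helper7.QCohProd
import Groth.Agent.Lib.Helper7.CohKer
import Groth.Agent.Lib.Helper16.FLF5
import Groth.Agent.Lib.Helper17.FlatOver1
import Groth.Agent.Lib.Lead.RankAdd

/-! # Flat extension of a quotient of `O^N` over a discrete valuation ring (lead, S18836)

* `nonempty_iso_of_adj` (abstract): for `L ⊣ R` with `L` preserving monomorphisms and invertible counit, an epimorphism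
  `q₀ : L P ⟶ F` satisfies `L (im (P ⟶ R F)) ≅ F`.
* `exists_extension`: `j : U ⟶ Y` a quasi-compact open immersion, `F` quasi-coherent on `U`, `q : O_U^N ⟶ F` epi; then the
  image `F'` of `O_Y^N ⟶ j_*F` is coherent (quasi-coherent of finite type), a quotient of `O_Y^N`, a subobject of `j_*F`
  and `j^*F' ≅ F`.
* `isUnit_appLE`, `isFlatOver_of_mono`: over a DVR `R` with fraction field `K`, if `U` lies over `Spec K`, every
  quasi-coherent subobject of `j_*F` is flat over `Spec R` (torsion-free over a Dedekind domain).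
* `main`: the statement of S18836 for an arbitrary `R`-scheme `Y`.
-/

set_option autoImplicit false
set_option linter.style.haveILetI false
set_option linter.unusedSectionVars false
universe u v
open CategoryTheory CategoryTheory.Limits AlgebraicGeometry

namespace Groth.Agent.Lib.Lead.FlatQuotDVR

/-- abstract: an epimorphism `L P ⟶ F` is the restriction of the image of its adjunct. -/
theorem nonempty_iso_of_adj {C D : Type*} [Category C] [Category D] [Abelian C] [Abelian D]
    (L : C ⥤ D) (Rr : D ⥤ C) (adj : L ⊣ Rr) [L.PreservesMonomorphisms]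
    [∀ F, IsIso (adj.counit.app F)] (P : C) (F : D) (q₀ : L.obj P ⟶ F) [Epi q₀] :
    Nonempty (L.obj (Limits.image (adj.homEquiv P F q₀)) ≅ F) := by
  set φ := adj.homEquiv P F q₀ with hφ
  let m : L.obj (Limits.image φ) ⟶ F := L.map (Limits.image.ι φ) ≫ adj.counit.app F
  haveI : Mono m := mono_comp _ _
  have hm : L.map (factorThruImage φ) ≫ m = q₀ := by
    have h1 : L.map (factorThruImage φ) ≫ L.map (Limits.image.ι φ) = L.map φ := by
      rw [← L.map_comp, image.fac]
    have h2 : L.map φ ≫ adj.counit.app F = q₀ := by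
      have := adj.homEquiv_counit (X := P) (Y := F) (g := φ)
      rw [← this, hφ, Equiv.symm_apply_apply]
    simp only [m]
    rw [← Category.assoc, h1, h2]
  haveI : Epi m := by
    haveI : Epi (L.map (factorThruImage φ) ≫ m) := by rw [hm]; infer_instance
    exact epi_of_epi (L.map (factorThruImage φ)) m
  haveI : IsIso m := isIso_of_mono_of_epi m
  exact ⟨asIso m⟩

/-- The fraction field of a DVR is the localization away from a uniformizer (copied from helper5's `DvrReduced1`). -/
theorem isLocalizationAway_fractionRing (R : Type u) [CommRing R] [IsDomain R]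
    [IsDiscreteValuationRing R] (ϖ : R) (hϖ : Irreducible ϖ) (K : Type u) [CommRing K] [Algebra R K]
    [IsFractionRing R K] : IsLocalization.Away ϖ K := by
  have hle : Submonoid.powers ϖ ≤ nonZeroDivisors R := by
    rintro _ ⟨n, rfl⟩
    exact mem_nonZeroDivisors_of_ne_zero (pow_ne_zero n hϖ.ne_zero)
  haveI hL : IsLocalization (nonZeroDivisors R) (Localization.Away ϖ) := by
    refine IsLocalization.of_le_of_exists_dvd (Submonoid.powers ϖ) (nonZeroDivisors R) hle ?_
    intro n hn
    have hn0 : n ≠ 0 := nonZeroDivisors.ne_zero hn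
    obtain ⟨k, hk⟩ := IsDiscreteValuationRing.associated_pow_irreducible hn0 hϖ
    exact ⟨ϖ ^ k, ⟨k, rfl⟩, hk.dvd⟩
  exact IsLocalization.isLocalization_of_algEquiv (Submonoid.powers ϖ)
    (IsLocalization.algEquiv (nonZeroDivisors R) (Localization.Away ϖ) K)

theorem isOpenImmersion_spec_fractionRing (R : Type u) [CommRing R] [IsDomain R]
    [IsDiscreteValuationRing R] :
    IsOpenImmersion (Spec.map (CommRingCat.ofHom (algebraMap R (FractionRing R)))) := by
  obtain ⟨ϖ, hϖ⟩ := IsDiscreteValuationRing.exists_irreducible R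
  haveI := isLocalizationAway_fractionRing R ϖ hϖ (FractionRing R)
  exact IsOpenImmersion.of_isLocalization ϖ

theorem exists_extension {Y U : Scheme.{u}} (j : U ⟶ Y) [IsOpenImmersion j] [QuasiCompact j] (N : ℕ)
    (F : U.Modules) (hF : F.IsQuasicoherent) (q : FlatMod.freeMod U N ⟶ F) (hq : Epi q) :
    ∃ (F' : Y.Modules) (q' : FlatMod.freeMod Y N ⟶ F') (ι : F' ⟶ (Scheme.Modules.pushforward j).obj F),
      Coh.IsCoh F' ∧ Epi q' ∧ Mono ι ∧
      Nonempty ((Scheme.Modules.pullback j).obj F' ≅ F) := by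
  set adj := Scheme.Modules.pullbackPushforwardAdjunction j with hadj
  haveI : ∀ G, IsIso (adj.counit.app G) := fun G => inferInstance
  let q₀ : (Scheme.Modules.pullback j).obj (FlatMod.freeMod Y N) ⟶ F :=
    (Groth.Agent.Lib.helper16.FLF.pullbackFreeModIso j N).hom ≫ q
  haveI : Epi q₀ := epi_comp _ _
  set φ := adj.homEquiv _ _ q₀ with hφ
  haveI hpq : ((Scheme.Modules.pushforward j).obj F).IsQuasicoherent :=
    Groth.Agent.Lib.helper7.QCohPushQC.isQuasicoherent_pushforward j F
  have hfree : Coh.IsCoh (FlatMod.freeMod Y N) :=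
    Groth.Agent.Lib.Lead.RankAdd.isCoh_of_isFinLocFreeOfRank
      (Groth.Agent.Lib.helper16.FLF.isFinLocFreeOfRank_freeMod Y N)
  haveI : (FlatMod.freeMod Y N).IsQuasicoherent := hfree.1
  have hqc : (Limits.image φ).IsQuasicoherent := by
    haveI : (cokernel φ).IsQuasicoherent := Groth.Agent.Lib.helper7.CohKer.isQuasicoherent_cokernel φ
    have h1 : (kernel (cokernel.π φ)).IsQuasicoherent :=
      Groth.Agent.Lib.helper7.CohKer.isQuasicoherent_kernel (cokernel.π φ)
    exact Groth.Agent.Lib.helper7.QCohProd.isQuasicoherent_of_iso (Abelian.imageIsoImage φ) h1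
  refine ⟨Limits.image φ, factorThruImage φ, Limits.image.ι φ, ⟨hqc, ?_⟩, inferInstance, inferInstance, ?_⟩
  · exact Groth.Agent.Lib.helper7.CohKer.isFiniteType_of_epi (factorThruImage φ) hfree.2
  · exact nonempty_iso_of_adj (Scheme.Modules.pullback j) (Scheme.Modules.pushforward j) adj _ F q₀

theorem injective_app_of_mono {X : Scheme.{u}} {M N : X.Modules} (φ : M ⟶ N) [Mono φ] (U : X.Opens) :
    Function.Injective (φ.app U).hom := by
  have h1 : Mono ((Scheme.Modules.toPresheaf X).map φ) := inferInstance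
  have h2 : Mono (((Scheme.Modules.toPresheaf X).map φ).app (Opposite.op U)) :=
    (NatTrans.mono_iff_mono_app _).1 h1 _
  exact (AddCommGrpCat.mono_iff_injective _).1 h2

section
variable (R : Type u) [CommRing R] [IsDomain R] [IsDiscreteValuationRing R]

/-- the image in `Γ(U, W)` of a nonzero element of `R` is a unit, if `U` lies over `Spec (Frac R)` -/
theorem isUnit_appLE {U : Scheme.{u}} (h : U ⟶ Spec (CommRingCat.of R))
    (gK : U ⟶ Spec (CommRingCat.of (FractionRing R)))
    (comm : h = gK ≫ Spec.map (CommRingCat.ofHom (algebraMap R (FractionRing R))))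
    (W : U.Opens) (a : Γ(Spec (CommRingCat.of R), ⊤)) (ha : a ≠ 0) :
    IsUnit ((h.appLE ⊤ W (by intro _ _; trivial)).hom a) := by
  subst comm
  set φK := Spec.map (CommRingCat.ofHom (algebraMap R (FractionRing R))) with hφK
  have h1 : (gK ≫ φK).appLE ⊤ W (by intro _ _; trivial) =
      φK.appLE ⊤ ⊤ (by intro _ _; trivial) ≫ gK.appLE ⊤ W (by intro _ _; trivial) :=
    (Scheme.Hom.appLE_comp_appLE gK φK ⊤ ⊤ W (by intro _ _; trivial) (by intro _ _; trivial)).symm
  rw [h1]
  simp only [CommRingCat.hom_comp, RingHom.coe_comp, Function.comp_apply]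
  apply IsUnit.map
  -- `φK.appLE ⊤ ⊤ a` is a unit of `Γ(Spec K, ⊤)`
  have h2 : φK.appLE ⊤ ⊤ (by intro _ _; trivial) = φK.appTop := by
    rw [Scheme.Hom.appTop, Scheme.Hom.app_eq_appLE]; rfl
  rw [h2]
  have h3 := Scheme.ΓSpecIso_naturality (CommRingCat.ofHom (algebraMap R (FractionRing R)))
  have h4 : (Scheme.ΓSpecIso (CommRingCat.of (FractionRing R))).hom.hom (φK.appTop.hom a) =
      algebraMap R (FractionRing R) ((Scheme.ΓSpecIso (CommRingCat.of R)).hom.hom a) := by
    have := congrArg (fun f => f.hom a) h3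
    simp only [CommRingCat.hom_comp, RingHom.coe_comp, Function.comp_apply, CommRingCat.hom_ofHom] at this
    exact this
  have h5 : (Scheme.ΓSpecIso (CommRingCat.of R)).hom.hom a ≠ 0 := by
    intro h0
    apply ha
    have hinj : Function.Injective (Scheme.ΓSpecIso (CommRingCat.of R)).hom.hom :=
      (ConcreteCategory.bijective_of_isIso (Scheme.ΓSpecIso (CommRingCat.of R)).hom).1
    exact hinj (by rw [h0, map_zero])
  have h6 : IsUnit ((Scheme.ΓSpecIso (CommRingCat.of (FractionRing R))).hom.hom (φK.appTop.hom a)) := by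
    rw [h4]
    exact IsUnit.mk0 _ (by simpa using h5)
  have h7 := h6.map (Scheme.ΓSpecIso (CommRingCat.of (FractionRing R))).inv.hom
  have h8 : (Scheme.ΓSpecIso (CommRingCat.of (FractionRing R))).inv.hom
      ((Scheme.ΓSpecIso (CommRingCat.of (FractionRing R))).hom.hom (φK.appTop.hom a)) = φK.appTop.hom a := by
    simp
  rwa [h8] at h7

open Groth.Agent.Lib.helper17.FlatOver1 in
theorem isFlatOver_of_mono {Y U : Scheme.{u}} (g : Y ⟶ Spec (CommRingCat.of R)) (j : U ⟶ Y)
    (gK : U ⟶ Spec (CommRingCat.of (FractionRing R)))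
    (comm : j ≫ g = gK ≫ Spec.map (CommRingCat.ofHom (algebraMap R (FractionRing R))))
    (F : U.Modules) (F' : Y.Modules) [F'.IsQuasicoherent]
    (ι : F' ⟶ (Scheme.Modules.pushforward j).obj F) [Mono ι] :
    FlatMod.IsFlatOver g F' := by
  intro x
  obtain ⟨_, ⟨U₀, hU₀ : IsAffineOpen U₀, rfl⟩, hxU, -⟩ :=
    Y.isBasis_affineOpens.exists_subset_of_mem_open (Set.mem_univ x) isOpen_univ
  have hUV : U₀ ≤ g ⁻¹ᵁ ⊤ := by intro _ _; trivial
  refine isFlatOverAt_of_flat_sections g F' hUV hU₀ (isAffineOpen_top _) ?_ x hxU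
  letI := modSecBase g F' hUV
  let e : Γ(Spec (CommRingCat.of R), ⊤) ≃+* R :=
    (Scheme.ΓSpecIso (CommRingCat.of R)).commRingCatIsoToRingEquiv
  haveI : IsDomain Γ(Spec (CommRingCat.of R), ⊤) := e.toMulEquiv.isDomain R
  haveI : IsPrincipalIdealRing Γ(Spec (CommRingCat.of R), ⊤) :=
    IsPrincipalIdealRing.of_surjective e.symm.toRingHom e.symm.surjective
  haveI : Module.IsTorsionFree Γ(Spec (CommRingCat.of R), ⊤) Γ(F', U₀) := by
    refine Module.IsTorsionFree.of_smul_eq_zero (fun a m h => ?_)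
    by_cases ha : a = 0
    · exact Or.inl ha
    right
    apply injective_app_of_mono ι U₀
    rw [map_zero]
    set b := (g.appLE ⊤ U₀ hUV).hom a with hb
    have h2 : b • m = 0 := h
    have h1 : ι.app U₀ (b • m) = b • ι.app U₀ m := Scheme.Modules.Hom.app_smul ι b m
    rw [h2, map_zero] at h1
    -- the action on `Γ(j_*F, U₀) = Γ(F, j⁻¹U₀)` is through `j.app U₀`
    let s' : Γ(F, j ⁻¹ᵁ U₀) := ι.app U₀ m
    have h3 : (j.app U₀).hom b • s' = 0 := h1.symm
    have h4 : (j.app U₀).hom b = (((j ≫ g).appLE ⊤ (j ⁻¹ᵁ U₀) (by intro _ _; trivial)).hom a) := by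
      rw [hb, Scheme.Hom.app_eq_appLE]
      have := Scheme.Hom.appLE_comp_appLE j g ⊤ U₀ (j ⁻¹ᵁ U₀) hUV le_rfl
      rw [← this]
      rfl
    have h5 : IsUnit ((j.app U₀).hom b) := by
      rw [h4]
      exact isUnit_appLE R (j ≫ g) gK comm (j ⁻¹ᵁ U₀) a ha
    have h6 : s' = 0 := (h5.smul_eq_zero).mp h3
    exact h6
  infer_instance

end

section
variable (R : Type u) [CommRing R] [IsDomain R] [IsDiscreteValuationRing R]

/-- **Flat extension of a quotient of `O^N` from the generic fibre over a DVR.** -/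
theorem main {Y : Scheme.{u}} (g : Y ⟶ Spec (CommRingCat.of R)) (N : ℕ)
    (F : (pullback g (Spec.map (CommRingCat.ofHom (algebraMap R (FractionRing R))))).Modules)
    (hF : F.IsQuasicoherent)
    (q : FlatMod.freeMod _ N ⟶ F) (hq : Epi q) :
    ∃ (F' : Y.Modules) (q' : FlatMod.freeMod Y N ⟶ F'), Coh.IsCoh F' ∧ Epi q' ∧ FlatMod.IsFlatOver g F' ∧
      Nonempty ((Scheme.Modules.pullback (pullback.fst g
        (Spec.map (CommRingCat.ofHom (algebraMap R (FractionRing R)))))).obj F' ≅ F) := by
  haveI := isOpenImmersion_spec_fractionRing R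
  obtain ⟨F', q', ι, hcoh, hq', hι, hiso⟩ := exists_extension
    (pullback.fst g (Spec.map (CommRingCat.ofHom (algebraMap R (FractionRing R))))) N F hF q hq
  haveI := hcoh.1
  exact ⟨F', q', hcoh, hq', isFlatOver_of_mono R g _ (pullback.snd g _) pullback.condition F F' ι, hiso⟩
end

end Groth.Agent.Lib.Lead.FlatQuotDVR

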