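import Mathlib
import Groth.Agent.Lib.Lead.GPB1

/-!
# Generalised parabolic bundles on curves, part 2 (lead)

* `mono_τ₃_of_nine`: a piece of the nine lemma, from the snake lemma.
* `shortExact_tensor_of_presentation`: a short exact sequence of finite locally free modules stays exact after
  tensoring with a module `Q` having a presentation `0 → N → P → Q → 0` by finite locally free modules.
* `fibDMap_comp`, `fibDMap_id`, `injective_fibDMap`, `exact_fibDMap`, `finite_fibD`.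
* `finrank_le_of_map_le`: comparison of structures along a generic isomorphism.
-/

set_option autoImplicit false
set_option linter.style.haveILetI false
set_option linter.unusedSectionVars false
set_option backward.isDefEq.respectTransparency false
universe u
open CategoryTheory CategoryTheory.Limits AlgebraicGeometry Opposite TopologicalSpace Module

namespace Groth.Agent.Lib.Lead.GPB

open Groth.Agent.Lib.Lead.ModTensor Groth.Agent.Lib.Helper20.TensorEquiv Groth.Agent.Lib.Lead.VBCurve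

section abstract

variable {C : Type*} [Category C] [Abelian C]

/-- a piece of the nine lemma -/
theorem mono_τ₃_of_nine {R₁ R₂ R₃ : ShortComplex C} (h₁ : R₁.ShortExact) (h₂ : R₂.ShortExact)
    [Mono R₃.f] (φ : R₁ ⟶ R₂) (χ : R₂ ⟶ R₃) (w : φ ≫ χ = 0) [Mono φ.τ₂]
    (w₁ : φ.τ₁ ≫ χ.τ₁ = 0) (hc : (ShortComplex.mk φ.τ₁ χ.τ₁ w₁).Exact) : Mono φ.τ₃ := by
  let S : ShortComplex.SnakeInput C :=
    { L₀ := kernel φ, L₁ := R₁, L₂ := R₂, L₃ := cokernel φ
      v₀₁ := kernel.ι φ, v₁₂ := φ, v₂₃ := cokernel.π φ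
      w₀₂ := kernel.condition φ, w₁₃ := cokernel.condition φ
      h₀ := kernelIsKernel φ, h₃ := cokernelIsCokernel φ
      L₁_exact := h₁.exact, epi_L₁_g := h₁.epi_g, L₂_exact := h₂.exact, mono_L₂_f := h₂.mono_f }
  haveI : Mono S.v₁₂.τ₂ := inferInstanceAs (Mono φ.τ₂)
  have hz : IsZero S.L₀.X₂ := KernelFork.IsLimit.isZero_of_mono S.h₀τ₂
  haveI := S.mono_δ hz
  -- the comparison `coker φ ⟶ R₃`
  let d : S.L₃ ⟶ R₃ := cokernel.desc φ χ w
  have hd : S.v₂₃ ≫ d = χ := cokernel.π_desc φ χ w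
  have hd₁ : S.v₂₃.τ₁ ≫ d.τ₁ = χ.τ₁ := by rw [← ShortComplex.comp_τ₁, hd]
  -- `d.τ₁` is a monomorphism
  let e₃ : S.L₃.X₁ ≅ cokernel φ.τ₁ :=
    IsColimit.coconePointUniqueUpToIso S.h₃τ₁ (colimit.isColimit (parallelPair φ.τ₁ 0))
  have he₃ : S.v₂₃.τ₁ ≫ e₃.hom = cokernel.π φ.τ₁ :=
    IsColimit.comp_coconePointUniqueUpToIso_hom S.h₃τ₁ _ WalkingParallelPair.one
  have hmono : Mono (cokernel.desc φ.τ₁ χ.τ₁ w₁) :=
    (ShortComplex.exact_iff_mono_cokernel_desc _).1 hc
  have hd₁' : d.τ₁ = e₃.hom ≫ cokernel.desc φ.τ₁ χ.τ₁ w₁ := by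
    haveI : Epi S.v₂₃.τ₁ := ShortComplex.SnakeInput.epi_v₂₃_τ₁ S
    rw [← cancel_epi S.v₂₃.τ₁, hd₁, ← Category.assoc, he₃, cokernel.π_desc]
  haveI : Mono d.τ₁ := by rw [hd₁']; infer_instance
  -- `S.L₃.f` is a monomorphism
  have hcomm : S.L₃.f ≫ d.τ₂ = d.τ₁ ≫ R₃.f := d.comm₁₂.symm
  haveI : Mono (S.L₃.f ≫ d.τ₂) := by rw [hcomm]; infer_instance
  haveI : Mono S.L₃.f := mono_of_mono S.L₃.f d.τ₂
  -- hence `δ = 0`
  have hδ0 : S.δ = 0 := by
    rw [← cancel_mono S.L₃.f, S.δ_L₃_f, zero_comp]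
  have hz₃ : IsZero S.L₀.X₃ := IsZero.of_mono_eq_zero S.δ hδ0
  exact Preadditive.mono_of_isZero_kernel' _ S.h₀τ₃ hz₃

end abstract

section tensor

variable {X : Scheme.{u}}

open Groth.Agent.Lib.Helper21.TensorAdj in
/-- a short exact sequence of finite locally free modules stays exact after tensoring with a module having a two-term
resolution by finite locally free modules -/
theorem shortExact_tensor_of_presentation (T : ShortComplex X.Modules) (hT : T.ShortExact) {a b c : ℕ}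
    (h₁ : FlatMod.IsFinLocFreeOfRank a T.X₁) (h₂ : FlatMod.IsFinLocFreeOfRank b T.X₂)
    (h₃ : FlatMod.IsFinLocFreeOfRank c T.X₃)
    (S₀ : ShortComplex X.Modules) (hS₀ : S₀.ShortExact) {p q : ℕ}
    (hp : FlatMod.IsFinLocFreeOfRank p S₀.X₁) (hq : FlatMod.IsFinLocFreeOfRank q S₀.X₂) :
    ∃ w, (ShortComplex.mk (tensorMap T.f (𝟙 S₀.X₃)) (tensorMap T.g (𝟙 S₀.X₃)) w).ShortExact := by
  haveI := Groth.Agent.Lib.Helper21.FlatSES.additive_tens (O := X.sheaf) S₀.X₃
  haveI := hT.mono_f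
  obtain ⟨w₁, hR₁⟩ := shortExact_tensor_left S₀ hS₀ h₁
  obtain ⟨w₂, hR₂⟩ := shortExact_tensor_left S₀ hS₀ h₂
  obtain ⟨w₃, hR₃⟩ := shortExact_tensor_left S₀ hS₀ h₃
  obtain ⟨wc₁, hC₁⟩ := Groth.Agent.Lib.Helper18.DegCalc.shortExact_tensor T hT hp
  obtain ⟨wc₂, hC₂⟩ := Groth.Agent.Lib.Helper18.DegCalc.shortExact_tensor T hT hq
  have wc₃ : tensorMap T.f (𝟙 S₀.X₃) ≫ tensorMap T.g (𝟙 S₀.X₃) = 0 := by
    have := ((tens X.sheaf S₀.X₃).mapShortComplex.obj T).zero
    exact this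
  let φ : ShortComplex.mk _ _ w₁ ⟶ ShortComplex.mk _ _ w₂ :=
    ShortComplex.homMk (tensorMap T.f (𝟙 S₀.X₁)) (tensorMap T.f (𝟙 S₀.X₂)) (tensorMap T.f (𝟙 S₀.X₃))
      (by dsimp; rw [← tensorMap_comp, ← tensorMap_comp, Category.id_comp, Category.comp_id,
        Category.id_comp, Category.comp_id])
      (by dsimp; rw [← tensorMap_comp, ← tensorMap_comp, Category.id_comp, Category.comp_id,
        Category.id_comp, Category.comp_id])
  let χ : ShortComplex.mk _ _ w₂ ⟶ ShortComplex.mk _ _ w₃ :=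
    ShortComplex.homMk (tensorMap T.g (𝟙 S₀.X₁)) (tensorMap T.g (𝟙 S₀.X₂)) (tensorMap T.g (𝟙 S₀.X₃))
      (by dsimp; rw [← tensorMap_comp, ← tensorMap_comp, Category.id_comp, Category.comp_id,
        Category.id_comp, Category.comp_id])
      (by dsimp; rw [← tensorMap_comp, ← tensorMap_comp, Category.id_comp, Category.comp_id,
        Category.id_comp, Category.comp_id])
  have w : φ ≫ χ = 0 := ShortComplex.hom_ext _ _ wc₁ wc₂ wc₃
  haveI : Mono (ShortComplex.mk _ _ w₃).f := hR₃.mono_f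
  haveI : Mono φ.τ₂ := Groth.Agent.Lib.Helper18.DegCalc.mono_tensorMap_of_isFinLocFreeOfRank T.f hq
  have hm : Mono (tensorMap T.f (𝟙 S₀.X₃)) :=
    mono_τ₃_of_nine hR₁ hR₂ φ χ w wc₁ hC₁.exact
  let T' : ShortComplex (ModSite.Mod X.sheaf) := T
  have h := Groth.Agent.Lib.Helper18.DegCalc.shortExact_map_tens_of_mono (O := X.sheaf) T' hT S₀.X₃ hm
  exact ⟨wc₃, h⟩

end tensor

section fib

variable (k : Type u) [Field k] (X : Scheme.{u}) [X.Over (Spec (CommRingCat.of k))]

open Groth.Agent.Lib.Helper18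

lemma fibDMap_eq (I : X.IdealSheafData) {E E' : X.Modules} (φ : E ⟶ E') :
    ParSh.fibDMap k X I φ = HH.mapOver k (tensorMap φ (𝟙 (ClSub.quotMod I))) 0 := by
  change Canon.HHlin k (KoszTw.tensorMap φ (𝟙 _)) 0 = _
  rw [koszTw_tensorMap_eq, hhlin_eq]

lemma fibDMap_comp (I : X.IdealSheafData) {E E' E'' : X.Modules} (φ : E ⟶ E') (ψ : E' ⟶ E'') :
    ParSh.fibDMap k X I (φ ≫ ψ) = (ParSh.fibDMap k X I ψ).comp (ParSh.fibDMap k X I φ) := by
  rw [fibDMap_eq, fibDMap_eq, fibDMap_eq, tmR_comp]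
  ext x
  exact HH.map_comp_apply _ _ 0 x

lemma fibDMap_comp_apply (I : X.IdealSheafData) {E E' E'' : X.Modules} (φ : E ⟶ E') (ψ : E' ⟶ E'')
    (x : ParSh.fibD X I E) :
    ParSh.fibDMap k X I (φ ≫ ψ) x = ParSh.fibDMap k X I ψ (ParSh.fibDMap k X I φ x) := by
  rw [fibDMap_comp]; rfl

lemma fibDMap_id (I : X.IdealSheafData) (E : X.Modules) :
    ParSh.fibDMap k X I (𝟙 E) = LinearMap.id := by
  rw [fibDMap_eq, tensorMap_id]
  ext x
  have := HH.map_id (CohB1.tensorMod E (ClSub.quotMod I)) 0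
  exact LinearMap.congr_fun this x

variable [IsProper (X ↘ Spec (CommRingCat.of k))]

include k in
theorem finite_fibD (I : X.IdealSheafData) {E : X.Modules} {n : ℕ} (hE : FlatMod.IsFinLocFreeOfRank n E) :
    Module.Finite k (ParSh.fibD X I E) :=
  Groth.Agent.Lib.Lead.ProperEuler.finite_HH k X _
    (Groth.Agent.Lib.Helper18.DegCalc.isCoh_tensorMod
      (Groth.Agent.Lib.Lead.RankAdd.isCoh_of_isFinLocFreeOfRank hE)
      (Groth.Agent.Lib.helper8.Dev.isCoh_push_structureModule I.subschemeι)) 0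

/-- `F₀` is exact on short exact sequences of bundles -/
theorem injective_exact_fibDMap (I : X.IdealSheafData) (hD : FGA.IsEffCartier I)
    (T : ShortComplex X.Modules) (hT : T.ShortExact) {a b c : ℕ}
    (h₁ : FlatMod.IsFinLocFreeOfRank a T.X₁) (h₂ : FlatMod.IsFinLocFreeOfRank b T.X₂)
    (h₃ : FlatMod.IsFinLocFreeOfRank c T.X₃) :
    Function.Injective (ParSh.fibDMap k X I T.f) ∧
      Function.Exact (ParSh.fibDMap k X I T.f) (ParSh.fibDMap k X I T.g) := by
  have hN : PicF.IsInvertible (ClSub.idealMod I) :=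
    Groth.Agent.Lib.helper7.IdealCartier.invertible_of_effCartier I (fun x => hD x)
  have hp := (Groth.Agent.Lib.helper16.FLF.isInvertible_iff_isFinLocFreeOfRank_one _).mp hN
  have hq := (Groth.Agent.Lib.helper16.FLF.isInvertible_iff_isFinLocFreeOfRank_one _).mp
    (Groth.Agent.Lib.helper11.InvMod.isInvertible_structureModule X)
  obtain ⟨w, hw⟩ := shortExact_tensor_of_presentation T hT h₁ h₂ h₃
    (Groth.Agent.Lib.helper7.IdealMod.idealSeq I)
    (Groth.Agent.Lib.helper7.IdealMod.idealSeq_shortExact I) hp hq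
  rw [fibDMap_eq, fibDMap_eq]
  exact ⟨HH.injective_mapOver_f_zero hw k, HH.exactOver₂ hw k 0⟩

variable [IsIntegral X]

/-- comparison of structures along a generic isomorphism -/
theorem finrank_le_of_map_le (hdim : topologicalKrullDim X ≤ 1) (I : X.IdealSheafData)
    (hD : FGA.IsEffCartier I) {G E : X.Modules} {n : ℕ} (hG : FlatMod.IsFinLocFreeOfRank n G)
    (hE : FlatMod.IsFinLocFreeOfRank n E) (i : G ⟶ E) [Mono i]
    (A : Submodule k (ParSh.fibD X I G)) (B : Submodule k (ParSh.fibD X I E))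
    (hAB : A.map (ParSh.fibDMap k X I i) ≤ B) :
    (finrank k A : ℤ) ≤ (Curv2.deg k X E n - Curv2.deg k X G n) + (finrank k B : ℤ) := by
  haveI := finite_fibD k X I hG
  haveI := finite_fibD k X I hE
  have hKL := finrank_ker_fibDMap_le k X hdim I hD hG hE i
  set F₀ := ParSh.fibDMap k X I i
  let g : A →ₗ[k] ParSh.fibD X I E := F₀.domRestrict A
  have h1 := LinearMap.finrank_range_add_finrank_ker g
  have h2 : finrank k (LinearMap.range g) ≤ finrank k B := by
    apply Submodule.finrank_mono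
    rw [LinearMap.range_domRestrict]
    exact hAB
  have h3 : finrank k (LinearMap.ker g) ≤ finrank k (LinearMap.ker F₀) := by
    let j : LinearMap.ker g →ₗ[k] LinearMap.ker F₀ :=
      LinearMap.codRestrict (LinearMap.ker F₀) (A.subtype.comp (LinearMap.ker g).subtype)
        (fun x => by
          have hx : g x.1 = 0 := x.2
          exact hx)
    have hj : Function.Injective j := by
      intro x y hxy
      have h := congrArg (fun z : LinearMap.ker F₀ => (z : ParSh.fibD X I G)) hxy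
      exact Subtype.ext (Subtype.ext h)
    exact LinearMap.finrank_le_finrank_of_injective hj
  have h4 : (finrank k A : ℤ) = finrank k (LinearMap.range g) + finrank k (LinearMap.ker g) := by
    exact_mod_cast h1.symm
  have h2' : (finrank k (LinearMap.range g) : ℤ) ≤ finrank k B := by exact_mod_cast h2
  have h3' : (finrank k (LinearMap.ker g) : ℤ) ≤ finrank k (LinearMap.ker F₀) := by exact_mod_cast h3
  linarith

end fib

end Groth.Agent.Lib.Lead.GPB
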