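import Mathlib
import Groth.Agent.Lib.Lead.GPB2
import Groth.Agent.Lib.Helper11.FibLift1

/-!
# Generalised parabolic bundles on curves, part 3 (lead)

* `tensorMap_zero_left`, `fibDMap_zero`, `fibDMap_sub`, `fibDMap_smulMod`, `subsingleton_fibD_of_isZero`.
* `finrank_le_induced_add_coinduced`: `dim F₁ ≤ dim (F₁ ∩ F₀(K)) + dim (image of F₁ in F₀(Q))` for `0 → K → E → Q → 0`.
* `gpDeg_induced_le_of_rank_eq`: a full rank submodule with the induced structure has at most the parabolic degree of `E`.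
* `morphism_data`: a nonzero parabolic morphism between semistable generalised parabolic bundles of the same slope has
  constant rank, and kernel and (saturated) image have the same slope.
-/

set_option autoImplicit false
set_option linter.style.haveILetI false
set_option linter.unusedSectionVars false
set_option backward.isDefEq.respectTransparency false
universe u
open CategoryTheory CategoryTheory.Limits AlgebraicGeometry Opposite TopologicalSpace Module

namespace Groth.Agent.Lib.Lead.GPB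

open Groth.Agent.Lib.Lead.ModTensor Groth.Agent.Lib.Helper20.TensorEquiv Groth.Agent.Lib.Lead.VBCurve

section basic

variable (k : Type u) [Field k] (X : Scheme.{u}) [X.Over (Spec (CommRingCat.of k))]

open Groth.Agent.Lib.Helper18 Groth.Agent.Lib.Helper21.TensorAdj

omit [X.Over (Spec (CommRingCat.of k))] in
lemma tensorMap_zero_left {M N : X.Modules} (Q : X.Modules) : tensorMap (0 : M ⟶ N) (𝟙 Q) = 0 := by
  haveI := Groth.Agent.Lib.Helper21.FlatSES.additive_tens (O := X.sheaf) Q
  exact (tens X.sheaf Q).map_zero M N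

omit [X.Over (Spec (CommRingCat.of k))] in
lemma tensorMap_sub_left {M N : X.Modules} (f g : M ⟶ N) (Q : X.Modules) :
    tensorMap (f - g) (𝟙 Q) = tensorMap f (𝟙 Q) - tensorMap g (𝟙 Q) := by
  haveI := Groth.Agent.Lib.Helper21.FlatSES.additive_tens (O := X.sheaf) Q
  exact (tens X.sheaf Q).map_sub

lemma fibDMap_zero (I : X.IdealSheafData) (E E' : X.Modules) :
    ParSh.fibDMap k X I (0 : E ⟶ E') = 0 := by
  rw [fibDMap_eq, tensorMap_zero_left]
  ext x
  exact LinearMap.congr_fun (HH.map_zero (M := CohB1.tensorMod E (ClSub.quotMod I))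
    (N := CohB1.tensorMod E' (ClSub.quotMod I)) 0) x

lemma fibDMap_sub (I : X.IdealSheafData) {E E' : X.Modules} (f g : E ⟶ E') :
    ParSh.fibDMap k X I (f - g) = ParSh.fibDMap k X I f - ParSh.fibDMap k X I g := by
  rw [fibDMap_eq, fibDMap_eq, fibDMap_eq, tensorMap_sub_left]
  ext x
  have h : tensorMap f (𝟙 (ClSub.quotMod I)) =
      (tensorMap f (𝟙 (ClSub.quotMod I)) - tensorMap g (𝟙 (ClSub.quotMod I))) +
        tensorMap g (𝟙 (ClSub.quotMod I)) := by abel
  have h2 := LinearMap.congr_fun (HH.map_add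
    (tensorMap f (𝟙 (ClSub.quotMod I)) - tensorMap g (𝟙 (ClSub.quotMod I)))
    (tensorMap g (𝟙 (ClSub.quotMod I))) 0) x
  rw [← h] at h2
  change HH.map _ 0 x = HH.map _ 0 x - HH.map _ 0 x
  rw [h2]
  simp

lemma fibDMap_smulMod (I : X.IdealSheafData) (E : X.Modules) (a : k) (x : ParSh.fibD X I E) :
    ParSh.fibDMap k X I (Formal.smulMod k E a) x = a • x := by
  rw [fibDMap_eq]
  unfold Formal.smulMod
  rw [Groth.Agent.Lib.helper11.FibLift.tensorMap_smulModΓ_left]
  rfl

include k in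
lemma subsingleton_fibD_of_isZero (I : X.IdealSheafData) {K : X.Modules} (hK : IsZero K) :
    Subsingleton (ParSh.fibD X I K) := by
  have h1 : ParSh.fibDMap k X I (𝟙 K) = 0 := by
    rw [hK.eq_of_src (𝟙 K) 0, fibDMap_zero]
  rw [fibDMap_id] at h1
  refine ⟨fun x y => ?_⟩
  have hx := LinearMap.congr_fun h1 x
  have hy := LinearMap.congr_fun h1 y
  simp only [LinearMap.id_coe, id_eq, LinearMap.zero_apply] at hx hy
  rw [hx, hy]

end basic

section curve

variable (k : Type u) [Field k] (X : Scheme.{u}) [X.Over (Spec (CommRingCat.of k))]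
  [IsProper (X ↘ Spec (CommRingCat.of k))]

/-- `dim F₁ ≤ dim (F₁ ∩ F₀(K)) + dim (image of F₁ in F₀(Q))` for `0 → K → E → Q → 0` -/
theorem finrank_le_induced_add_coinduced (I : X.IdealSheafData) (hD : FGA.IsEffCartier I)
    (T : ShortComplex X.Modules) (hT : T.ShortExact) {a b c : ℕ}
    (h₁ : FlatMod.IsFinLocFreeOfRank a T.X₁) (h₂ : FlatMod.IsFinLocFreeOfRank b T.X₂)
    (h₃ : FlatMod.IsFinLocFreeOfRank c T.X₃) (F₁ : Submodule k (ParSh.fibD X I T.X₂)) :
    finrank k F₁ ≤ finrank k (ParSh.gpInduced k X I T.f F₁) + finrank k (ParSh.gpCoinduced k X I T.g F₁) := by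
  haveI := finite_fibD k X I h₁
  haveI := finite_fibD k X I h₂
  haveI := finite_fibD k X I h₃
  obtain ⟨-, hex⟩ := injective_exact_fibDMap k X I hD T hT h₁ h₂ h₃
  unfold ParSh.gpInduced ParSh.gpCoinduced
  set Ff := ParSh.fibDMap k X I T.f
  set Fg := ParSh.fibDMap k X I T.g
  let g' : F₁ →ₗ[k] ParSh.fibD X I T.X₃ := Fg.domRestrict F₁
  have h1 := LinearMap.finrank_range_add_finrank_ker g'
  have h2 : LinearMap.range g' = F₁.map Fg := LinearMap.range_domRestrict _ _
  let h : (F₁.comap Ff) →ₗ[k] F₁ :=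
    LinearMap.codRestrict F₁ (Ff.domRestrict (F₁.comap Ff)) (fun y => y.2)
  have h3 : LinearMap.ker g' ≤ LinearMap.range h := by
    intro x hx
    have hx' : Fg x.1 = 0 := hx
    obtain ⟨y, hy⟩ := (hex x.1).mp hx'
    have hyc : y ∈ F₁.comap Ff := by rw [Submodule.mem_comap, hy]; exact x.2
    exact ⟨⟨y, hyc⟩, Subtype.ext hy⟩
  have h4 : finrank k (LinearMap.ker g') ≤ finrank k (LinearMap.range h) := Submodule.finrank_mono h3
  have h5 : finrank k (LinearMap.range h) ≤ finrank k (F₁.comap Ff) := LinearMap.finrank_range_le h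
  rw [← h2]
  omega

variable [IsIntegral X]

/-- a full rank submodule with the induced structure has at most the parabolic degree of `E` (weights `0 ≤ β ≤ 1`) -/
theorem gpDeg_induced_le_of_rank_eq (hdim : topologicalKrullDim X ≤ 1) (I : X.IdealSheafData)
    (hD : FGA.IsEffCartier I) (β : ℝ) (hβ0 : 0 ≤ β) (hβ1 : β ≤ 1) {G E : X.Modules} {n : ℕ}
    (hG : FlatMod.IsFinLocFreeOfRank n G) (hE : FlatMod.IsFinLocFreeOfRank n E) (i : G ⟶ E) [Mono i]
    (F₁ : Submodule k (ParSh.fibD X I E)) :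
    ParSh.gpDeg k X β G (ParSh.gpInduced k X I i F₁) n ≤ ParSh.gpDeg k X β E F₁ n := by
  have hle := Groth.Agent.Lib.Lead.VBCurve.deg_le k X hdim hG hE i
  have hAB := finrank_le_of_map_le k X hdim I hD hG hE i (ParSh.gpInduced k X I i F₁) F₁
    (Submodule.map_comap_le _ _)
  unfold ParSh.gpDeg ParSh.gpWt
  set a : ℕ := finrank k (ParSh.gpInduced k X I i F₁)
  set b : ℕ := finrank k F₁
  set dG : ℤ := Curv2.deg k X G n
  set dE : ℤ := Curv2.deg k X E n
  have hleR : (dG : ℝ) ≤ (dE : ℝ) := by exact_mod_cast hle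
  have hABR : (a : ℝ) ≤ ((dE : ℝ) - dG) + b := by exact_mod_cast hAB
  have h1 : β * (a : ℝ) ≤ β * (((dE : ℝ) - dG) + b) := mul_le_mul_of_nonneg_left hABR hβ0
  have h2 : β * ((dE : ℝ) - dG) ≤ (dE : ℝ) - dG := by
    have : β * ((dE : ℝ) - dG) ≤ 1 * ((dE : ℝ) - dG) :=
      mul_le_mul_of_nonneg_right hβ1 (by linarith)
    linarith
  nlinarith [mul_add β ((dE : ℝ) - dG) (b : ℝ)]

end curve

section morphism

/-- pure arithmetic behind `morphism_data` -/
lemma arith_aux (u v ε μE μF n m rK rI : ℝ) (hn : 0 < n) (hm : 0 < m) (hnr : n = rK + rI)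
    (h1 : μE ≤ u + v - ε) (h5 : v * m ≤ μF * rI) (h6 : u * n ≤ μE * rK) (h7 : μE * m = μF * n)
    (hε : 0 ≤ ε) : ε = 0 ∧ u * n = μE * rK ∧ v * m = μF * rI := by
  have hs1 : 0 ≤ μE * rK - u * n := by linarith
  have hs2 : 0 ≤ μF * rI - v * m := by linarith
  have hnm : 0 < n * m := mul_pos hn hm
  have e1 : μE * (n * m) ≤ (u + v - ε) * (n * m) := mul_le_mul_of_nonneg_right h1 hnm.le
  have e2 : (μE * rK - u * n) * m + (μF * rI - v * m) * n + ε * (n * m) =
      μE * (n * m) - (u + v - ε) * (n * m) := by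
    subst hnr
    linear_combination (-rI) * h7
  have t1 : 0 ≤ (μE * rK - u * n) * m := mul_nonneg hs1 hm.le
  have t2 : 0 ≤ (μF * rI - v * m) * n := mul_nonneg hs2 hn.le
  have t3 : 0 ≤ ε * (n * m) := mul_nonneg hε hnm.le
  have z1 : (μE * rK - u * n) * m = 0 := by linarith
  have z2 : (μF * rI - v * m) * n = 0 := by linarith
  have z3 : ε * (n * m) = 0 := by linarith
  refine ⟨?_, ?_, ?_⟩
  · rcases mul_eq_zero.mp z3 with h | h
    · exact h
    · exact absurd h hnm.ne'
  · rcases mul_eq_zero.mp z1 with h | h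
    · linarith
    · exact absurd h hm.ne'
  · rcases mul_eq_zero.mp z2 with h | h
    · linarith
    · exact absurd h hn.ne'

/-- pure arithmetic behind `morphism_data`, second part -/
lemma arith_aux2 (α a aK aI A B dE dK dI dS : ℝ) (hα0 : 0 ≤ α) (hdeg : dE = dK + dI)
    (hA : a ≤ aK + aI) (h3 : aI ≤ A) (h4 : A ≤ (dS - dI) + B) :
    dE + α * a ≤ (dK + α * aK) + (dS + α * B) - (1 - α) * (dS - dI) := by
  have hαa : α * a ≤ α * (aK + ((dS - dI) + B)) := mul_le_mul_of_nonneg_left (by linarith) hα0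
  have e : α * (aK + ((dS - dI) + B)) = α * aK + α * (dS - dI) + α * B := by ring
  have e2 : (1 - α) * (dS - dI) = (dS - dI) - α * (dS - dI) := by ring
  rw [hdeg, e2]
  rw [e] at hαa
  linarith

variable (k : Type u) [Field k] (X : Scheme.{u}) [X.Over (Spec (CommRingCat.of k))]
  [IsProper (X ↘ Spec (CommRingCat.of k))] [IsIntegral X]

/-- a nonzero parabolic morphism between semistable generalised parabolic bundles of the same slope has constant rank,
and kernel and saturated image have the same slope -/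
theorem morphism_data (hP : PIDStalks X) (hdim : topologicalKrullDim X ≤ 1) (I : X.IdealSheafData)
    (hD : FGA.IsEffCartier I) (α : ℝ) (hα0 : 0 ≤ α) (hα1 : α < 1) {E F : X.Modules} {n m : ℕ}
    (hn : 0 < n) (hm : 0 < m)
    (hE : FlatMod.IsFinLocFreeOfRank n E) (hF : FlatMod.IsFinLocFreeOfRank m F)
    (F₁ : Submodule k (ParSh.fibD X I E)) (F₁' : Submodule k (ParSh.fibD X I F))
    (hEss : ParSh.IsGPSemistable k X I α F₁ n) (hFss : ParSh.IsGPSemistable k X I α F₁' m)
    (hμ : ParSh.gpDeg k X α E F₁ n * (m : ℝ) = ParSh.gpDeg k X α F F₁' m * (n : ℝ))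
    (f : E ⟶ F) (hf : ParSh.IsGPHom k X I F₁ F₁' f) (hf0 : f ≠ 0) :
    ∃ rK rI : ℕ, 0 < rI ∧ n = rK + rI ∧ rI ≤ m ∧ FlatMod.IsFinLocFreeOfRank rK (kernel f) ∧
      (rK = 0 → Mono f) ∧ FlatMod.IsFinLocFreeOfRank (m - rI) (cokernel f) ∧
      ParSh.gpDeg k X α (kernel f) (ParSh.gpInduced k X I (kernel.ι f) F₁) rK * (n : ℝ) =
        ParSh.gpDeg k X α E F₁ n * (rK : ℝ) ∧
      ∃ (S : X.Modules) (j₁ : S ⟶ F), Mono j₁ ∧ FlatMod.IsFinLocFreeOfRank rI S ∧
        ParSh.gpDeg k X α S (ParSh.gpInduced k X I j₁ F₁') rI * (m : ℝ) =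
          ParSh.gpDeg k X α F F₁' m * (rI : ℝ) := by
  obtain ⟨rK, rI, hK, hIm, hrr, hdeg, hpos, hmono, hdegK0⟩ := kernel_image_data k X hP hE hF f
  have hrI := hpos hf0
  have hfac : Abelian.factorThruImage f ≫ Abelian.image.ι f = f := Abelian.image.fac f
  have hT := shortExact_kernel_image f
  haveI := finite_fibD k X I hIm
  haveI := finite_fibD k X I hK
  -- (1) sub-additivity
  have hA := finrank_le_induced_add_coinduced k X I hD _ hT hK hE hIm F₁
  -- (3) the coinduced structure is contained in the induced one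
  have h3 : finrank k (ParSh.gpCoinduced k X I (Abelian.factorThruImage f) F₁) ≤
      finrank k (ParSh.gpInduced k X I (Abelian.image.ι f) F₁') := by
    apply Submodule.finrank_mono
    unfold ParSh.gpCoinduced ParSh.gpInduced
    rw [Submodule.map_le_iff_le_comap]
    intro x hx
    rw [Submodule.mem_comap, Submodule.mem_comap, ← fibDMap_comp_apply, hfac]
    exact hf (Submodule.mem_map_of_mem hx)
  -- saturation of the image
  obtain ⟨Sat, l, j₁, t, hm₁, hl, hSat, hrk, hQ⟩ :=
    exists_saturation k X hP hdim hIm hF (Abelian.image.ι f)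
  haveI := hm₁
  haveI : Mono l := mono_of_mono_fac (hl.trans rfl)
  haveI := finite_fibD k X I hSat
  have h4 := finrank_le_of_map_le k X hdim I hD hIm hSat l
    (ParSh.gpInduced k X I (Abelian.image.ι f) F₁') (ParSh.gpInduced k X I j₁ F₁') (by
      unfold ParSh.gpInduced
      rw [Submodule.map_le_iff_le_comap]
      intro y hy
      rw [Submodule.mem_comap, Submodule.mem_comap, ← fibDMap_comp_apply, hl]
      exact hy)
  have hdSI := Groth.Agent.Lib.Lead.VBCurve.deg_le k X hdim hIm hSat l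
  -- semistability
  have h5 := hFss Sat rI j₁ hm₁ hrI hSat
  have h6 : ParSh.gpDeg k X α (kernel f) (ParSh.gpInduced k X I (kernel.ι f) F₁) rK * (n : ℝ) ≤
      ParSh.gpDeg k X α E F₁ n * (rK : ℝ) := by
    rcases Nat.eq_zero_or_pos rK with h0 | h0
    · subst h0
      have hz := isZero_of_isFinLocFreeOfRank_zero hK
      haveI := subsingleton_fibD_of_isZero k X I hz
      have hfr : finrank k (ParSh.gpInduced k X I (kernel.ι f) F₁) = 0 := by
        haveI : Subsingleton (ParSh.gpInduced k X I (kernel.ι f) F₁) :=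
          ⟨fun x y => Subtype.ext (Subsingleton.elim _ _)⟩
        exact Module.finrank_zero_of_subsingleton
      unfold ParSh.gpDeg ParSh.gpWt
      rw [hfr, hdegK0 rfl]
      simp
    · exact hEss (kernel f) rK (kernel.ι f) inferInstance h0 hK
  -- arithmetic
  have hnr : (n : ℝ) = (rK : ℝ) + (rI : ℝ) := by exact_mod_cast hrr
  have hnR : (0 : ℝ) < (n : ℝ) := by exact_mod_cast hn
  have hmR : (0 : ℝ) < (m : ℝ) := by exact_mod_cast hm
  set dS : ℤ := Curv2.deg k X Sat rI with hdS
  set dI : ℤ := Curv2.deg k X (Abelian.image f) rI with hdI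
  have hdSIR : (dI : ℝ) ≤ (dS : ℝ) := by exact_mod_cast hdSI
  have hε : 0 ≤ (1 - α) * ((dS : ℝ) - dI) := mul_nonneg (by linarith) (by linarith)
  have h1 : ParSh.gpDeg k X α E F₁ n ≤
      ParSh.gpDeg k X α (kernel f) (ParSh.gpInduced k X I (kernel.ι f) F₁) rK +
        ParSh.gpDeg k X α Sat (ParSh.gpInduced k X I j₁ F₁') rI - (1 - α) * ((dS : ℝ) - dI) := by
    unfold ParSh.gpDeg ParSh.gpWt
    exact arith_aux2 α _ _
      (finrank k (ParSh.gpCoinduced k X I (Abelian.factorThruImage f) F₁) : ℝ)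
      (finrank k (ParSh.gpInduced k X I (Abelian.image.ι f) F₁') : ℝ) _ _ _ _ _ hα0
      (by exact_mod_cast hdeg) (by exact_mod_cast hA) (by exact_mod_cast h3) (by exact_mod_cast h4)
  obtain ⟨hε0, hu, hv⟩ := arith_aux _ _ _ _ _ _ _ _ _ hnR hmR hnr h1 h5 h6 hμ hε
  -- `l` is an isomorphism
  have hdeq : dI = dS := by
    have h : (dS : ℝ) - dI = 0 := by
      rcases mul_eq_zero.mp hε0 with h | h
      · linarith
      · exact h
    have : (dI : ℝ) = dS := by linarith
    exact_mod_cast this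
  haveI : IsIso l := Groth.Agent.Lib.Lead.VBCurve.isIso_of_deg_eq k X hdim hIm hSat l hdeq
  have hrIm : rI ≤ m := by omega
  have hC : FlatMod.IsFinLocFreeOfRank (m - rI) (cokernel f) := by
    have e0 : cokernel f ≅ cokernel (Abelian.factorThruImage f ≫ Abelian.image.ι f) :=
      cokernelIsoOfEq hfac.symm
    have e1 : cokernel (Abelian.factorThruImage f ≫ Abelian.image.ι f) ≅ cokernel (Abelian.image.ι f) :=
      cokernelEpiComp _ _
    have e3 : cokernel (Abelian.image.ι f) ≅ cokernel (l ≫ j₁) := cokernelIsoOfEq hl.symm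
    have e2 : cokernel (l ≫ j₁) ≅ cokernel j₁ := cokernelEpiComp l j₁
    have ht : t = m - rI := by omega
    rw [← ht]
    exact Groth.Agent.Lib.helper16.FLF.isFinLocFreeOfRank_of_iso (e0 ≪≫ e1 ≪≫ e3 ≪≫ e2).symm hQ
  exact ⟨rK, rI, hrI, hrr, hrIm, hK, hmono, hC, hu, Sat, j₁, hm₁, hSat, hv⟩

end morphism

end Groth.Agent.Lib.Lead.GPB
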