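import Mathlib
import Groth.Agent.Lib.Lead.HilbPos27

/-!
# Harder–Narasimhan filtrations for a slope function: uniqueness (lead)

Abstract setting: an abelian category, a class `SS` of objects, a function `slope` on objects, with
`Hom(F, G) = 0` for `F`, `G` in `SS` with `slope G < slope F`.

* `IsSlopeHN`: chains from `⊥` to `⊤` with factors in `SS` and strictly decreasing slopes.
* `slopeHN_unique`.
* `shortExact_third`: `0 → B/A → C/A → C/B → 0` for subobjects `A ≤ B ≤ C`.
-/

set_option autoImplicit false
set_option linter.unusedSectionVars false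
set_option linter.style.haveILetI false
set_option backward.isDefEq.respectTransparency false
universe u

open CategoryTheory CategoryTheory.Limits AlgebraicGeometry Polynomial TopologicalSpace Topology
  Opposite

namespace Groth.Agent.Lib.Lead.HilbPos

open StabCat

section Generic

variable {C : Type*} [Category C] [Abelian C] {E : C} (SS : C → Prop) (slope : C → ℚ)

/-- chains from `⊥` to `⊤` with factors in `SS` and strictly decreasing slopes -/
def IsSlopeHN (s : LTSeries (Subobject E)) : Prop :=
  s.head = ⊥ ∧ s.last = ⊤ ∧ (∀ i : Fin s.length, SS (factor s i)) ∧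
    ∀ i j : Fin s.length, i.val + 1 = j.val → slope (factor s j) < slope (factor s i)

variable {SS slope}

theorem slope_le_of_le {s : LTSeries (Subobject E)} (hs : IsSlopeHN SS slope s)
    (a b : Fin s.length) (hab : a ≤ b) : slope (factor s b) ≤ slope (factor s a) := by
  have key : ∀ (n : ℕ) (a b : Fin s.length), a.val + n = b.val →
      slope (factor s b) ≤ slope (factor s a) := by
    intro n
    induction n with
    | zero =>
      intro a b h
      have : a = b := Fin.ext (by omega)
      subst this
      exact le_rfl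
    | succ n ih =>
      intro a b h
      let c : Fin s.length := ⟨a.val + n, by omega⟩
      have h1 := ih a c rfl
      have h2 := hs.2.2.2 c b (by show a.val + n + 1 = b.val; omega)
      exact h2.le.trans h1
  exact key (b.val - a.val) a b (by have : a.val ≤ b.val := hab; omega)

theorem slope_lt_of_lt {s : LTSeries (Subobject E)} (hs : IsSlopeHN SS slope s)
    (a b : Fin s.length) (hab : a < b) : slope (factor s b) < slope (factor s a) := by
  have ha1 : a.val + 1 < s.length := by have := b.2; have : a.val < b.val := hab; omega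
  let c : Fin s.length := ⟨a.val + 1, ha1⟩
  have h1 := hs.2.2.2 a c rfl
  have h2 := slope_le_of_le hs c b (by show a.val + 1 ≤ b.val; have : a.val < b.val := hab; omega)
  exact lt_of_le_of_lt h2 h1

variable (hhom : ∀ F G : C, SS F → SS G → slope G < slope F → ∀ φ : F ⟶ G, φ = 0)

include hhom in
theorem slope_step_le {s t : LTSeries (Subobject E)} (hs : IsSlopeHN SS slope s)
    (ht : IsSlopeHN SS slope t) (i : Fin s.length) (i' : Fin t.length) (hii : i.val = i'.val)
    (heq : s i.castSucc = t i'.castSucc) (hle : slope (factor s i) ≤ slope (factor t i')) :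
    t i'.succ ≤ s i.succ ∧ slope (factor t i') ≤ slope (factor s i) := by
  classical
  set B' : Subobject E := t i'.succ with hB'
  set A' : Subobject E := t i'.castSucc with hA'
  have hAB : A' < B' := t.step i'
  let Pj : ℕ → Prop := fun j => ∃ h : j < s.length + 1, B' ≤ s ⟨j, h⟩
  have hex : ∃ j, Pj j := ⟨s.length, Nat.lt_succ_self _, by
    have : s ⟨s.length, Nat.lt_succ_self _⟩ = ⊤ := hs.2.1
    rw [this]; exact le_top⟩
  obtain ⟨hj₀lt, hj₀le⟩ := Nat.find_spec hex
  have hmono : Monotone s := (LTSeries.strictMono s).monotone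
  have hj₀gt : i.val < Nat.find hex := by
    by_contra hcon
    rw [not_lt] at hcon
    have h1 : s ⟨Nat.find hex, hj₀lt⟩ ≤ s i.castSucc := hmono (by
      show Nat.find hex ≤ i.val; exact hcon)
    have h2 : B' ≤ A' := by rw [← heq]; exact hj₀le.trans h1
    exact absurd hAB (not_lt_of_ge h2)
  obtain ⟨m, hm⟩ : ∃ m, Nat.find hex = m + 1 := ⟨Nat.find hex - 1, by omega⟩
  have hmlt : m < s.length := by omega
  let j' : Fin s.length := ⟨m, hmlt⟩
  have hB'S : B' ≤ s j'.succ := by
    have : s ⟨Nat.find hex, hj₀lt⟩ = s j'.succ := by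
      congr 1; exact Fin.ext hm
    rw [← this]; exact hj₀le
  have hB'S' : ¬ B' ≤ s j'.castSucc := by
    intro hcon
    have : Pj m := ⟨by omega, hcon⟩
    exact Nat.find_min hex (by omega) this
  have hij' : i ≤ j' := by show i.val ≤ m; omega
  have hA'S : A' ≤ s j'.castSucc := by
    rw [← heq]; exact hmono (by show i.val ≤ m; omega)
  set ι₀ := Subobject.ofLE (s j'.castSucc) (s j'.succ) (le_of_lt (s.step j')) with hι₀
  let f : (B' : C) ⟶ factor s j' := Subobject.ofLE B' (s j'.succ) hB'S ≫ cokernel.π ι₀
  have hf0 : f ≠ 0 := by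
    intro hf
    apply hB'S'
    let l := Abelian.monoLift ι₀ (Subobject.ofLE B' (s j'.succ) hB'S) hf
    have hl : l ≫ ι₀ = Subobject.ofLE B' (s j'.succ) hB'S := Abelian.monoLift_comp _ _ _
    refine Subobject.le_of_comm l ?_
    rw [← Subobject.ofLE_arrow (le_of_lt (s.step j')), ← Category.assoc, ← hι₀, hl,
      Subobject.ofLE_arrow]
  have hAf : Subobject.ofLE A' B' hAB.le ≫ f = 0 := by
    show Subobject.ofLE A' B' hAB.le ≫ Subobject.ofLE B' (s j'.succ) hB'S ≫ cokernel.π ι₀ = 0
    rw [← Category.assoc, Subobject.ofLE_comp_ofLE,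
      ← Subobject.ofLE_comp_ofLE A' (s j'.castSucc) (s j'.succ) hA'S (le_of_lt (s.step j')),
      Category.assoc, ← hι₀, cokernel.condition, Limits.comp_zero]
  let g : factor t i' ⟶ factor s j' := cokernel.desc _ f hAf
  have hg0 : g ≠ 0 := by
    intro hg
    apply hf0
    have : cokernel.π _ ≫ g = f := cokernel.π_desc _ f hAf
    rw [← this, hg, Limits.comp_zero]
  have h1 : slope (factor t i') ≤ slope (factor s j') := by
    by_contra hcon
    rw [not_le] at hcon
    exact hg0 (hhom _ _ (ht.2.2.1 i') (hs.2.2.1 j') hcon g)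
  have h2 : slope (factor s j') ≤ slope (factor s i) := slope_le_of_le hs i j' hij'
  have hji : j' = i := by
    by_contra hne
    have hlt : i < j' := lt_of_le_of_ne hij' (fun h => hne h.symm)
    have h3 := slope_lt_of_lt hs i j' hlt
    have h4 : slope (factor t i') < slope (factor s i) := lt_of_le_of_lt h1 h3
    exact absurd hle (not_le_of_gt h4)
  rw [← hji]
  exact ⟨hB'S, h1⟩

include hhom in
theorem slopeHN_unique {s t : LTSeries (Subobject E)} (hs : IsSlopeHN SS slope s)
    (ht : IsSlopeHN SS slope t) : s = t := by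
  have key : ∀ (n : ℕ) (hn : n < s.length + 1) (hn' : n < t.length + 1),
      s ⟨n, hn⟩ = t ⟨n, hn'⟩ := by
    intro n
    induction n with
    | zero =>
      intro hn hn'
      have h1 : s ⟨0, hn⟩ = ⊥ := hs.1
      have h2 : t ⟨0, hn'⟩ = ⊥ := ht.1
      rw [h1, h2]
    | succ n ih =>
      intro hn hn'
      have hn1 : n < s.length := by omega
      have hn1' : n < t.length := by omega
      let i : Fin s.length := ⟨n, hn1⟩
      let i' : Fin t.length := ⟨n, hn1'⟩
      have heq : s i.castSucc = t i'.castSucc := ih (by omega) (by omega)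
      show s i.succ = t i'.succ
      rcases le_or_gt (slope (factor s i)) (slope (factor t i')) with h | h
      · obtain ⟨h1, h2⟩ := slope_step_le hhom hs ht i i' rfl heq h
        obtain ⟨h3, -⟩ := slope_step_le hhom ht hs i' i rfl heq.symm h2
        exact le_antisymm h3 h1
      · obtain ⟨h3, h4⟩ := slope_step_le hhom ht hs i' i rfl heq.symm h.le
        obtain ⟨h1, -⟩ := slope_step_le hhom hs ht i i' rfl heq h4
        exact le_antisymm h3 h1
  have hlen : s.length = t.length := by
    rcases lt_trichotomy s.length t.length with h | h | h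
    · exfalso
      have h1 : s ⟨s.length, Nat.lt_succ_self _⟩ = t ⟨s.length, by omega⟩ := key _ _ _
      have h2 : s ⟨s.length, Nat.lt_succ_self _⟩ = ⊤ := hs.2.1
      have h3 : t ⟨s.length, by omega⟩ < t ⟨t.length, Nat.lt_succ_self _⟩ :=
        LTSeries.strictMono t (by show s.length < t.length; exact h)
      have h4 : t ⟨t.length, Nat.lt_succ_self _⟩ = ⊤ := ht.2.1
      rw [← h1, h2, h4] at h3
      exact lt_irrefl _ h3
    · exact h
    · exfalso
      have h1 : s ⟨t.length, by omega⟩ = t ⟨t.length, Nat.lt_succ_self _⟩ := key _ _ _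
      have h2 : t ⟨t.length, Nat.lt_succ_self _⟩ = ⊤ := ht.2.1
      have h3 : s ⟨t.length, by omega⟩ < s ⟨s.length, Nat.lt_succ_self _⟩ :=
        LTSeries.strictMono s (by show t.length < s.length; exact h)
      have h4 : s ⟨s.length, Nat.lt_succ_self _⟩ = ⊤ := hs.2.1
      rw [h1, h2, h4] at h3
      exact lt_irrefl _ h3
  refine RelSeries.ext hlen ?_
  funext x
  exact key x.val x.2 (by have := x.2; omega)

end Generic

section Third

variable {C : Type*} [Category C] [Abelian C] {E : C} (A B D : Subobject E) (hAB : A ≤ B)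
  (hBD : B ≤ D)

/-- `B/A ⟶ D/A` -/
noncomputable def thirdF : cokernel (Subobject.ofLE A B hAB) ⟶
    cokernel (Subobject.ofLE A D (hAB.trans hBD)) :=
  cokernel.desc _ (Subobject.ofLE B D hBD ≫ cokernel.π _) (by
    rw [← Category.assoc, Subobject.ofLE_comp_ofLE, cokernel.condition])

/-- `D/A ⟶ D/B` -/
noncomputable def thirdG : cokernel (Subobject.ofLE A D (hAB.trans hBD)) ⟶
    cokernel (Subobject.ofLE B D hBD) :=
  cokernel.desc _ (cokernel.π _) (by
    rw [← Subobject.ofLE_comp_ofLE A B D hAB hBD, Category.assoc, cokernel.condition,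
      Limits.comp_zero])

theorem π_thirdF : cokernel.π _ ≫ thirdF A B D hAB hBD =
    Subobject.ofLE B D hBD ≫ cokernel.π _ := cokernel.π_desc _ _ _

theorem π_thirdG : cokernel.π _ ≫ thirdG A B D hAB hBD = cokernel.π _ := cokernel.π_desc _ _ _

theorem thirdF_thirdG : thirdF A B D hAB hBD ≫ thirdG A B D hAB hBD = 0 := by
  rw [← cancel_epi (cokernel.π (Subobject.ofLE A B hAB)), ← Category.assoc, π_thirdF,
    Category.assoc, π_thirdG, cokernel.condition, Limits.comp_zero]

instance mono_thirdF : Mono (thirdF A B D hAB hBD) := by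
  have hz : Subobject.ofLE A B hAB ≫ Subobject.ofLE B D hBD ≫
      cokernel.π (Subobject.ofLE A D (hAB.trans hBD)) = 0 := by
    rw [← Category.assoc, Subobject.ofLE_comp_ofLE, cokernel.condition]
  let S : ShortComplex C := ShortComplex.mk (Subobject.ofLE A B hAB)
    (Subobject.ofLE B D hBD ≫ cokernel.π (Subobject.ofLE A D (hAB.trans hBD))) hz
  have hk : IsLimit (KernelFork.ofι S.f S.zero) := by
    refine KernelFork.IsLimit.ofι _ _
      (fun {T} a ha => Abelian.monoLift (Subobject.ofLE A D (hAB.trans hBD))
        (a ≫ Subobject.ofLE B D hBD) (by rw [Category.assoc]; exact ha))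
      (fun {T} a ha => ?_) (fun {T} a ha b hb => ?_)
    · rw [← cancel_mono (Subobject.ofLE B D hBD), Category.assoc]
      show _ ≫ Subobject.ofLE A B hAB ≫ Subobject.ofLE B D hBD = _
      rw [Subobject.ofLE_comp_ofLE, Abelian.monoLift_comp]
    · rw [← cancel_mono (Subobject.ofLE A B hAB), ← cancel_mono (Subobject.ofLE B D hBD),
        Category.assoc, Category.assoc, Subobject.ofLE_comp_ofLE, Abelian.monoLift_comp, ← hb,
        Category.assoc]
      show _ = b ≫ Subobject.ofLE A B hAB ≫ Subobject.ofLE B D hBD
      rw [Subobject.ofLE_comp_ofLE]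
  exact (ShortComplex.exact_of_f_is_kernel S hk).mono_cokernelDesc

instance epi_thirdG : Epi (thirdG A B D hAB hBD) :=
  epi_of_epi_fac (π_thirdG A B D hAB hBD)

/-- `0 → B/A → D/A → D/B → 0` -/
theorem shortExact_third :
    (ShortComplex.mk (thirdF A B D hAB hBD) (thirdG A B D hAB hBD)
      (thirdF_thirdG A B D hAB hBD)).ShortExact := by
  have hc : IsColimit (CokernelCofork.ofπ (thirdG A B D hAB hBD) (thirdF_thirdG A B D hAB hBD)) := by
    refine CokernelCofork.IsColimit.ofπ _ _
      (fun {Z} h hh => cokernel.desc (Subobject.ofLE B D hBD) (cokernel.π _ ≫ h) (by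
        rw [← Category.assoc, ← π_thirdF A B D hAB hBD, Category.assoc, hh, Limits.comp_zero]))
      (fun {Z} h hh => ?_) (fun {Z} h hh b hb => ?_)
    · rw [← cancel_epi (cokernel.π (Subobject.ofLE A D (hAB.trans hBD))), ← Category.assoc,
        π_thirdG, cokernel.π_desc]
    · rw [← cancel_epi (cokernel.π (Subobject.ofLE B D hBD)), cokernel.π_desc, ← hb,
        ← Category.assoc, π_thirdG]
  exact
    { exact := ShortComplex.exact_of_g_is_cokernel _ hc
      mono_f := mono_thirdF A B D hAB hBD
      epi_g := epi_thirdG A B D hAB hBD }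

end Third

end Groth.Agent.Lib.Lead.HilbPos
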