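import Mathlib
import Groth.Agent.Lib.Lead.HilbPos28
import Groth.Agent.S15210

/-!
# Slope Harder–Narasimhan filtrations of torsion-free sheaves (lead)

`X` proper over `k` of dimension `n ≥ 1`, `L` ample, `E` coherent, nonzero, pure of dimension `n`.

* `SSmu`: pure of dimension `n` and slope-semistable; `muSlope`: `hatSlope n` of the Hilbert polynomial.
* `ssmu_of_isSemistable`, `ssmu_of_iso`, `ssmu_of_extension`.
* `hom_eq_zero_of_ssmu`.
* `exists_isSlopeHN`: existence, by coarsening the Gieseker Harder–Narasimhan filtration.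
* `existsUnique_isSlopeHN`.
-/

set_option autoImplicit false
set_option linter.unusedSectionVars false
set_option linter.style.haveILetI false
set_option backward.isDefEq.respectTransparency false
universe u

open CategoryTheory CategoryTheory.Limits AlgebraicGeometry Polynomial TopologicalSpace Topology
  Opposite

namespace Groth.Agent.Lib.Lead.HilbPos

open StabCat Scheme.Modules

variable (k : Type u) [Field k] {X : Scheme.{u}} [X.Over (Spec (CommRingCat.of k))]
  [IsProper (X ↘ Spec (CommRingCat.of k))]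

/-- pure of dimension `n` and slope-semistable -/
def SSmu (L : X.Modules) (n : ℕ) (G : X.Modules) : Prop :=
  ShStab.IsPure X G n ∧ ShStab.IsMuSemistable k X L G n

/-- the slope `α_{n-1}/α_n` of the Hilbert polynomial -/
noncomputable def muSlope (L : X.Modules) (n : ℕ) (G : X.Modules) : ℚ :=
  hatSlope n (pol k X L G)

variable {L : X.Modules} (hL : CohB1.IsAmple L) {n : ℕ} (hn : 1 ≤ n)
  (hX : topologicalKrullDim X = ((n : ℕ) : WithBot ℕ∞))

include hL in
/-- data of a module in `SSmu` -/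
theorem ssmu_data {G : X.Modules} (hG : SSmu k L n G) :
    ShStab.IsHilbPoly k X L G (pol k X L G) ∧ 0 < alpha n (pol k X L G) ∧
      (pol k X L G).natDegree ≤ n := by
  have hdim : topologicalKrullDim (CohB1.support G) = ((n : ℕ) : WithBot ℕ∞) := hG.2.2.2.1
  obtain ⟨P, hP, hPd⟩ := exists_isHilbPoly k X hL.1 hG.2.1 n hdim.le
  have h := isHilbPoly_pol k X ⟨P, hP⟩
  exact ⟨h, alpha_pos k X hL hG.2.1 n hdim h, natDegree_le k X hL.1 hG.2.1 n hdim.le h⟩

include hL hn hX in
theorem ssmu_of_isSemistable {G : X.Modules} (hG : ShStab.IsSemistable k X L G n) :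
    SSmu k L n G :=
  ⟨hG.2.2.1, Groth.Agent.S15210.result k X L hL n hn hX G hG⟩

include k in
theorem muSlope_eq_of_iso {F G : X.Modules} (e : F ≅ G)
    (h : ∃ P : ℚ[X], ShStab.IsHilbPoly k X L F P) : muSlope k L n F = muSlope k L n G := by
  unfold muSlope
  rw [pol_eq_of_iso k X e h]

include hL in
theorem ssmu_of_iso {F G : X.Modules} (e : F ≅ G) (hF : SSmu k L n F) : SSmu k L n G := by
  haveI := Groth.Agent.Lib.Lead.CurveEuler.isNoetherian k X
  have hGc : Coh.IsCoh G := Groth.Agent.Lib.helper7.CohKer.isCoh_of_iso e hF.2.1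
  refine ⟨isPure_of_iso e hF.1, hGc, fun h => hF.2.2.1 (h.of_iso e), ?_, ?_, ?_⟩
  · rw [← support_eq_of_iso' hF.2.1 hGc e]; exact hF.2.2.2.1
  · intro H ι hι hH
    haveI := hι
    exact hF.2.2.2.2.1 H (ι ≫ e.inv) (mono_comp _ _) hH
  · intro H ι hι hH pH pG hpH hpG a1 a2
    haveI := hι
    exact hF.2.2.2.2.2 H (ι ≫ e.inv) (mono_comp _ _) hH pH pG hpH
      (isHilbPoly_of_iso k X e.symm hpG) a1 a2

include hL hn in
/-- `Hom(F, G) = 0` for `F`, `G` pure and slope-semistable with `μ(G) < μ(F)` -/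
theorem hom_eq_zero_of_ssmu {F G : X.Modules} (hF : SSmu k L n F) (hG : SSmu k L n G)
    (hlt : muSlope k L n G < muSlope k L n F) (φ : F ⟶ G) : φ = 0 := by
  by_contra hφ
  have hFc := hF.2.1
  have hGc := hG.2.1
  obtain ⟨hpF, -, -⟩ := ssmu_data k hL hF
  obtain ⟨hpG, -, -⟩ := ssmu_data k hL hG
  have hIc : Coh.IsCoh (Abelian.image φ) := isCoh_image k X hFc hGc φ
  have hI0 : ¬ IsZero (Abelian.image φ) := not_isZero_image φ hφ
  obtain ⟨pI, hpI⟩ := exists_isHilbPoly_of_mono_pure k X hL.1 hG.1 (Abelian.image.ι φ) hIc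
  have aI : 0 < alpha n pI := alpha_pos_of_mono_pure k X hL hG.1 (Abelian.image.ι φ) hIc hI0 hpI
  have h1 := hatSlope_le_image_of_isMuSS k X hL hFc hF.1 hF.2.2.2.2.2 hGc φ hpF hpI aI
  have h2 := hatSlope_le_of_mono_of_isMuSS k X hL hn hGc hG.1 hG.2.2.2.2.2 (Abelian.image.ι φ) hIc
    hI0 hpI hpG
  unfold muSlope at hlt
  linarith

include hL hn hX in
/-- an extension of two modules of `SSmu` with the same slope is in `SSmu`, with that slope -/
theorem ssmu_of_extension (T : ShortComplex X.Modules) (hT : T.ShortExact)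
    (h₁ : SSmu k L n T.X₁) (h₃ : SSmu k L n T.X₃)
    (hμ : muSlope k L n T.X₁ = muSlope k L n T.X₃) :
    SSmu k L n T.X₂ ∧ muSlope k L n T.X₂ = muSlope k L n T.X₁ := by
  haveI := Groth.Agent.Lib.Lead.CurveEuler.isNoetherian k X
  obtain ⟨hp₁, a₁, -⟩ := ssmu_data k hL h₁
  obtain ⟨hp₃, a₃, -⟩ := ssmu_data k hL h₃
  have hc : Coh.IsCoh T.X₂ := isCoh_of_extension T hT h₁.2.1 h₃.2.1
  have hpure : ShStab.IsPure X T.X₂ n :=
    isPure_of_extension k X hX.le T hT h₁.2.1 h₃.2.1 h₁.1 h₃.1
  haveI := hT.mono_f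
  have h0 : ¬ IsZero T.X₂ := fun h => h₁.2.2.1 (isZero_of_mono_of_isZero T.f h)
  have hp₂ : ShStab.IsHilbPoly k X L T.X₂ (pol k X L T.X₁ + pol k X L T.X₃) :=
    isHilbPoly_add k X hL.1 T hT h₁.2.1 h₃.2.1 hp₁ hp₃
  have hpol : pol k X L T.X₂ = pol k X L T.X₁ + pol k X L T.X₃ := pol_eq k X hp₂
  have hslope : muSlope k L n T.X₂ = muSlope k L n T.X₁ := by
    unfold muSlope at hμ ⊢
    rw [hpol]
    exact hatSlope_add_eq a₁ a₃ rfl hμ.symm
  refine ⟨⟨hpure, hc, h0, hpure T.X₂ (𝟙 _) inferInstance hc h0, ?_, ?_⟩, hslope⟩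
  · intro F ι hι hF
    haveI := hι
    by_cases hF0 : IsZero F
    · have := dim_support_empty_lt hF0 0
      intro heq
      have h1 : topologicalKrullDim (CohB1.support F) = ⊥ := by
        rw [support_eq_empty_of_isZero hF0]
        unfold topologicalKrullDim
        rw [Order.krullDim_eq_bot_iff]
        refine ⟨fun z => ?_⟩
        obtain ⟨x, hx⟩ := z.2.nonempty
        exact x.2.elim
      rw [h1] at heq
      simp at heq
    · rw [hpure F ι hι hF hF0]
      intro heq
      have h2 : (((n + 1 : ℕ)) : WithBot ℕ∞) = ((n : ℕ) : WithBot ℕ∞) := by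
        push_cast; exact heq
      have h3 : (n + 1 : ℕ) = n := by exact_mod_cast h2
      omega
  · intro F ι hι hF pF p₂ hpF hp₂' aF _
    haveI := hι
    have e₂ : p₂ = pol k X L T.X₁ + pol k X L T.X₃ := isHilbPoly_unique k X hp₂' hp₂
    have hle : hatSlope n pF ≤ muSlope k L n T.X₁ :=
      hatSlope_le_of_mono_extension k X hL hn T hT h₁.2.1 h₃.2.1 h₁.1 h₃.1 h₁.2.2.2.2.2
        h₃.2.2.2.2.2 hp₁ hp₃ le_rfl (le_of_eq hμ.symm) ι hF hpF aF
    have : hatSlope n p₂ = muSlope k L n T.X₁ := by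
      rw [e₂]
      exact hatSlope_add_eq a₁ a₃ rfl hμ.symm
    rw [this]
    exact hle

section Abelian

variable {C : Type*} [Category C] [Abelian C] {E : C}

/-- `B/A ≅ B/A'` for `A = A'` -/
noncomputable def cokOfLEIsoOfEq {A A' B : Subobject E} (h : A = A') (hAB : A ≤ B)
    (hA'B : A' ≤ B) :
    cokernel (Subobject.ofLE A B hAB) ≅ cokernel (Subobject.ofLE A' B hA'B) := by
  subst h
  exact Iso.refl _

/-- `B/A ≅ B'/A` for `B = B'` -/
noncomputable def cokOfLEIsoOfEq' {A B B' : Subobject E} (h : B = B') (hAB : A ≤ B)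
    (hAB' : A ≤ B') :
    cokernel (Subobject.ofLE A B hAB) ≅ cokernel (Subobject.ofLE A B' hAB') := by
  subst h
  exact Iso.refl _

end Abelian

variable {E : X.Modules}

/-- the invariant of the coarsening construction: a good chain `c` from `⊥` to `c.last < G` and a good
block `G / c.last` of slope `μ` smaller than the slope of the last factor of `c` -/
def MuInv (L : X.Modules) (n : ℕ) (E : X.Modules) (G : Subobject E) (μ : ℚ) : Prop :=
  ∃ (c : LTSeries (Subobject E)) (hlt : c.last < G), c.head = ⊥ ∧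
    (∀ j : Fin c.length, SSmu k L n (factor c j)) ∧
    (∀ j j' : Fin c.length, j.val + 1 = j'.val →
      muSlope k L n (factor c j') < muSlope k L n (factor c j)) ∧
    SSmu k L n (cokernel (Subobject.ofLE c.last G hlt.le)) ∧
    muSlope k L n (cokernel (Subobject.ofLE c.last G hlt.le)) = μ ∧
    (∀ j : Fin c.length, j.val + 1 = c.length → μ < muSlope k L n (factor c j))

include hL in
theorem muSlope_eq_of_iso_ssmu {F G : X.Modules} (e : F ≅ G) (hG : SSmu k L n G) :
    muSlope k L n F = muSlope k L n G :=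
  (muSlope_eq_of_iso k e.symm ⟨_, (ssmu_data k hL hG).1⟩).symm

include hL in
/-- the chain `c.snoc G` obtained by closing the block -/
theorem snoc_data {G : Subobject E} (c : LTSeries (Subobject E)) (hlt : c.last < G)
    (h1 : ∀ j : Fin c.length, SSmu k L n (factor c j))
    (h2 : ∀ j j' : Fin c.length, j.val + 1 = j'.val →
      muSlope k L n (factor c j') < muSlope k L n (factor c j))
    (h3 : SSmu k L n (cokernel (Subobject.ofLE c.last G hlt.le)))
    (h4 : ∀ j : Fin c.length, j.val + 1 = c.length →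
      muSlope k L n (cokernel (Subobject.ofLE c.last G hlt.le)) < muSlope k L n (factor c j)) :
    (∀ j : Fin (c.snoc G hlt).length, SSmu k L n (factor (c.snoc G hlt) j)) ∧
    (∀ j j' : Fin (c.snoc G hlt).length, j.val + 1 = j'.val →
      muSlope k L n (factor (c.snoc G hlt) j') < muSlope k L n (factor (c.snoc G hlt) j)) ∧
    (∀ j : Fin (c.snoc G hlt).length, j.val + 1 = (c.snoc G hlt).length →
      muSlope k L n (factor (c.snoc G hlt) j) =
        muSlope k L n (cokernel (Subobject.ofLE c.last G hlt.le))) := by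
  have eL := factorSnocLast c G hlt
  have eC := fun j => factorSnocCastSucc c G hlt j
  have sL : muSlope k L n (factor (c.snoc G hlt) (Fin.last c.length)) =
      muSlope k L n (cokernel (Subobject.ofLE c.last G hlt.le)) :=
    muSlope_eq_of_iso_ssmu k hL eL h3
  have sC : ∀ j : Fin c.length, muSlope k L n (factor (c.snoc G hlt) (Fin.castSucc j)) =
      muSlope k L n (factor c j) := fun j => muSlope_eq_of_iso_ssmu k hL (eC j) (h1 j)
  have keyS : ∀ j : Fin (c.length + 1), SSmu k L n (factor (c.snoc G hlt) j) := by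
    intro j
    refine Fin.lastCases ?_ (fun j₀ => ?_) j
    · exact ssmu_of_iso k hL eL.symm h3
    · exact ssmu_of_iso k hL (eC j₀).symm (h1 j₀)
  have keyD : ∀ j j' : Fin (c.length + 1), j.val + 1 = j'.val →
      muSlope k L n (factor (c.snoc G hlt) j') < muSlope k L n (factor (c.snoc G hlt) j) := by
    intro j j' hjj
    have hj : j.val < c.length := by have := j'.2; omega
    obtain ⟨j₀, rfl⟩ : ∃ j₀ : Fin c.length, j = Fin.castSucc j₀ := ⟨⟨j.val, hj⟩, Fin.ext rfl⟩
    revert hjj
    refine Fin.lastCases ?_ (fun j₁ => ?_) j'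
    · intro hjj
      rw [sL, sC]
      exact h4 j₀ (by simpa using hjj)
    · intro hjj
      rw [sC, sC]
      exact h2 j₀ j₁ (by simpa using hjj)
  have keyL : ∀ j : Fin (c.length + 1), j.val + 1 = c.length + 1 →
      muSlope k L n (factor (c.snoc G hlt) j) =
        muSlope k L n (cokernel (Subobject.ofLE c.last G hlt.le)) := by
    intro j hj
    obtain rfl : j = Fin.last c.length := Fin.ext (by simpa using hj)
    exact sL
  exact ⟨keyS, keyD, keyL⟩

include hL in
theorem isSlopeHN_of_muInv {μ : ℚ} (h : MuInv k L n E ⊤ μ) :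
    ∃ s : LTSeries (Subobject E), IsSlopeHN (SSmu k L n) (muSlope k L n) s := by
  obtain ⟨c, hlt, h0, h1, h2, h3, h4, h5⟩ := h
  obtain ⟨k1, k2, -⟩ := snoc_data k hL c hlt h1 h2 h3 (fun j hj => by rw [h4]; exact h5 j hj)
  refine ⟨c.snoc ⊤ hlt, ?_, RelSeries.last_snoc _ _ _, k1, k2⟩
  rw [RelSeries.head_snoc]; exact h0

include hL hn hX in
theorem muInv_step_eq {G G' : Subobject E} {μ : ℚ} (hGG' : G < G') (h : MuInv k L n E G μ)
    (hQ : SSmu k L n (cokernel (Subobject.ofLE G G' hGG'.le)))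
    (hμ : muSlope k L n (cokernel (Subobject.ofLE G G' hGG'.le)) = μ) : MuInv k L n E G' μ := by
  obtain ⟨c, hlt, h0, h1, h2, h3, h4, h5⟩ := h
  have hlt' : c.last < G' := hlt.trans hGG'
  obtain ⟨k1, k2⟩ := ssmu_of_extension k hL hn hX _
    (shortExact_third c.last G G' hlt.le hGG'.le) h3 hQ (by rw [h4, hμ])
  exact ⟨c, hlt', h0, h1, h2, k1, k2.trans h4, h5⟩

include hL in
theorem muInv_step_lt {G G' : Subobject E} {μ μ' : ℚ} (hGG' : G < G') (h : MuInv k L n E G μ)
    (hQ : SSmu k L n (cokernel (Subobject.ofLE G G' hGG'.le)))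
    (hμ : muSlope k L n (cokernel (Subobject.ofLE G G' hGG'.le)) = μ') (hlt' : μ' < μ) :
    MuInv k L n E G' μ' := by
  obtain ⟨c, hlt, h0, h1, h2, h3, h4, h5⟩ := h
  obtain ⟨k1, k2, k3⟩ := snoc_data k hL c hlt h1 h2 h3 (fun j hj => by rw [h4]; exact h5 j hj)
  have hlast : (c.snoc G hlt).last = G := RelSeries.last_snoc _ _ _
  have hlt'' : (c.snoc G hlt).last < G' := by rw [hlast]; exact hGG'
  let e := cokOfLEIsoOfEq hlast hlt''.le hGG'.le
  refine ⟨c.snoc G hlt, hlt'', ?_, k1, k2, ssmu_of_iso k hL e.symm hQ, ?_, ?_⟩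
  · rw [RelSeries.head_snoc]; exact h0
  · rw [muSlope_eq_of_iso_ssmu k hL e hQ, hμ]
  · intro j hj
    rw [k3 j hj, h4]
    exact hlt'

include hL hn hX in
/-- existence of the slope Harder–Narasimhan filtration, by coarsening the Gieseker one -/
theorem exists_isSlopeHN (hE : Coh.IsCoh E) (h0 : ¬ IsZero E) (hp : ShStab.IsPure X E n) :
    ∃ s : LTSeries (Subobject E), IsSlopeHN (SSmu k L n) (muSlope k L n) s := by
  haveI := Groth.Agent.Lib.Lead.CurveEuler.isNoetherian k X
  obtain ⟨s, hs⟩ := exists_isHNFiltration k hL hE hp h0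
  have hS : ∀ i : Fin s.length, SSmu k L n (factor s i) := fun i =>
    ssmu_of_isSemistable k hL hn hX (hs.2.2.1 i)
  -- slopes of the Gieseker factors decrease weakly
  have hdec : ∀ i j : Fin s.length, i.val + 1 = j.val →
      muSlope k L n (factor s j) ≤ muSlope k L n (factor s i) := by
    intro i j hij
    obtain ⟨hpi, ai, di⟩ := ssmu_data k hL (hS i)
    obtain ⟨hpj, aj, dj⟩ := ssmu_data k hL (hS j)
    exact hatSlope_le_of_redLE hn dj di aj ai (redLE_of_redLT (hs.2.2.2 i j hij _ _ hpi hpj))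
  -- the induction
  have main : ∀ (m : ℕ) (hm : m < s.length),
      MuInv k L n E (s ⟨m + 1, by omega⟩) (muSlope k L n (factor s ⟨m, hm⟩)) := by
    intro m
    induction m with
    | zero =>
      intro hm
      have hs0 : s ⟨0, by omega⟩ = ⊥ := hs.1
      have hstep : s ⟨0, by omega⟩ < s ⟨0 + 1, by omega⟩ := s.step ⟨0, hm⟩
      have hlt : (RelSeries.singleton _ ⊥ : LTSeries (Subobject E)).last < s ⟨0 + 1, by omega⟩ := by
        rw [RelSeries.last_singleton, ← hs0]; exact hstep
      have hlast : (RelSeries.singleton _ ⊥ : LTSeries (Subobject E)).last = s ⟨0, by omega⟩ := by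
        rw [RelSeries.last_singleton, hs0]
      let e : cokernel (Subobject.ofLE _ _ hlt.le) ≅ factor s ⟨0, hm⟩ :=
        cokOfLEIsoOfEq hlast hlt.le hstep.le
      refine ⟨RelSeries.singleton _ ⊥, hlt, rfl, fun j => j.elim0, fun j => j.elim0,
        ssmu_of_iso k hL e.symm (hS _), muSlope_eq_of_iso_ssmu k hL e (hS _), fun j => j.elim0⟩
    | succ m ih =>
      intro hm
      have hm' : m < s.length := by omega
      have hinv := ih hm'
      have hstep : s ⟨m + 1, by omega⟩ < s ⟨m + 1 + 1, by omega⟩ := s.step ⟨m + 1, hm⟩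
      have hQ : SSmu k L n (cokernel (Subobject.ofLE _ _ hstep.le)) := hS ⟨m + 1, hm⟩
      have hle := hdec ⟨m, hm'⟩ ⟨m + 1, hm⟩ rfl
      rcases lt_or_eq_of_le hle with hlt | heq
      · exact muInv_step_lt k hL hstep hinv hQ rfl hlt
      · exact heq ▸ muInv_step_eq k hL hn hX hstep hinv hQ heq
  -- the chain is not trivial
  have hlen : 0 < s.length := by
    by_contra hcon
    have h00 : s.length = 0 := by omega
    have h1 : s.head = s.last := by
      unfold RelSeries.head RelSeries.last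
      congr 1
      exact Fin.ext (by simp [h00])
    rw [hs.1, hs.2.1] at h1
    apply h0
    have e : (((⊤ : Subobject E) : Subobject E) : X.Modules) ≅ E := asIso (⊤ : Subobject E).arrow
    have hz : IsZero (((⊤ : Subobject E) : Subobject E) : X.Modules) := by
      rw [← h1]
      exact (isZero_zero _).of_iso Subobject.botCoeIsoZero
    exact hz.of_iso e.symm
  have hfin := main (s.length - 1) (by omega)
  have htop : s ⟨s.length - 1 + 1, by omega⟩ = ⊤ := by
    have : (⟨s.length - 1 + 1, by omega⟩ : Fin (s.length + 1)) = Fin.last s.length :=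
      Fin.ext (by simp; omega)
    rw [this]
    exact hs.2.1
  rw [htop] at hfin
  exact isSlopeHN_of_muInv k hL hfin

include hL hn hX in
theorem existsUnique_isSlopeHN (hE : Coh.IsCoh E) (h0 : ¬ IsZero E) (hp : ShStab.IsPure X E n) :
    ∃! s : LTSeries (Subobject E), IsSlopeHN (SSmu k L n) (muSlope k L n) s := by
  obtain ⟨s, hs⟩ := exists_isSlopeHN k hL hn hX hE h0 hp
  refine ⟨s, hs, fun t ht => ?_⟩
  exact slopeHN_unique (fun F G hF hG hlt φ => hom_eq_zero_of_ssmu k hL hn hF hG hlt φ) ht hs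

include hL in
/-- `IsSlopeHN` in terms of the Hilbert polynomials of the factors -/
theorem isSlopeHN_iff (s : LTSeries (Subobject E)) :
    IsSlopeHN (SSmu k L n) (muSlope k L n) s ↔
      (s.head = ⊥ ∧ s.last = ⊤ ∧
        (∀ i : Fin s.length,
          ShStab.IsPure X (factor s i) n ∧ ShStab.IsMuSemistable k X L (factor s i) n) ∧
        ∀ (i j : Fin s.length), i.val + 1 = j.val →
          ∀ (p q : ℚ[X]), ShStab.IsHilbPoly k X L (factor s i) p →
            ShStab.IsHilbPoly k X L (factor s j) q → hatSlope n q < hatSlope n p) := by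
  constructor
  · rintro ⟨h0, h1, h2, h3⟩
    refine ⟨h0, h1, h2, fun i j hij p q hp hq => ?_⟩
    have := h3 i j hij
    unfold muSlope at this
    rwa [pol_eq k X hp, pol_eq k X hq] at this
  · rintro ⟨h0, h1, h2, h3⟩
    refine ⟨h0, h1, h2, fun i j hij => ?_⟩
    exact h3 i j hij _ _ (ssmu_data k hL (h2 i)).1 (ssmu_data k hL (h2 j)).1

include hL hn hX in
/-- existence and uniqueness of the slope Harder–Narasimhan filtration of a torsion-free module -/
theorem existsUnique_muHN (hE : Coh.IsCoh E) (h0 : ¬ IsZero E) (hp : ShStab.IsPure X E n) :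
    ∃! s : LTSeries (Subobject E),
      s.head = ⊥ ∧ s.last = ⊤ ∧
      (∀ i : Fin s.length,
        ShStab.IsPure X (factor s i) n ∧ ShStab.IsMuSemistable k X L (factor s i) n) ∧
      ∀ (i j : Fin s.length), i.val + 1 = j.val →
        ∀ (p q : ℚ[X]), ShStab.IsHilbPoly k X L (factor s i) p →
          ShStab.IsHilbPoly k X L (factor s j) q → hatSlope n q < hatSlope n p :=
  (existsUnique_congr (fun s => isSlopeHN_iff k hL s)).mp
    (existsUnique_isSlopeHN k hL hn hX hE h0 hp)

end Groth.Agent.Lib.Lead.HilbPos
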