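import Mathlib
import Groth.Agent.Lib.Lead.HilbPos30

/-!
# The Harder–Narasimhan filtration on projective space as a finite chain of subsheaves

`ValidChain n k d C`: the conditions of S14972 on a finite set `C` of subobjects of a coherent sheaf `E` on
`P^n_k`; `existsUnique_validChain`: for `E` coherent, nonzero, pure of dimension `d` there is exactly one.
-/

set_option autoImplicit false
set_option linter.style.haveILetI false
set_option backward.isDefEq.respectTransparency false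
universe u

open CategoryTheory CategoryTheory.Limits AlgebraicGeometry Polynomial StabCat

namespace Groth.Agent.Lib.Lead.HilbPos

variable (n : ℕ) (k : Type u) [Field k] (d : ℕ) {E : (CohB1.ProjSpace n k).Modules}

/-- the conditions of S14972 on a finite chain of subsheaves -/
def ValidChain (C : Finset (Subobject E)) : Prop :=
  ⊥ ∈ C ∧ ⊤ ∈ C ∧ IsChain (fun A B : Subobject E => A ≤ B) (↑C : Set (Subobject E)) ∧
      (∀ A ∈ C, Coh.IsCoh (A : (CohB1.ProjSpace n k).Modules)) ∧
      (∀ A ∈ C, ∀ B ∈ C, ∀ hAB : A < B, (∀ D ∈ C, ¬ (A < D ∧ D < B)) →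
        (topologicalKrullDim ↥(CohB1.support (cokernel (Subobject.ofLE A B hAB.le))) = (d : WithBot ℕ∞) ∧
          ∀ (G : (CohB1.ProjSpace n k).Modules) (ι : G ⟶ (cokernel (Subobject.ofLE A B hAB.le))), Mono ι → Coh.IsCoh G → ¬ IsZero G → topologicalKrullDim ↥(CohB1.support G) = (d : WithBot ℕ∞)) ∧
        (∀ (G : (CohB1.ProjSpace n k).Modules) (ι : G ⟶ (cokernel (Subobject.ofLE A B hAB.le))), Mono ι → Coh.IsCoh G → ¬ IsZero G →
          ∀ φ ψ : Polynomial ℚ, (∀ m : ℤ, (Curv2.euler k (CohB1.ProjSpace n k) (CohB1.tensorMod (cokernel (Subobject.ofLE A B hAB.le)) (Twist.twistProjSpace n k m)) : ℚ) = φ.eval (m : ℚ)) → (∀ m : ℤ, (Curv2.euler k (CohB1.ProjSpace n k) (CohB1.tensorMod G (Twist.twistProjSpace n k m)) : ℚ) = ψ.eval (m : ℚ)) →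
            W4c2simpsonmod1.RedLE d ψ φ)) ∧
      (∀ A ∈ C, ∀ B ∈ C, ∀ B' ∈ C, ∀ hAB : A < B, ∀ hBB : B < B',
        (∀ D ∈ C, ¬ (A < D ∧ D < B)) → (∀ D ∈ C, ¬ (B < D ∧ D < B')) →
        ∀ ψ ψ' : Polynomial ℚ, (∀ m : ℤ, (Curv2.euler k (CohB1.ProjSpace n k) (CohB1.tensorMod (cokernel (Subobject.ofLE A B hAB.le)) (Twist.twistProjSpace n k m)) : ℚ) = ψ.eval (m : ℚ)) →
          (∀ m : ℤ, (Curv2.euler k (CohB1.ProjSpace n k) (CohB1.tensorMod (cokernel (Subobject.ofLE B B' hBB.le)) (Twist.twistProjSpace n k m)) : ℚ) = ψ'.eval (m : ℚ)) →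
          W4c2simpsonmod1.RedLT d ψ' ψ)

variable {n k d}

theorem not_isZero_of_dim {X : Scheme.{u}} [IsNoetherian X] {F : X.Modules}
    (h : topologicalKrullDim (CohB1.support F) = ((d : ℕ) : WithBot ℕ∞)) : ¬ IsZero F :=
  fun h0 => (dim_support_empty_lt h0 d).ne h

/-- the members of a Harder–Narasimhan filtration are coherent -/
theorem isCoh_of_isHNFiltration {X : Scheme.{u}} [X.Over (Spec (CommRingCat.of k))]
    [IsProper (X ↘ Spec (CommRingCat.of k))] {L : X.Modules} {E : X.Modules}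
    (s : LTSeries (Subobject E)) (hs : ShStab.IsHNFiltration k X L E d s)
    (i : Fin (s.length + 1)) : Coh.IsCoh ((s i : Subobject E) : X.Modules) := by
  haveI := Groth.Agent.Lib.Lead.CurveEuler.isNoetherian k X
  induction i using Fin.induction with
  | zero =>
    have h : s 0 = ⊥ := hs.1
    rw [h]
    have hbot : IsZero (((⊥ : Subobject E) : Subobject E) : X.Modules) :=
      (isZero_zero _).of_iso Subobject.botCoeIsoZero
    exact Groth.Agent.Lib.helper7.CohKer.isCoh_of_isZero hbot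
  | succ i ih =>
    have hle : s i.castSucc ≤ s i.succ := le_of_lt (s.step i)
    have hFc : Coh.IsCoh (cokernel (Subobject.ofLE (s i.castSucc) (s i.succ) hle)) :=
      (hs.2.2.1 i).1
    have hSE := Groth.Agent.Lib.helper8.Dev.shortExact_cokernel
      (Subobject.ofLE (s i.castSucc) (s i.succ) hle)
    exact isCoh_of_extension _ hSE ih hFc

theorem validChain_of_isHN (s : LTSeries (Subobject E))
    (hs : ShStab.IsHNFiltration k (CohB1.ProjSpace n k) (Twist.twistProjSpace n k 1) E d s)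
    (C : Finset (Subobject E)) (hC : ∀ x, x ∈ C ↔ ∃ i, s i = x) : ValidChain n k d C := by
  have hL := isAmple_O1 n k
  refine ⟨(hC _).2 ⟨0, hs.1⟩, (hC _).2 ⟨Fin.last _, hs.2.1⟩, ?_, ?_, ?_, ?_⟩
  · intro x hx y hy _
    obtain ⟨i, rfl⟩ := (hC x).1 hx
    obtain ⟨j, rfl⟩ := (hC y).1 hy
    rcases le_total i j with h | h
    · exact Or.inl (s.strictMono.monotone h)
    · exact Or.inr (s.strictMono.monotone h)
  · intro A hA
    obtain ⟨i, rfl⟩ := (hC A).1 hA
    exact isCoh_of_isHNFiltration s hs i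
  · intro A hA B hB hAB hno
    obtain ⟨i, rfl, rfl⟩ := exists_consecutive s ((hC A).1 hA) ((hC B).1 hB) hAB
      (fun D hD => hno D ((hC D).2 hD))
    have hss : ShStab.IsSemistable k (CohB1.ProjSpace n k) (Twist.twistProjSpace n k 1)
        (factor s i) d := hs.2.2.1 i
    refine ⟨⟨dim_support_of_isPure hss.2.2.1 (𝟙 _) hss.1 hss.2.1, hss.2.2.1⟩, ?_⟩
    intro G ι hι hG hG0 φ ψ hφ hψ
    haveI := hι
    have hpφ : ShStab.IsHilbPoly k (CohB1.ProjSpace n k) (Twist.twistProjSpace n k 1)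
        (factor s i) φ := isHilbPoly_of_int n k hφ
    have hpψ := isHilbPoly_of_int n k hψ
    have h1 : RedLE d ψ φ := redLE_of_mono_of_isSemistable k _ hss ι hG hG0 hpψ hpφ
    exact (wRedLE_iff (alpha_pos_of_mono_pure k _ hL hss.2.2.1 ι hG hG0 hpψ)
      (alpha_pos_of_isSemistable k _ hL hss hpφ)).2 h1
  · intro A hA B hB B' hB' hAB hBB hno1 hno2 ψ ψ' hψ hψ'
    obtain ⟨i, rfl, rfl⟩ := exists_consecutive s ((hC A).1 hA) ((hC B).1 hB) hAB
      (fun D hD => hno1 D ((hC D).2 hD))
    obtain ⟨j, hj1, rfl⟩ := exists_consecutive s ((hC _).1 hB) ((hC B').1 hB') hBB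
      (fun D hD => hno2 D ((hC D).2 hD))
    have hij : i.succ = j.castSucc := s.strictMono.injective hj1.symm
    have hv : i.val + 1 = j.val := by
      have := congrArg Fin.val hij
      simpa using this
    have hpψ : ShStab.IsHilbPoly k (CohB1.ProjSpace n k) (Twist.twistProjSpace n k 1)
        (factor s i) ψ := isHilbPoly_of_int n k hψ
    have hpψ' : ShStab.IsHilbPoly k (CohB1.ProjSpace n k) (Twist.twistProjSpace n k 1)
        (factor s j) ψ' := by
      have key : ∀ (x : Fin (s.length + 1)) (_ : x = j.castSucc) (hlt : s x < s j.succ),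
          (∀ m : ℤ, (Curv2.euler k (CohB1.ProjSpace n k) (CohB1.tensorMod
            (cokernel (Subobject.ofLE (s x) (s j.succ) hlt.le))
            (Twist.twistProjSpace n k m)) : ℚ) = ψ'.eval (m : ℚ)) →
          ShStab.IsHilbPoly k (CohB1.ProjSpace n k) (Twist.twistProjSpace n k 1)
            (factor s j) ψ' := by
        intro x hx hlt h
        subst hx
        exact isHilbPoly_of_int n k h
      exact key _ hij hBB hψ'
    have h2 := hs.2.2.2 i j hv ψ ψ' hpψ hpψ'
    exact (wRedLT_iff (alpha_pos_of_isSemistable k _ hL (hs.2.2.1 j) hpψ')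
      (alpha_pos_of_isSemistable k _ hL (hs.2.2.1 i) hpψ)).2 h2

theorem isHN_of_validChain (C : Finset (Subobject E)) (hv : ValidChain n k d C)
    (s : LTSeries (Subobject E)) (hC : ∀ x, x ∈ C ↔ ∃ i, s i = x) :
    ShStab.IsHNFiltration k (CohB1.ProjSpace n k) (Twist.twistProjSpace n k 1) E d s := by
  haveI := Groth.Agent.Lib.Lead.CurveEuler.isNoetherian k (CohB1.ProjSpace n k)
  have hL := isAmple_O1 n k
  obtain ⟨hbot, htop, -, hcoh, hfac, hlt⟩ := hv
  have mem : ∀ i, s i ∈ C := fun i => (hC _).2 ⟨i, rfl⟩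
  have hnb : ∀ (i : Fin s.length), ∀ D ∈ C, ¬ (s i.castSucc < D ∧ D < s i.succ) :=
    fun i D hD => no_between_consecutive s i D ((hC D).1 hD)
  have hss : ∀ i : Fin s.length, ShStab.IsSemistable k (CohB1.ProjSpace n k)
      (Twist.twistProjSpace n k 1) (factor s i) d := by
    intro i
    obtain ⟨⟨hdim, hpure⟩, hsemi⟩ := hfac (s i.castSucc) (mem _) (s i.succ) (mem _) (s.step i)
      (hnb i)
    have hc : Coh.IsCoh (factor s i) :=
      Groth.Agent.Lib.helper7.CohKer.isCoh_cokernel (hcoh _ (mem _)) (hcoh _ (mem _)) _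
    refine ⟨hc, not_isZero_of_dim hdim, hpure, ?_⟩
    intro F ι hι hF hF0 _ pF pE hpF hpE
    haveI := hι
    have h1 := hsemi F ι hι hF hF0 pE pF (int_of_isHilbPoly n k hc hpE)
      (int_of_isHilbPoly n k hF hpF)
    exact (wRedLE_iff (alpha_pos_of_mono_pure k _ hL hpure ι hF hF0 hpF)
      (alpha_pos k _ hL hc d hdim hpE)).1 h1
  refine ⟨?_, ?_, hss, ?_⟩
  · obtain ⟨i, hi⟩ := (hC ⊥).1 hbot
    have h : s.head ≤ s i := s.strictMono.monotone (Fin.zero_le i)
    rw [hi] at h
    exact le_bot_iff.1 h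
  · obtain ⟨i, hi⟩ := (hC ⊤).1 htop
    have h : s i ≤ s.last := s.strictMono.monotone (Fin.le_last i)
    rw [hi] at h
    exact top_le_iff.1 h
  · intro i j hij p q hp' hq'
    have hsucc : i.succ = j.castSucc := Fin.ext (by simp [hij])
    have hBB : s i.succ < s j.succ := by rw [hsucc]; exact s.step j
    have hq'' : ∀ m : ℤ, (Curv2.euler k (CohB1.ProjSpace n k) (CohB1.tensorMod
        (cokernel (Subobject.ofLE (s i.succ) (s j.succ) hBB.le))
        (Twist.twistProjSpace n k m)) : ℚ) = q.eval (m : ℚ) := by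
      have key : ∀ (x : Fin (s.length + 1)) (_ : x = j.castSucc) (hlt : s x < s j.succ) (m : ℤ),
          (Curv2.euler k (CohB1.ProjSpace n k) (CohB1.tensorMod
            (cokernel (Subobject.ofLE (s x) (s j.succ) hlt.le))
            (Twist.twistProjSpace n k m)) : ℚ) = q.eval (m : ℚ) := by
        intro x hx hlt m
        subst hx
        exact int_of_isHilbPoly n k (hss j).1 hq' m
      exact key _ hsucc hBB
    have h2 := hlt (s i.castSucc) (mem _) (s i.succ) (mem _) (s j.succ) (mem _) (s.step i) hBB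
      (hnb i) (fun D hD h => hnb j D hD (by rw [← hsucc]; exact h)) p q
      (int_of_isHilbPoly n k (hss i).1 hp') hq''
    exact (wRedLT_iff (alpha_pos_of_isSemistable k _ hL (hss j) hq')
      (alpha_pos_of_isSemistable k _ hL (hss i) hp')).1 h2

variable (n k d)

theorem existsUnique_validChain (hE : Coh.IsCoh E) (h0 : ¬ IsZero E)
    (hp : ShStab.IsPure (CohB1.ProjSpace n k) E d) :
    ∃! C : Finset (Subobject E), ValidChain n k d C := by
  classical
  have hL := isAmple_O1 n k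
  obtain ⟨s₀, hs₀, -⟩ := existsUnique_isHNFiltration k hL hE h0 hp
  refine ⟨Finset.univ.image s₀, validChain_of_isHN s₀ hs₀ _ (fun x => by simp), ?_⟩
  intro C hC
  obtain ⟨s, hs⟩ := exists_ltSeries_of_chain C ⟨⊥, hC.1⟩ hC.2.2.1
  have hHN := isHN_of_validChain C hC s hs
  have : s = s₀ := hn_unique k hL hHN hs₀
  subst this
  ext x
  rw [hs x]
  simp

end Groth.Agent.Lib.Lead.HilbPos
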