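import Mathlib
import Groth.Agent.Lib.Lead.HilbPos25

/-!
# The minimal `ℓ`-destabilizing quotient

* `redLE_quot_of_isEllSemistable`: quotients of an `ℓ`-semistable module have larger reduced truncated
  Hilbert polynomial.
* `GoodQ`: all coherent quotients have reduced truncated polynomial `≥ P` (strictly if of dimension `d`);
  closed under extensions (`goodQ_of_extension`), holds for `ℓ`-semistable modules with larger
  polynomial (`goodQ_of_isEllSemistable`).
* `exists_iso_lastFactor`: the last factor of an `ℓ`-Harder–Narasimhan filtration is the unique pure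
  quotient with its multiplicity and reduced truncated polynomial.
-/

set_option autoImplicit false
set_option linter.style.haveILetI false
set_option backward.isDefEq.respectTransparency false
universe u

open CategoryTheory CategoryTheory.Limits AlgebraicGeometry Polynomial StabCat

namespace Groth.Agent.Lib.Lead.HilbPos

open Scheme.Modules

section Poly

theorem topPart_add (ℓ d : ℕ) (P Q : ℚ[X]) :
    topPart ℓ d (P + Q) = topPart ℓ d P + topPart ℓ d Q := by
  ext i
  simp only [coeff_topPart, coeff_add]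
  split_ifs <;> simp

theorem topPart_zero (ℓ d : ℕ) : topPart ℓ d (0 : ℚ[X]) = 0 := by
  ext i
  simp [coeff_topPart]

theorem redLE_add_right {d : ℕ} {P Q₁ Q₂ : ℚ[X]} (h1 : RedLE d P Q₁) (h2 : RedLE d P Q₂) :
    RedLE d P (Q₁ + Q₂) := by
  obtain ⟨N, hN⟩ := h1
  obtain ⟨N', hN'⟩ := h2
  refine ⟨max N N', fun m hm => ?_⟩
  have a := hN m ((le_max_left _ _).trans hm)
  have b := hN' m ((le_max_right _ _).trans hm)
  simp only [eval_smul, smul_eq_mul, alpha_add, eval_add] at a b ⊢
  nlinarith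

theorem redLT_add_right {d : ℕ} {P Q₁ Q₂ : ℚ[X]} (h1 : RedLT d P Q₁) (h2 : RedLE d P Q₂) :
    RedLT d P (Q₁ + Q₂) := by
  obtain ⟨N, hN⟩ := h1
  obtain ⟨N', hN'⟩ := h2
  refine ⟨max N N', fun m hm => ?_⟩
  have a := hN m ((le_max_left _ _).trans hm)
  have b := hN' m ((le_max_right _ _).trans hm)
  simp only [eval_smul, smul_eq_mul, alpha_add, eval_add] at a b ⊢
  nlinarith

theorem redLT_add_right' {d : ℕ} {P Q₁ Q₂ : ℚ[X]} (h1 : RedLE d P Q₁) (h2 : RedLT d P Q₂) :
    RedLT d P (Q₁ + Q₂) := by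
  rw [add_comm]
  exact redLT_add_right h2 h1

theorem redLE_zero_right (d : ℕ) (P : ℚ[X]) : RedLE d P 0 :=
  ⟨0, fun m _ => by simp [alpha_zero]⟩

theorem redLE_of_alpha_zero {d : ℕ} {P Q : ℚ[X]} (hQ : alpha d Q = 0) (hP : 0 ≤ alpha d P)
    (h : EvNonneg Q) : RedLE d P Q := by
  obtain ⟨N, hN⟩ := h
  refine ⟨N, fun m hm => ?_⟩
  simp only [eval_smul, smul_eq_mul, hQ, zero_mul]
  exact mul_nonneg hP (hN m hm)

end Poly

variable (k : Type u) [Field k] {X : Scheme.{u}} [X.Over (Spec (CommRingCat.of k))]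
  [IsProper (X ↘ Spec (CommRingCat.of k))]

variable {L : X.Modules} (hL : CohB1.IsAmple L) {d ℓ : ℕ}

include hL in
theorem alpha_nonneg {F : X.Modules} (hF : Coh.IsCoh F)
    (hd : topologicalKrullDim (CohB1.support F) ≤ ((d : ℕ) : WithBot ℕ∞)) {p : ℚ[X]}
    (hp : ShStab.IsHilbPoly k X L F p) : 0 ≤ alpha d p := by
  unfold alpha
  exact mul_nonneg (by positivity) (coeff_nonneg k X hL hF d hd hp)

theorem isEllSemistable_of_iso {F G : X.Modules} (e : F ≅ G)
    (hF : ShStab.IsEllSemistable k X L F d ℓ) : ShStab.IsEllSemistable k X L G d ℓ := by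
  haveI := Groth.Agent.Lib.Lead.CurveEuler.isNoetherian k X
  refine ⟨Groth.Agent.Lib.helper7.CohKer.isCoh_of_iso e hF.1,
    fun h => hF.2.1 (h.of_iso e), isPure_of_iso e hF.2.2.1, ?_⟩
  intro H ι hι hH pH pG hpH hpG a1 a2
  haveI := hι
  exact hF.2.2.2 H (ι ≫ e.inv) (mono_comp _ _) hH pH pG hpH (isHilbPoly_of_iso k X e.symm hpG) a1 a2

include hL in
/-- quotients of an `ℓ`-semistable module -/
theorem redLE_quot_of_isEllSemistable {M : X.Modules} (hM : ShStab.IsEllSemistable k X L M d ℓ)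
    {I : X.Modules} (π : M ⟶ I) [Epi π] (hI : Coh.IsCoh I) {pM pI : ℚ[X]}
    (hpM : ShStab.IsHilbPoly k X L M pM) (hpI : ShStab.IsHilbPoly k X L I pI) :
    RedLE d (topPart ℓ d pM) (topPart ℓ d pI) := by
  haveI := Groth.Agent.Lib.Lead.CurveEuler.isNoetherian k X
  obtain ⟨hMc, hM0, hMp, hss⟩ := hM
  have hKc : Coh.IsCoh (kernel π) := isCoh_kernel k X hMc hI π
  have hSE := shortExact_kernel_epi π
  obtain ⟨pK, hpK⟩ := exists_isHilbPoly_of_mono_pure k X hL.1 hMp (kernel.ι π) hKc
  have hsum : pM = pK + pI :=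
    isHilbPoly_unique k X hpM (isHilbPoly_add k X hL.1 _ hSE hKc hI hpK hpI)
  have hdimM : topologicalKrullDim (CohB1.support M) = ((d : ℕ) : WithBot ℕ∞) :=
    hMp M (𝟙 M) inferInstance hMc hM0
  have hdM : pM.natDegree ≤ d := natDegree_le k X hL.1 hMc d hdimM.le hpM
  have hdK : pK.natDegree ≤ d :=
    natDegree_le k X hL.1 hKc d (dim_support_le_of_mono_pure hMp (kernel.ι π) hKc) hpK
  have hdI : pI.natDegree ≤ d := by
    have h : pI = pM - pK := by rw [hsum]; ring
    rw [h]
    exact (natDegree_sub_le _ _).trans (max_le hdM hdK)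
  have hevI : EvNonneg pI := evNonneg_of_isHilbPoly k X hL hI hpI
  have hdimI : topologicalKrullDim (CohB1.support I) ≤ ((d : ℕ) : WithBot ℕ∞) :=
    (Groth.Agent.Lib.helper8.DimLt.topologicalKrullDim_le_of_subset
      (Groth.Agent.Lib.helper8.Dev.support_subset_of_epi π hMc hI)).trans hdimM.le
  by_cases hK0 : IsZero (kernel π)
  · have h : pK = 0 := isHilbPoly_unique k X hpK (isHilbPoly_zero_of_isZero k X hK0)
    rw [hsum, h, zero_add]
    exact redLE_refl d _
  · have aK : 0 < alpha d pK := alpha_pos_of_mono_pure k X hL hMp (kernel.ι π) hKc hK0 hpK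
    have aI : 0 ≤ alpha d pI := alpha_nonneg k hL hI hdimI hpI
    have haM : alpha d pM = alpha d pK + alpha d pI := by rw [hsum, alpha_add]
    rcases lt_or_eq_of_le aI with hpos | hzero
    · have h1 := hss (kernel π) (kernel.ι π) inferInstance hKc pK pM hpK hpM aK (by linarith)
      rw [hsum, topPart_add] at h1 ⊢
      exact redLE_quot h1
    · refine redLE_of_alpha_zero (by rw [alpha_topPart]; exact hzero.symm)
        (by rw [alpha_topPart]; linarith) (evNonneg_topPart ℓ d hdI hevI)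

variable (L d ℓ) in
/-- all coherent quotients have reduced truncated polynomial at least `P` -/
def GoodQ (P : ℚ[X]) (M : X.Modules) : Prop :=
  ∀ (I : X.Modules) (π : M ⟶ I), Epi π → Coh.IsCoh I → ∀ pI : ℚ[X],
    ShStab.IsHilbPoly k X L I pI →
      RedLE d P (topPart ℓ d pI) ∧ (0 < alpha d pI → RedLT d P (topPart ℓ d pI))

theorem goodQ_of_isZero {P : ℚ[X]} {M : X.Modules} (hM : IsZero M) : GoodQ k L d ℓ P M := by
  intro I π hπ hI pI hpI
  haveI := hπ
  have hI0 : IsZero I := isZero_of_epi_zero π (hM.eq_of_src _ _)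
  have h : pI = 0 := isHilbPoly_unique k X hpI (isHilbPoly_zero_of_isZero k X hI0)
  subst h
  rw [topPart_zero]
  exact ⟨redLE_zero_right d P, fun h => absurd h (by rw [alpha_zero]; exact lt_irrefl _)⟩

include hL in
theorem goodQ_of_isEllSemistable {P : ℚ[X]} (hP : 0 ≤ alpha d P) {M : X.Modules}
    (hM : ShStab.IsEllSemistable k X L M d ℓ) {pM : ℚ[X]} (hpM : ShStab.IsHilbPoly k X L M pM)
    (hlt : RedLT d P (topPart ℓ d pM)) : GoodQ k L d ℓ P M := by
  intro I π hπ hI pI hpI
  haveI := hπ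
  haveI := Groth.Agent.Lib.Lead.CurveEuler.isNoetherian k X
  have h1 := redLE_quot_of_isEllSemistable k hL hM π hI hpM hpI
  have aM : 0 < alpha d (topPart ℓ d pM) := by
    rw [alpha_topPart]
    exact alpha_pos_of_mono_pure k X hL hM.2.2.1 (𝟙 M) hM.1 hM.2.1 hpM
  have hdimM : topologicalKrullDim (CohB1.support M) = ((d : ℕ) : WithBot ℕ∞) :=
    hM.2.2.1 M (𝟙 M) inferInstance hM.1 hM.2.1
  have hdimI : topologicalKrullDim (CohB1.support I) ≤ ((d : ℕ) : WithBot ℕ∞) :=
    (Groth.Agent.Lib.helper8.DimLt.topologicalKrullDim_le_of_subset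
      (Groth.Agent.Lib.helper8.Dev.support_subset_of_epi π hM.1 hI)).trans hdimM.le
  have aI : 0 ≤ alpha d pI := alpha_nonneg k hL hI hdimI hpI
  exact ⟨redLE_trans hP aM (by rw [alpha_topPart]; exact aI) (redLE_of_redLT hlt) h1,
    fun hpos => redLT_of_redLT_of_redLE hP aM (by rw [alpha_topPart]; exact hpos) hlt h1⟩

include hL in
theorem goodQ_of_extension {P : ℚ[X]} (T : ShortComplex X.Modules) (hT : T.ShortExact)
    (h₁ : Coh.IsCoh T.X₁) (h₂ : Coh.IsCoh T.X₂)
    (hd : topologicalKrullDim (CohB1.support T.X₂) ≤ ((d : ℕ) : WithBot ℕ∞))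
    (g₁ : GoodQ k L d ℓ P T.X₁) (g₃ : GoodQ k L d ℓ P T.X₃) : GoodQ k L d ℓ P T.X₂ := by
  intro I π hπ hI pI hpI
  haveI := hπ
  haveI := Groth.Agent.Lib.Lead.CurveEuler.isNoetherian k X
  have hI'c : Coh.IsCoh (Abelian.image (T.f ≫ π)) := isCoh_image k X h₁ hI (T.f ≫ π)
  have hI''c : Coh.IsCoh (cokernel (T.f ≫ π)) :=
    Groth.Agent.Lib.helper7.CohKer.isCoh_cokernel h₁ hI (T.f ≫ π)
  have hdI : topologicalKrullDim (CohB1.support I) ≤ ((d : ℕ) : WithBot ℕ∞) :=
    (Groth.Agent.Lib.helper8.DimLt.topologicalKrullDim_le_of_subset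
      (Groth.Agent.Lib.helper8.Dev.support_subset_of_epi π h₂ hI)).trans hd
  have hdI' : topologicalKrullDim (CohB1.support (Abelian.image (T.f ≫ π))) ≤
      ((d : ℕ) : WithBot ℕ∞) :=
    (Groth.Agent.Lib.helper8.DimLt.topologicalKrullDim_le_of_subset
      (Groth.Agent.Lib.helper8.Dev.support_subset_of_mono (Abelian.image.ι (T.f ≫ π))
        hI'c hI)).trans hdI
  have hdI'' : topologicalKrullDim (CohB1.support (cokernel (T.f ≫ π))) ≤
      ((d : ℕ) : WithBot ℕ∞) :=
    (Groth.Agent.Lib.helper8.DimLt.topologicalKrullDim_le_of_subset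
      (Groth.Agent.Lib.helper8.Dev.support_subset_of_epi (cokernel.π (T.f ≫ π))
        hI hI''c)).trans hdI
  obtain ⟨p', hp', -⟩ := exists_isHilbPoly k X hL.1 hI'c d hdI'
  obtain ⟨p'', hp'', -⟩ := exists_isHilbPoly k X hL.1 hI''c d hdI''
  have hsum : pI = p' + p'' :=
    isHilbPoly_unique k X hpI (isHilbPoly_add k X hL.1 _ (shortExact_image_cokernel (T.f ≫ π))
      hI'c hI''c hp' hp'')
  obtain ⟨r1, s1⟩ := g₁ _ (Abelian.factorThruImage (T.f ≫ π)) inferInstance hI'c p' hp'
  have hz : T.f ≫ (π ≫ cokernel.π (T.f ≫ π)) = 0 := by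
    rw [← Category.assoc]; exact cokernel.condition _
  haveI := hT.epi_g
  have hfac : T.g ≫ hT.exact.desc _ hz = π ≫ cokernel.π (T.f ≫ π) := hT.exact.g_desc _ hz
  haveI : Epi (T.g ≫ hT.exact.desc _ hz) := by rw [hfac]; infer_instance
  haveI : Epi (hT.exact.desc _ hz) := epi_of_epi T.g _
  obtain ⟨r3, s3⟩ := g₃ _ (hT.exact.desc _ hz) inferInstance hI''c p'' hp''
  have a' : 0 ≤ alpha d p' := alpha_nonneg k hL hI'c hdI' hp'
  have a'' : 0 ≤ alpha d p'' := alpha_nonneg k hL hI''c hdI'' hp''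
  rw [hsum, topPart_add]
  refine ⟨redLE_add_right r1 r3, fun hpos => ?_⟩
  rw [alpha_add] at hpos
  by_cases h' : 0 < alpha d p'
  · exact redLT_add_right (s1 h') r3
  · have h'' : 0 < alpha d p'' := by linarith
    exact redLT_add_right' r1 (s3 h'')

section Abelian

variable {C : Type*} [Category C] [Abelian C] {E : C}

theorem isZero_of_bot_eq_top (h : (⊥ : Subobject E) = ⊤) : IsZero E := by
  have h1 : (⊤ : Subobject E).arrow = 0 := by rw [← h]; exact Subobject.bot_arrow
  rw [IsZero.iff_id_eq_zero, ← cancel_epi (⊤ : Subobject E).arrow, Category.comp_id,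
    Limits.comp_zero]
  exact h1

/-- `⊤/A ≅ E/A` -/
noncomputable def cokernelOfLETopIso (A : Subobject E) :
    cokernel (Subobject.ofLE A ⊤ le_top) ≅ cokernel A.arrow :=
  (cokernelCompIsIso (Subobject.ofLE A ⊤ le_top) (⊤ : Subobject E).arrow).symm ≪≫
    cokernelIsoOfEq (Subobject.ofLE_arrow le_top)

end Abelian

include hL in
/-- the last factor of an `ℓ`-Harder–Narasimhan filtration is the unique pure quotient with its
multiplicity and reduced truncated Hilbert polynomial -/
theorem exists_iso_lastFactor {E : X.Modules} (hE : Coh.IsCoh E) (h0 : ¬ IsZero E)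
    (hp : ShStab.IsPure X E d) (s : LTSeries (Subobject E))
    (hs : StabCat.IsHNWith (fun G => ShStab.IsEllSemistable k X L G d ℓ)
      (fun G P => ∃ Q : Polynomial ℚ, ShStab.IsHilbPoly k X L G Q ∧ P = StabCat.topPart ℓ d Q) d E s)
    (G : X.Modules) (q : E ⟶ G) [Epi q] (hG : Coh.IsCoh G) (hG0 : ¬ IsZero G)
    (hGp : ShStab.IsPure X G d) (pF pG : ℚ[X])
    (hpF : ShStab.IsHilbPoly k X L (cokernel s.eraseLast.last.arrow) pF)
    (hpG : ShStab.IsHilbPoly k X L G pG) (hα : StabCat.alpha d pF = StabCat.alpha d pG)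
    (hred : StabCat.RedEq d (StabCat.topPart ℓ d pF) (StabCat.topPart ℓ d pG)) :
    ∃ φ : (cokernel s.eraseLast.last.arrow) ≅ G,
      cokernel.π s.eraseLast.last.arrow ≫ φ.hom = q := by
  haveI := Groth.Agent.Lib.Lead.CurveEuler.isNoetherian k X
  have hs' := hs
  obtain ⟨hhead, hlast, hfac, hdec⟩ := hs
  -- the filtration is not trivial
  have hm : s.length ≠ 0 := by
    intro hm0
    apply h0
    apply isZero_of_bot_eq_top
    rw [← hhead, ← hlast]
    show s 0 = s (Fin.last s.length)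
    congr 1
    exact Fin.ext (by simp [hm0])
  have hm1 : s.length - 1 < s.length := by omega
  set li : Fin s.length := ⟨s.length - 1, hm1⟩ with hli
  set A : Subobject E := s.eraseLast.last with hA
  have hAeq : s li.castSucc = A := by
    rw [hA, RelSeries.last_eraseLast]
    congr 1
  have hBeq : s li.succ = ⊤ := by
    rw [← hlast]
    show s li.succ = s (Fin.last s.length)
    congr 1
    exact Fin.ext (by simp [hli]; omega)
  -- the last factor
  let e : factor s li ≅ cokernel A.arrow :=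
    factorIso s li hAeq hBeq le_top ≪≫ cokernelOfLETopIso A
  have hF : ShStab.IsEllSemistable k X L (cokernel A.arrow) d ℓ :=
    isEllSemistable_of_iso k e (hfac li)
  have hFc := hF.1
  have hFp := hF.2.2.1
  -- polynomials of the factors
  have hex : ∀ a : Fin s.length, ∃ Q : ℚ[X], ShStab.IsHilbPoly k X L (factor s a) Q := fun a =>
    exists_isHilbPoly_of_mono_pure k X hL.1 (hfac a).2.2.1 (𝟙 _) (hfac a).1
  let Pf : Fin s.length → ℚ[X] := fun a => topPart ℓ d (pol k X L (factor s a))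
  have hPf : ∀ a, (fun G P => ∃ Q : Polynomial ℚ, ShStab.IsHilbPoly k X L G Q ∧
      P = StabCat.topPart ℓ d Q) (factor s a) (Pf a) :=
    fun a => ⟨_, isHilbPoly_pol k X (hex a), rfl⟩
  have hαf : ∀ a, 0 < alpha d (Pf a) := by
    intro a
    show 0 < alpha d (topPart ℓ d (pol k X L (factor s a)))
    rw [alpha_topPart]
    exact alpha_pos_of_mono_pure k X hL (hfac a).2.2.1 (𝟙 _) (hfac a).1 (hfac a).2.1
      (isHilbPoly_pol k X (hex a))
  have hPli : Pf li = topPart ℓ d pF := by
    show topPart ℓ d (pol k X L (factor s li)) = _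
    rw [pol_eq k X (isHilbPoly_of_iso k X e.symm hpF)]
  have hαP : 0 < alpha d (topPart ℓ d pF) := by rw [← hPli]; exact hαf li
  -- induction along the chain
  have key : ∀ i : Fin (s.length + 1), Coh.IsCoh ((s i : Subobject E) : X.Modules) ∧
      (i.val ≤ s.length - 1 → GoodQ k L d ℓ (topPart ℓ d pF) ((s i : Subobject E) : X.Modules)) := by
    intro i
    induction i using Fin.induction with
    | zero =>
      have h : s 0 = ⊥ := hhead
      rw [h]
      have hbot : IsZero (((⊥ : Subobject E) : Subobject E) : X.Modules) :=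
        (isZero_zero _).of_iso Subobject.botCoeIsoZero
      exact ⟨Groth.Agent.Lib.helper7.CohKer.isCoh_of_isZero hbot, fun _ => goodQ_of_isZero k hbot⟩
    | succ i ih =>
      have hle : s i.castSucc ≤ s i.succ := le_of_lt (s.step i)
      have hFc' : Coh.IsCoh (cokernel (Subobject.ofLE (s i.castSucc) (s i.succ) hle)) := (hfac i).1
      have hSE := Groth.Agent.Lib.helper8.Dev.shortExact_cokernel
        (Subobject.ofLE (s i.castSucc) (s i.succ) hle)
      have hc : Coh.IsCoh (((s i.succ : Subobject E)) : X.Modules) :=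
        isCoh_of_extension _ hSE ih.1 hFc'
      refine ⟨hc, fun hi => ?_⟩
      have hi' : i.val + 1 ≤ s.length - 1 := by simpa using hi
      have hlt : i < li := by
        show i.val < s.length - 1
        omega
      have h1 : RedLT d (Pf li) (Pf i) :=
        redLT_of_lt_of_isHNWith hs' Pf hPf hαf i li hlt
      rw [hPli] at h1
      have g3 : GoodQ k L d ℓ (topPart ℓ d pF) (factor s i) :=
        goodQ_of_isEllSemistable k hL hαP.le (hfac i) (isHilbPoly_pol k X (hex i)) h1
      exact goodQ_of_extension k hL _ hSE ih.1 hc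
        (dim_support_le_of_mono_pure hp (s i.succ).arrow hc)
        (ih.2 (by simp; omega)) g3
  obtain ⟨hAc, hAg⟩ := key li.castSucc
  rw [hAeq] at hAc hAg
  have hAg' : GoodQ k L d ℓ (topPart ℓ d pF) ((A : Subobject E) : X.Modules) := hAg (by simp [hli])
  -- the composite `A → E → G` vanishes
  have ha0 : A.arrow ≫ q = 0 := by
    by_contra hne
    have hIc : Coh.IsCoh (Abelian.image (A.arrow ≫ q)) := isCoh_image k X hAc hG _
    have hI0 : ¬ IsZero (Abelian.image (A.arrow ≫ q)) := not_isZero_image _ hne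
    obtain ⟨pI, hpI⟩ := exists_isHilbPoly_of_mono_pure k X hL.1 hGp
      (Abelian.image.ι (A.arrow ≫ q)) hIc
    have aI : 0 < alpha d pI :=
      alpha_pos_of_mono_pure k X hL hGp (Abelian.image.ι (A.arrow ≫ q)) hIc hI0 hpI
    have h1 : RedLT d (topPart ℓ d pF) (topPart ℓ d pI) :=
      (hAg' _ (Abelian.factorThruImage (A.arrow ≫ q)) inferInstance hIc pI hpI).2 aI
    -- the quotient `G/I`
    have hQc : Coh.IsCoh (cokernel (A.arrow ≫ q)) :=
      Groth.Agent.Lib.helper7.CohKer.isCoh_cokernel hAc hG _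
    have hdimG : topologicalKrullDim (CohB1.support G) = ((d : ℕ) : WithBot ℕ∞) :=
      hGp G (𝟙 G) inferInstance hG hG0
    have hdQ : topologicalKrullDim (CohB1.support (cokernel (A.arrow ≫ q))) ≤
        ((d : ℕ) : WithBot ℕ∞) :=
      (Groth.Agent.Lib.helper8.DimLt.topologicalKrullDim_le_of_subset
        (Groth.Agent.Lib.helper8.Dev.support_subset_of_epi (cokernel.π (A.arrow ≫ q))
          hG hQc)).trans hdimG.le
    obtain ⟨pQ, hpQ, -⟩ := exists_isHilbPoly k X hL.1 hQc d hdQ
    have hz : A.arrow ≫ (q ≫ cokernel.π (A.arrow ≫ q)) = 0 := by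
      rw [← Category.assoc]; exact cokernel.condition _
    have hfac' : cokernel.π A.arrow ≫ cokernel.desc A.arrow _ hz =
        q ≫ cokernel.π (A.arrow ≫ q) := cokernel.π_desc _ _ _
    haveI : Epi (cokernel.π A.arrow ≫ cokernel.desc A.arrow _ hz) := by
      rw [hfac']; infer_instance
    haveI : Epi (cokernel.desc A.arrow _ hz) := epi_of_epi (cokernel.π A.arrow) _
    have h2 : RedLE d (topPart ℓ d pF) (topPart ℓ d pQ) :=
      redLE_quot_of_isEllSemistable k hL hF (cokernel.desc A.arrow _ hz) hQc hpF hpQ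
    have hsum : pG = pI + pQ :=
      isHilbPoly_unique k X hpG (isHilbPoly_add k X hL.1 _
        (shortExact_image_cokernel (A.arrow ≫ q)) hIc hQc hpI hpQ)
    have h3 : RedLT d (topPart ℓ d pF) (topPart ℓ d pG) := by
      rw [hsum, topPart_add]
      exact redLT_add_right h1 h2
    exact not_redLT_of_redEq h3 hred
  -- the induced epimorphism `F → G` is an isomorphism
  have hπφ : cokernel.π A.arrow ≫ cokernel.desc A.arrow q ha0 = q := cokernel.π_desc _ _ _
  haveI : Epi (cokernel.π A.arrow ≫ cokernel.desc A.arrow q ha0) := by rw [hπφ]; infer_instance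
  haveI : Epi (cokernel.desc A.arrow q ha0) := epi_of_epi (cokernel.π A.arrow) _
  have hKc : Coh.IsCoh (kernel (cokernel.desc A.arrow q ha0)) := isCoh_kernel k X hFc hG _
  have hK0 : IsZero (kernel (cokernel.desc A.arrow q ha0)) := by
    by_contra hne
    obtain ⟨pK, hpK⟩ := exists_isHilbPoly_of_mono_pure k X hL.1 hFp
      (kernel.ι (cokernel.desc A.arrow q ha0)) hKc
    have aK : 0 < alpha d pK :=
      alpha_pos_of_mono_pure k X hL hFp (kernel.ι (cokernel.desc A.arrow q ha0)) hKc hne hpK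
    have hsum : pF = pK + pG :=
      isHilbPoly_unique k X hpF (isHilbPoly_add k X hL.1 _
        (shortExact_kernel_epi (cokernel.desc A.arrow q ha0)) hKc hG hpK hpG)
    rw [hsum, alpha_add] at hα
    linarith
  haveI : IsIso (cokernel.desc A.arrow q ha0) := isIso_of_epi_of_isZero_kernel _ hK0
  exact ⟨asIso (cokernel.desc A.arrow q ha0), hπφ⟩

end Groth.Agent.Lib.Lead.HilbPos
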