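import Mathlib
import Groth.Agent.Lib.Lead.HilbPos30
import Groth.Agent.Lib.Lead.HilbPos9
import Groth.Agent.Lib.Lead.HilbPos8
import Groth.Agent.Lib.Lead.ProjectiveCoh
import Groth.Agent.Lib.Helper7.SnapperHilb
import Groth.Agent.Lib.Helper18.DegTensor
import Groth.Agent.Lib.Helper16.FLF5

/-!
# Hilbert polynomials on closed subschemes of `P^N_k` with integer twists; `ℓ`-stable ⇒ simple (lead)

`ι : X ⟶ P^N_k` a closed immersion over `k`, `L = ι^*O(1)`.

* `isAmple_LO1`: `ι^*O(1)` is ample.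
* `twistOnNatIso`: `Pic13.twistOn k ι F j ≅ ShStab.twist X (ι^*O(1)) F j` for `j : ℕ`.
* `exists_int_hilbPoly`: for coherent `F` there is `Q` with `χ(F ⊗ ι^*O(m)) = Q(m)` for ALL integers `m`,
  which is the Hilbert polynomial of `F` with respect to `ι^*O(1)`.
* `lex_contra`: (polynomials) the normalised coefficient vectors of `pK` and `pI` cannot both be
  lexicographically smaller than that of `pK + pI`.
* `isIso_of_ne_zero_of_lex`: a nonzero endomorphism of a pure module which is stable in the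
  lexicographic sense is an isomorphism.
-/

set_option autoImplicit false
set_option backward.isDefEq.respectTransparency false
set_option linter.style.haveILetI false
set_option linter.unusedSectionVars false
universe u

open CategoryTheory CategoryTheory.Limits AlgebraicGeometry Polynomial StabCat

namespace Groth.Agent.Lib.Lead.HilbPos

section ClosedPn

variable (k : Type u) [Field k] {N : ℕ} {X : Scheme.{u}} [X.Over (Spec (CommRingCat.of k))]
  (ι : X ⟶ CohB1.ProjSpace N k) [IsClosedImmersion ι]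

/-- `ι^*O(1)` -/
noncomputable abbrev LO1 : X.Modules :=
  (Scheme.Modules.pullback ι).obj (Twist.twistProjSpace N k 1)

theorem isAmple_LO1 : CohB1.IsAmple (LO1 k ι) :=
  Groth.Agent.Lib.helper12.PullAmple.isAmple_pullback_of_isAffineHom ι (isAmple_O1 N k)

/-- `F ⊗ ι^*O(j) ≅ F ⊗ (ι^*O(1))^{⊗ j}` -/
noncomputable def twistOnNatIso (F : X.Modules) (j : ℕ) :
    Pic13.twistOn k ι F (j : ℤ) ≅ ShStab.twist X (LO1 k ι) F j :=
  Groth.Agent.Lib.Lead.ModTensor.tensorIso (Iso.refl F)
    (Groth.Agent.Lib.helper7.SnapperHilb.powIso k ι j)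

variable (hι : ι ≫ CohB1.ProjSpace.toSpec N k = X ↘ Spec (CommRingCat.of k))

include hι in
theorem exists_int_hilbPoly (F : X.Modules) (hF : Coh.IsCoh F) :
    ∃ Q : ℚ[X], (∀ m : ℤ, (Curv2.euler k X (Pic13.twistOn k ι F m) : ℚ) = Q.eval (m : ℚ)) ∧
      ShStab.IsHilbPoly k X (LO1 k ι) F Q := by
  haveI : F.IsQuasicoherent := hF.1
  have hpush : Coh.IsCoh ((Scheme.Modules.pushforward ι).obj F) :=
    Groth.Agent.Lib.Lead.ProjectiveCoh.isCoh_push ι hF
  obtain ⟨Q, hQ⟩ := exists_isHilbPoly_pn N k hpush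
  have hint : ∀ m : ℤ, (Curv2.euler k X (Pic13.twistOn k ι F m) : ℚ) = Q.eval (m : ℚ) := by
    intro m
    rw [← int_of_isHilbPoly N k hpush hQ m]
    have hflf : FlatMod.IsFinLocFree (Twist.twistProjSpace N k m) :=
      Groth.Agent.Lib.helper16.FLF.isFinLocFree_of_isInvertible
        (Groth.Agent.Lib.helper28.TwistPn.isInvertible N k m)
    have := Groth.Agent.Lib.Helper18.DegTensor.euler_push_tensor k ι hι F
      (Twist.twistProjSpace N k m) hflf
    rw [this]
    rfl
  refine ⟨Q, hint, fun j => ?_⟩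
  have := hint (j : ℤ)
  rw [Int.cast_natCast] at this
  rw [← this, Groth.Agent.Lib.Lead.CurveEuler.euler_eq_of_iso k X (twistOnNatIso k ι F j)]

end ClosedPn

section Lex

/-- the normalised coefficient vector of the statement S15002 -/
noncomputable def lexVec (d ℓ : ℕ) (Q : ℚ[X]) : Fin ℓ → ℚ :=
  fun j : Fin ℓ => ((Q).coeff (d - 1 - (j : ℕ)) * (Nat.factorial (d - 1 - (j : ℕ)) : ℚ)) /
    ((Q).coeff d * (Nat.factorial d : ℚ))

theorem lex_contra {d ℓ : ℕ} {pK pI : ℚ[X]} (aK : 0 < pK.coeff d) (aI : 0 < pI.coeff d)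
    (hK : toLex (lexVec d ℓ pK) < toLex (lexVec d ℓ (pK + pI)))
    (hI : toLex (lexVec d ℓ pI) < toLex (lexVec d ℓ (pK + pI))) : False := by
  have hD : (0 : ℚ) < (Nat.factorial d : ℚ) := by exact_mod_cast Nat.factorial_pos d
  -- the key pointwise contradiction
  have key : ∀ i : Fin ℓ, lexVec d ℓ pK i < lexVec d ℓ (pK + pI) i →
      lexVec d ℓ pI i ≤ lexVec d ℓ (pK + pI) i → False := by
    intro i h1 h2
    unfold lexVec at h1 h2
    rw [coeff_add, coeff_add] at h1 h2
    set c : ℚ := (Nat.factorial (d - 1 - (i : ℕ)) : ℚ)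
    set x := pK.coeff (d - 1 - (i : ℕ))
    set y := pI.coeff (d - 1 - (i : ℕ))
    set a := pK.coeff d
    set b := pI.coeff d
    set D : ℚ := (Nat.factorial d : ℚ)
    have hab : 0 < (a + b) * D := mul_pos (add_pos aK aI) hD
    rw [div_lt_div_iff₀ (mul_pos aK hD) hab] at h1
    rw [div_le_div_iff₀ (mul_pos aI hD) hab] at h2
    nlinarith [h1, h2]
  have key' : ∀ i : Fin ℓ, lexVec d ℓ pI i < lexVec d ℓ (pK + pI) i →
      lexVec d ℓ pK i ≤ lexVec d ℓ (pK + pI) i → False := by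
    intro i h1 h2
    unfold lexVec at h1 h2
    rw [coeff_add, coeff_add] at h1 h2
    set c : ℚ := (Nat.factorial (d - 1 - (i : ℕ)) : ℚ)
    set x := pK.coeff (d - 1 - (i : ℕ))
    set y := pI.coeff (d - 1 - (i : ℕ))
    set a := pK.coeff d
    set b := pI.coeff d
    set D : ℚ := (Nat.factorial d : ℚ)
    have hab : 0 < (a + b) * D := mul_pos (add_pos aK aI) hD
    rw [div_lt_div_iff₀ (mul_pos aI hD) hab] at h1
    rw [div_le_div_iff₀ (mul_pos aK hD) hab] at h2
    nlinarith [h1, h2]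
  obtain ⟨i, hi1, hi2⟩ := hK
  obtain ⟨i', hi1', hi2'⟩ := hI
  simp only [Pi.toLex_apply] at hi1 hi2 hi1' hi2'
  rcases lt_trichotomy i i' with h | h | h
  · exact key i hi2 (hi1' i h).le
  · subst h
    exact key i hi2 hi2'.le
  · exact key' i' hi2' (hi1 i' h).le

end Lex

section Main

variable (k : Type u) [Field k] {N : ℕ} {X : Scheme.{u}} [X.Over (Spec (CommRingCat.of k))]
  [IsProper (X ↘ Spec (CommRingCat.of k))]
  (ι : X ⟶ CohB1.ProjSpace N k) [IsClosedImmersion ι]
  (hι : ι ≫ CohB1.ProjSpace.toSpec N k = X ↘ Spec (CommRingCat.of k))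

include hι in
/-- a nonzero endomorphism of a pure module, stable in the lexicographic sense of S15002, is an
isomorphism -/
theorem isIso_of_ne_zero_of_lex (d ℓ : ℕ) (E : X.Modules) (hE : Coh.IsCoh E) (P : ℚ[X])
    (hP : ∀ m : ℤ, (Curv2.euler k X (Pic13.twistOn k ι E m) : ℚ) = P.eval (m : ℚ))
    (hpure : ShStab.IsPure X E d)
    (hst : ∀ (F : X.Modules) (j : F ⟶ E), Mono j → Coh.IsCoh F → ∀ Q : ℚ[X],
      (∀ m : ℤ, (Curv2.euler k X (Pic13.twistOn k ι F m) : ℚ) = Q.eval (m : ℚ)) →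
        0 < Q.coeff d → Q.coeff d < P.coeff d →
          toLex (lexVec d ℓ Q) < toLex (lexVec d ℓ P))
    (ψ : E ⟶ E) (hψ : ψ ≠ 0) : IsIso ψ := by
  haveI := Groth.Agent.Lib.Lead.CurveEuler.isNoetherian k X
  have hL := isAmple_LO1 k ι
  have hD : (0 : ℚ) < (Nat.factorial d : ℚ) := by exact_mod_cast Nat.factorial_pos d
  have hKc : Coh.IsCoh (kernel ψ) := isCoh_kernel k X hE hE ψ
  have hIc : Coh.IsCoh (Abelian.image ψ) := isCoh_image k X hE hE ψ
  obtain ⟨pK, hpKint, hpK⟩ := exists_int_hilbPoly k ι hι (kernel ψ) hKc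
  obtain ⟨pI, hpIint, hpI⟩ := exists_int_hilbPoly k ι hι (Abelian.image ψ) hIc
  have hpE : ShStab.IsHilbPoly k X (LO1 k ι) E P := by
    intro j
    have := hP (j : ℤ)
    rw [Int.cast_natCast] at this
    rw [← this, Groth.Agent.Lib.Lead.CurveEuler.euler_eq_of_iso k X (twistOnNatIso k ι E j)]
  have hT := shortExact_kernel_image ψ
  have hsum : ShStab.IsHilbPoly k X (LO1 k ι) E (pK + pI) :=
    isHilbPoly_add k X hL.1 _ hT hKc hIc hpK hpI
  have hPeq : P = pK + pI := isHilbPoly_unique k X hpE hsum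
  have hI0 : ¬ IsZero (Abelian.image ψ) := not_isZero_image ψ hψ
  have aI : 0 < StabCat.alpha d pI :=
    alpha_pos_of_mono_pure k X hL hpure (Abelian.image.ι ψ) hIc hI0 hpI
  have aI' : 0 < pI.coeff d := by
    unfold StabCat.alpha at aI
    exact (mul_pos_iff_of_pos_left hD).1 aI
  have hK0 : IsZero (kernel ψ) := by
    by_contra hK0
    have aK : 0 < StabCat.alpha d pK :=
      alpha_pos_of_mono_pure k X hL hpure (kernel.ι ψ) hKc hK0 hpK
    have aK' : 0 < pK.coeff d := by
      unfold StabCat.alpha at aK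
      exact (mul_pos_iff_of_pos_left hD).1 aK
    have hcP : P.coeff d = pK.coeff d + pI.coeff d := by rw [hPeq, coeff_add]
    have h1 := hst (kernel ψ) (kernel.ι ψ) inferInstance hKc pK hpKint aK' (by rw [hcP]; linarith)
    have h2 := hst (Abelian.image ψ) (Abelian.image.ι ψ) inferInstance hIc pI hpIint aI'
      (by rw [hcP]; linarith)
    rw [hPeq] at h1 h2
    exact lex_contra aK' aI' h1 h2
  haveI : Mono ψ := mono_of_isZero_kernel ψ hK0
  have hE0 : ¬ IsZero E := fun h => hψ (h.eq_of_src ψ 0)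
  exact isIso_of_mono_of_isHilbPoly_eq k X hL hE hE d
    (dim_support_of_isPure hpure (𝟙 E) hE hE0).le hpE hpE ψ

end Main

end Groth.Agent.Lib.Lead.HilbPos
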