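import Mathlib
import Groth.Agent.Lib.Lead.HomBC5

/-!
# Absolutely isotypical bundles: the endomorphism ring is simple (lead)

* `one_mem_span_of_simple_baseChange`: abstract form: `Φ : K ⊗ End E ≃ End (F E)`, `Φ (c ⊗ u) = c • F u`,
  `End (F E)` simple ⇒ the two-sided ideal of `End E` generated by `f ≠ 0` contains `1`.
* `isSimpleRing_end_of_simple_baseChange`: then `End E` is a simple ring (if nontrivial).
* `isSimpleRing_end_of_isotypical` (= S19534): `X` proper geometrically integral over `k`, `K` algebraically closed,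
  `E ≠ 0` finite locally free with `E_K ≅ L^r`, `L` invertible ⇒ `End E` is a simple ring.
-/

set_option autoImplicit false
set_option linter.style.haveILetI false
set_option linter.unusedSectionVars false

universe u u₁ v₁ u₂ v₂
open CategoryTheory CategoryTheory.Limits AlgebraicGeometry Opposite TopologicalSpace TensorProduct

namespace Groth.Agent.Lib.Lead.HomBC

open W4c1astiltbs12 Groth.Agent.Lib.Lead.KS Groth.Agent.Lib.Lead.NoriFin

attribute [local instance] Abelian.hasFiniteBiproducts

section Main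

variable {k K : Type*} [Field k] [Field K] [Algebra k K]
  {C : Type u₁} [Category.{v₁} C] [Preadditive C] [Linear k C]
  {D : Type u₂} [Category.{v₂} D] [Preadditive D] [Linear K D]

/-- if `K ⊗ End E ≅ End (F E)` compatibly with `F` and `End (F E)` is simple, then the two-sided ideal of `End E`
generated by a nonzero element contains `1` -/
theorem one_mem_span_of_simple_baseChange (F : C ⥤ D) (E : C)
    (Φ : K ⊗[k] (E ⟶ E) ≃ₗ[K] (F.obj E ⟶ F.obj E))
    (hΦ : ∀ (c : K) (u : E ⟶ E), Φ (c ⊗ₜ u) = c • F.map u)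
    (hsimple : ∀ g : F.obj E ⟶ F.obj E, g ≠ 0 →
      𝟙 (F.obj E) ∈ Submodule.span K {z : F.obj E ⟶ F.obj E | ∃ s t, z = s ≫ g ≫ t})
    (f : E ⟶ E) (hf : f ≠ 0) :
    (1 : End E) ∈ Submodule.span k {y : End E | ∃ a b : End E, y = a * (show End E from f) * b} := by
  let I : Submodule k (E ⟶ E) := Submodule.span k {y : End E | ∃ a b : End E, y = a * (show End E from f) * b}
  let J : Submodule K (F.obj E ⟶ F.obj E) :=
    Submodule.span K {z : F.obj E ⟶ F.obj E | ∃ x ∈ I, z = F.map x}
  have hΦ1 : ∀ u : E ⟶ E, Φ (1 ⊗ₜ u) = F.map u := fun u => by rw [hΦ, one_smul]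
  have hFf : F.map f ≠ 0 := by
    intro h0
    apply hf
    have h1 : (1 : K) ⊗ₜ[k] f = 0 := by
      apply Φ.injective
      rw [hΦ1, h0, map_zero]
    have := mem_of_tmul_mem_span (K := K) (⊥ : Submodule k (E ⟶ E)) f (by rw [h1]; exact Submodule.zero_mem _)
    simpa using this
  have hspan : ∀ s : F.obj E ⟶ F.obj E,
      s ∈ Submodule.span K (Set.range fun a : E ⟶ E => F.map a) := by
    intro s
    obtain ⟨z, rfl⟩ := Φ.surjective s
    induction z using TensorProduct.induction_on with
    | zero => rw [map_zero]; exact Submodule.zero_mem _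
    | tmul c u =>
      rw [hΦ]
      exact Submodule.smul_mem _ _ (Submodule.subset_span ⟨u, rfl⟩)
    | add x y hx hy => rw [map_add]; exact Submodule.add_mem _ hx hy
  have hA : ∀ (s : F.obj E ⟶ F.obj E) (b : E ⟶ E), s ≫ F.map f ≫ F.map b ∈ J := by
    intro s b
    have := hspan s
    induction this using Submodule.span_induction with
    | mem y hy =>
      obtain ⟨a, rfl⟩ := hy
      refine Submodule.subset_span ⟨a ≫ f ≫ b, ?_, by simp⟩
      exact Submodule.subset_span ⟨b, a, by simp [End.mul_def]⟩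
    | zero => rw [zero_comp]; exact Submodule.zero_mem _
    | add y z _ _ hy hz => rw [Preadditive.add_comp]; exact Submodule.add_mem _ hy hz
    | smul c y _ hy => rw [Linear.smul_comp]; exact Submodule.smul_mem _ _ hy
  have hB : ∀ (s t : F.obj E ⟶ F.obj E), s ≫ F.map f ≫ t ∈ J := by
    intro s t
    have := hspan t
    induction this using Submodule.span_induction with
    | mem y hy =>
      obtain ⟨b, rfl⟩ := hy
      exact hA s b
    | zero => rw [comp_zero, comp_zero]; exact Submodule.zero_mem _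
    | add y z _ _ hy hz =>
      rw [Preadditive.comp_add, Preadditive.comp_add]; exact Submodule.add_mem _ hy hz
    | smul c y _ hy =>
      rw [Linear.comp_smul, Linear.comp_smul]; exact Submodule.smul_mem _ _ hy
  have h1 : 𝟙 (F.obj E) ∈ J := by
    have h2 := hsimple (F.map f) hFf
    refine (Submodule.span_le.mpr ?_) h2
    rintro _ ⟨s, t, rfl⟩
    exact hB s t
  have h3 : (1 : K) ⊗ₜ[k] (𝟙 E) ∈
      Submodule.span K {z : K ⊗[k] (E ⟶ E) | ∃ x ∈ I, z = 1 ⊗ₜ x} := by
    have h4 : Φ.symm (𝟙 (F.obj E)) ∈ J.map Φ.symm.toLinearMap := Submodule.mem_map_of_mem h1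
    have h5 : Φ.symm (𝟙 (F.obj E)) = (1 : K) ⊗ₜ[k] (𝟙 E) := by
      rw [LinearEquiv.symm_apply_eq, hΦ1, F.map_id]
    rw [h5, Submodule.map_span] at h4
    refine Submodule.span_mono ?_ h4
    rintro _ ⟨z, ⟨x, hx, rfl⟩, rfl⟩
    refine ⟨x, hx, ?_⟩
    change Φ.symm (F.map x) = _
    rw [LinearEquiv.symm_apply_eq, hΦ1]
  exact mem_of_tmul_mem_span (K := K) I (𝟙 E) h3

/-- under the hypotheses of `one_mem_span_of_simple_baseChange`, a nonzero `End E` is a simple ring -/
theorem isSimpleRing_end_of_simple_baseChange (F : C ⥤ D) (E : C) [Nontrivial (End E)]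
    (Φ : K ⊗[k] (E ⟶ E) ≃ₗ[K] (F.obj E ⟶ F.obj E))
    (hΦ : ∀ (c : K) (u : E ⟶ E), Φ (c ⊗ₜ u) = c • F.map u)
    (hsimple : ∀ g : F.obj E ⟶ F.obj E, g ≠ 0 →
      𝟙 (F.obj E) ∈ Submodule.span K {z : F.obj E ⟶ F.obj E | ∃ s t, z = s ≫ g ≫ t}) :
    IsSimpleRing (End E) := by
  refine IsSimpleRing.of_eq_bot_or_eq_top fun I => ?_
  by_cases hI : I = ⊥
  · exact Or.inl hI
  · right
    obtain ⟨f, hfI, hf0⟩ : ∃ f ∈ I, f ≠ 0 := by
      by_contra h
      push Not at h
      apply hI
      rw [eq_bot_iff]
      intro x hx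
      rw [TwoSidedIdeal.mem_bot]
      exact h x hx
    rw [← TwoSidedIdeal.one_mem_iff]
    have h1 := one_mem_span_of_simple_baseChange (k := k) (K := K) F E Φ hΦ hsimple f hf0
    have h2 : ∀ x ∈ Submodule.span k {y : End E | ∃ a b : End E, y = a * (show End E from f) * b},
        x ∈ I := by
      intro x hx
      induction hx using Submodule.span_induction with
      | mem y hy =>
        obtain ⟨a, b, rfl⟩ := hy
        exact I.mul_mem_right _ _ (I.mul_mem_left _ _ hfI)
      | zero => exact I.zero_mem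
      | add y z _ _ hy hz => exact I.add_mem hy hz
      | smul c y _ hy =>
        rw [Algebra.smul_def]
        exact I.mul_mem_left _ _ hy
    exact h2 _ h1

end Main

section Geo

variable (k : Type u) [Field k] {X : Scheme.{u}} (p : X ⟶ Spec (CommRingCat.of k)) [IsProper p]
  [GeometricallyIntegral p] (K : Type u) [Field K] [Algebra k K] [IsAlgClosed K]

/-- on a proper geometrically integral `k`-scheme, a nonzero finite locally free module which becomes
`L^r` (`L` invertible) over an algebraically closed extension has a simple ring of endomorphisms -/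
theorem isSimpleRing_end_of_isotypical (E : X.Modules) (hE : FlatMod.IsFinLocFree E) (hE0 : ¬ IsZero E)
    (L : (W4bk4gw11416.baseChange p K).Modules) (hL : PicF.IsInvertible L) (r : ℕ)
    (e : bcMod p K E ≅ pow L r) : IsSimpleRing (End E) := by
  letI : X.Over (Spec (CommRingCat.of k)) := ⟨p⟩
  letI : (W4bk4gw11416.baseChange p K).Over (Spec (CommRingCat.of K)) :=
    ⟨pullback.snd p (Spec.map (CommRingCat.ofHom (algebraMap k K)))⟩
  haveI : IsProper (X ↘ Spec (CommRingCat.of k)) := ‹IsProper p›
  have H : IsPullback (proj p K) ((W4bk4gw11416.baseChange p K) ↘ Spec (CommRingCat.of K))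
      (X ↘ Spec (CommRingCat.of k)) (Spec.map (CommRingCat.ofHom (algebraMap k K))) :=
    IsPullback.of_hasPullback p (Spec.map (CommRingCat.ofHom (algebraMap k K)))
  haveI : CompactSpace X := QuasiCompact.compactSpace_of_compactSpace p
  haveI : QuasiSeparatedSpace X := quasiSeparatedSpace_of_quasiSeparated p
  haveI : Nontrivial (End E) := by
    refine nontrivial_of_ne (1 : End E) 0 fun h0 => hE0 ?_
    rw [IsZero.iff_id_eq_zero]
    exact h0
  haveI : E.IsQuasicoherent := Groth.Agent.Lib.helper16.FLF.isQuasicoherent_of_isFinLocFree _ hE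
  let Φ := homBC (A := k) (B := K) (proj p K) hE E H
  have hΦ : ∀ (c : K) (u : E ⟶ E), Φ (c ⊗ₜ u) = c • (Scheme.Modules.pullback (proj p K)).map u :=
    fun c u => homBC_tmul (A := k) (B := K) (proj p K) hE E H c u
  haveI : IsIntegral (W4bk4gw11416.baseChange p K) :=
    GeometricallyIntegral.geometrically_isIntegral (f := p)
      (Spec.map (CommRingCat.ofHom (algebraMap k K))) _ _
      (IsPullback.of_hasPullback p (Spec.map (CommRingCat.ofHom (algebraMap k K))))
  haveI : IsProper ((W4bk4gw11416.baseChange p K) ↘ Spec (CommRingCat.of K)) :=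
    inferInstanceAs (IsProper (pullback.snd p (Spec.map (CommRingCat.ofHom (algebraMap k K)))))
  have h1 : Module.finrank K (Coh.HH (W4bk4gw11416.baseChange p K)
      (Coh.structureModule (W4bk4gw11416.baseChange p K)) 0) = 1 :=
    Groth.Agent.Lib.helper8.H0One.finrank_sections_eq_one K (W4bk4gw11416.baseChange p K)
  obtain ⟨L', _, ⟨e'⟩, _⟩ := Groth.Agent.Lib.helper12.InvDual.exists_inverse hL
  have hLsc : ∀ g : L ⟶ L, ∃ c : K, g = c • 𝟙 L := fun g =>
    Groth.Agent.Lib.helper20.GaetaHom.end_scalar K e' h1 g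
  have hsimple := id_mem_span_of_iso (K := K)
    (e ≪≫ (biproduct.isoCoproduct (fun _ : Fin r => L)).symm)
    (id_mem_span_biproduct (K := K) L hLsc r)
  exact isSimpleRing_end_of_simple_baseChange (k := k) (K := K)
    (Scheme.Modules.pullback (proj p K)) E Φ hΦ hsimple

end Geo

end Groth.Agent.Lib.Lead.HomBC
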