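import Mathlib
import Groth.Agent.Lib.Lead.HomBC3
import Groth.Agent.Lib.Helper9.VABC3
import Groth.Agent.Lib.Helper16.FLF5

/-!
# Noether–Deuring in the `Curv2.bc` form (lead)

* `nonempty_iso_of_bcFst_iso k X K hE hE' e`: finite locally free `E`, `E'` on a proper `k`-scheme `X` with
  `E_K ≅ E'_K` (pullback along `Curv2.bcFst k X K`, `K / k` any field extension) are isomorphic
  (wrapper around `HomBC2.nonempty_iso_of_pullback_iso`). Used for S18782, S18783.
-/

set_option autoImplicit false
set_option linter.style.haveILetI false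
set_option linter.unusedSectionVars false

universe u
open CategoryTheory CategoryTheory.Limits AlgebraicGeometry Opposite TopologicalSpace TensorProduct

namespace Groth.Agent.Lib.Lead.HomBC

open Groth.Agent.Lib.Lead.KS

section Curv2

variable (k : Type u) [Field k] (X : Scheme.{u}) [X.Over (Spec (CommRingCat.of k))]
  [IsProper (X ↘ Spec (CommRingCat.of k))] (K : Type u) [Field K] [Algebra k K]

/-- **Noether–Deuring** in the `Curv2.bc` form: finite locally free modules on a proper `k`-scheme which become
isomorphic over a field extension `K / k` are isomorphic -/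
theorem nonempty_iso_of_bcFst_iso {E E' : X.Modules} (hE : FlatMod.IsFinLocFree E)
    (hE' : FlatMod.IsFinLocFree E')
    (e : (Scheme.Modules.pullback (Curv2.bcFst k X K)).obj E ≅
      (Scheme.Modules.pullback (Curv2.bcFst k X K)).obj E') : Nonempty (E ≅ E') := by
  letI := Groth.Agent.Lib.helper9.VABC3.bcOver k X K
  have H := Groth.Agent.Lib.helper9.VABC3.isPullback_bc k X K
  haveI : CompactSpace X := QuasiCompact.compactSpace_of_compactSpace (X ↘ Spec (CommRingCat.of k))
  haveI : QuasiSeparatedSpace X := quasiSeparatedSpace_of_quasiSeparated (X ↘ Spec (CommRingCat.of k))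
  have hT : FlatMod.IsFinLocFree (E ⊞ E') :=
    Groth.Agent.Lib.helper16.FLF.isFinLocFree_biprod hE hE'
  haveI : Module.Finite k (E ⊞ E' ⟶ E) :=
    finite_hom k X (Groth.Agent.Lib.Lead.RankAdd.isCoh_of_isFinLocFree hT)
      (Groth.Agent.Lib.Lead.RankAdd.isCoh_of_isFinLocFree hE)
  haveI : Module.Finite k (E ⊞ E' ⟶ E') :=
    finite_hom k X (Groth.Agent.Lib.Lead.RankAdd.isCoh_of_isFinLocFree hT)
      (Groth.Agent.Lib.Lead.RankAdd.isCoh_of_isFinLocFree hE')
  exact nonempty_iso_of_pullback_iso (Curv2.bcFst k X K) H hE hE' e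

end Curv2

end Groth.Agent.Lib.Lead.HomBC
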