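import Mathlib
import Groth.Prelude.Def_CohB1

set_option backward.isDefEq.respectTransparency false

universe u

open CategoryTheory AlgebraicGeometry Opposite TopologicalSpace

namespace Groth.Agent.Lib.Lead.HomOfSec

variable {X : Scheme.{u}}

/-- The restriction to `U.ι ''ᵁ V` of a section of `M` over `U`, typed as a section of `M|_U`. -/
noncomputable def secAt (M : X.Modules) (U : X.Opens) (σ : M.val.obj (op U))
    (V : (Opens (U : Scheme.{u}))ᵒᵖ) : (M.restrict U.ι).val.obj V :=
  M.val.map (homOfLE (show U.ι ''ᵁ V.unop ≤ U from U.ι_image_le _)).op σ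

lemma map_secAt (M : X.Modules) (U : X.Opens) (σ : M.val.obj (op U))
    {V W : (Opens (U : Scheme.{u}))ᵒᵖ} (f : V ⟶ W) :
    (M.restrict U.ι).val.map f (secAt M U σ V) = secAt M U σ W := by
  show M.val.map ((U.ι.opensFunctor).map f.unop).op
    (M.val.map (homOfLE (show U.ι ''ᵁ V.unop ≤ U from U.ι_image_le _)).op σ) = _
  rw [← M.val.map_comp_apply]
  rfl

/-- The compatible family of sections of `M|_U` obtained by restricting a section of `M` over `U`. -/
noncomputable def secFamily (M : X.Modules) (U : X.Opens) (σ : M.val.obj (op U)) :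
    (M.restrict U.ι).val.sections :=
  PresheafOfModules.sectionsMk (fun V => secAt M U σ V) (fun _ _ f => map_secAt M U σ f)

/-- The morphism `O_U ⟶ M|_U` determined by a section of `M` over `U`. -/
noncomputable def homOfSec (M : X.Modules) (U : X.Opens) (σ : M.val.obj (op U)) :
    Coh.structureModule (U : Scheme.{u}) ⟶ M.restrict U.ι :=
  (M.restrict U.ι).unitHomEquiv.symm (secFamily M U σ)

lemma homOfSec_app (M : X.Modules) (U : X.Opens) (σ : M.val.obj (op U))
    (V : (Opens (U : Scheme.{u}))ᵒᵖ) (c : (U : Scheme.{u}).ringCatSheaf.obj.obj V) :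
    ((homOfSec M U σ).val.app V).hom c = c • secAt M U σ V := rfl

/-- `homOfSec` is an isomorphism iff multiplication against the section is bijective on every
open of `U`. -/
lemma isIso_homOfSec_iff (M : X.Modules) (U : X.Opens) (σ : M.val.obj (op U)) :
    IsIso (homOfSec M U σ) ↔ ∀ V : (Opens (U : Scheme.{u}))ᵒᵖ,
      Function.Bijective (fun c : (U : Scheme.{u}).ringCatSheaf.obj.obj V =>
        c • secAt M U σ V) := by
  rw [Scheme.Modules.Hom.isIso_iff_isIso_app]
  constructor
  · intro h V
    have := h V.unop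
    have hb := (ConcreteCategory.isIso_iff_bijective ((homOfSec M U σ).app V.unop)).1 this
    exact hb
  · intro h V
    exact (ConcreteCategory.isIso_iff_bijective ((homOfSec M U σ).app V)).2 (h (op V))


/-- The scalar action on sections of `M|_U` is the action of `O_X` on sections of `M`. -/
lemma smul_secAt (M : X.Modules) (U : X.Opens) (σ : M.val.obj (op U))
    (V : (Opens (U : Scheme.{u}))ᵒᵖ) (c : (U : Scheme.{u}).ringCatSheaf.obj.obj V) :
    (c • secAt M U σ V : (M.restrict U.ι).val.obj V) =
      (show M.val.obj (op (U.ι ''ᵁ V.unop)) from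
        (show X.ringCatSheaf.obj.obj (op (U.ι ''ᵁ V.unop)) from c) •
          M.val.map (homOfLE (show U.ι ''ᵁ V.unop ≤ U from U.ι_image_le _)).op σ) := by
  have h1 : (c • secAt M U σ V : (M.restrict U.ι).val.obj V) =
      (show M.val.obj (op (U.ι ''ᵁ V.unop)) from
        (show X.ringCatSheaf.obj.obj (op (U.ι ''ᵁ V.unop)) from (U.ι.appIso V.unop).inv c) •
          M.val.map (homOfLE (show U.ι ''ᵁ V.unop ≤ U from U.ι_image_le _)).op σ) := rfl
  rw [h1, Scheme.Opens.ι_appIso]
  rfl

/-- Variant of `isIso_homOfSec_iff` phrased with the action of `O_X`. -/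
lemma isIso_homOfSec_iff' (M : X.Modules) (U : X.Opens) (σ : M.val.obj (op U)) :
    IsIso (homOfSec M U σ) ↔ ∀ V : (Opens (U : Scheme.{u}))ᵒᵖ,
      Function.Bijective (fun c : X.ringCatSheaf.obj.obj (op (U.ι ''ᵁ V.unop)) =>
        c • M.val.map (homOfLE (show U.ι ''ᵁ V.unop ≤ U from U.ι_image_le _)).op σ) := by
  rw [isIso_homOfSec_iff]
  refine forall_congr' fun V => ?_
  have : (fun c : (U : Scheme.{u}).ringCatSheaf.obj.obj V => c • secAt M U σ V) =
      (fun c : X.ringCatSheaf.obj.obj (op (U.ι ''ᵁ V.unop)) =>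
        c • M.val.map (homOfLE (show U.ι ''ᵁ V.unop ≤ U from U.ι_image_le _)).op σ) := by
    funext c
    exact smul_secAt M U σ V c
  rw [this]

end Groth.Agent.Lib.Lead.HomOfSec
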