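import Mathlib

/-!
# The cone of the complementary idempotent of a retract (lead, for helper25)

In a pretriangulated category, if `M` is a retract of `B` via `(i, p)`, then the cone of
`𝟙 B - p ≫ i` is isomorphic to `M ⊞ M⟦1⟧`.
-/

set_option autoImplicit false
open CategoryTheory CategoryTheory.Limits Pretriangulated

namespace Groth.Agent.Lib.Lead.IdemCone

variable {C : Type*} [Category C] [Preadditive C] [HasZeroObject C] [HasShift C ℤ]
  [∀ n : ℤ, (shiftFunctor C n).Additive] [Pretriangulated C]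

/-- if `M` is a retract of `B` via `(i, p)`, the cone of the complementary idempotent `1 - p ≫ i`
is `M ⊞ M⟦1⟧` -/
theorem nonempty_iso_biprod_of_idempotent_cone {M B Z : C} (i : M ⟶ B) (p : B ⟶ M)
    (hip : i ≫ p = 𝟙 M) (f : B ⟶ Z) (g : Z ⟶ B⟦(1 : ℤ)⟧)
    (hT : Triangle.mk (𝟙 B - p ≫ i) f g ∈ distTriang C) :
    Nonempty (Z ≅ M ⊞ M⟦(1 : ℤ)⟧) := by
  have hef : (𝟙 B - p ≫ i) ≫ f = 0 := comp_distTriang_mor_zero₁₂ _ hT
  have hfg : f ≫ g = 0 := comp_distTriang_mor_zero₂₃ _ hT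
  have hge : g ≫ (𝟙 B - p ≫ i)⟦(1 : ℤ)⟧' = 0 := comp_distTriang_mor_zero₃₁ _ hT
  have hie : i ≫ (𝟙 B - p ≫ i) = 0 := by
    rw [Preadditive.comp_sub, Category.comp_id, ← Category.assoc, hip, Category.id_comp, sub_self]
  have hep : (𝟙 B - p ≫ i) ≫ p = 0 := by
    rw [Preadditive.sub_comp, Category.id_comp, Category.assoc, hip, Category.comp_id, sub_self]
  -- the retraction `c : Z ⟶ M` with `f ≫ c = p`
  obtain ⟨c, hc⟩ : ∃ c : Z ⟶ M, p = f ≫ c := Triangle.yoneda_exact₂ _ hT p hep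
  -- the section `d : M⟦1⟧ ⟶ Z` with `d ≫ g = i⟦1⟧`
  obtain ⟨d, hd⟩ : ∃ d : M⟦(1 : ℤ)⟧ ⟶ Z, i⟦(1 : ℤ)⟧' = d ≫ g :=
    Triangle.coyoneda_exact₁ _ hT (i⟦(1 : ℤ)⟧') (by
    change i⟦(1 : ℤ)⟧' ≫ (𝟙 B - p ≫ i)⟦(1 : ℤ)⟧' = 0
    rw [← Functor.map_comp, hie, Functor.map_zero])
  set a : M ⟶ Z := i ≫ f with ha
  set b : Z ⟶ M⟦(1 : ℤ)⟧ := g ≫ p⟦(1 : ℤ)⟧' with hb
  have hdb : d ≫ b = 𝟙 _ := by
    rw [hb, ← Category.assoc, ← hd, ← Functor.map_comp, hip, CategoryTheory.Functor.map_id]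
  have hab : a ≫ b = 0 := by
    rw [ha, hb, Category.assoc, ← Category.assoc f, hfg, zero_comp, comp_zero]
  have hfb : f ≫ b = 0 := by rw [hb, ← Category.assoc, hfg, zero_comp]
  set c' : Z ⟶ M := c - b ≫ d ≫ c with hc'
  have hfc' : f ≫ c' = p := by
    rw [hc', Preadditive.comp_sub, ← hc, ← Category.assoc, hfb, zero_comp, sub_zero]
  have hac' : a ≫ c' = 𝟙 M := by rw [ha, Category.assoc, hfc', hip]
  have hdc' : d ≫ c' = 0 := by
    rw [hc', Preadditive.comp_sub, ← Category.assoc d b, hdb, Category.id_comp, sub_self]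
  -- the idempotent `π = c' ≫ a + b ≫ d` and `ε = 1 - π`
  set π : Z ⟶ Z := c' ≫ a + b ≫ d with hπ
  have hππ : π ≫ π = π := by
    rw [hπ]
    simp only [Preadditive.add_comp, Preadditive.comp_add, Category.assoc]
    rw [← Category.assoc a c', hac', Category.id_comp, ← Category.assoc a b, hab, zero_comp,
      comp_zero, ← Category.assoc d c', hdc', zero_comp, comp_zero, ← Category.assoc d b, hdb,
      Category.id_comp, add_zero, zero_add]
  have hfπ : f ≫ π = p ≫ i ≫ f := by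
    rw [hπ, Preadditive.comp_add, ← Category.assoc, hfc', ← Category.assoc f b, hfb, zero_comp,
      add_zero]
  have hπg : π ≫ g = g ≫ (p ≫ i)⟦(1 : ℤ)⟧' := by
    rw [hπ, Preadditive.add_comp, Category.assoc, ha, Category.assoc, hfg, comp_zero, comp_zero,
      zero_add, Category.assoc, ← hd, hb, Category.assoc, ← Functor.map_comp]
  have hfε : f ≫ (𝟙 Z - π) = 0 := by
    rw [Preadditive.comp_sub, Category.comp_id, hfπ]
    have : f - p ≫ i ≫ f = (𝟙 B - p ≫ i) ≫ f := by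
      rw [Preadditive.sub_comp, Category.id_comp, Category.assoc]
    rw [this, hef]
  have hεg : (𝟙 Z - π) ≫ g = 0 := by
    rw [Preadditive.sub_comp, Category.id_comp, hπg]
    have : g - g ≫ (p ≫ i)⟦(1 : ℤ)⟧' = g ≫ (𝟙 B - p ≫ i)⟦(1 : ℤ)⟧' := by
      rw [Functor.map_sub, CategoryTheory.Functor.map_id, Preadditive.comp_sub, Category.comp_id]
    rw [this, hge]
  obtain ⟨t, ht⟩ : ∃ t : B⟦(1 : ℤ)⟧ ⟶ Z, 𝟙 Z - π = g ≫ t :=
    Triangle.yoneda_exact₃ _ hT (𝟙 Z - π) hfε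
  obtain ⟨s, hs⟩ : ∃ s : Z ⟶ B, 𝟙 Z - π = s ≫ f :=
    Triangle.coyoneda_exact₃ _ hT (𝟙 Z - π) hεg
  have hεε : (𝟙 Z - π) ≫ (𝟙 Z - π) = 𝟙 Z - π := by
    simp only [Preadditive.sub_comp, Preadditive.comp_sub, Category.id_comp, Category.comp_id, hππ]
    abel
  have hε0 : 𝟙 Z - π = 0 := by
    rw [← hεε]
    nth_rw 1 [hs]
    nth_rw 1 [ht]
    rw [Category.assoc, ← Category.assoc f g, hfg, zero_comp, comp_zero]
  have hπ1 : π = 𝟙 Z := (sub_eq_zero.mp hε0).symm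
  refine ⟨⟨biprod.lift c' b, biprod.desc a d, ?_, ?_⟩⟩
  · rw [biprod.lift_desc, ← hπ1]
  · apply biprod.hom_ext <;> apply biprod.hom_ext' <;>
      simp [hac', hab, hdc', hdb]

end Groth.Agent.Lib.Lead.IdemCone
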