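import Mathlib
import Groth.Agent.Lib.Lead.SnapperLC2
import Groth.Agent.Lib.Lead.GrothVanish
import Groth.Agent.Lib.Lead.PicDeg1
import Groth.Agent.Lib.Helper12.TensorInvLocal
import Groth.Agent.Lib.Helper12.TensorInv

/-! # Local constancy of fibrewise intersection numbers (lead)

`f : X ⟶ Y` proper, flat, locally of finite presentation with fibres of dimension `≤ d`, `N_i` invertible on `X`.
* `isInvertible_tensorList`, `pullTensorListIso`: `FGA.tensorList` of invertible modules is invertible and commutes with
  pullback.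
* `intNum_fibre_eq`: `FGA.intNum` of the restrictions of the `N_i` to the fibre `X_y` (against `O_{X_y}`) is the
  alternating sum of the fibrewise Euler characteristics `PerfAux.eulerChar f (G N I) y` of global invertible modules.
* `intNum_locallyConstant`: hence it is a locally constant function of `y` (`EulerLC.isLocallyConstant_eulerChar`).
-/

set_option autoImplicit false
set_option linter.style.haveILetI false
universe u
open CategoryTheory CategoryTheory.Limits AlgebraicGeometry TopologicalSpace

namespace Groth.Agent.Lib.Lead.IntNumLC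

open Groth.Agent.Lib.Lead.ModTensor Groth.Agent.Lib.helper12.PullTensor
  Groth.Agent.Lib.Lead.CurveEuler Groth.Agent.Lib.Lead.EulerLC Groth.Agent.Lib.helper11.InvMod
  Groth.Agent.Lib.helper12.TensorInv

section pull

variable {X Z : Scheme.{u}}

theorem isInvertible_tensorList : ∀ (l : List X.Modules), (∀ N ∈ l, PicF.IsInvertible N) →
    PicF.IsInvertible (FGA.tensorList l)
  | [], _ => isInvertible_structureModule X
  | M :: l, hl => isInvertible_tensorMod (hl M (List.mem_cons_self ..))
      (isInvertible_tensorList l (fun N hN => hl N (List.mem_cons_of_mem _ hN)))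

/-- pullback commutes with `FGA.tensorList` for lists of invertible modules -/
noncomputable def pullTensorListIso (h : Z ⟶ X) : ∀ (l : List X.Modules),
    (∀ N ∈ l, PicF.IsInvertible N) →
    ((Scheme.Modules.pullback h).obj (FGA.tensorList l) ≅
      FGA.tensorList (l.map (Scheme.Modules.pullback h).obj))
  | [], _ => pullbackUnitIso h
  | M :: l, hl =>
      pullTensorIso h M (FGA.tensorList l)
        (isInvertible_tensorList l (fun N hN => hl N (List.mem_cons_of_mem _ hN))) ≪≫
      tensorIso (Iso.refl _) (pullTensorListIso h l (fun N hN => hl N (List.mem_cons_of_mem _ hN)))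

end pull


section main

variable {X Y : Scheme.{u}}

/-- the global module whose fibres compute the `I`-th term of the intersection number -/
noncomputable def G {r : ℕ} (N : Fin r → X.Modules) (I : Finset (Fin r)) : X.Modules :=
  CohB1.tensorMod (FGA.tensorList ((I.sort (· ≤ ·)).map N)) (Coh.structureModule X)

theorem isInvertible_G {r : ℕ} (N : Fin r → X.Modules) (hN : ∀ i, PicF.IsInvertible (N i))
    (I : Finset (Fin r)) : PicF.IsInvertible (G N I) :=
  isInvertible_tensorMod
    (isInvertible_tensorList _ (by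
      intro M hM
      obtain ⟨i, -, rfl⟩ := List.mem_map.mp hM
      exact hN i))
    (isInvertible_structureModule X)

noncomputable def pullGIso {Z : Scheme.{u}} (h : Z ⟶ X) {r : ℕ} (N : Fin r → X.Modules)
    (hN : ∀ i, PicF.IsInvertible (N i)) (I : Finset (Fin r)) :
    (Scheme.Modules.pullback h).obj (G N I) ≅
      CohB1.tensorMod (FGA.tensorList ((I.sort (· ≤ ·)).map
        (fun i => (Scheme.Modules.pullback h).obj (N i)))) (Coh.structureModule Z) :=
  pullTensorIso h _ _ (isInvertible_structureModule X) ≪≫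
    tensorIso (pullTensorListIso h _ (by
        intro M hM
        obtain ⟨i, -, rfl⟩ := List.mem_map.mp hM
        exact hN i) ≪≫ eqToIso (by rw [List.map_map]; rfl)) (pullbackUnitIso h)

variable (f : X ⟶ Y) [IsProper f] [Flat f] [LocallyOfFinitePresentation f]

theorem intNum_fibre_eq (d : ℕ) (hdim : ∀ y : Y, topologicalKrullDim ↥(f.fiber y) ≤ d) {r : ℕ}
    (N : Fin r → X.Modules) (hN : ∀ i, PicF.IsInvertible (N i)) (y : Y) :
    @FGA.intNum ↥(Y.residueField y) _ (f.fiber y) ⟨f.fiberToSpecResidueField y⟩ d r
        (fun i => (Scheme.Modules.pullback (f.fiberι y)).obj (N i))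
        (Coh.structureModule (f.fiber y)) =
      (Finset.univ : Finset (Finset (Fin r))).sum fun I =>
        (-1 : ℤ) ^ I.card * PerfAux.eulerChar f (G N I) y := by
  letI : (f.fiber y).Over (Spec (CommRingCat.of (Y.residueField y))) :=
    ⟨f.fiberToSpecResidueField y⟩
  haveI : IsProper ((f.fiber y) ↘ Spec (CommRingCat.of (Y.residueField y))) :=
    (inferInstance : IsProper (pullback.snd f (Y.fromSpecResidueField y)))
  haveI := Groth.Agent.Lib.Lead.ProperEuler.compactSpace (Y.residueField y) (f.fiber y)
  haveI := Groth.Agent.Lib.Lead.ProperEuler.quasiSeparatedSpace (Y.residueField y) (f.fiber y)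
  unfold FGA.intNum
  refine Finset.sum_congr rfl (fun I _ => ?_)
  congr 1
  have hflf := Groth.Agent.Lib.helper16.FLF.isFinLocFree_of_isInvertible (isInvertible_G N hN I)
  have hfl : FlatMod.IsFlatOver f (G N I) :=
    Groth.Agent.Lib.helper21.InvFibre.isFlatOver_of_isFinLocFree f _ hflf
  have hFP : CohB1.IsFP (G N I) :=
    Groth.Agent.Lib.helper16.FLF.isFinitePresentation_of_isFinLocFree _ hflf
  rw [eulerCharLE_eq_euler (Y.residueField y) (f.fiber y) _ d (fun i hi =>
    Groth.Agent.Lib.Lead.GrothVanish.subsingleton_HH_of_dim_le (f.fiber y) d (hdim y) _ i hi)]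
  have h := euler_eq_eulerChar_of_point f (G N I) hFP hfl (Y.residueField y)
    (Y.fromSpecResidueField y) (f.fiberι y)
    (IsPullback.of_hasPullback f (Y.fromSpecResidueField y)) _
    (pullGIso (f.fiberι y) N hN I).symm
  rw [h]
  congr 1
  exact Scheme.fromSpecResidueField_apply _ _

theorem intNum_locallyConstant (d : ℕ) (hdim : ∀ y : Y, topologicalKrullDim ↥(f.fiber y) ≤ d)
    {r : ℕ} (N : Fin r → X.Modules) (hN : ∀ i, PicF.IsInvertible (N i)) (y₀ : Y) :
    ∃ U : Y.Opens, y₀ ∈ U ∧ ∀ y : Y, y ∈ U →
      @FGA.intNum ↥(Y.residueField y) _ (f.fiber y) ⟨f.fiberToSpecResidueField y⟩ d r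
        (fun i => (Scheme.Modules.pullback (f.fiberι y)).obj (N i))
        (Coh.structureModule (f.fiber y)) =
      @FGA.intNum ↥(Y.residueField y₀) _ (f.fiber y₀) ⟨f.fiberToSpecResidueField y₀⟩ d r
        (fun i => (Scheme.Modules.pullback (f.fiberι y₀)).obj (N i))
        (Coh.structureModule (f.fiber y₀)) := by
  classical
  have hlc : ∀ I : Finset (Fin r), ∃ V : Set Y, IsOpen V ∧ y₀ ∈ V ∧
      ∀ y ∈ V, PerfAux.eulerChar f (G N I) y = PerfAux.eulerChar f (G N I) y₀ := by
    intro I
    have hflf := Groth.Agent.Lib.helper16.FLF.isFinLocFree_of_isInvertible (isInvertible_G N hN I)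
    have hfl : FlatMod.IsFlatOver f (G N I) :=
      Groth.Agent.Lib.helper21.InvFibre.isFlatOver_of_isFinLocFree f _ hflf
    have hFP : CohB1.IsFP (G N I) :=
      Groth.Agent.Lib.helper16.FLF.isFinitePresentation_of_isFinLocFree _ hflf
    have h := isLocallyConstant_eulerChar f (G N I) hFP hfl
    exact ⟨_, h.isOpen_fiber (PerfAux.eulerChar f (G N I) y₀), rfl, fun y hy => hy⟩
  choose V hVo hyV hV using hlc
  refine ⟨⟨⋂ I ∈ (Finset.univ : Finset (Finset (Fin r))), V I,
    isOpen_biInter_finset (fun I _ => hVo I)⟩, ?_, ?_⟩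
  · exact Set.mem_iInter₂.mpr (fun I _ => hyV I)
  · intro y hy
    have hy' : ∀ I ∈ (Finset.univ : Finset (Finset (Fin r))), y ∈ V I := Set.mem_iInter₂.mp hy
    rw [intNum_fibre_eq f d hdim N hN y, intNum_fibre_eq f d hdim N hN y₀]
    refine Finset.sum_congr rfl (fun I hI => ?_)
    rw [hV I y (hy' I hI)]

end main

end Groth.Agent.Lib.Lead.IntNumLC
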