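import Mathlib
import Groth.Prelude.Def_Coh
import Groth.Agent.Lib.Helper25.PullFlatExact
import Groth.Agent.Lib.Helper16.QCohPullback2
import Groth.Agent.Lib.Helper7.QCohPushQC
import Groth.Agent.Lib.Helper7.QCohProd
import Groth.Agent.Lib.Helper7.CohKer
import Groth.Agent.Lib.Lead.HilbPos5

/-! # `F ∩ f_*G` is coherent (lead, S7502)

`main`: `f : Y ⟶ X` quasi-compact, quasi-separated, flat and surjective, `Y` locally Noetherian, `F` quasi-coherent on `X`,
`G` coherent on `Y`, `φ : G ⟶ f^*F` a monomorphism. Then the fibre product of the unit `F ⟶ f_*f^*F` with `f_*φ` is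
quasi-coherent of finite type: its pullback to `Y` embeds into `G` (flatness + triangle identity), and finite type
descends along fpqc morphisms (helper16).
-/

set_option autoImplicit false
set_option linter.style.haveILetI false
universe u
open CategoryTheory CategoryTheory.Limits AlgebraicGeometry

namespace Groth.Agent.Lib.Lead.InterPush

theorem main {X Y : Scheme.{u}} (f : Y ⟶ X) [QuasiCompact f] [QuasiSeparated f] [Flat f] [Surjective f]
    [IsLocallyNoetherian Y] (F : X.Modules) (hF : Coh.IsQCoh F) (G : Y.Modules)
    (hG : Coh.IsCoh G) (φ : G ⟶ (Scheme.Modules.pullback f).obj F) [Mono φ] :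
    Coh.IsCoh (Limits.pullback ((Scheme.Modules.pullbackPushforwardAdjunction f).unit.app F)
      ((Scheme.Modules.pushforward f).map φ)) := by
  haveI : F.IsQuasicoherent := hF
  haveI : G.IsQuasicoherent := hG.1
  set adj := Scheme.Modules.pullbackPushforwardAdjunction f with hadj
  set η := adj.unit.app F with hη
  set ψ := (Scheme.Modules.pushforward f).map φ with hψ
  haveI hq0 : ((Scheme.Modules.pullback f).obj F).IsQuasicoherent :=
    Groth.Agent.Lib.helper16.QCohPullback.isQuasicoherent_pullback f F
  have hq1 : ((Scheme.Modules.pushforward f).obj G).IsQuasicoherent :=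
    Groth.Agent.Lib.helper7.QCohPushQC.isQuasicoherent_pushforward f G
  have hq2 : ((Scheme.Modules.pushforward f).obj ((Scheme.Modules.pullback f).obj F)).IsQuasicoherent :=
    Groth.Agent.Lib.helper7.QCohPushQC.isQuasicoherent_pushforward f _
  haveI : (Scheme.Modules.pushforward f).IsRightAdjoint := adj.isRightAdjoint
  haveI : Mono ψ := by rw [hψ]; infer_instance
  -- quasi-coherence
  haveI hH : (Limits.pullback η ψ).IsQuasicoherent :=
    Groth.Agent.Lib.helper7.QCohProd.isQuasicoherent_pullback hF hq1 hq2 η ψ
  refine ⟨hH, ?_⟩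
  -- the pullback to `Y` embeds into `G`
  let p₁ := pullback.fst η ψ
  let p₂ := pullback.snd η ψ
  haveI : Mono p₁ := pullback.fst_of_mono
  let α : (Scheme.Modules.pullback f).obj (Limits.pullback η ψ) ⟶ G :=
    (Scheme.Modules.pullback f).map p₂ ≫ adj.counit.app G
  have hα : α ≫ φ = (Scheme.Modules.pullback f).map p₁ := by
    have h1 : adj.counit.app G ≫ φ =
        (Scheme.Modules.pullback f).map ((Scheme.Modules.pushforward f).map φ) ≫
          adj.counit.app ((Scheme.Modules.pullback f).obj F) := (adj.counit.naturality φ).symm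
    have h2 : p₂ ≫ ψ = p₁ ≫ η := pullback.condition.symm
    calc α ≫ φ = (Scheme.Modules.pullback f).map p₂ ≫ adj.counit.app G ≫ φ := by
          simp only [α, Category.assoc]
      _ = (Scheme.Modules.pullback f).map (p₂ ≫ ψ) ≫
            adj.counit.app ((Scheme.Modules.pullback f).obj F) := by
          rw [h1, Functor.map_comp, Category.assoc]
      _ = (Scheme.Modules.pullback f).map p₁ ≫ ((Scheme.Modules.pullback f).map η ≫
            adj.counit.app ((Scheme.Modules.pullback f).obj F)) := by
          rw [h2, Functor.map_comp, Category.assoc]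
      _ = (Scheme.Modules.pullback f).map p₁ := by
          have h3 : (Scheme.Modules.pullback f).map η ≫
              adj.counit.app ((Scheme.Modules.pullback f).obj F) = 𝟙 _ :=
            adj.left_triangle_components F
          rw [h3, Category.comp_id]
  haveI : Mono ((Scheme.Modules.pullback f).map p₁) := inferInstance
  haveI : Mono α := by
    haveI : Mono (α ≫ φ) := by rw [hα]; infer_instance
    exact mono_of_mono α φ
  have hq3 : ((Scheme.Modules.pullback f).obj (Limits.pullback η ψ)).IsQuasicoherent :=
    Groth.Agent.Lib.helper16.QCohPullback.isQuasicoherent_pullback f _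
  have hcoh : Coh.IsCoh ((Scheme.Modules.pullback f).obj (Limits.pullback η ψ)) :=
    Groth.Agent.Lib.Lead.HilbPos.isCoh_of_mono α hq3 hG
  exact Groth.Agent.Lib.helper16.QCohPullback2.isFiniteType_of_pullback_fpqc f _ hcoh.2

end Groth.Agent.Lib.Lead.InterPush
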