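import Mathlib
import Groth.Agent.Lib.Lead.HomBC5
import Groth.Agent.Lib.Lead.BrSevT
import Groth.Agent.Lib.Lead.DualFLF
import Groth.Agent.Lib.Helper16.FLFTensor
import Groth.Agent.Lib.Helper18.H0Field
import Groth.Agent.Lib.Helper7.RestrictSupport
import Groth.Agent.Lib.Helper18.HHZero
import Groth.Agent.Lib.Helper9.VABC3
import Groth.Agent.Lib.Helper12.TensorInv
import Groth.Prelude.Def_PicGrp

/-!
# Type calculus for absolutely isotypical modules (lead; S15409)

* `indec_obj_of_isEquivalence`: additive equivalences preserve indecomposable objects.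
* `indec_of_isInvertible K h1 hN`: if `h⁰(O_Y) = 1` (over `K`) then invertible modules on `Y` are indecomposable.
* Setting `p : X ⟶ Spec k` proper, `K / k`, `hindec`: invertible modules on `X_K` are indecomposable.
  `eq_of_pow_iso` (`N^d ≅ N^{d'} ⇒ d = d'`), `dvd_of_dual`, `eq_of_dual` (inverse types have equal multiplicity),
  `eq_of_twist` (types differing by the pullback of an invertible module on `X` have equal multiplicity).
* `finrank_H0_eq_one_of_isIso_appTop`, `indec_of_isIso_appTop` (`H⁰(X, O) = k` ⇒ invertible modules on `X_K` indecomposable).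
* `mult_eq_of_pic` (= S15409), in terms of `PicGrp` classes.
-/

set_option autoImplicit false
set_option linter.style.haveILetI false
set_option linter.unusedSectionVars false

universe u u₁ v₁ u₂ v₂
open CategoryTheory CategoryTheory.Limits AlgebraicGeometry Opposite TopologicalSpace

namespace Groth.Agent.Lib.Lead.IsoType

open Groth.Agent.Lib.Lead.ModTensor Groth.Agent.Lib.Lead.KS Groth.Agent.Lib.Lead.NoriFin
  Groth.Agent.Lib.Lead.HomBC Groth.Agent.Lib.Lead.DualFLF Groth.Agent.Lib.helper12.InvDual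
  Groth.Agent.Lib.Helper20.TensorEquiv

attribute [local instance] Abelian.hasFiniteBiproducts

section Cat

variable {C : Type u₁} [Category.{v₁} C] [Abelian C] {D : Type u₂} [Category.{v₂} D] [Abelian D]

/-- an additive equivalence preserves indecomposable objects -/
theorem indec_obj_of_isEquivalence (F : C ⥤ D) [F.IsEquivalence] [F.Additive] {W : C}
    (hW : Indec W) : Indec (F.obj W) := by
  let E := F.asEquivalence
  haveI : E.functor.Additive := inferInstanceAs F.Additive
  haveI : E.inverse.Additive := E.inverse_additive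
  haveI : PreservesBinaryBiproducts E.inverse := preservesBinaryBiproducts_of_preservesBiproducts _
  constructor
  · intro h0
    apply hW.1
    have h1 : IsZero (E.inverse.obj (F.obj W)) := E.inverse.map_isZero h0
    exact h1.of_iso (E.unitIso.app W)
  · intro A B ⟨φ⟩
    have ψ : W ≅ E.inverse.obj A ⊞ E.inverse.obj B :=
      E.unitIso.app W ≪≫ E.inverse.mapIso φ ≪≫ E.inverse.mapBiprod A B
    rcases hW.2 _ _ ⟨ψ⟩ with h | h
    · left
      have h1 : IsZero (F.obj (E.inverse.obj A)) := F.map_isZero h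
      exact h1.of_iso (E.counitIso.app A).symm
    · right
      have h1 : IsZero (F.obj (E.inverse.obj B)) := F.map_isZero h
      exact h1.of_iso (E.counitIso.app B).symm

end Cat

section Indec

variable (K : Type u) [Field K] {Y : Scheme.{u}} [Y.Over (Spec (CommRingCat.of K))]

/-- if `h⁰(O_Y) = 1`, invertible modules on `Y` are indecomposable -/
theorem indec_of_isInvertible
    (h1 : Module.finrank K (Coh.HH Y (Coh.structureModule Y) 0) = 1) {N : Y.Modules}
    (hN : PicF.IsInvertible N) : Indec N := by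
  obtain ⟨N', _, ⟨eN⟩, _⟩ := exists_inverse hN
  have hsc : ∀ g : N ⟶ N, ∃ c : K, g = c • 𝟙 N := fun g =>
    Groth.Agent.Lib.helper20.GaetaHom.end_scalar K eN h1 g
  have hne : ¬ IsZero N := by
    intro h0
    have h2 : IsZero (CohB1.tensorMod N N') := by
      rw [IsZero.iff_id_eq_zero, ← tensorMap_id, (IsZero.iff_id_eq_zero _).mp h0]
      exact (Groth.Agent.Lib.helper12.TensorCocont.preservesZeroMorphisms_tensorRight N').map_zero _ _
    have h3 : IsZero (Coh.structureModule Y) := h2.of_iso eN.symm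
    have h4 := (Groth.Agent.Lib.helper7.RestrictSupport.isZero_iff_subsingleton_sections _).mp h3 ⊤
    haveI : Nontrivial Γ(Y, ⊤) := Groth.Agent.Lib.Helper18.H0Field.nontrivial_sections_top K Y h1
    exact not_subsingleton Γ(Y, ⊤) h4
  refine ⟨hne, ?_⟩
  intro A B ⟨φ⟩
  let ε : N ⟶ N := φ.hom ≫ biprod.fst ≫ biprod.inl ≫ φ.inv
  obtain ⟨c, hc⟩ := hsc ε
  have hεε : ε ≫ ε = ε := by simp [ε]
  have hc2 : (c * c - c) • 𝟙 N = 0 := by
    rw [sub_smul, mul_smul]
    rw [hc] at hεε
    rw [Linear.smul_comp, Linear.comp_smul, Category.id_comp] at hεε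
    rw [hεε, sub_self]
  have hid : 𝟙 N ≠ 0 := fun h => hne ((IsZero.iff_id_eq_zero _).mpr h)
  have hcc : c * c - c = 0 := by
    by_contra hcc
    apply hid
    have := congrArg (fun t => (c * c - c)⁻¹ • t) hc2
    simpa [smul_smul, inv_mul_cancel₀ hcc] using this
  have hc01 : c = 0 ∨ c = 1 := by
    have : c * (c - 1) = 0 := by rw [mul_sub, mul_one]; exact hcc
    rcases mul_eq_zero.mp this with h | h
    · exact Or.inl h
    · exact Or.inr (sub_eq_zero.mp h)
  rcases hc01 with h | h
  · left
    rw [IsZero.iff_id_eq_zero]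
    have h0 : ε = 0 := by rw [hc, h, zero_smul]
    have : (biprod.inl : A ⟶ A ⊞ B) ≫ φ.inv ≫ ε ≫ φ.hom ≫ biprod.fst = 𝟙 A := by simp [ε]
    rw [← this, h0]
    simp
  · right
    rw [IsZero.iff_id_eq_zero]
    have h1 : ε = 𝟙 _ := by rw [hc, h, one_smul]
    have : (biprod.inr : B ⟶ A ⊞ B) ≫ φ.inv ≫ ε ≫ φ.hom ≫ biprod.snd = 0 := by simp [ε]
    rw [h1] at this
    simpa using this

end Indec

section ASB

open W4c1astiltbs12 Groth.Agent.Lib.Helper25.PullTensorIso

variable (k : Type u) [Field k] {X : Scheme.{u}} (p : X ⟶ Spec (CommRingCat.of k)) [IsProper p]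
  (K : Type u) [Field K] [Algebra k K]
  (hindec : ∀ N : (W4bk4gw11416.baseChange p K).Modules, PicF.IsInvertible N → Indec N)

include hindec

/-- multiplicities of a type are well defined: `N^d ≅ N^{d'}` ⇒ `d = d'` -/
theorem eq_of_pow_iso {N : (W4bk4gw11416.baseChange p K).Modules} (hN : PicF.IsInvertible N)
    {d d' : ℕ} (e : pow N d ≅ pow N d') : d = d' := by
  classical
  have hK : KSClass (C := (W4bk4gw11416.baseChange p K).Modules) Coh.IsCoh :=
    ksClass K (pullback.snd p (Spec.map (CommRingCat.ofHom (algebraMap k K))))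
  have hNc : Coh.IsCoh N := Groth.Agent.Lib.Lead.RankAdd.isCoh_of_isFinLocFree
    (Groth.Agent.Lib.helper16.FLF.isFinLocFree_of_isInvertible hN)
  have h3 := mult_congr hK (P_sigma hK _ (fun _ : Fin d => hNc)) e (cls N)
  rw [mult_pow hK hNc (hindec N hN), mult_pow hK hNc (hindec N hN), if_pos rfl, if_pos rfl] at h3
  exact h3

/-- `W` finite locally free of type `N` with multiplicity `d > 0`, `W'` indecomposable of the inverse type `N'`
with multiplicity `d'` ⇒ `d' ∣ d` (the dual of `W` is a power of `W'`) -/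
theorem dvd_of_dual {N N' : (W4bk4gw11416.baseChange p K).Modules} (hN : PicF.IsInvertible N)
    (hN' : PicF.IsInvertible N') (eN : CohB1.tensorMod N N' ≅ Coh.structureModule _)
    {W W' : X.Modules} (hW : FlatMod.IsFinLocFree W)
    (hW' : FlatMod.IsFinLocFree W') (hW'i : Indec W') (d d' : ℕ) (hd : 0 < d)
    (eW : bcMod p K W ≅ pow N d) (eW' : bcMod p K W' ≅ pow N' d') : d' ∣ d := by
  classical
  have hLi : Indec N' := hindec N' hN'
  have hK : KSClass (C := (W4bk4gw11416.baseChange p K).Modules) Coh.IsCoh :=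
    ksClass K (pullback.snd p (Spec.map (CommRingCat.ofHom (algebraMap k K))))
  have hLc : Coh.IsCoh N' := Groth.Agent.Lib.Lead.RankAdd.isCoh_of_isFinLocFree
    (Groth.Agent.Lib.helper16.FLF.isFinLocFree_of_isInvertible hN')
  let D := dualMod W
  have hD : FlatMod.IsFinLocFree D := Groth.Agent.Lib.helper11.Bidual.isFinLocFree_dualMod hW
  have eD : bcMod p K D ≅ pow N' d :=
    pullDualIso (proj p K) hW ≪≫ (dualIso eW).symm ≪≫ dualPowIso N d ≪≫
      Sigma.mapIso (fun _ => dualInvIso hN eN)
  have hD0 : ¬ IsZero D := by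
    intro h0
    have h1 : IsZero (bcMod p K D) := by
      haveI : (Scheme.Modules.pullback (proj p K)).IsLeftAdjoint :=
        (Scheme.Modules.pullbackPushforwardAdjunction (proj p K)).isLeftAdjoint
      haveI : (Scheme.Modules.pullback (proj p K)).PreservesZeroMorphisms :=
        Functor.preservesZeroMorphisms_of_isLeftAdjoint _
      exact (Scheme.Modules.pullback (proj p K)).map_isZero h0
    have h2 : IsZero (pow N' d) := h1.of_iso eD.symm
    obtain ⟨ρ, hρ⟩ := sigma_retract (fun _ : Fin d => N') ⟨0, hd⟩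
    apply hLi.1
    rw [IsZero.iff_id_eq_zero, ← hρ, h2.eq_of_tgt (Sigma.ι (fun _ : Fin d => N') ⟨0, hd⟩) 0,
      zero_comp]
  obtain ⟨G, m, hG, hGi, ⟨eDG⟩⟩ := exists_pow_of_isotypical k p K D hD hD0 N' hN' hLi d eD
  have hm : 0 < m := by
    rcases Nat.eq_zero_or_pos m with h0 | h0
    · exfalso
      subst h0
      exact hD0 ((pow_zero_isZero G).of_iso eDG)
    · exact h0
  have hGc : Coh.IsCoh (bcMod p K G) := Groth.Agent.Lib.Lead.RankAdd.isCoh_of_isFinLocFree
    (Groth.Agent.Lib.helper16.FLF.isFinLocFree_pullback _ hG)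
  have iso1 : (∐ fun _ : Fin m => bcMod p K G) ≅ pow N' d :=
    (bcModPow k p K G m).symm ≪≫ (Scheme.Modules.pullback (proj p K)).mapIso eDG.symm ≪≫ eD
  obtain ⟨s, ⟨eG⟩⟩ := summand_of_pow hK hLc hLi (fun _ : Fin m => bcMod p K G) (fun _ => hGc) d iso1
    ⟨0, hm⟩
  obtain ⟨eGW⟩ := nonempty_iso_of_isotypical k p K N' hG hW' hGi hW'i s d' eG eW'
  have hs : s = d' := eq_of_pow_iso k p K hindec hN'
    (eG.symm ≪≫ (Scheme.Modules.pullback (proj p K)).mapIso eGW ≪≫ eW')
  have hrm : d = m * s := by
    have h3 := mult_congr hK (P_sigma hK _ (fun _ : Fin m => hGc)) iso1 (cls N')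
    rw [mult_pow hK hLc hLi, if_pos rfl, mult_sigma hK _ (fun _ : Fin m => hGc)] at h3
    have h4 : mult hK (bcMod p K G) (cls N') = s := by
      rw [mult_congr hK hGc eG (cls N'), mult_pow hK hLc hLi, if_pos rfl]
    simp only [h4, Finset.sum_const, Finset.card_univ, Fintype.card_fin, smul_eq_mul] at h3
    exact h3.symm
  rw [hrm, hs]
  exact Dvd.intro_left m rfl

/-- indecomposable modules of inverse types have the same multiplicity -/
theorem eq_of_dual {N N' : (W4bk4gw11416.baseChange p K).Modules} (hN : PicF.IsInvertible N)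
    (hN' : PicF.IsInvertible N') (eN : CohB1.tensorMod N N' ≅ Coh.structureModule _)
    {W W' : X.Modules} (hW : FlatMod.IsFinLocFree W) (hW' : FlatMod.IsFinLocFree W')
    (hWi : Indec W) (hW'i : Indec W') (d d' : ℕ) (hd : 0 < d) (hd' : 0 < d')
    (eW : bcMod p K W ≅ pow N d) (eW' : bcMod p K W' ≅ pow N' d') : d = d' := by
  have h1 : d' ∣ d := dvd_of_dual k p K hindec hN hN' eN hW hW' hW'i d d' hd eW eW'
  have h2 : d ∣ d' := dvd_of_dual k p K hindec hN' hN (braid N' N ≪≫ eN) hW' hW hWi d' d hd' eW' eW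
  exact Nat.dvd_antisymm h2 h1

/-- indecomposable modules whose types differ by (the pullback of) an invertible module on `X` have the same
multiplicity -/
theorem eq_of_twist {N N' : (W4bk4gw11416.baseChange p K).Modules}
    (hN' : PicF.IsInvertible N') {J J' : X.Modules}
    (hJ : PicF.IsInvertible J) (eJ : CohB1.tensorMod J J' ≅ Coh.structureModule X)
    (eN : CohB1.tensorMod N (bcMod p K J) ≅ N')
    {W W' : X.Modules} (hW : FlatMod.IsFinLocFree W) (hW' : FlatMod.IsFinLocFree W')
    (hWi : Indec W) (hW'i : Indec W') (d d' : ℕ)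
    (eW : bcMod p K W ≅ pow N d) (eW' : bcMod p K W' ≅ pow N' d') : d = d' := by
  -- `W ⊗ J` is indecomposable of type `N'` with multiplicity `d`
  haveI := isEquivalence_tensorRight eJ
  have hTi : Indec (CohB1.tensorMod W J) :=
    indec_obj_of_isEquivalence (tensorRight J) hWi
  have hT : FlatMod.IsFinLocFree (CohB1.tensorMod W J) :=
    Groth.Agent.Lib.helper16.FLFTensor.isFinLocFree_tensor hW
      (Groth.Agent.Lib.helper16.FLF.isFinLocFree_of_isInvertible hJ)
  have eT : bcMod p K (CohB1.tensorMod W J) ≅ pow N' d :=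
    pullTensorIso (proj p K) W J ≪≫ tensorIso eW (Iso.refl _) ≪≫
      Groth.Agent.Lib.Lead.BrSevT.tensorRightFinSigmaIso (bcMod p K J) (fun _ : Fin d => N) ≪≫
      Sigma.mapIso (fun _ => eN)
  obtain ⟨eTW⟩ := nonempty_iso_of_isotypical k p K N' hT hW' hTi hW'i d d' eT eW'
  exact eq_of_pow_iso k p K hindec hN'
    (eT.symm ≪≫ (Scheme.Modules.pullback (proj p K)).mapIso eTW ≪≫ eW')

end ASB

/-- `H⁰(X, O_X) = k` in the form `IsIso appTop` gives `h⁰(O_X) = 1` -/
theorem finrank_H0_eq_one_of_isIso_appTop (k : Type u) [Field k] (X : Scheme.{u})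
    [X.Over (Spec (CommRingCat.of k))] (hO : IsIso (X ↘ Spec (CommRingCat.of k)).appTop) :
    Module.finrank k (Coh.HH X (Coh.structureModule X) 0) = 1 := by
  letI alg : Algebra k Γ(X, ⊤) := (Coh.toGlobal (X ↘ Spec (CommRingCat.of k))).toAlgebra
  letI mo := Groth.Agent.Lib.Helper18.HH.sectionsModuleOver k (Coh.structureModule X)
  have e := Groth.Agent.Lib.Helper18.HH.equiv₀Over k (Coh.structureModule X)
  let e' : Coh.HH X (Coh.structureModule X) 0 ≃ₗ[k] Γ(X, ⊤) :=
    { toFun := fun x => e x
      invFun := fun s => e.symm s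
      left_inv := fun x => e.symm_apply_apply x
      right_inv := fun s => e.apply_symm_apply s
      map_add' := fun x y => e.map_add x y
      map_smul' := fun a x => e.map_smul a x }
  rw [e'.finrank_eq]
  have hb : Function.Bijective (algebraMap k Γ(X, ⊤)) := by
    change Function.Bijective (Coh.toGlobal (X ↘ Spec (CommRingCat.of k)))
    unfold Coh.toGlobal
    have h1 : Function.Bijective ((X ↘ Spec (CommRingCat.of k)).appTop).hom :=
      ConcreteCategory.bijective_of_isIso _
    have h2 : Function.Bijective (Scheme.ΓSpecIso (CommRingCat.of k)).inv.hom :=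
      ConcreteCategory.bijective_of_isIso (Scheme.ΓSpecIso (CommRingCat.of k)).inv
    exact h1.comp h2
  exact (LinearEquiv.ofBijective (Algebra.linearMap k Γ(X, ⊤)) hb).finrank_eq.symm.trans
    (Module.finrank_self k)


section Pic

open W4c1astiltbs12

variable (k : Type u) [Field k] {X : Scheme.{u}} (p : X ⟶ Spec (CommRingCat.of k)) [IsProper p]
  (K : Type u) [Field K] [Algebra k K]

/-- if `H⁰(X, O_X) = k` then invertible modules on `X_K` are indecomposable -/
theorem indec_of_isIso_appTop (hO : IsIso p.appTop)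
    (N : (W4bk4gw11416.baseChange p K).Modules) (hN : PicF.IsInvertible N) : Indec N := by
  letI : X.Over (Spec (CommRingCat.of k)) := ⟨p⟩
  haveI : IsProper (X ↘ Spec (CommRingCat.of k)) := ‹IsProper p›
  letI := Groth.Agent.Lib.helper9.VABC3.bcOver k X K
  have h0 : Module.finrank k (Coh.HH X (Coh.structureModule X) 0) = 1 :=
    finrank_H0_eq_one_of_isIso_appTop k X hO
  have h1 : Module.finrank K (Coh.HH (Curv2.bc k X K) (Coh.structureModule (Curv2.bc k X K)) 0) = 1 :=
    (Groth.Agent.Lib.helper9.VABC3.finrank_HH_structureModule_bc k X K 0).trans h0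
  exact indec_of_isInvertible K (Y := Curv2.bc k X K) h1 hN

variable [PicGrp.Law X] [PicGrp.Law (W4bk4gw11416.baseChange p K)]

/-- **S15409**: the multiplicity of the indecomposable module of type `L^j` depends only on `±j` modulo `r` -/
theorem mult_eq_of_pic (hO : IsIso p.appTop) (hπ : PicGrp.PullMul (proj p K))
    (L : (W4bk4gw11416.baseChange p K).Modules) (hL : PicF.IsInvertible L)
    (r : ℕ) (J : X.Modules) (hJ : PicF.IsInvertible J)
    (hJL : PicGrp.cls (bcMod p K J) (PicLoc.isInvertible_pullback (proj p K) hJ) = PicGrp.cls L hL ^ r)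
    (j a j' : ℤ) (hj' : j' = -j ∨ j' = j + a * r)
    (N N' : (W4bk4gw11416.baseChange p K).Modules) (hN : PicF.IsInvertible N) (hN' : PicF.IsInvertible N')
    (hNj : PicGrp.cls N hN = PicGrp.cls L hL ^ j) (hN'j : PicGrp.cls N' hN' = PicGrp.cls L hL ^ j')
    (W W' : X.Modules) (hW : FlatMod.IsFinLocFree W) (hW' : FlatMod.IsFinLocFree W')
    (hWi : Indec W) (hW'i : Indec W')
    (d d' : ℕ) (eW : bcMod p K W ≅ pow N d) (eW' : bcMod p K W' ≅ pow N' d') : d = d' := by
  have hindec := indec_of_isIso_appTop k p K hO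
  rcases hj' with rfl | rfl
  · -- dual case
    have hmul : PicGrp.cls N hN * PicGrp.cls N' hN' = 1 := by
      rw [hNj, hN'j, ← zpow_add, add_neg_cancel, zpow_zero]
    obtain ⟨eN⟩ := (PicGrp.cls_mul_cls_eq_one_iff hN hN').mp hmul
    have hpos : ∀ {V : X.Modules} {M : (W4bk4gw11416.baseChange p K).Modules} {c : ℕ},
        FlatMod.IsFinLocFree V → Indec V → (bcMod p K V ≅ pow M c) → 0 < c := by
      intro V M c hV hVi eV
      rcases Nat.eq_zero_or_pos c with h0 | h0
      · exfalso
        subst h0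
        haveI : V.IsQuasicoherent :=
          Groth.Agent.Lib.helper16.FLF.isQuasicoherent_of_isFinLocFree _ hV
        exact hVi.1 (isZero_of_isZero_bcMod k p K V ((pow_zero_isZero M).of_iso eV))
      · exact h0
    exact eq_of_dual k p K hindec hN hN' eN hW hW' hWi hW'i d d' (hpos hW hWi eW)
      (hpos hW' hW'i eW') eW eW'
  · -- twist case
    obtain ⟨Ja, hJa, hc⟩ := PicGrp.exists_eq_cls (PicGrp.cls J hJ ^ a)
    obtain ⟨Ja', _, ⟨eJa⟩, _⟩ := Groth.Agent.Lib.helper12.InvDual.exists_inverse hJa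
    have hJaK : PicF.IsInvertible (bcMod p K Ja) := PicLoc.isInvertible_pullback (proj p K) hJa
    have hcl : PicGrp.cls (bcMod p K Ja) hJaK = (PicGrp.cls L hL ^ r) ^ a := by
      rw [← hJL, ← PicGrp.pullHom_cls (proj p K) hπ Ja hJa, ← hc, map_zpow,
        PicGrp.pullHom_cls (proj p K) hπ J hJ]
    have hmul : (PicGrp.cls N hN * PicGrp.cls (bcMod p K Ja) hJaK).1 = (PicGrp.cls N' hN').1 := by
      congr 1
      rw [hNj, hN'j, hcl, ← zpow_natCast, ← zpow_mul, ← zpow_add]
      congr 1
      ring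
    rw [PicGrp.cls_mul_cls_val hN hJaK, PicGrp.cls_val, PicGrp.cl_eq_cl_iff] at hmul
    obtain ⟨eN⟩ := hmul
    exact eq_of_twist k p K hindec hN' hJa eJa eN hW hW' hWi hW'i d d' eW eW'

end Pic

end Groth.Agent.Lib.Lead.IsoType
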