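import Mathlib
import Groth.Agent.Lib.Lead.IsoType
import Groth.Agent.Lib.Lead.VBCurve3
import Groth.Agent.Lib.Lead.RankAdd
import Groth.Agent.Lib.Helper16.FLF6

/-!
# Invertible modules on a connected scheme are indecomposable (lead; for S15405)

* `finrank_stalk_add`: stalk ranks add in a short exact sequence of finite locally free modules.
* `isLocallyConstant_finrank_stalk`: the stalk rank of a finite locally free module is locally constant.
* `indec_of_isInvertible_of_connected`: on a connected scheme every invertible module is indecomposable.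
-/

set_option autoImplicit false
set_option linter.style.haveILetI false
set_option linter.unusedSectionVars false

universe u
open CategoryTheory CategoryTheory.Limits AlgebraicGeometry Opposite TopologicalSpace

namespace Groth.Agent.Lib.Lead.InvIndec

open Groth.Agent.Lib.Lead.KS Groth.Agent.Lib.Lead.NoriFin Groth.Agent.Lib.helper16.FLF

attribute [local instance] Abelian.hasFiniteBiproducts

variable {Y : Scheme.{u}}

open Groth.Agent.Lib.helper17.FlatOver7 Groth.Agent.Lib.helper8.StalkLen in
/-- stalk ranks add in a short exact sequence of finite locally free modules -/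
theorem finrank_stalk_add (S : ShortComplex Y.Modules) (hS : S.ShortExact)
    (f₁ : FlatMod.IsFinLocFree S.X₁) (f₂ : FlatMod.IsFinLocFree S.X₂)
    (f₃ : FlatMod.IsFinLocFree S.X₃) (x : Y) :
    Module.finrank (Y.presheaf.stalk x) (S.X₂.presheaf.stalk x) =
      Module.finrank (Y.presheaf.stalk x) (S.X₁.presheaf.stalk x) +
        Module.finrank (Y.presheaf.stalk x) (S.X₃.presheaf.stalk x) := by
  haveI : S.X₂.IsQuasicoherent := isQuasicoherent_of_isFinLocFree _ f₂
  haveI : S.X₃.IsQuasicoherent := isQuasicoherent_of_isFinLocFree _ f₃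
  obtain ⟨fr₁, fi₁⟩ := free_stalk_of_isFinLocFree _ f₁ x
  obtain ⟨fr₃, fi₃⟩ := free_stalk_of_isFinLocFree _ f₃ x
  haveI := hS.mono_f
  haveI := hS.epi_g
  have hinj := stalkAdd_injective_of_mono S.f x
  have hex := stalkAdd_exact S.f S.g S.zero hS.exact x
  have hsurj := stalkAdd_surjective_of_epi S.g x
  exact Groth.Agent.Lib.Lead.RankAdd.finrank_add_of_exact (R := Y.presheaf.stalk x)
    (stalkLin S.f x) (stalkLin S.g x) hinj hex hsurj

/-- the stalk rank of a finite locally free module is locally constant -/
theorem isLocallyConstant_finrank_stalk {A : Y.Modules} (hA : FlatMod.IsFinLocFree A) :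
    IsLocallyConstant
      (fun x : Y => Module.finrank (Y.presheaf.stalk x) (A.presheaf.stalk x)) := by
  haveI : A.IsQuasicoherent := isQuasicoherent_of_isFinLocFree _ hA
  rw [IsLocallyConstant.iff_exists_open]
  intro x
  obtain ⟨U, n, hxU, ⟨iso⟩⟩ := hA x
  refine ⟨U.1, U.2, hxU, fun x' hx' => ?_⟩
  rw [(free_stalk_of_restrict_iso_freeMod A n iso x' hx').2,
    (free_stalk_of_restrict_iso_freeMod A n iso x hxU).2]

/-- on a connected scheme every invertible module is indecomposable -/
theorem indec_of_isInvertible_of_connected [ConnectedSpace Y] {N : Y.Modules}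
    (hN : PicF.IsInvertible N) : Indec N := by
  have hN1 : FlatMod.IsFinLocFreeOfRank 1 N := (isInvertible_iff_isFinLocFreeOfRank_one N).mp hN
  have hNf : FlatMod.IsFinLocFree N := isFinLocFree_of_isInvertible hN
  have hne : ¬ IsZero N := by
    intro h0
    have h1 : FlatMod.IsFinLocFreeOfRank 0 N := by
      intro x
      refine ⟨⊤, trivial, ⟨IsZero.iso ?_ ?_⟩⟩
      · exact (Scheme.Modules.restrictFunctor (⊤ : Y.Opens).ι).map_isZero h0
      · exact (Groth.Agent.Lib.Lead.SerreFin.isInitialSigmaOfIsEmpty _).isZero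
    have := rank_unique_of_isFinLocFreeOfRank N h1 hN1
    omega
  refine ⟨hne, ?_⟩
  intro A B ⟨φ⟩
  have hA : FlatMod.IsFinLocFree A :=
    isFinLocFree_of_retract hNf (biprod.inl ≫ φ.inv) (φ.hom ≫ biprod.fst) (by simp)
  have hB : FlatMod.IsFinLocFree B :=
    isFinLocFree_of_retract hNf (biprod.inr ≫ φ.inv) (φ.hom ≫ biprod.snd) (by simp)
  let S : ShortComplex Y.Modules :=
    ShortComplex.mk (biprod.inl ≫ φ.inv : A ⟶ N) (φ.hom ≫ biprod.snd : N ⟶ B) (by simp)
  have spl : S.Splitting :=
    { r := φ.hom ≫ biprod.fst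
      s := biprod.inr ≫ φ.inv
      f_r := by simp [S]
      s_g := by simp [S]
      id := by
        simp only [S, Category.assoc]
        rw [← cancel_epi φ.inv, ← cancel_mono φ.hom]
        simp [biprod.total] }
  have hS : S.ShortExact := spl.shortExact
  have hadd : ∀ x : Y, Module.finrank (Y.presheaf.stalk x) (A.presheaf.stalk x) +
      Module.finrank (Y.presheaf.stalk x) (B.presheaf.stalk x) = 1 := by
    intro x
    have h := finrank_stalk_add S hS hA hNf hB x
    rw [finrank_stalk_of_isFinLocFreeOfRank N hN1 x] at h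
    exact h.symm
  obtain ⟨a, ha⟩ := (isLocallyConstant_finrank_stalk hA).exists_eq_const
  obtain ⟨x₀⟩ := (inferInstance : Nonempty Y)
  have ha' : ∀ x : Y, Module.finrank (Y.presheaf.stalk x) (A.presheaf.stalk x) = a :=
    fun x => congrFun ha x
  have ha01 : a = 0 ∨ a = 1 := by
    have := hadd x₀
    rw [ha' x₀] at this
    omega
  rcases ha01 with h | h
  · left
    apply Groth.Agent.Lib.Lead.VBCurve.isZero_of_isFinLocFreeOfRank_zero
    rw [isFinLocFreeOfRank_iff_finrank_stalk A hA]
    intro x
    rw [ha' x, h]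
  · right
    apply Groth.Agent.Lib.Lead.VBCurve.isZero_of_isFinLocFreeOfRank_zero
    rw [isFinLocFreeOfRank_iff_finrank_stalk B hB]
    intro x
    have := hadd x
    rw [ha' x, h] at this
    omega

end Groth.Agent.Lib.Lead.InvIndec
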