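import Mathlib
import Groth.Agent.Lib.Lead.NoriFin3
import Groth.Agent.Lib.Lead.VBCurve11
import Groth.Agent.Lib.Lead.RankAdd
import Groth.Agent.Lib.Helper14.PicCls

/-!
# Finite bundles in the sense of Weil–Nori, part 4 (lead)

`X` proper over a field `k`.

* `finite_support'`, `mult_tensor_pos_iff`: the indecomposable classes occurring in `A ⊗ B` are those
  occurring in `W₁ ⊗ W₂`, `W₁` occurring in `A`, `W₂` occurring in `B`.
* `cls_tensorPow`: the class of `L^{⊗ n}` in helper14's monoid `PicCls.Cls X`.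
* `indec_of_isInvertible`: invertible modules on an integral proper scheme with PID local rings are
  indecomposable.
* `wFin_invertible_iff`: an invertible module is finite iff it is torsion.
* `wFin_biprod_and_tensor`: sums and tensor products of finite modules are finite.
-/

set_option autoImplicit false
set_option backward.isDefEq.respectTransparency false
set_option linter.style.haveILetI false
set_option linter.unusedSectionVars false

universe u
open CategoryTheory CategoryTheory.Limits AlgebraicGeometry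

namespace Groth.Agent.Lib.Lead.NoriFin

open Groth.Agent.Lib.Lead.KS Groth.Agent.Lib.Helper20.TensorEquiv KoszTw
open Groth.Agent.Lib.Helper14

variable (k : Type u) [Field k] (X : Scheme.{u}) [X.Over (Spec (CommRingCat.of k))]
  [IsProper (X ↘ Spec (CommRingCat.of k))]

attribute [local instance] Abelian.hasFiniteBiproducts

include k in
theorem finite_support' (A : X.Modules) :
    {c : Cls X.Modules | 0 < mult (ksClass_isCoh k X) A c}.Finite := by
  by_cases hA : Coh.IsCoh A
  · exact finite_support _ hA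
  · convert Set.finite_empty
    ext c
    simp only [Set.mem_ofPred_eq, Set.mem_empty_iff_false, iff_false, not_lt, Nat.le_zero]
    unfold mult
    rw [dif_neg hA]

include k in
/-- the classes occurring in `A ⊗ B` -/
theorem mult_tensor_pos_iff {A B : X.Modules} (hA : Coh.IsCoh A) (hB : Coh.IsCoh B)
    (c : Cls X.Modules) :
    0 < mult (ksClass_isCoh k X) (CohB1.tensorMod A B) c ↔
      ∃ c₁ c₂, 0 < mult (ksClass_isCoh k X) A c₁ ∧ 0 < mult (ksClass_isCoh k X) B c₂ ∧
        0 < mult (ksClass_isCoh k X) (CohB1.tensorMod c₁.out c₂.out) c := by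
  haveI := Groth.Agent.Lib.Lead.CurveEuler.isNoetherian k X
  set h := ksClass_isCoh k X
  have hR : ∀ (N : X.Modules) (_ : Coh.IsCoh N) (M : X.Modules) (_ : Coh.IsCoh M) (c : Cls X.Modules),
      0 < mult h (CohB1.tensorMod M N) c ↔
        ∃ c', 0 < mult h M c' ∧ 0 < mult h (CohB1.tensorMod c'.out N) c :=
    fun N hN M hM c => mult_map_pos_iff h (tensorRight N)
      (fun A hA => Groth.Agent.Lib.Helper18.DegCalc.isCoh_tensorMod hA hN) hM c
  have hbr : ∀ (M N : X.Modules) (_ : Coh.IsCoh M) (_ : Coh.IsCoh N) (c : Cls X.Modules),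
      mult h (CohB1.tensorMod M N) c = mult h (CohB1.tensorMod N M) c :=
    fun M N hM hN c => mult_congr h (Groth.Agent.Lib.Helper18.DegCalc.isCoh_tensorMod hM hN)
      (Groth.Agent.Lib.Lead.ModTensor.braid M N) c
  rw [hR B hB A hA c]
  constructor
  · rintro ⟨c₁, h1, h2⟩
    have hc₁ := (indec_of_mult_pos h hA h1).2
    rw [hbr _ _ hc₁ hB, hR _ hc₁ B hB c] at h2
    obtain ⟨c₂, h3, h4⟩ := h2
    have hc₂ := (indec_of_mult_pos h hB h3).2
    exact ⟨c₁, c₂, h1, h3, by rw [hbr _ _ hc₁ hc₂]; exact h4⟩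
  · rintro ⟨c₁, c₂, h1, h3, h4⟩
    have hc₁ := (indec_of_mult_pos h hA h1).2
    have hc₂ := (indec_of_mult_pos h hB h3).2
    refine ⟨c₁, h1, ?_⟩
    rw [hbr _ _ hc₁ hB, hR _ hc₁ B hB c]
    exact ⟨c₂, h3, by rw [hbr _ _ hc₂ hc₁]; exact h4⟩

variable {X}

theorem cls_tensorPow (L : X.Modules) (n : ℕ) :
    PicCls.cls (CohB1.tensorPow L n) = PicCls.cls L ^ n := by
  induction n with
  | zero => rw [pow_zero]; exact PicCls.cls_unit
  | succ n ih =>
    rw [pow_succ, ← ih]
    exact PicCls.cls_tensor _ _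

theorem nonempty_iso_comm_right (A B C : X.Modules) :
    Nonempty (CohB1.tensorMod (CohB1.tensorMod A B) C ≅ CohB1.tensorMod (CohB1.tensorMod A C) B) :=
  PicCls.cls_eq_iff.1 (by
    rw [PicCls.cls_tensor, PicCls.cls_tensor, PicCls.cls_tensor, PicCls.cls_tensor]
    exact mul_right_comm _ _ _)

variable (X)

include k in
/-- invertible modules are indecomposable -/
theorem indec_of_isInvertible [IsIntegral X] (hP : Groth.Agent.Lib.Lead.VBCurve.PIDStalks X)
    {A : X.Modules} (hA : PicF.IsInvertible A) : Indec A := by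
  refine ⟨Groth.Agent.Lib.Lead.VBCurve.not_isZero_of_isInvertible X hA, ?_⟩
  rintro B C ⟨e⟩
  by_contra hcon
  push Not at hcon
  obtain ⟨hB, hC⟩ := hcon
  set f : A ⟶ A := e.hom ≫ biprod.fst ≫ biprod.inl ≫ e.inv with hf
  have hf0 : f ≠ 0 := by
    intro h0
    apply hB
    rw [IsZero.iff_id_eq_zero]
    have : biprod.inl ≫ e.inv ≫ f ≫ e.hom ≫ biprod.fst = 𝟙 B := by simp [hf]
    rw [← this, h0]; simp
  haveI := Groth.Agent.Lib.Lead.VBCurve.mono_of_ne_zero_of_isInvertible k X hP hA hA f hf0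
  apply hC
  rw [IsZero.iff_id_eq_zero]
  have h1 : (biprod.inr ≫ e.inv) ≫ f = 0 := by simp [hf]
  have h2 : biprod.inr ≫ e.inv = (0 : C ⟶ A) := by
    rw [← cancel_mono f, h1, zero_comp]
  have : (biprod.inr ≫ e.inv) ≫ e.hom ≫ biprod.snd = 𝟙 C := by simp
  rw [← this, h2, zero_comp]

variable {X}

include k in
/-- an invertible module is finite iff it is torsion -/
theorem wFin_invertible_iff [IsIntegral X] (hP : Groth.Agent.Lib.Lead.VBCurve.PIDStalks X)
    {L : X.Modules} (hL : PicF.IsInvertible L) :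
    WFin L ↔ ∃ m : ℕ, 0 < m ∧ Nonempty (CohB1.tensorPow L m ≅ Coh.structureModule X) := by
  classical
  haveI := Groth.Agent.Lib.Lead.CurveEuler.isNoetherian k X
  set h := ksClass_isCoh k X
  have hLc : Coh.IsCoh L := Groth.Agent.Lib.Lead.RankAdd.isCoh_of_isFinLocFreeOfRank
    ((Groth.Agent.Lib.helper16.FLF.isInvertible_iff_isFinLocFreeOfRank_one L).mp hL)
  have hinv : ∀ n, PicF.IsInvertible (CohB1.tensorPow L n) :=
    Groth.Agent.Lib.helper12.TensorInv.isInvertible_tensorPow hL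
  have hu : IsUnit (PicCls.cls L) := PicCls.isUnit_cls hL
  constructor
  · intro hw
    obtain ⟨S, hS, -, -⟩ := (wFin_iff k hLc).1 hw
    have hmem : ∀ n, cls (CohB1.tensorPow L n) ∈ S := fun n => hS n _ (by
      rw [mult_indec h (isCoh_tensorPow hLc n) (indec_of_isInvertible k X hP (hinv n)), if_pos rfl]
      exact Nat.one_pos)
    obtain ⟨a, b, hab, heq⟩ :=
      Finite.exists_ne_map_eq_of_infinite (fun n : ℕ => (⟨_, hmem n⟩ : S))
    have heq' : cls (CohB1.tensorPow L a) = cls (CohB1.tensorPow L b) := congrArg Subtype.val heq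
    have key : ∀ a b : ℕ, a < b → cls (CohB1.tensorPow L a) = cls (CohB1.tensorPow L b) →
        ∃ m : ℕ, 0 < m ∧ Nonempty (CohB1.tensorPow L m ≅ Coh.structureModule X) := by
      intro a b hab heq
      refine ⟨b - a, by omega, ?_⟩
      have e1 : PicCls.cls L ^ a = PicCls.cls L ^ b := by
        rw [← cls_tensorPow, ← cls_tensorPow]
        exact PicCls.cls_eq_iff.2 (cls_eq_iff.1 heq)
      have e2 : PicCls.cls L ^ a * PicCls.cls L ^ (b - a) = PicCls.cls L ^ a * 1 := by
        rw [← pow_add, mul_one, Nat.add_sub_of_le hab.le, ← e1]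
      have e3 := (hu.pow a).mul_left_cancel e2
      exact PicCls.cls_eq_iff.1 (by rw [cls_tensorPow, e3]; exact PicCls.cls_unit.symm)
    rcases lt_or_gt_of_ne hab with h' | h'
    · exact key a b h' heq'
    · exact key b a h' heq'.symm
  · rintro ⟨m, hm, ⟨e⟩⟩
    have e1 : PicCls.cls L ^ m = 1 := by
      rw [← cls_tensorPow]; exact (PicCls.cls_eq_iff.2 ⟨e⟩).trans PicCls.cls_unit
    have per : ∀ n, Nonempty (CohB1.tensorPow L n ≅ CohB1.tensorPow L (n % m)) := fun n =>
      PicCls.cls_eq_iff.1 (by rw [cls_tensorPow, cls_tensorPow]; exact pow_eq_pow_mod n e1)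
    refine wFin_of_finset k hLc ((Finset.range m).biUnion
      (fun i => (finite_support' k X (CohB1.tensorPow L i)).toFinset)) ?_
    intro n c hc
    rw [Finset.mem_biUnion]
    refine ⟨n % m, Finset.mem_range.2 (Nat.mod_lt _ hm), ?_⟩
    rw [Set.Finite.mem_toFinset]
    show 0 < mult h _ c
    rw [← mult_congr h (isCoh_tensorPow hLc n) (per n).some]; exact hc

include k in
/-- sums and tensor products of finite modules are finite -/
theorem wFin_biprod_and_tensor {E₁ E₂ : X.Modules} (h₁ : Coh.IsCoh E₁) (h₂ : Coh.IsCoh E₂)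
    (w₁ : WFin E₁) (w₂ : WFin E₂) : WFin (E₁ ⊞ E₂) ∧ WFin (CohB1.tensorMod E₁ E₂) := by
  classical
  haveI := Groth.Agent.Lib.Lead.CurveEuler.isNoetherian k X
  set h := ksClass_isCoh k X
  obtain ⟨S₁, hS₁, -, -⟩ := (wFin_iff k h₁).1 w₁
  obtain ⟨S₂, hS₂, -, -⟩ := (wFin_iff k h₂).1 w₂
  let S : Finset (Cls X.Modules) := S₁.biUnion (fun c₁ => S₂.biUnion (fun c₂ =>
    (finite_support' k X (CohB1.tensorMod c₁.out c₂.out)).toFinset))
  have hten : ∀ {A B : X.Modules}, Coh.IsCoh A → Coh.IsCoh B → Coh.IsCoh (CohB1.tensorMod A B) :=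
    fun hA hB => Groth.Agent.Lib.Helper18.DegCalc.isCoh_tensorMod hA hB
  have hpow : ∀ a b, Coh.IsCoh (CohB1.tensorMod (CohB1.tensorPow E₁ a) (CohB1.tensorPow E₂ b)) :=
    fun a b => hten (isCoh_tensorPow h₁ a) (isCoh_tensorPow h₂ b)
  have hA : ∀ a b c, 0 < mult h (CohB1.tensorMod (CohB1.tensorPow E₁ a) (CohB1.tensorPow E₂ b)) c →
      c ∈ S := by
    intro a b c hc
    obtain ⟨c₁, c₂, hc₁, hc₂, hc'⟩ :=
      (mult_tensor_pos_iff k X (isCoh_tensorPow h₁ a) (isCoh_tensorPow h₂ b) c).1 hc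
    simp only [S, Finset.mem_biUnion, Set.Finite.mem_toFinset, Set.mem_ofPred_eq]
    exact ⟨c₁, hS₁ a c₁ hc₁, c₂, hS₂ b c₂ hc₂, hc'⟩
  have h12 : Coh.IsCoh (E₁ ⊞ E₂) := h.biprod h₁ h₂
  have hB : ∀ n c, 0 < mult h (CohB1.tensorPow (E₁ ⊞ E₂) n) c →
      ∃ a b, 0 < mult h (CohB1.tensorMod (CohB1.tensorPow E₁ a) (CohB1.tensorPow E₂ b)) c := by
    intro n
    induction n with
    | zero =>
      intro c hc
      refine ⟨0, 0, ?_⟩
      rw [mult_congr h (hpow 0 0) (Groth.Agent.Lib.Lead.ModTensor.leftUnitor (Coh.structureModule X))]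
      exact hc
    | succ n ih =>
      intro c hc
      obtain ⟨c₁, c₂, hc₁, hc₂, hc'⟩ :=
        (mult_tensor_pos_iff k X (isCoh_tensorPow h12 n) h12 c).1 hc
      obtain ⟨a, b, hab⟩ := ih c₁ hc₁
      rw [mult_biprod h h₁ h₂] at hc₂
      rcases Nat.add_pos_iff_pos_or_pos.1 hc₂ with hc₂ | hc₂
      · refine ⟨a + 1, b, ?_⟩
        have := (mult_tensor_pos_iff k X (hpow a b) h₁ c).2 ⟨c₁, c₂, hab, hc₂, hc'⟩
        rwa [mult_congr h (hten (hpow a b) h₁) (nonempty_iso_comm_right _ _ _).some] at this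
      · refine ⟨a, b + 1, ?_⟩
        have := (mult_tensor_pos_iff k X (hpow a b) h₂ c).2 ⟨c₁, c₂, hab, hc₂, hc'⟩
        rwa [mult_congr h (hten (hpow a b) h₂) (Groth.Agent.Lib.Lead.ModTensor.assoc _ _ _)] at this
  constructor
  · exact wFin_of_finset k h12 S (fun n c hc => by
      obtain ⟨a, b, hab⟩ := hB n c hc; exact hA a b c hab)
  · have ht := hten h₁ h₂
    refine wFin_of_finset k ht S (fun n c hc => hA n n c ?_)
    have e : Nonempty (CohB1.tensorPow (CohB1.tensorMod E₁ E₂) n ≅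
        CohB1.tensorMod (CohB1.tensorPow E₁ n) (CohB1.tensorPow E₂ n)) :=
      PicCls.cls_eq_iff.1 (by
        rw [cls_tensorPow, PicCls.cls_tensor, PicCls.cls_tensor, cls_tensorPow, cls_tensorPow, mul_pow])
    rw [← mult_congr h (isCoh_tensorPow ht n) e.some]; exact hc

end Groth.Agent.Lib.Lead.NoriFin
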