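import Mathlib
import Groth.Agent.Lib.Lead.NoriFin4
import Groth.Agent.Lib.Lead.VBCurve17
import Groth.Agent.Lib.Lead.VBCurve6
import Groth.Agent.Lib.Lead.ProperEuler
import Groth.Agent.Lib.Helper18.DegTensor
import Groth.Agent.Lib.Helper18.EffCartierCurve
import Groth.Agent.Lib.Helper9.CurveHopf
import Groth.Agent.Lib.Helper9.CurveTwist

/-!
# Finite bundles on a curve are semistable of degree zero (lead)

* `nonempty_sigma_succ_iso`, `additive_sigma`: additive invariants on finite coproducts in a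
  Krull–Schmidt class.
* `summand_data`, `card_le_rank`: direct summands of bundles on a curve with PID local rings are bundles;
  a bundle of rank `ρ` has at most `ρ` nonzero summands.
* `isFinLocFreeOfRank_tensorPow`, `deg_tensorPow`, `mono_tensorPowMap`.
* `exists_bound_of_wFin`: the degrees of invertible modules mapping nontrivially to tensor powers of a
  finite bundle are bounded above.
* `deg_sub_le_zero_of_wFin`, `deg_nonneg_of_wFin`: **finite bundles are semistable of degree `0`**.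
-/

set_option autoImplicit false
set_option backward.isDefEq.respectTransparency false
set_option linter.style.haveILetI false
set_option linter.unusedSectionVars false

universe v u
open CategoryTheory CategoryTheory.Limits AlgebraicGeometry Module

namespace Groth.Agent.Lib.Lead.NoriFin

open Groth.Agent.Lib.Lead.KS Groth.Agent.Lib.Helper20.TensorEquiv KoszTw

attribute [local instance] Abelian.hasFiniteBiproducts

section abstract

variable {C : Type u} [Category.{v} C] [Abelian C] {P : C → Prop} (h : KSClass P)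

include h in
theorem nonempty_sigma_succ_iso {N : ℕ} (Fs : Fin (N + 1) → C) (hFs : ∀ i, P (Fs i)) :
    Nonempty ((∐ Fs) ≅ (∐ fun j : Fin N => Fs j.castSucc) ⊞ Fs (Fin.last N)) := by
  have hB : P (∐ fun j : Fin N => Fs j.castSucc) := h.sigma _ (fun j => hFs _)
  refine nonempty_iso_of_mult_eq h (h.sigma _ hFs) (h.biprod hB (hFs _)) (fun c => ?_)
  rw [mult_biprod h hB (hFs _), mult_sigma h _ hFs, mult_sigma h _ (fun j => hFs _),
    Fin.sum_univ_castSucc]

include h in
/-- an additive isomorphism invariant is additive on finite coproducts -/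
theorem additive_sigma (φ : C → ℤ) (hiso : ∀ {A B : C}, P A → (A ≅ B) → φ A = φ B)
    (hadd : ∀ {A B : C}, P A → P B → φ (A ⊞ B) = φ A + φ B) :
    ∀ {N : ℕ} (Fs : Fin N → C), (∀ i, P (Fs i)) → φ (∐ Fs) = ∑ i, φ (Fs i)
  | 0, Fs, hFs => by
    have hZ : P (∐ Fs) := h.sigma _ hFs
    have hm : ∀ c, mult h (∐ Fs) c = 0 := fun c => by rw [mult_sigma h _ hFs]; simp
    obtain ⟨e⟩ := nonempty_iso_of_mult_eq h hZ (h.biprod hZ hZ)
      (fun c => by rw [mult_biprod h hZ hZ, hm c])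
    have := hiso hZ e
    rw [hadd hZ hZ] at this
    simp only [Finset.univ_eq_empty, Finset.sum_empty]
    linarith
  | N + 1, Fs, hFs => by
    obtain ⟨e⟩ := nonempty_sigma_succ_iso h Fs hFs
    have hB : P (∐ fun j : Fin N => Fs j.castSucc) := h.sigma _ (fun j => hFs _)
    rw [hiso (h.sigma _ hFs) e, hadd hB (hFs _),
      additive_sigma φ hiso hadd _ (fun j => hFs _), Fin.sum_univ_castSucc]

end abstract

theorem arith1 {r' T D ℓ C g d n : ℤ} (hr : 0 < r') (hT : 0 < T) (hdn : r' * D = n * T * d)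
    (hdeg : D - T * g ≤ T * ℓ) (hℓ : ℓ ≤ C) (hd : 0 < d) (hn : r' * (C + g) < n) (hn0 : 0 ≤ n) :
    False := by
  have h1 : T * ℓ ≤ T * C := mul_le_mul_of_nonneg_left hℓ hT.le
  have h2 : D ≤ T * (C + g) := by nlinarith
  have h3 : n * T * d ≤ r' * (T * (C + g)) := by
    rw [← hdn]; exact mul_le_mul_of_nonneg_left h2 hr.le
  have h4 : n * d ≤ r' * (C + g) := by
    have : T * (n * d) ≤ T * (r' * (C + g)) := by nlinarith
    exact le_of_mul_le_mul_left this hT
  have h6 : n ≤ n * d := by nlinarith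
  linarith

theorem arith2 {r T N M χO χ d n : ℤ} (hr : 0 < r) (hT : 0 < T) (hM : 0 ≤ M) (hNT : N ≤ T)
    (hlow : -(N * M) ≤ χ) (hdn : r * (χ - T * χO) = n * T * d) (hd : d < 0)
    (hn : r * (M + |χO|) < n) (hn0 : 0 ≤ n) : False := by
  have h1 : -(T * M) ≤ χ := by
    have : N * M ≤ T * M := mul_le_mul_of_nonneg_right hNT hM
    linarith
  have h2 : -(r * T * (M + χO)) ≤ n * T * d := by
    have : r * (-(T * M)) ≤ r * χ := mul_le_mul_of_nonneg_left h1 hr.le
    nlinarith
  have h3 : -(r * (M + χO)) ≤ n * d := by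
    have : T * (-(r * (M + χO))) ≤ T * (n * d) := by nlinarith
    exact le_of_mul_le_mul_left this hT
  have h5 : n * d ≤ -n := by nlinarith
  have h6 : r * (M + χO) ≤ r * (M + |χO|) :=
    mul_le_mul_of_nonneg_left (by have := le_abs_self χO; linarith) hr.le
  linarith


open Groth.Agent.Lib.Lead.VBCurve

variable (k : Type u) [Field k] (X : Scheme.{u}) [X.Over (Spec (CommRingCat.of k))]
  [IsProper (X ↘ Spec (CommRingCat.of k))]

variable {X}

include k in
/-- direct summands of bundles are bundles -/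
theorem summand_data [IsIntegral X] (hP : PIDStalks X) {A W R : X.Modules} {ρ : ℕ}
    (hA : FlatMod.IsFinLocFreeOfRank ρ A) (e : A ≅ W ⊞ R) :
    ∃ ρW ρR : ℕ, FlatMod.IsFinLocFreeOfRank ρW W ∧ FlatMod.IsFinLocFreeOfRank ρR R ∧
      ρ = ρW + ρR := by
  have key : ∀ {W R : X.Modules} (e : A ≅ W ⊞ R), ∃ ρW : ℕ, FlatMod.IsFinLocFreeOfRank ρW W := by
    intro W R e
    set f : A ⟶ A := e.hom ≫ biprod.fst ≫ biprod.inl ≫ e.inv with hf
    obtain ⟨rK, rI, -, hI, -⟩ := kernel_image_data k X hP hA hA f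
    have comm : (e.hom ≫ biprod.fst) ≫ (biprod.inl ≫ e.inv) = f := by simp [hf]
    haveI : IsSplitEpi (biprod.fst : W ⊞ R ⟶ W) := IsSplitEpi.mk' ⟨biprod.inl, biprod.inl_fst⟩
    haveI : IsSplitMono (biprod.inl : W ⟶ W ⊞ R) := IsSplitMono.mk' ⟨biprod.fst, biprod.inl_fst⟩
    haveI : Epi (e.hom ≫ (biprod.fst : W ⊞ R ⟶ W)) := epi_comp _ _
    haveI : Mono ((biprod.inl : W ⟶ W ⊞ R) ≫ e.inv) := mono_comp _ _
    exact ⟨rI, Groth.Agent.Lib.helper16.FLF.isFinLocFreeOfRank_of_iso
      ((Limits.image.isoStrongEpiMono _ _ comm) ≪≫ (Abelian.imageIsoImage f).symm).symm hI⟩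
  obtain ⟨ρW, hW⟩ := key e
  obtain ⟨ρR, hR⟩ := key (e ≪≫ biprod.braiding W R)
  refine ⟨ρW, ρR, hW, hR, ?_⟩
  have hT : (ShortComplex.mk (biprod.inl : W ⟶ W ⊞ R) biprod.snd biprod.inl_snd).ShortExact :=
    (ShortComplex.Splitting.ofHasBinaryBiproduct W R).shortExact
  exact Groth.Agent.Lib.Lead.RankAdd.rank_add_of_shortExact _ hT ρW ρ ρR hW
    (Groth.Agent.Lib.helper16.FLF.isFinLocFreeOfRank_of_iso e hA) hR

include k in
/-- a bundle of rank `ρ` has at most `ρ` nonzero summands -/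
theorem card_le_rank [IsIntegral X] (hP : PIDStalks X) :
    ∀ (N : ℕ) (Fs : Fin N → X.Modules) (A : X.Modules) (ρ : ℕ), FlatMod.IsFinLocFreeOfRank ρ A →
      (A ≅ ∐ Fs) → (∀ i, ¬ IsZero (Fs i)) → N ≤ ρ := by
  intro N
  induction N with
  | zero => intros; exact Nat.zero_le _
  | succ N ih =>
    intro Fs A ρ hA e hnz
    have h := ksClass_isCoh k X
    have hAc : Coh.IsCoh A := Groth.Agent.Lib.Lead.RankAdd.isCoh_of_isFinLocFreeOfRank hA
    have hFs : ∀ i, Coh.IsCoh (Fs i) := by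
      intro i
      obtain ⟨R, ⟨eR⟩⟩ := exists_iso_biprod_of_sigma Fs i
      exact (h.summand (h.of_iso (e ≪≫ eR) hAc)).1
    obtain ⟨e'⟩ := nonempty_sigma_succ_iso h Fs hFs
    obtain ⟨ρB, ρW, hB, hW, hρ⟩ := summand_data k hP hA (e ≪≫ e')
    have h1 := ih (fun j => Fs j.castSucc) _ ρB hB (Iso.refl _) (fun j => hnz _)
    have h2 : ρW ≠ 0 := by
      rintro rfl
      exact hnz _ (isZero_of_isFinLocFreeOfRank_zero hW)
    omega

theorem isFinLocFreeOfRank_tensorPow {E : X.Modules} {r : ℕ} (hE : FlatMod.IsFinLocFreeOfRank r E)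
    (n : ℕ) : FlatMod.IsFinLocFreeOfRank (r ^ n) (CohB1.tensorPow E n) := by
  induction n with
  | zero =>
    rw [pow_zero]
    exact (Groth.Agent.Lib.helper16.FLF.isInvertible_iff_isFinLocFreeOfRank_one _).mp
      (Groth.Agent.Lib.helper11.InvMod.isInvertible_structureModule X)
  | succ n ih =>
    rw [pow_succ]
    exact Groth.Agent.Lib.Helper18.EffCartierCurve.isFinLocFreeOfRank_tensor ih hE

include k in
/-- `r · deg E^{⊗ n} = n rⁿ · deg E` -/
theorem deg_tensorPow (hdim : topologicalKrullDim X ≤ 1) {E : X.Modules} {r : ℕ}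
    (hE : FlatMod.IsFinLocFreeOfRank r E) (n : ℕ) :
    (r : ℤ) * Curv2.deg k X (CohB1.tensorPow E n) (r ^ n) =
      (n : ℤ) * (r : ℤ) ^ n * Curv2.deg k X E r := by
  induction n with
  | zero =>
    rw [pow_zero]
    change (r : ℤ) * Curv2.deg k X (Coh.structureModule X) 1 = _
    rw [Groth.Agent.Lib.Lead.CurveEuler.deg_structureModule]
    simp
  | succ n ih =>
    have h1 := Groth.Agent.Lib.Helper18.DegTensor.deg_tensor k X hdim
      (isFinLocFreeOfRank_tensorPow hE n) hE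
    change (r : ℤ) * Curv2.deg k X (CohB1.tensorMod (CohB1.tensorPow E n) E) (r ^ (n + 1)) = _
    rw [pow_succ, h1]
    push_cast
    have : (r : ℤ) * ((r : ℤ) ^ n * Curv2.deg k X E r + r * Curv2.deg k X (CohB1.tensorPow E n) (r ^ n)) =
        (r : ℤ) ^ n * r * Curv2.deg k X E r +
          r * ((r : ℤ) * Curv2.deg k X (CohB1.tensorPow E n) (r ^ n)) := by ring
    rw [this, ih]
    ring

omit [X.Over (Spec (CommRingCat.of k))] [IsProper (X ↘ Spec (CommRingCat.of k))] in
lemma koszTw_tensorMap_eq {M M' N N' : X.Modules} (f : M ⟶ M') (g : N ⟶ N') :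
    KoszTw.tensorMap f g = Groth.Agent.Lib.Lead.ModTensor.tensorMap f g := by
  unfold KoszTw.tensorMap Groth.Agent.Lib.Lead.ModTensor.tensorMap
  rw [MonoidalCategory.tensorHom_def, Functor.map_comp]
  rfl

theorem mono_tensorPowMap {F E : X.Modules} {r r' : ℕ} (hE : FlatMod.IsFinLocFreeOfRank r E)
    (hF : FlatMod.IsFinLocFreeOfRank r' F) (i : F ⟶ E) [Mono i] (n : ℕ) :
    Mono (tensorPowMap i n) := by
  induction n with
  | zero => change Mono (𝟙 _); infer_instance
  | succ n ih =>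
    have h1 : tensorPowMap i (n + 1) =
        tensorMap (tensorPowMap i n) (𝟙 F) ≫ tensorMap (𝟙 (CohB1.tensorPow E n)) i := by
      change tensorMap (tensorPowMap i n) i = _
      rw [← tensorMap_comp, Category.comp_id, Category.id_comp]
    rw [h1]
    haveI m1 : Mono (tensorMap (tensorPowMap i n) (𝟙 F)) := by
      rw [koszTw_tensorMap_eq]
      exact Groth.Agent.Lib.Helper18.DegCalc.mono_tensorMap_of_isFinLocFreeOfRank (tensorPowMap i n) hF
    haveI m2 : Mono (tensorMap (𝟙 (CohB1.tensorPow E n)) i) := by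
      rw [koszTw_tensorMap_eq]
      exact Groth.Agent.Lib.helper9.CurveHopf.mono_tensorMap_right_of_isFinLocFree i
        (Groth.Agent.Lib.helper16.FLF.isFinLocFree_of_isFinLocFreeOfRank (isFinLocFreeOfRank_tensorPow hE n))
    exact mono_comp _ _

include k in
/-- the degrees of invertible modules mapping nontrivially to a tensor power of a finite bundle are
bounded above -/
theorem exists_bound_of_wFin [IsIntegral X] (hP : PIDStalks X) (hdim : topologicalKrullDim X ≤ 1)
    {E : X.Modules} {r : ℕ} (hE : FlatMod.IsFinLocFreeOfRank r E) (hw : WFin E) :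
    ∃ C : ℤ, ∀ (n : ℕ) (L : X.Modules) (j : L ⟶ CohB1.tensorPow E n), PicF.IsInvertible L → j ≠ 0 →
      Curv2.deg k X L 1 ≤ C := by
  haveI := Groth.Agent.Lib.Lead.CurveEuler.isNoetherian k X
  have h := ksClass_isCoh k X
  have hEc : Coh.IsCoh E := Groth.Agent.Lib.Lead.RankAdd.isCoh_of_isFinLocFreeOfRank hE
  obtain ⟨S, hS, -, -⟩ := (wFin_iff k hEc).1 hw
  refine ⟨(∑ c ∈ S, (finrank k (Coh.HH X c.out 0) : ℤ)) -
    Curv2.euler k X (Coh.structureModule X), ?_⟩
  intro n L j hL hj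
  have hcoh := isCoh_tensorPow hEc n
  obtain ⟨N, Fs, hFs, ⟨e⟩⟩ := h.ex (CohB1.tensorPow E n) hcoh
  set j' : L ⟶ ⨁ Fs := j ≫ e.hom ≫ (biproduct.isoCoproduct Fs).inv with hj'
  have hex : ∃ i, j' ≫ biproduct.π Fs i ≠ 0 := by
    by_contra hcon
    push Not at hcon
    apply hj
    have h0 : j' = 0 := biproduct.hom_ext _ _ (fun i => by rw [hcon i, zero_comp])
    have : j = j' ≫ (biproduct.isoCoproduct Fs).hom ≫ e.inv := by
      rw [hj']
      simp only [Category.assoc, Iso.inv_hom_id_assoc, Iso.hom_inv_id, Category.comp_id]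
    rw [this, h0, zero_comp]
  obtain ⟨i, hi⟩ := hex
  obtain ⟨R, ⟨eR⟩⟩ := exists_iso_biprod_of_sigma Fs i
  obtain ⟨ρW, ρR, hW, -, -⟩ := summand_data k hP (isFinLocFreeOfRank_tensorPow hE n) (e ≪≫ eR)
  have hL1 := (Groth.Agent.Lib.helper16.FLF.isInvertible_iff_isFinLocFreeOfRank_one L).mp hL
  obtain ⟨rK, rI, -, -, hrr, -, hpos, hmono, -⟩ :=
    kernel_image_data k X hP hL1 hW (j' ≫ biproduct.π Fs i)
  haveI : Mono (j' ≫ biproduct.π Fs i) := hmono (by have := hpos hi; omega)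
  have hWc : Coh.IsCoh (Fs i) := Groth.Agent.Lib.Lead.RankAdd.isCoh_of_isFinLocFreeOfRank hW
  have hLc : Coh.IsCoh L := Groth.Agent.Lib.Lead.RankAdd.isCoh_of_isFinLocFreeOfRank hL1
  have h1 := deg_le_of_mono k X hdim hLc.1 hWc (j' ≫ biproduct.π Fs i) 1
  have hmem : cls (Fs i) ∈ S := hS n _ ((mult_pos_iff h hcoh Fs hFs e _).2 ⟨i, rfl⟩)
  have h2 : finrank k (Coh.HH X (Fs i) 0) = finrank k (Coh.HH X (cls (Fs i)).out 0) :=
    Groth.Agent.Lib.helper9.CurveTwist.finrank_HH_eq_of_iso k (nonempty_iso_out (Fs i)).some.symm 0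
  have h3 : (finrank k (Coh.HH X (cls (Fs i)).out 0) : ℤ) ≤
      ∑ c ∈ S, (finrank k (Coh.HH X c.out 0) : ℤ) :=
    Finset.single_le_sum (f := fun c : Cls X.Modules => (finrank k (Coh.HH X c.out 0) : ℤ))
      (fun _ _ => Nat.cast_nonneg _) hmem
  rw [h2] at h1
  push_cast at h1
  linarith

include k in
/-- subbundles of a finite bundle have degree `≤ 0` -/
theorem deg_sub_le_zero_of_wFin [IsAlgClosed k] [IsIntegral X] (hP : PIDStalks X)
    (hdim : topologicalKrullDim X = 1)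
    {E : X.Modules} {r : ℕ} (hE : FlatMod.IsFinLocFreeOfRank r E) (hw : WFin E)
    (F : X.Modules) (r' : ℕ) (i : F ⟶ E) [Mono i] (hr' : 0 < r')
    (hF : FlatMod.IsFinLocFreeOfRank r' F) : Curv2.deg k X F r' ≤ 0 := by
  obtain ⟨C, hC⟩ := exists_bound_of_wFin k hP hdim.le hE hw
  by_contra hpos
  push Not at hpos
  set d := Curv2.deg k X F r' with hd
  set g : ℤ := (Curv2.genus k X : ℤ) with hg
  set n : ℕ := ((r' : ℤ) * (C + g)).toNat + 1 with hn
  have hFn := isFinLocFreeOfRank_tensorPow hF n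
  obtain ⟨L, ι, hL, hι, hdeg⟩ := exists_invertible_sub_deg_ge k X hP hdim (pow_pos hr' n) hFn
  haveI := hι
  haveI := mono_tensorPowMap hE hF i n
  have hne : ι ≫ tensorPowMap i n ≠ 0 := by
    intro h0
    have h1 : ι = 0 := zero_of_comp_mono _ h0
    exact not_isZero_of_isInvertible X hL (IsZero.of_mono_eq_zero ι h1)
  have hCL := hC n L (ι ≫ tensorPowMap i n) hL hne
  have hdn := deg_tensorPow k hdim.le hF n
  have hr'z : (0 : ℤ) < (r' : ℤ) := by exact_mod_cast hr'
  have hTpos : (0 : ℤ) < (r' : ℤ) ^ n := pow_pos hr'z n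
  push_cast at hdeg
  have h5 : (r' : ℤ) * (C + g) < (n : ℤ) := by
    rw [hn]; push_cast
    have := Int.self_le_toNat ((r' : ℤ) * (C + g))
    omega
  exact arith1 hr'z hTpos hdn hdeg hCL hpos h5 (Nat.cast_nonneg _)

include k in
/-- a finite bundle has degree `≥ 0` -/
theorem deg_nonneg_of_wFin [IsIntegral X] (hP : PIDStalks X) (hdim : topologicalKrullDim X ≤ 1)
    {E : X.Modules} {r : ℕ} (hr : 0 < r) (hE : FlatMod.IsFinLocFreeOfRank r E) (hw : WFin E) :
    0 ≤ Curv2.deg k X E r := by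
  haveI := Groth.Agent.Lib.Lead.CurveEuler.isNoetherian k X
  have h := ksClass_isCoh k X
  have hEc : Coh.IsCoh E := Groth.Agent.Lib.Lead.RankAdd.isCoh_of_isFinLocFreeOfRank hE
  obtain ⟨S, hS, -, -⟩ := (wFin_iff k hEc).1 hw
  by_contra hneg
  push Not at hneg
  set d := Curv2.deg k X E r with hd
  set χO := Curv2.euler k X (Coh.structureModule X) with hχO
  set M : ℤ := ∑ c ∈ S, |Curv2.euler k X c.out| with hM
  have hM0 : 0 ≤ M := Finset.sum_nonneg (fun _ _ => abs_nonneg _)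
  set n : ℕ := ((r : ℤ) * (M + |χO|)).toNat + 1 with hn
  have hcoh := isCoh_tensorPow hEc n
  obtain ⟨N, Fs, hFs, ⟨e⟩⟩ := h.ex (CohB1.tensorPow E n) hcoh
  have hFsc : ∀ i, Coh.IsCoh (Fs i) := by
    intro i
    obtain ⟨R, ⟨eR⟩⟩ := exists_iso_biprod_of_sigma Fs i
    exact (h.summand (h.of_iso (e ≪≫ eR) hcoh)).1
  have hN : N ≤ r ^ n := card_le_rank k hP N Fs _ _ (isFinLocFreeOfRank_tensorPow hE n) e
    (fun i => (hFs i).1)
  have hadd : ∀ {A B : X.Modules}, Coh.IsCoh A → Coh.IsCoh B →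
      Curv2.euler k X (A ⊞ B) = Curv2.euler k X A + Curv2.euler k X B := by
    intro A B hA hB
    exact Groth.Agent.Lib.Lead.ProperEuler.euler_additive k
      (S := ShortComplex.mk (biprod.inl : A ⟶ A ⊞ B) biprod.snd biprod.inl_snd)
      (ShortComplex.Splitting.ofHasBinaryBiproduct A B).shortExact hA hB
  have hiso : ∀ {A B : X.Modules}, Coh.IsCoh A → (A ≅ B) →
      Curv2.euler k X A = Curv2.euler k X B :=
    fun _ e => Groth.Agent.Lib.Lead.CurveEuler.euler_eq_of_iso k X e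
  have hsum : Curv2.euler k X (∐ Fs) = ∑ i, Curv2.euler k X (Fs i) :=
    additive_sigma h (Curv2.euler k X) hiso hadd Fs hFsc
  have hχ : Curv2.euler k X (CohB1.tensorPow E n) = ∑ i, Curv2.euler k X (Fs i) := by
    rw [Groth.Agent.Lib.Lead.CurveEuler.euler_eq_of_iso k X e, hsum]
  have hterm : ∀ i, -M ≤ Curv2.euler k X (Fs i) := by
    intro i
    have hmem : cls (Fs i) ∈ S := hS n _ ((mult_pos_iff h hcoh Fs hFs e _).2 ⟨i, rfl⟩)
    have h2 : Curv2.euler k X (Fs i) = Curv2.euler k X (cls (Fs i)).out :=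
      Groth.Agent.Lib.Lead.CurveEuler.euler_eq_of_iso k X (nonempty_iso_out (Fs i)).some.symm
    have h3 : |Curv2.euler k X (cls (Fs i)).out| ≤ M :=
      Finset.single_le_sum (f := fun c : Cls X.Modules => |Curv2.euler k X c.out|)
        (fun _ _ => abs_nonneg _) hmem
    rw [h2]
    have := neg_abs_le (Curv2.euler k X (cls (Fs i)).out)
    linarith
  have hlow : -((N : ℤ) * M) ≤ Curv2.euler k X (CohB1.tensorPow E n) := by
    rw [hχ]
    have : ∑ _i : Fin N, (-M) ≤ ∑ i, Curv2.euler k X (Fs i) :=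
      Finset.sum_le_sum (fun i _ => hterm i)
    simpa using this
  have hrz : (0 : ℤ) < (r : ℤ) := by exact_mod_cast hr
  have hTpos : (0 : ℤ) < (r : ℤ) ^ n := pow_pos hrz n
  have hNT : (N : ℤ) ≤ (r : ℤ) ^ n := by exact_mod_cast hN
  have hdn := deg_tensorPow k hdim hE n
  have hdef : Curv2.deg k X (CohB1.tensorPow E n) (r ^ n) =
      Curv2.euler k X (CohB1.tensorPow E n) - (r : ℤ) ^ n * χO := by
    unfold Curv2.deg; push_cast; ring
  rw [hdef] at hdn
  have h4 : (r : ℤ) * (M + |χO|) < (n : ℤ) := by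
    rw [hn]; push_cast
    have := Int.self_le_toNat ((r : ℤ) * (M + |χO|))
    omega
  exact arith2 hrz hTpos hM0 hNT hlow hdn hneg h4 (Nat.cast_nonneg _)

end Groth.Agent.Lib.Lead.NoriFin
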