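import Mathlib
import Groth.Agent.Lib.Lead.NoriFin5
import Groth.Agent.Lib.Lead.VBCurve24
import Groth.Agent.Lib.Lead.VBCurve1
import Groth.Agent.Lib.Helper7.CohKer

/-!
# Essentially finite bundles on a curve: tensor products (lead)

`X` an integral proper curve with PID local rings over a field `k`.

* `ses_data`: rank and degree of the kernel in a short exact sequence of bundles.
* `isFinLocFree_cokernel_of_deg_zero`: in a bundle all of whose subbundles have degree `≤ 0`, a subbundle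
  of degree `0` is saturated.
* `mono_tensorMap_of_mono`, `epi_tensorMap_of_epi`.
* `deg_sub_quotient_le_zero`.
* `EssFin`, `essFin_tensor`: the tensor product of essentially finite bundles is essentially finite.
-/

set_option autoImplicit false
set_option backward.isDefEq.respectTransparency false
set_option linter.style.haveILetI false
set_option linter.unusedSectionVars false

universe u
open CategoryTheory CategoryTheory.Limits AlgebraicGeometry Module

namespace Groth.Agent.Lib.Lead.NoriFin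

open Groth.Agent.Lib.Lead.VBCurve Groth.Agent.Lib.Lead.ModTensor

attribute [local instance] Abelian.hasFiniteBiproducts

variable (k : Type u) [Field k] {X : Scheme.{u}} [X.Over (Spec (CommRingCat.of k))]
  [IsProper (X ↘ Spec (CommRingCat.of k))] [IsIntegral X]

include k in
/-- rank and degree of the kernel in a short exact sequence of bundles -/
theorem ses_data (hP : PIDStalks X) {S : ShortComplex X.Modules} (hS : S.ShortExact) {a t : ℕ}
    (hA : FlatMod.IsFinLocFreeOfRank a S.X₂) (hT : FlatMod.IsFinLocFreeOfRank t S.X₃) :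
    ∃ b : ℕ, FlatMod.IsFinLocFreeOfRank b S.X₁ ∧ a = b + t ∧
      Curv2.deg k X S.X₂ a = Curv2.deg k X S.X₁ b + Curv2.deg k X S.X₃ t := by
  haveI := Groth.Agent.Lib.Lead.CurveEuler.isNoetherian k X
  haveI := hS.mono_f
  have hAc := Groth.Agent.Lib.Lead.RankAdd.isCoh_of_isFinLocFreeOfRank hA
  have hTc := Groth.Agent.Lib.Lead.RankAdd.isCoh_of_isFinLocFreeOfRank hT
  have eK : S.X₁ ≅ kernel S.g :=
    (hS.exact.fIsKernel).conePointUniqueUpToIso (limit.isLimit (parallelPair S.g 0))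
  have hKc : Coh.IsCoh S.X₁ := Groth.Agent.Lib.helper21.ShHomCoh.isCoh_of_iso' eK.symm
    (Groth.Agent.Lib.helper7.CohKer.isCoh_kernel hAc hTc S.g)
  have hK := isFinLocFree_of_mono hP hKc
    (Groth.Agent.Lib.helper16.FLF.isFinLocFree_of_isFinLocFreeOfRank hA) S.f
  obtain ⟨b, hb⟩ := exists_rank_of_isFinLocFree hK
  have hrk := Groth.Agent.Lib.Lead.RankAdd.rank_add_of_shortExact S hS b a t hb hA hT
  exact ⟨b, hb, hrk, Groth.Agent.Lib.Lead.ProperEuler.deg_additive k hS hKc hTc b a t hrk⟩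

include k in
/-- a subbundle of degree `0` of a bundle all of whose subbundles have degree `≤ 0` is saturated -/
theorem isFinLocFree_cokernel_of_deg_zero (hP : PIDStalks X) (hdim : topologicalKrullDim X ≤ 1)
    {A W : X.Modules} {a w : ℕ} (hA : FlatMod.IsFinLocFreeOfRank a A)
    (hW : FlatMod.IsFinLocFreeOfRank w W) (ι : A ⟶ W) [Mono ι] (hdeg : Curv2.deg k X A a = 0)
    (hss : ∀ (K : X.Modules) (t : ℕ) (j : K ⟶ W), Mono j → 0 < t → FlatMod.IsFinLocFreeOfRank t K →
      Curv2.deg k X K t ≤ 0) : FlatMod.IsFinLocFree (cokernel ι) := by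
  rcases Nat.eq_zero_or_pos a with ha | ha
  · subst ha
    have hz : ι = 0 := (isZero_of_isFinLocFreeOfRank_zero hA).eq_of_src _ _
    subst hz
    exact Groth.Agent.Lib.helper16.FLF.isFinLocFree_of_isFinLocFreeOfRank
      (Groth.Agent.Lib.helper16.FLF.isFinLocFreeOfRank_of_iso cokernelZeroIsoTarget.symm hW)
  · obtain ⟨A₁, l, ι₁, t, hm₁, hl, hA₁, hrk, hQ⟩ := exists_saturation k X hP hdim hA hW ι
    haveI := hm₁
    haveI : Mono l := mono_of_mono_fac hl
    have h1 := deg_le k X hdim hA hA₁ l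
    have h2 := hss A₁ a ι₁ hm₁ ha hA₁
    haveI : IsIso l := isIso_of_deg_eq k X hdim hA hA₁ l (by omega)
    have e : cokernel ι ≅ cokernel ι₁ := by
      subst hl
      exact cokernelEpiComp l ι₁
    exact Groth.Agent.Lib.helper16.FLF.isFinLocFree_of_isFinLocFreeOfRank
      (Groth.Agent.Lib.helper16.FLF.isFinLocFreeOfRank_of_iso e.symm hQ)

omit [X.Over (Spec (CommRingCat.of k))] [IsProper (X ↘ Spec (CommRingCat.of k))] [IsIntegral X] in
theorem mono_tensorMap_of_mono {F G F' G' : X.Modules} {a b : ℕ}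
    (hF' : FlatMod.IsFinLocFreeOfRank a F') (hG : FlatMod.IsFinLocFreeOfRank b G)
    (i : F ⟶ G) [Mono i] (i' : F' ⟶ G') [Mono i'] : Mono (tensorMap i i') := by
  have h1 : tensorMap i i' = tensorMap i (𝟙 F') ≫ tensorMap (𝟙 G) i' := by
    rw [← tensorMap_comp, Category.comp_id, Category.id_comp]
  rw [h1]
  haveI m1 : Mono (tensorMap i (𝟙 F')) :=
    Groth.Agent.Lib.Helper18.DegCalc.mono_tensorMap_of_isFinLocFreeOfRank i hF'
  haveI m2 : Mono (tensorMap (𝟙 G) i') :=
    Groth.Agent.Lib.helper9.CurveHopf.mono_tensorMap_right_of_isFinLocFree i'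
      (Groth.Agent.Lib.helper16.FLF.isFinLocFree_of_isFinLocFreeOfRank hG)
  exact mono_comp _ _

omit [X.Over (Spec (CommRingCat.of k))] [IsProper (X ↘ Spec (CommRingCat.of k))] [IsIntegral X] in
theorem epi_tensorMap_of_epi {A B A' B' : X.Modules} (p : A ⟶ B) [Epi p] (p' : A' ⟶ B') [Epi p'] :
    Epi (tensorMap p p') := by
  have h1 : tensorMap p p' = tensorMap p (𝟙 A') ≫ tensorMap (𝟙 B) p' := by
    rw [← tensorMap_comp, Category.comp_id, Category.id_comp]
  have h2 : tensorMap (𝟙 B) p' = (braid B A').hom ≫ tensorMap p' (𝟙 B) ≫ (braid B B').inv := by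
    have h := Groth.Agent.Lib.helper9.CurveHopf.braid_naturality (𝟙 B) p'
    rw [← Category.assoc, ← h, Category.assoc, Iso.hom_inv_id, Category.comp_id]
  haveI e1 : Epi (tensorMap p (𝟙 A')) := Groth.Agent.Lib.helper12.TensorCocont.epi_tensorMap_right A' p
  haveI e2 : Epi (tensorMap p' (𝟙 B)) := Groth.Agent.Lib.helper12.TensorCocont.epi_tensorMap_right B p'
  haveI e3 : Epi (tensorMap (𝟙 B) p') := by rw [h2]; infer_instance
  rw [h1]
  exact epi_comp _ _

/-- the cokernel of the kernel of an epimorphism is the target -/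
noncomputable def cokernelKernelIso {C : Type*} [Category C] [Abelian C] {A T : C} (q : A ⟶ T) [Epi q] :
    cokernel (kernel.ι q) ≅ T :=
  (cokernelIsCokernel (kernel.ι q)).coconePointUniqueUpToIso
    (Abelian.epiIsCokernelOfKernel (KernelFork.ofι (kernel.ι q) (kernel.condition q))
      (kernelIsKernel q))

include k in
/-- submodules of a quotient of degree `0` of a bundle of degree `0` all of whose subbundles have degree `≤ 0` -/
theorem deg_sub_quotient_le_zero (hP : PIDStalks X) {A T K : X.Modules} {a t tk : ℕ}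
    (hA : FlatMod.IsFinLocFreeOfRank a A) (hT : FlatMod.IsFinLocFreeOfRank t T)
    (hK : FlatMod.IsFinLocFreeOfRank tk K) (q : A ⟶ T) [Epi q] (j : K ⟶ T) [Mono j]
    (dA : Curv2.deg k X A a = 0) (dT : Curv2.deg k X T t = 0)
    (hssA : ∀ (K' : X.Modules) (t' : ℕ) (j' : K' ⟶ A), Mono j' → 0 < t' →
      FlatMod.IsFinLocFreeOfRank t' K' → Curv2.deg k X K' t' ≤ 0) :
    Curv2.deg k X K tk ≤ 0 := by
  obtain ⟨φ, hφ⟩ : ∃ φ : A ⊞ K ⟶ T, φ = biprod.fst ≫ q + biprod.snd ≫ (-j) := ⟨_, rfl⟩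
  haveI : Epi φ := epi_of_epi_fac (f := biprod.inl) (g := φ) (h := q) (by rw [hφ]; simp)
  have hAK : FlatMod.IsFinLocFreeOfRank (a + tk) (A ⊞ K) :=
    Groth.Agent.Lib.helper16.FLF.isFinLocFreeOfRank_biprod hA hK
  have hS : (ShortComplex.mk (kernel.ι φ) φ (kernel.condition φ)).ShortExact :=
    { exact := ShortComplex.exact_kernel φ
      mono_f := inferInstanceAs (Mono (kernel.ι φ))
      epi_g := inferInstanceAs (Epi φ) }
  obtain ⟨b, hb, hrk, hdeg⟩ := ses_data k hP hS hAK hT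
  have hsplit : (ShortComplex.mk (biprod.inl : A ⟶ A ⊞ K) biprod.snd biprod.inl_snd).ShortExact :=
    (ShortComplex.Splitting.ofHasBinaryBiproduct A K).shortExact
  have hadd := Groth.Agent.Lib.Lead.ProperEuler.deg_additive k hsplit
    (Groth.Agent.Lib.Lead.RankAdd.isCoh_of_isFinLocFreeOfRank hA)
    (Groth.Agent.Lib.Lead.RankAdd.isCoh_of_isFinLocFreeOfRank hK) a (a + tk) tk rfl
  simp only at hdeg hadd
  have hdk : Curv2.deg k X (kernel φ) b = Curv2.deg k X K tk := by linarith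
  haveI : Mono (kernel.ι φ ≫ (biprod.fst : A ⊞ K ⟶ A)) := by
    refine Preadditive.mono_of_cancel_zero _ (fun {Z} u hu => ?_)
    obtain ⟨v, hv⟩ : ∃ v : Z ⟶ A ⊞ K, v = u ≫ kernel.ι φ := ⟨_, rfl⟩
    have hv1 : v ≫ biprod.fst = 0 := by rw [hv, Category.assoc]; exact hu
    have hv2 : v ≫ φ = 0 := by rw [hv, Category.assoc, kernel.condition, comp_zero]
    have hv4 : (v ≫ biprod.snd) ≫ j = 0 := by
      rw [hφ, Preadditive.comp_add, ← Category.assoc, hv1, zero_comp, zero_add,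
        Preadditive.comp_neg, Preadditive.comp_neg, neg_eq_zero, ← Category.assoc] at hv2
      exact hv2
    have hv5 : v ≫ biprod.snd = 0 := zero_of_comp_mono j hv4
    have hv0 : v = 0 := biprod.hom_ext _ _ (by rw [hv1, zero_comp]) (by rw [hv5, zero_comp])
    rw [hv] at hv0
    exact zero_of_comp_mono _ hv0
  rcases Nat.eq_zero_or_pos b with hb0 | hb0
  · subst hb0
    rw [← hdk, deg_zero_of_isZero k X (isZero_of_isFinLocFreeOfRank_zero hb)]
  · rw [← hdk]
    exact hssA _ b (kernel.ι φ ≫ biprod.fst) inferInstance hb0 hb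

/-- essentially finite bundles -/
def EssFin (k : Type u) [Field k] (X : Scheme.{u}) [X.Over (Spec (CommRingCat.of k))]
    (E : X.Modules) (r : ℕ) : Prop :=
  Curv2.deg k X E r = 0 ∧ ModFun.IsSlopeSemistable k X E r ∧
    ∃ (s : ℕ) (G : X.Modules) (s₁ : ℕ) (F₁ : X.Modules) (s₂ : ℕ) (F₂ : X.Modules) (i₁ : F₁ ⟶ G)
      (i₂ : F₂ ⟶ F₁),
      FlatMod.IsFinLocFreeOfRank s G ∧ WFin G ∧
      FlatMod.IsFinLocFreeOfRank s₁ F₁ ∧ FlatMod.IsFinLocFreeOfRank s₂ F₂ ∧ Mono i₁ ∧ Mono i₂ ∧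
      FlatMod.IsFinLocFree (cokernel i₁) ∧ FlatMod.IsFinLocFree (cokernel i₂) ∧
      Curv2.deg k X F₁ s₁ = 0 ∧ ModFun.IsSlopeSemistable k X F₁ s₁ ∧
      Curv2.deg k X F₂ s₂ = 0 ∧ ModFun.IsSlopeSemistable k X F₂ s₂ ∧
      Nonempty (E ≅ cokernel i₂)

include k in
/-- the tensor product of essentially finite bundles is essentially finite -/
theorem essFin_tensor [IsAlgClosed k] (hP : PIDStalks X) (hdim : topologicalKrullDim X = 1)
    {r₁ r₂ : ℕ} {E₁ E₂ : X.Modules} (hE₁ : FlatMod.IsFinLocFreeOfRank r₁ E₁)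
    (hE₂ : FlatMod.IsFinLocFreeOfRank r₂ E₂) (h₁ : EssFin k X E₁ r₁) (h₂ : EssFin k X E₂ r₂) :
    FlatMod.IsFinLocFreeOfRank (r₁ * r₂) (CohB1.tensorMod E₁ E₂) ∧
      EssFin k X (CohB1.tensorMod E₁ E₂) (r₁ * r₂) := by
  obtain ⟨dE₁, -, s, G, s₁, F₁, s₂, F₂, i₁, i₂, hG, wG, hF₁, hF₂, m₁, m₂, -, -, dF₁, -, -, -, ⟨e₁⟩⟩ := h₁
  obtain ⟨dE₂, -, s', G', s₁', F₁', s₂', F₂', i₁', i₂', hG', wG', hF₁', hF₂', m₁', m₂', -, -, dF₁', -,
    -, -, ⟨e₂⟩⟩ := h₂
  haveI := m₁
  haveI := m₁'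
  have hGc := Groth.Agent.Lib.Lead.RankAdd.isCoh_of_isFinLocFreeOfRank hG
  have hGc' := Groth.Agent.Lib.Lead.RankAdd.isCoh_of_isFinLocFreeOfRank hG'
  have hW := Groth.Agent.Lib.Helper18.EffCartierCurve.isFinLocFreeOfRank_tensor hG hG'
  have wW : WFin (CohB1.tensorMod G G') := (wFin_biprod_and_tensor k hGc hGc' wG wG').2
  have hssW : ∀ (K : X.Modules) (t : ℕ) (j : K ⟶ CohB1.tensorMod G G'), Mono j → 0 < t →
      FlatMod.IsFinLocFreeOfRank t K → Curv2.deg k X K t ≤ 0 := fun K t j hj ht hK => by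
    haveI := hj
    exact deg_sub_le_zero_of_wFin k hP hdim hW wW K t j ht hK
  have hA := Groth.Agent.Lib.Helper18.EffCartierCurve.isFinLocFreeOfRank_tensor hF₁ hF₁'
  haveI mA : Mono (tensorMap i₁ i₁') := mono_tensorMap_of_mono hF₁' hG i₁ i₁'
  have dA : Curv2.deg k X (CohB1.tensorMod F₁ F₁') (s₁ * s₁') = 0 := by
    rw [Groth.Agent.Lib.Helper18.DegTensor.deg_tensor k X hdim.le hF₁ hF₁', dF₁, dF₁']; simp
  have hT := Groth.Agent.Lib.Helper18.EffCartierCurve.isFinLocFreeOfRank_tensor hE₁ hE₂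
  have dT : Curv2.deg k X (CohB1.tensorMod E₁ E₂) (r₁ * r₂) = 0 := by
    rw [Groth.Agent.Lib.Helper18.DegTensor.deg_tensor k X hdim.le hE₁ hE₂, dE₁, dE₂]; simp
  haveI : Epi (cokernel.π i₂ ≫ e₁.inv) := epi_comp _ _
  haveI : Epi (cokernel.π i₂' ≫ e₂.inv) := epi_comp _ _
  set q : CohB1.tensorMod F₁ F₁' ⟶ CohB1.tensorMod E₁ E₂ :=
    tensorMap (cokernel.π i₂ ≫ e₁.inv) (cokernel.π i₂' ≫ e₂.inv) with hq
  haveI : Epi q := epi_tensorMap_of_epi _ _
  have hSq : (ShortComplex.mk (kernel.ι q) q (kernel.condition q)).ShortExact :=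
    { exact := ShortComplex.exact_kernel q
      mono_f := inferInstanceAs (Mono (kernel.ι q))
      epi_g := inferInstanceAs (Epi q) }
  obtain ⟨b, hB, hab, hdegB⟩ := ses_data k hP hSq hA hT
  simp only at hdegB
  have dB : Curv2.deg k X (kernel q) b = 0 := by linarith
  have hssA : ∀ (K : X.Modules) (t : ℕ) (j : K ⟶ CohB1.tensorMod F₁ F₁'), Mono j → 0 < t →
      FlatMod.IsFinLocFreeOfRank t K → Curv2.deg k X K t ≤ 0 := fun K t j hj ht hK => by
    haveI := hj
    exact hssW K t (j ≫ tensorMap i₁ i₁') (mono_comp _ _) ht hK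
  refine ⟨hT, dT, ?_, s * s', CohB1.tensorMod G G', s₁ * s₁', CohB1.tensorMod F₁ F₁', b, kernel q,
    tensorMap i₁ i₁', kernel.ι q, hW, wW, hA, hB, mA, inferInstance, ?_, ?_, dA, ?_, dB, ?_,
    ⟨(cokernelKernelIso q).symm⟩⟩
  · intro K t j hj ht hK
    haveI := hj
    rw [dT, zero_mul]
    exact mul_nonpos_of_nonpos_of_nonneg
      (deg_sub_quotient_le_zero k hP hA hT hK q j dA dT hssA) (Nat.cast_nonneg _)
  · exact isFinLocFree_cokernel_of_deg_zero k hP hdim.le hA hW (tensorMap i₁ i₁') dA hssW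
  · exact Groth.Agent.Lib.helper16.FLF.isFinLocFree_of_isFinLocFreeOfRank
      (Groth.Agent.Lib.helper16.FLF.isFinLocFreeOfRank_of_iso (cokernelKernelIso q).symm hT)
  · intro K t j hj ht hK
    rw [dA, zero_mul]
    exact mul_nonpos_of_nonpos_of_nonneg (hssA K t j hj ht hK) (Nat.cast_nonneg _)
  · intro K t j hj ht hK
    haveI := hj
    rw [dB, zero_mul]
    exact mul_nonpos_of_nonpos_of_nonneg (hssA K t (j ≫ kernel.ι q) (mono_comp _ _) ht hK)
      (Nat.cast_nonneg _)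

end Groth.Agent.Lib.Lead.NoriFin
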