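import Groth.Agent.Lib.Helper7.OmegaFitt
import Groth.Agent.Lib.Helper16.FLF8

/-!
# The sheaf of differentials of a smooth morphism is finite locally free (lead)

* `projective_sections_omega`: for `f : X ⟶ S` smooth (and quasi-separated) and affine opens
  `U ⊆ f⁻¹ V`, the sections `Γ(Ω_{X/S}, U)` form a finite projective `Γ(X, U)`-module.
* `isFinLocFree_omega`: `Ω_{X/S}` is finite locally free (`FlatMod.IsFinLocFree`) for `f` smooth.
-/

set_option autoImplicit false
set_option backward.isDefEq.respectTransparency false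
set_option linter.style.haveILetI false
set_option linter.unusedSectionVars false
universe u
open CategoryTheory CategoryTheory.Limits AlgebraicGeometry TopologicalSpace Opposite
open Scheme.Modules
open Groth.Agent.Lib.helper7

namespace Groth.Agent.Lib.Lead.OmegaSmooth

variable {X S : Scheme.{u}} (f : X ⟶ S) [QuasiSeparated f]

/-- sections of `Ω_{X/S}` over an affine chart pair are finite projective for `f` smooth -/
theorem projective_sections_omega [Smooth f] {W : S.Opens} (hW : IsAffineOpen W) {V : X.Opens}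
    (hV : IsAffineOpen V) (e : V ≤ f ⁻¹ᵁ W) :
    Module.Finite Γ(X, V) Γ(Omega.sheaf f, V) ∧ Module.Projective Γ(X, V) Γ(Omega.sheaf f, V) := by
  letI := (f.appLE W V e).hom.toAlgebra
  obtain ⟨ψ, -⟩ := OmegaStruct.exists_sectionsEquiv f (OmegaSh.dOmega f)
    (OmegaUniv.isUniversal_dOmega f) hV hW e
  have hsm : (f.appLE W V e).hom.Smooth :=
    HasRingHomProperty.appLE (P := @Smooth) f inferInstance ⟨W, hW⟩ ⟨V, hV⟩ e
  haveI : Algebra.Smooth Γ(S, W) Γ(X, V) := hsm
  exact ⟨Module.Finite.equiv ψ.symm, Module.Projective.of_equiv ψ.symm⟩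

/-- **`Ω_{X/S}` is finite locally free for `f` smooth.** -/
theorem isFinLocFree_omega [Smooth f] : FlatMod.IsFinLocFree (Omega.sheaf f) := by
  haveI : (Omega.sheaf f).IsQuasicoherent := OmegaAffine.omega_qcoh f
  refine Groth.Agent.Lib.helper16.FLF.isFinLocFree_of_projective_sections (Omega.sheaf f)
    (fun p : OmegaUniv.AffPair f => p.1.1.1) (fun p => p.1.1.2) ?_ (fun p => ?_)
  · rw [eq_top_iff]
    intro x _
    obtain ⟨W, hW, hxW, -⟩ := Opens.isBasis_iff_nbhd.mp S.isBasis_affineOpens
      (show f x ∈ (⊤ : S.Opens) from trivial)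
    obtain ⟨U, hU, hxU, hUW⟩ := Opens.isBasis_iff_nbhd.mp X.isBasis_affineOpens
      (show x ∈ f ⁻¹ᵁ W from hxW)
    exact Opens.mem_iSup.mpr ⟨⟨(⟨U, hU⟩, ⟨W, hW⟩), hUW⟩, hxU⟩
  · exact projective_sections_omega f p.1.2.2 p.1.1.2 p.2

end Groth.Agent.Lib.Lead.OmegaSmooth
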