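import Mathlib

/-!
# Universal property of a ring of differential operators `O[∂; δ]` presented by a normal form (lead)

`D` is a `K`-algebra with `ι : O →ₐ[K] D`, `d : D`, `d * ι f = ι f * d + ι (δ f)` and every element uniquely
`∑ ι (f i) * d ^ i`.  For a `K`-algebra `T` with `φ : O →ₐ[K] T` and `t : T` satisfying the same relation there is a
multiplicative `K`-linear map `D → T` with `ι f ↦ φ f`, `d ↦ t`.
-/

set_option autoImplicit false

namespace Groth.Agent.Lib.Lead.OreUP

variable {K : Type*} [CommRing K]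
  {O : Type*} [CommRing O] [Algebra K O]
  {D : Type*} [Ring D] [Algebra K D]

/-- The normal-form map `c ↦ ∑ ι (c i) * d ^ i`. -/
noncomputable def lam (ι : O →ₐ[K] D) (d : D) : (ℕ →₀ O) →ₗ[K] D :=
  Finsupp.lsum ℕ fun i => (LinearMap.mulRight K (d ^ i)) ∘ₗ ι.toLinearMap

lemma lam_apply (ι : O →ₐ[K] D) (d : D) (c : ℕ →₀ O) :
    lam ι d c = c.sum fun i f => ι f * d ^ i := by
  simp only [lam, Finsupp.lsum_apply]
  rfl

@[simp] lemma lam_single (ι : O →ₐ[K] D) (d : D) (i : ℕ) (f : O) :
    lam ι d (Finsupp.single i f) = ι f * d ^ i := by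
  rw [lam_apply, Finsupp.sum_single_index]
  simp

section UP

variable (δ : Derivation K O O) (ι : O →ₐ[K] D) (d : D)
  (hd : ∀ f : O, d * ι f = ι f * d + ι (δ f))
  (hbasis : Function.Bijective (fun c : ℕ →₀ O => c.sum (fun i f => ι f * d ^ i)))
  {T : Type*} [Ring T] [Algebra K T] (φ : O →ₐ[K] T) (t : T)
  (ht : ∀ f : O, t * φ f = φ f * t + φ (δ f))

include hbasis in
lemma lam_bijective : Function.Bijective (lam ι d) := by
  have : ⇑(lam ι d) = fun c : ℕ →₀ O => c.sum (fun i f => ι f * d ^ i) := by
    funext c; exact lam_apply ι d c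
  rw [this]; exact hbasis

/-- The normal form as a linear equivalence. -/
noncomputable def nf : (ℕ →₀ O) ≃ₗ[K] D :=
  LinearEquiv.ofBijective (lam ι d) (lam_bijective ι d hbasis)

/-- The induced map `D → T`. -/
noncomputable def psi : D →ₗ[K] T := lam φ t ∘ₗ (nf ι d hbasis).symm.toLinearMap

lemma psi_lam (c : ℕ →₀ O) : psi ι d hbasis φ t (lam ι d c) = lam φ t c := by
  simp only [psi, LinearMap.comp_apply, LinearEquiv.coe_coe]
  congr 1
  exact (nf ι d hbasis).symm_apply_apply c

lemma psi_basis (f : O) (i : ℕ) : psi ι d hbasis φ t (ι f * d ^ i) = φ f * t ^ i := by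
  rw [← lam_single, psi_lam, lam_single]

include hbasis in
lemma exists_lam (P : D) : ∃ c, lam ι d c = P := (lam_bijective ι d hbasis).2 P

lemma psi_ι_mul (f : O) (P : D) :
    psi ι d hbasis φ t (ι f * P) = φ f * psi ι d hbasis φ t P := by
  obtain ⟨c, rfl⟩ := exists_lam ι d hbasis P
  induction c using Finsupp.induction_linear with
  | zero => simp
  | add c₁ c₂ h₁ h₂ => rw [map_add, mul_add, map_add, h₁, h₂, map_add, mul_add]
  | single i g =>
    rw [lam_single, ← mul_assoc, ← map_mul, psi_basis, psi_basis, map_mul, mul_assoc]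

include hd ht in
lemma psi_d_mul (P : D) :
    psi ι d hbasis φ t (d * P) = t * psi ι d hbasis φ t P := by
  obtain ⟨c, rfl⟩ := exists_lam ι d hbasis P
  induction c using Finsupp.induction_linear with
  | zero => simp
  | add c₁ c₂ h₁ h₂ => rw [map_add, mul_add, map_add, h₁, h₂, map_add, mul_add]
  | single j g =>
    rw [lam_single, ← mul_assoc, hd, add_mul, mul_assoc, ← pow_succ', map_add, psi_basis, psi_basis,
      psi_basis, ← mul_assoc, ht, add_mul, mul_assoc, ← pow_succ']

include hd ht in
lemma psi_pow_mul (i : ℕ) (Q : D) :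
    psi ι d hbasis φ t (d ^ i * Q) = t ^ i * psi ι d hbasis φ t Q := by
  induction i with
  | zero => simp
  | succ i ih =>
    rw [pow_succ', mul_assoc, psi_d_mul δ ι d hd hbasis φ t ht, ih, ← mul_assoc, ← pow_succ']

include hd ht in
theorem psi_mul (P Q : D) :
    psi ι d hbasis φ t (P * Q) = psi ι d hbasis φ t P * psi ι d hbasis φ t Q := by
  obtain ⟨c, rfl⟩ := exists_lam ι d hbasis P
  induction c using Finsupp.induction_linear with
  | zero => simp
  | add c₁ c₂ h₁ h₂ => rw [map_add, add_mul, map_add, h₁, h₂, map_add, add_mul]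
  | single i f =>
    rw [lam_single, mul_assoc, psi_ι_mul, psi_pow_mul δ ι d hd hbasis φ t ht, psi_basis, mul_assoc]

lemma psi_ι (f : O) : psi ι d hbasis φ t (ι f) = φ f := by
  have := psi_basis ι d hbasis φ t f 0
  simpa using this

lemma psi_d : psi ι d hbasis φ t d = t := by
  have := psi_basis ι d hbasis φ t 1 1
  simpa using this

include hbasis in
/-- Two additive maps agreeing on the normal-form monomials agree. -/
lemma ext_of_basis {M : Type*} [AddCommMonoid M] (a b : D →+ M)
    (h : ∀ (f : O) (i : ℕ), a (ι f * d ^ i) = b (ι f * d ^ i)) : a = b := by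
  ext P
  obtain ⟨c, rfl⟩ := exists_lam ι d hbasis P
  induction c using Finsupp.induction_linear with
  | zero => simp
  | add c₁ c₂ h₁ h₂ => rw [map_add, map_add, map_add, h₁, h₂]
  | single i f => rw [lam_single, h]

end UP

end Groth.Agent.Lib.Lead.OreUP
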