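import Mathlib

/-!
# Claim B for p-bases (lead, for helper24)

`exists_pow_eq_of_forall_mem_closure`: `K` of characteristic `p`, `E/K` finite, `(K_i)` a directed decreasing family of
subfields of `K` containing `K^p` with `⋂ K_i = K^p`. If `u ∈ E` lies in the subring `K_i[E^p]` for every `i`, then
`u ∈ E^p`.
-/

set_option autoImplicit false
set_option linter.style.haveILetI false
universe u

namespace Groth.Agent.Lib.Lead.PBasisClaimB

theorem exists_pow_eq_of_forall_mem_closure {K E : Type u} [Field K] [Field E] [Algebra K E] [FiniteDimensional K E]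
    (p : ℕ) [Fact p.Prime] [CharP K p] {ι : Type*} [Preorder ι] [IsDirected ι (· ≤ ·)] [Nonempty ι]
    (Kf : ι → Subfield K) (hanti : Antitone Kf) (hpow : ∀ i (a : K), a ^ p ∈ Kf i)
    (hinter : ∀ a : K, (∀ i, a ∈ Kf i) → ∃ c : K, c ^ p = a) (u : E)
    (hu : ∀ i, u ∈ Subring.closure ((algebraMap K E '' (Kf i : Set K)) ∪ Set.range (fun e : E => e ^ p))) :
    ∃ e : E, e ^ p = u := by
  classical
  haveI : CharP E p := charP_of_injective_algebraMap (algebraMap K E).injective p
  let r := Module.finrank K E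
  let b : Module.Basis (Fin r) K E := Module.finBasis K E
  let v : Fin r → E := fun j => (b j) ^ p
  -- Frobenius
  have hfrob : ∀ e : E, e ^ p = ∑ j, (b.repr e j) ^ p • v j := by
    intro e
    conv_lhs => rw [← b.sum_repr e]
    rw [sum_pow_char]
    refine Finset.sum_congr rfl fun j _ => ?_
    rw [smul_pow]
  let W : ∀ i, Submodule (Kf i) E := fun i => Submodule.span (Kf i) (Set.range v)
  have hWpow : ∀ i (e : E), e ^ p ∈ W i := by
    intro i e
    rw [hfrob e]
    refine Submodule.sum_mem _ fun j _ => ?_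
    have : (b.repr e j) ^ p • v j = (⟨(b.repr e j) ^ p, hpow i _⟩ : Kf i) • v j := rfl
    rw [this]
    exact Submodule.smul_mem _ _ (Submodule.subset_span ⟨j, rfl⟩)
  have hWone : ∀ i, (1 : E) ∈ W i := fun i => by simpa using hWpow i 1
  have hWmul : ∀ i (x y : E), x ∈ W i → y ∈ W i → x * y ∈ W i := by
    intro i x y hx hy
    induction hx using Submodule.span_induction with
    | mem x hx =>
      obtain ⟨j, rfl⟩ := hx
      induction hy using Submodule.span_induction with
      | mem y hy =>
        obtain ⟨l, rfl⟩ := hy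
        show (b j) ^ p * (b l) ^ p ∈ W i
        rw [← mul_pow]
        exact hWpow i _
      | zero => rw [mul_zero]; exact zero_mem _
      | add y z _ _ hy hz => rw [mul_add]; exact add_mem hy hz
      | smul c y _ hy => rw [mul_smul_comm]; exact Submodule.smul_mem _ c hy
    | zero => rw [zero_mul]; exact zero_mem _
    | add x z _ _ hx hz => rw [add_mul]; exact add_mem hx hz
    | smul c x _ hx => rw [smul_mul_assoc]; exact Submodule.smul_mem _ c hx
  have hWu : ∀ i, u ∈ W i := by
    intro i
    let Wr : Subring E :=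
      { carrier := W i
        mul_mem' := fun {x y} hx hy => hWmul i x y hx hy
        one_mem' := hWone i
        add_mem' := fun {x y} hx hy => add_mem hx hy
        zero_mem' := zero_mem _
        neg_mem' := fun {x} hx => neg_mem hx }
    have hle : Subring.closure ((algebraMap K E '' (Kf i : Set K)) ∪ Set.range (fun e : E => e ^ p)) ≤ Wr := by
      refine Subring.closure_le.mpr ?_
      rintro x (⟨c, hc, rfl⟩ | ⟨e, rfl⟩)
      · show algebraMap K E c ∈ W i
        have : algebraMap K E c = (⟨c, hc⟩ : Kf i) • (1 : E) := by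
          rw [Algebra.algebraMap_eq_smul_one]; rfl
        rw [this]
        exact Submodule.smul_mem _ _ (hWone i)
      · exact hWpow i e
    exact hle (hu i)
  -- independence with coefficients in `Kf i`
  let Indep : ι → Finset (Fin r) → Prop := fun i I =>
    ∀ c : Fin r → K, (∀ j ∈ I, c j ∈ Kf i) → ∑ j ∈ I, c j • v j = 0 → ∀ j ∈ I, c j = 0
  have hIndep_mono : ∀ i i' I, i ≤ i' → Indep i I → Indep i' I :=
    fun i i' I h hI c hc => hI c (fun j hj => hanti h (hc j hj))
  let P : ℕ → Prop := fun n => ∃ (I : Finset (Fin r)) (i0 : ι), I.card = n ∧ Indep i0 I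
  have hP0 : P 0 := ⟨∅, Classical.arbitrary ι, rfl, fun c _ _ j hj => absurd hj (Finset.notMem_empty j)⟩
  obtain ⟨I, i0, hIn, hI⟩ : P (Nat.findGreatest P r) := Nat.findGreatest_spec (Nat.zero_le r) hP0
  -- exchange
  have hex : ∀ i, i0 ≤ i → ∀ l, v l ∈ Submodule.span (Kf i) (v '' (I : Set (Fin r))) := by
    intro i hi l
    by_cases hl : l ∈ I
    · exact Submodule.subset_span ⟨l, hl, rfl⟩
    · have hcard : (insert l I).card = Nat.findGreatest P r + 1 := by
        rw [Finset.card_insert_of_notMem hl, hIn]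
      have hle : Nat.findGreatest P r + 1 ≤ r := by
        rw [← hcard]
        exact (Finset.card_le_univ _).trans (by simp)
      have hnot : ¬ P (Nat.findGreatest P r + 1) :=
        Nat.findGreatest_is_greatest (Nat.lt_succ_self _) hle
      have hdep : ¬ Indep i (insert l I) := fun h => hnot ⟨insert l I, i, hcard, h⟩
      simp only [Indep] at hdep
      push Not at hdep
      obtain ⟨c, hc, hsum, j0, hj0, hcj0⟩ := hdep
      rw [Finset.sum_insert hl] at hsum
      have hcl : c l ≠ 0 := by
        intro h0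
        rw [h0, zero_smul, zero_add] at hsum
        have := hIndep_mono i0 i I hi hI c (fun j hj => hc j (Finset.mem_insert_of_mem hj)) hsum
        rcases Finset.mem_insert.mp hj0 with rfl | hj
        · exact hcj0 h0
        · exact hcj0 (this j0 hj)
      have hv : v l = ∑ j ∈ I, (-(c l)⁻¹ * c j) • v j := by
        have h1 : c l • v l = - ∑ j ∈ I, c j • v j := eq_neg_of_add_eq_zero_left hsum
        calc v l = (c l)⁻¹ • (c l • v l) := by rw [smul_smul, inv_mul_cancel₀ hcl, one_smul]
          _ = (c l)⁻¹ • (- ∑ j ∈ I, c j • v j) := by rw [h1]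
          _ = ∑ j ∈ I, (-(c l)⁻¹ * c j) • v j := by
            rw [smul_neg, Finset.smul_sum, ← Finset.sum_neg_distrib]
            refine Finset.sum_congr rfl fun j _ => ?_
            rw [smul_smul, neg_mul, neg_smul]
      rw [hv]
      refine Submodule.sum_mem _ fun j hj => ?_
      have hmem : -(c l)⁻¹ * c j ∈ Kf i :=
        (Kf i).mul_mem ((Kf i).neg_mem ((Kf i).inv_mem (hc l (Finset.mem_insert_self l I))))
          (hc j (Finset.mem_insert_of_mem hj))
      have h2 : (-(c l)⁻¹ * c j) • v j = (⟨_, hmem⟩ : Kf i) • v j := rfl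
      rw [h2]
      exact Submodule.smul_mem _ _ (Submodule.subset_span ⟨j, hj, rfl⟩)
  have huS : ∀ i, i0 ≤ i → u ∈ Submodule.span (Kf i) (v '' (I : Set (Fin r))) := fun i hi =>
    (Submodule.span_le.mpr (by rintro _ ⟨l, rfl⟩; exact hex i hi l)) (hWu i)
  have hcoef : ∀ i, i0 ≤ i → ∃ c : Fin r → K, (∀ j, c j ∈ Kf i) ∧ ∑ j ∈ I, c j • v j = u := by
    intro i hi
    obtain ⟨c, hc⟩ := (Submodule.mem_span_image_finset_iff_exists_fun' (Kf i)).mp (huS i hi)
    exact ⟨fun j => (c j : K), fun j => (c j).2, hc⟩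
  obtain ⟨c0, hc0, hc0u⟩ := hcoef i0 le_rfl
  have hall : ∀ j ∈ I, ∀ i, c0 j ∈ Kf i := by
    intro j hj i
    obtain ⟨i', hi'0, hi'i⟩ := exists_ge_ge i0 i
    obtain ⟨c, hc, hcu⟩ := hcoef i' hi'0
    have hz : ∑ j ∈ I, (c j - c0 j) • v j = 0 := by
      simp_rw [sub_smul]
      rw [Finset.sum_sub_distrib, hcu, hc0u, sub_self]
    have h3 := hI (fun j => c j - c0 j)
      (fun j _ => (Kf i0).sub_mem (hanti hi'0 (hc j)) (hc0 j)) hz j hj
    have heq : c0 j = c j := (sub_eq_zero.mp h3).symm
    rw [heq]
    exact hanti hi'i (hc j)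
  choose! d hd using fun j (hj : j ∈ I) => hinter (c0 j) (hall j hj)
  refine ⟨∑ j ∈ I, d j • b j, ?_⟩
  rw [sum_pow_char, ← hc0u]
  refine Finset.sum_congr rfl fun j hj => ?_
  rw [smul_pow, hd j hj]

end Groth.Agent.Lib.Lead.PBasisClaimB
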