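import Mathlib
import Groth.Agent.Lib.Lead.IsoType
import Groth.Agent.Lib.Lead.InvIndec
import Groth.Agent.Lib.Helper11.InvMod

/-!
# Absolutely split bundles when `Pic(X_K)` is cyclic: types defined over `k` (lead; for S15405)

Setting: `p : X ⟶ Spec k` proper, `K / k`, `hindec`: invertible modules on `X_K` are indecomposable
(e.g. `InvIndec.indec_of_isInvertible_of_connected`).
* `IsTy t`: the class `t ∈ Pic(X_K)` is the type of an indecomposable finite locally free module on `X`.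
* `isTy_of_isotypical`, `isTy_one`, `isTy_mul`, `isTy_inv`: types form a subgroup; `isTy_all`: if `Pic(X_K) ≃ ℤ` is
  generated by a type, every class is a type.
* `exists_isotypical_of_split`: if every class is a type, an indecomposable `E` with `E_K ≅ ∐ Ls` (invertible `Ls i`)
  is isotypical (Noether–Deuring + Krull–Schmidt).
* `exists_twist_decomp`, `unique_twist_decomp`: S15405 (a), (b).
-/

set_option autoImplicit false
set_option linter.style.haveILetI false
set_option linter.unusedSectionVars false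

universe u u₁ v₁
open CategoryTheory CategoryTheory.Limits AlgebraicGeometry Opposite TopologicalSpace

namespace Groth.Agent.Lib.Lead.PicCyc

open Groth.Agent.Lib.Lead.ModTensor Groth.Agent.Lib.Lead.KS Groth.Agent.Lib.Lead.NoriFin
  Groth.Agent.Lib.Lead.HomBC Groth.Agent.Lib.Lead.DualFLF Groth.Agent.Lib.helper12.InvDual
  Groth.Agent.Lib.Helper20.TensorEquiv
open W4c1astiltbs12 Groth.Agent.Lib.Helper25.PullTensorIso

attribute [local instance] Abelian.hasFiniteBiproducts

section Gen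

variable {Y : Scheme.{u}}

theorem not_isZero_pow {N : Y.Modules} (hN : ¬ IsZero N) {d : ℕ} (hd : 0 < d) :
    ¬ IsZero (pow N d) := by
  intro h2
  obtain ⟨ρ, hρ⟩ := sigma_retract (fun _ : Fin d => N) ⟨0, hd⟩
  apply hN
  rw [IsZero.iff_id_eq_zero, ← hρ, h2.eq_of_tgt (Sigma.ι (fun _ : Fin d => N) ⟨0, hd⟩) 0,
    zero_comp]

/-- `N^1 ≅ N` -/
noncomputable def powOneIso (N : Y.Modules) : pow N 1 ≅ N :=
  coproductUniqueIso (fun _ : Fin 1 => N)

end Gen

section KSgen

variable {C : Type u₁} [Category.{v₁} C] [Abelian C] {P : C → Prop} (h : KSClass P)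

include h in
theorem mult_pow_gen {A : C} (hA : P A) (c : ℕ) (t : Cls C) :
    mult h (∐ fun _ : Fin c => A) t = c * mult h A t := by
  classical
  rw [mult_sigma h _ (fun _ => hA)]
  simp

end KSgen

section ASB

variable (k : Type u) [Field k] {X : Scheme.{u}} (p : X ⟶ Spec (CommRingCat.of k)) [IsProper p]
  (K : Type u) [Field K] [Algebra k K]

theorem isZero_bcMod {F : X.Modules} (h0 : IsZero F) : IsZero (bcMod p K F) := by
  haveI : (Scheme.Modules.pullback (proj p K)).IsLeftAdjoint :=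
    (Scheme.Modules.pullbackPushforwardAdjunction (proj p K)).isLeftAdjoint
  haveI : (Scheme.Modules.pullback (proj p K)).PreservesZeroMorphisms :=
    Functor.preservesZeroMorphisms_of_isLeftAdjoint _
  exact (Scheme.Modules.pullback (proj p K)).map_isZero h0

theorem pos_of_bcMod_iso {V : X.Modules} [V.IsQuasicoherent] (hV0 : ¬ IsZero V)
    {M : (W4bk4gw11416.baseChange p K).Modules} {c : ℕ} (eV : bcMod p K V ≅ pow M c) : 0 < c := by
  rcases Nat.eq_zero_or_pos c with h0 | h0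
  · exfalso
    subst h0
    exact hV0 (isZero_of_isZero_bcMod k p K V ((pow_zero_isZero M).of_iso eV))
  · exact h0

theorem not_isZero_of_bcMod_iso {F : X.Modules} {N : (W4bk4gw11416.baseChange p K).Modules}
    (hN : ¬ IsZero N) {d : ℕ} (hd : 0 < d) (eF : bcMod p K F ≅ pow N d) : ¬ IsZero F := by
  intro h0
  exact not_isZero_pow hN hd ((isZero_bcMod k p K h0).of_iso eF.symm)

/-- the class `t ∈ Pic(X_K)` is the type of an indecomposable finite locally free module on `X` -/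
def IsTy (t : PicLoc.PicSet (W4bk4gw11416.baseChange p K)) : Prop :=
  ∃ (W : X.Modules) (N : (W4bk4gw11416.baseChange p K).Modules) (hN : PicF.IsInvertible N) (d : ℕ),
    FlatMod.IsFinLocFree W ∧ Indec W ∧ PicGrp.cls N hN = t ∧ Nonempty (bcMod p K W ≅ pow N d)

variable (hindec : ∀ N : (W4bk4gw11416.baseChange p K).Modules, PicF.IsInvertible N → Indec N)

include hindec

/-- a nonzero finite locally free module which is isotypical of type `N` over `K` yields an indecomposable one -/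
theorem isTy_of_isotypical (F : X.Modules) (hF : FlatMod.IsFinLocFree F) (hF0 : ¬ IsZero F)
    (N : (W4bk4gw11416.baseChange p K).Modules) (hN : PicF.IsInvertible N) (d : ℕ)
    (eF : bcMod p K F ≅ pow N d) : IsTy k p K (PicGrp.cls N hN) := by
  classical
  have hLi : Indec N := hindec N hN
  have hK : KSClass (C := (W4bk4gw11416.baseChange p K).Modules) Coh.IsCoh :=
    ksClass K (pullback.snd p (Spec.map (CommRingCat.ofHom (algebraMap k K))))
  have hLc : Coh.IsCoh N := Groth.Agent.Lib.Lead.RankAdd.isCoh_of_isFinLocFree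
    (Groth.Agent.Lib.helper16.FLF.isFinLocFree_of_isInvertible hN)
  obtain ⟨G, m, hG, hGi, ⟨eFG⟩⟩ := exists_pow_of_isotypical k p K F hF hF0 N hN hLi d eF
  have hm : 0 < m := by
    rcases Nat.eq_zero_or_pos m with h0 | h0
    · exfalso
      subst h0
      exact hF0 ((pow_zero_isZero G).of_iso eFG)
    · exact h0
  have hGc : Coh.IsCoh (bcMod p K G) := Groth.Agent.Lib.Lead.RankAdd.isCoh_of_isFinLocFree
    (Groth.Agent.Lib.helper16.FLF.isFinLocFree_pullback _ hG)
  have iso1 : (∐ fun _ : Fin m => bcMod p K G) ≅ pow N d :=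
    (bcModPow k p K G m).symm ≪≫ (Scheme.Modules.pullback (proj p K)).mapIso eFG.symm ≪≫ eF
  obtain ⟨s, ⟨eG⟩⟩ := summand_of_pow hK hLc hLi (fun _ : Fin m => bcMod p K G) (fun _ => hGc) d iso1
    ⟨0, hm⟩
  exact ⟨G, N, hN, s, hG, hGi, rfl, ⟨eG⟩⟩

variable [PicGrp.Law (W4bk4gw11416.baseChange p K)]

theorem isTy_one : IsTy k p K 1 := by
  have hO : PicF.IsInvertible (Coh.structureModule (W4bk4gw11416.baseChange p K)) :=
    PicLoc.isInvertible_structureModule _
  have eF : bcMod p K (Coh.structureModule X) ≅ pow (Coh.structureModule _) 1 :=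
    Groth.Agent.Lib.helper11.InvMod.pullbackUnitIso (proj p K) ≪≫ (powOneIso _).symm
  have h := isTy_of_isotypical k p K hindec (Coh.structureModule X)
    (Groth.Agent.Lib.helper16.FLF.isFinLocFree_structureModule X)
    (not_isZero_of_bcMod_iso k p K (hindec _ hO).1 Nat.one_pos eF) _ hO 1 eF
  rwa [PicGrp.cls_structureModule_eq_one] at h

theorem isTy_mul {t t' : PicLoc.PicSet (W4bk4gw11416.baseChange p K)} (ht : IsTy k p K t)
    (ht' : IsTy k p K t') : IsTy k p K (t * t') := by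
  obtain ⟨W, N, hN, d, hW, hWi, rfl, ⟨eW⟩⟩ := ht
  obtain ⟨W', N', hN', d', hW', hWi', rfl, ⟨eW'⟩⟩ := ht'
  haveI : W.IsQuasicoherent := Groth.Agent.Lib.helper16.FLF.isQuasicoherent_of_isFinLocFree _ hW
  haveI : W'.IsQuasicoherent := Groth.Agent.Lib.helper16.FLF.isQuasicoherent_of_isFinLocFree _ hW'
  have hd : 0 < d := pos_of_bcMod_iso k p K hWi.1 eW
  have hd' : 0 < d' := pos_of_bcMod_iso k p K hWi'.1 eW'
  have hNN : PicF.IsInvertible (CohB1.tensorMod N N') :=
    Groth.Agent.Lib.helper12.TensorInv.isInvertible_tensorMod hN hN'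
  have eF : bcMod p K (CohB1.tensorMod W W') ≅ pow (CohB1.tensorMod N N') (d * d') :=
    pullTensorIso (proj p K) W W' ≪≫ tensorIso eW eW' ≪≫
      Groth.Agent.Lib.Lead.BrSevT.powTensorPowIso N N' d d'
  have h := isTy_of_isotypical k p K hindec (CohB1.tensorMod W W')
    (Groth.Agent.Lib.helper16.FLFTensor.isFinLocFree_tensor hW hW')
    (not_isZero_of_bcMod_iso k p K (hindec _ hNN).1 (Nat.mul_pos hd hd') eF) _ hNN _ eF
  have hc : PicGrp.cls (CohB1.tensorMod N N') hNN = PicGrp.cls N hN * PicGrp.cls N' hN' :=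
    Subtype.ext (PicGrp.cls_mul_cls_val hN hN').symm
  rwa [hc] at h

theorem isTy_inv {t : PicLoc.PicSet (W4bk4gw11416.baseChange p K)} (ht : IsTy k p K t) :
    IsTy k p K t⁻¹ := by
  obtain ⟨W, N, hN, d, hW, hWi, rfl, ⟨eW⟩⟩ := ht
  haveI : W.IsQuasicoherent := Groth.Agent.Lib.helper16.FLF.isQuasicoherent_of_isFinLocFree _ hW
  have hd : 0 < d := pos_of_bcMod_iso k p K hWi.1 eW
  obtain ⟨N', hN', ⟨eN⟩, _⟩ := exists_inverse hN
  let D := dualMod W
  have hD : FlatMod.IsFinLocFree D := Groth.Agent.Lib.helper11.Bidual.isFinLocFree_dualMod hW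
  have eD : bcMod p K D ≅ pow N' d :=
    pullDualIso (proj p K) hW ≪≫ (dualIso eW).symm ≪≫ dualPowIso N d ≪≫
      Sigma.mapIso (fun _ => dualInvIso hN eN)
  have h := isTy_of_isotypical k p K hindec D hD
    (not_isZero_of_bcMod_iso k p K (hindec _ hN').1 hd eD) _ hN' _ eD
  rwa [← PicGrp.cls_inv_eq_cls hN hN' ⟨eN⟩] at h

omit [PicGrp.Law (W4bk4gw11416.baseChange p K)] in
/-- if every class is a type, an indecomposable finite locally free module which splits over `K` into invertible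
modules is isotypical -/
theorem exists_isotypical_of_split (hty : ∀ t, IsTy k p K t)
    (E : X.Modules) (hE : FlatMod.IsFinLocFree E) (hEi : Indec E) (n : ℕ)
    (Ls : Fin n → (W4bk4gw11416.baseChange p K).Modules) (hLs : ∀ i, PicF.IsInvertible (Ls i))
    (eE : bcMod p K E ≅ ∐ Ls) :
    ∃ (N : (W4bk4gw11416.baseChange p K).Modules) (_ : PicF.IsInvertible N) (d : ℕ),
      Nonempty (bcMod p K E ≅ pow N d) := by
  classical
  haveI : E.IsQuasicoherent := Groth.Agent.Lib.helper16.FLF.isQuasicoherent_of_isFinLocFree _ hE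
  have hn : 0 < n := by
    rcases Nat.eq_zero_or_pos n with h0 | h0
    · exfalso
      subst h0
      exact hEi.1 (isZero_of_isZero_bcMod k p K E
        ((Groth.Agent.Lib.Lead.SerreFin.isInitialSigmaOfIsEmpty Ls).isZero.of_iso eE))
    · exact h0
  have hK : KSClass (C := (W4bk4gw11416.baseChange p K).Modules) Coh.IsCoh :=
    ksClass K (pullback.snd p (Spec.map (CommRingCat.ofHom (algebraMap k K))))
  have hX : KSClass (C := X.Modules) Coh.IsCoh := ksClass k p
  have hLc : ∀ i, Coh.IsCoh (Ls i) := fun i => Groth.Agent.Lib.Lead.RankAdd.isCoh_of_isFinLocFree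
    (Groth.Agent.Lib.helper16.FLF.isFinLocFree_of_isInvertible (hLs i))
  have hLi : ∀ i, Indec (Ls i) := fun i => hindec _ (hLs i)
  -- the indecomposable modules of the types of the summands
  have hW : ∀ i, ∃ (W : X.Modules) (d : ℕ), FlatMod.IsFinLocFree W ∧ Indec W ∧
      Nonempty (bcMod p K W ≅ pow (Ls i) d) := by
    intro i
    obtain ⟨W, N, hN, d, hWf, hWi, hc, ⟨eW⟩⟩ := hty (PicGrp.cls (Ls i) (hLs i))
    obtain ⟨eN⟩ := (PicGrp.cls_eq_cls_iff hN (hLs i)).mp hc
    exact ⟨W, d, hWf, hWi, ⟨eW ≪≫ Sigma.mapIso (fun _ => eN)⟩⟩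
  choose W d hWf hWi eW using hW
  have hWq : ∀ i, (W i).IsQuasicoherent := fun i =>
    Groth.Agent.Lib.helper16.FLF.isQuasicoherent_of_isFinLocFree _ (hWf i)
  have hd : ∀ i, 0 < d i := fun i =>
    haveI := hWq i
    pos_of_bcMod_iso k p K (hWi i).1 (eW i).some
  let c : ℕ := ∏ i, d i
  let ci : Fin n → ℕ := fun i => ∏ l ∈ Finset.univ.erase i, d l
  have hci : ∀ i, ci i * d i = c := fun i => by
    rw [mul_comm]
    exact Finset.mul_prod_erase Finset.univ d (Finset.mem_univ i)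
  have hcipos : ∀ i, 0 < ci i := fun i => Finset.prod_pos (fun l _ => hd l)
  let Nn : X.Modules := ∐ fun i => pow (W i) (ci i)
  have hNn : FlatMod.IsFinLocFree Nn :=
    Groth.Agent.Lib.Lead.SerreFin.isFinLocFree_sigma _
      (fun i => Groth.Agent.Lib.Lead.SerreFin.isFinLocFree_sigma _ (fun _ => hWf i))
  have hEc : FlatMod.IsFinLocFree (pow E c) :=
    Groth.Agent.Lib.Lead.SerreFin.isFinLocFree_sigma _ (fun _ => hE)
  haveI : PreservesColimitsOfSize.{0, 0} (Scheme.Modules.pullback (proj p K)) :=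
    (Scheme.Modules.pullbackPushforwardAdjunction (proj p K)).leftAdjoint_preservesColimits
  -- the two models over `K`
  let A : (W4bk4gw11416.baseChange p K).Modules := ∐ fun i => pow (pow (Ls i) (d i)) (ci i)
  let B : (W4bk4gw11416.baseChange p K).Modules := pow (∐ Ls) c
  have hpc : ∀ i, Coh.IsCoh (pow (Ls i) (d i)) := fun i => P_sigma hK _ (fun _ => hLc i)
  have hAc : Coh.IsCoh A := P_sigma hK _ (fun i => P_sigma hK _ (fun _ => hpc i))
  have hBc : Coh.IsCoh B := P_sigma hK _ (fun _ => P_sigma hK _ hLc)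
  have eA : bcMod p K Nn ≅ A :=
    PreservesCoproduct.iso (Scheme.Modules.pullback (proj p K)) (fun i => pow (W i) (ci i)) ≪≫
      Sigma.mapIso (fun i => bcModPow k p K (W i) (ci i) ≪≫ Sigma.mapIso (fun _ => (eW i).some))
  have eB : bcMod p K (pow E c) ≅ B := bcModPow k p K E c ≪≫ Sigma.mapIso (fun _ => eE)
  have hAB : ∀ t, mult hK A t = mult hK B t := by
    intro t
    have h1 : mult hK A t = ∑ i, ci i * (if cls (Ls i) = t then d i else 0) := by
      rw [mult_sigma hK _ (fun i => P_sigma hK _ (fun _ => hpc i))]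
      refine Finset.sum_congr rfl (fun i _ => ?_)
      rw [mult_pow_gen hK (hpc i), mult_pow hK (hLc i) (hLi i)]
    have h2 : mult hK B t = c * ∑ i, (if cls (Ls i) = t then 1 else 0) := by
      rw [mult_pow_gen hK (P_sigma hK _ hLc), mult_sigma hK _ hLc]
      congr 1
      refine Finset.sum_congr rfl (fun i _ => ?_)
      rw [mult_indec hK (hLc i) (hLi i)]
    rw [h1, h2, Finset.mul_sum]
    refine Finset.sum_congr rfl (fun i _ => ?_)
    split_ifs
    · rw [hci, mul_one]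
    · simp
  obtain ⟨eAB⟩ := nonempty_iso_of_mult_eq hK hAc hBc hAB
  obtain ⟨eNE⟩ := nonempty_iso_of_bcMod_iso k p K hNn hEc (eA ≪≫ eAB ≪≫ eB.symm)
  have hEcoh : Coh.IsCoh E := Groth.Agent.Lib.Lead.RankAdd.isCoh_of_isFinLocFree hE
  have hWcoh : ∀ i, Coh.IsCoh (W i) := fun i =>
    Groth.Agent.Lib.Lead.RankAdd.isCoh_of_isFinLocFree (hWf i)
  let i₀ : Fin n := ⟨0, hn⟩
  obtain ⟨ri, ⟨e1⟩⟩ := summand_of_pow hX hEcoh hEi (fun i => pow (W i) (ci i))
    (fun i => P_sigma hX _ (fun _ => hWcoh i)) c eNE i₀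
  obtain ⟨e2⟩ := nonempty_iso_of_pow_iso hX (hWcoh i₀) hEcoh (hWi i₀) hEi (hcipos i₀) e1
  exact ⟨Ls i₀, hLs i₀, d i₀,
    ⟨(Scheme.Modules.pullback (proj p K)).mapIso e2.symm ≪≫ (eW i₀).some⟩⟩

/-- if `Pic(X_K)` is infinite cyclic generated by a type, every class is a type -/
theorem isTy_all (L : (W4bk4gw11416.baseChange p K).Modules) (hL : PicF.IsInvertible L)
    (e : PicLoc.PicSet (W4bk4gw11416.baseChange p K) ≃* Multiplicative ℤ)
    (he : e (PicGrp.cls L hL) = Multiplicative.ofAdd 1) (hL1 : IsTy k p K (PicGrp.cls L hL))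
    (t : PicLoc.PicSet (W4bk4gw11416.baseChange p K)) : IsTy k p K t := by
  let T : Subgroup (PicLoc.PicSet (W4bk4gw11416.baseChange p K)) :=
    { carrier := {t | IsTy k p K t}
      mul_mem' := fun ha hb => isTy_mul k p K hindec ha hb
      one_mem' := isTy_one k p K hindec
      inv_mem' := fun ha => isTy_inv k p K hindec ha }
  have ht : t = PicGrp.cls L hL ^ (Multiplicative.toAdd (e t)) := by
    apply e.injective
    rw [map_zpow, he, ← ofAdd_zsmul, smul_eq_mul, mul_one, ofAdd_toAdd]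
  rw [ht]
  exact T.zpow_mem hL1 _

variable [PicGrp.Law X]

omit hindec in
/-- exponents of the generator are well defined -/
theorem zpow_cls_injective (L : (W4bk4gw11416.baseChange p K).Modules) (hL : PicF.IsInvertible L)
    (e : PicLoc.PicSet (W4bk4gw11416.baseChange p K) ≃* Multiplicative ℤ)
    (he : e (PicGrp.cls L hL) = Multiplicative.ofAdd 1) {x y : ℤ}
    (h : PicGrp.cls L hL ^ x = PicGrp.cls L hL ^ y) : x = y := by
  have h1 := congrArg (fun t => Multiplicative.toAdd (e t)) h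
  simpa [map_zpow, he, ← ofAdd_zsmul] using h1

omit hindec in
/-- the class of the pullback of an invertible module of class `[J]^a`, where `J_K ≅ L^{⊗ r}` -/
theorem cls_bcMod_eq (hπ : PicGrp.PullMul (proj p K))
    (L : (W4bk4gw11416.baseChange p K).Modules) (hL : PicF.IsInvertible L)
    (r : ℕ) (J : X.Modules) (hJ : PicF.IsInvertible J)
    (hJL : Nonempty (bcMod p K J ≅ CohB1.tensorPow L r))
    (a : ℤ) (Ja : X.Modules) (hJa : PicF.IsInvertible Ja)
    (hc : PicGrp.cls Ja hJa = PicGrp.cls J hJ ^ a) :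
    PicGrp.cls (bcMod p K Ja) (PicLoc.isInvertible_pullback (proj p K) hJa) =
      PicGrp.cls L hL ^ ((r : ℤ) * a) := by
  have h1 : PicGrp.cls (bcMod p K J) (PicLoc.isInvertible_pullback (proj p K) hJ) =
      PicGrp.cls L hL ^ r := by
    apply Subtype.ext
    rw [PicGrp.cls_pow_val, PicGrp.cls_val, PicGrp.cl_eq_cl_iff]
    exact hJL
  rw [← PicGrp.pullHom_cls (proj p K) hπ Ja hJa, hc, map_zpow,
    PicGrp.pullHom_cls (proj p K) hπ J hJ, h1, ← zpow_natCast, ← zpow_mul]

omit hindec in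
/-- **S15405 (a)**, for an isotypical `E` -/
theorem exists_twist_decomp (hπ : PicGrp.PullMul (proj p K))
    (L : (W4bk4gw11416.baseChange p K).Modules) (hL : PicF.IsInvertible L)
    (e : PicLoc.PicSet (W4bk4gw11416.baseChange p K) ≃* Multiplicative ℤ)
    (he : e (PicGrp.cls L hL) = Multiplicative.ofAdd 1)
    (r : ℕ) (hr : 1 ≤ r) (J : X.Modules) (hJ : PicF.IsInvertible J)
    (hJL : Nonempty (bcMod p K J ≅ CohB1.tensorPow L r))
    (E : X.Modules) (hE : FlatMod.IsFinLocFree E) (hEi : Indec E)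
    (N : (W4bk4gw11416.baseChange p K).Modules) (hN : PicF.IsInvertible N) (d : ℕ)
    (eE : bcMod p K E ≅ pow N d) :
    ∃ (a : ℤ) (j : ℕ), j < r ∧ ∃ (M : X.Modules) (d : ℕ) (Ja : X.Modules)
      (hJa : PicF.IsInvertible Ja), FlatMod.IsFinLocFree M ∧ Indec M ∧
      Nonempty (bcMod p K M ≅ pow (CohB1.tensorPow L j) d) ∧
      PicGrp.cls Ja hJa = PicGrp.cls J hJ ^ a ∧ Nonempty (E ≅ CohB1.tensorMod M Ja) := by
  let m : ℤ := Multiplicative.toAdd (e (PicGrp.cls N hN))
  have hNm : PicGrp.cls N hN = PicGrp.cls L hL ^ m := by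
    apply e.injective
    rw [map_zpow, he, ← ofAdd_zsmul, smul_eq_mul, mul_one, ofAdd_toAdd]
  have hr0 : (r : ℤ) ≠ 0 := by omega
  have hrpos : (0 : ℤ) < r := by omega
  let a : ℤ := m / r
  let j : ℕ := (m % r).toNat
  have hj0 : (j : ℤ) = m % r := Int.toNat_of_nonneg (Int.emod_nonneg m hr0)
  have hjr : j < r := by
    have := Int.emod_lt_of_pos m hrpos
    omega
  have hm : m = (j : ℤ) + (r : ℤ) * a := by
    rw [hj0]
    exact (Int.emod_add_mul_ediv m r).symm
  obtain ⟨Ja, hJa, hc⟩ := PicGrp.exists_eq_cls (PicGrp.cls J hJ ^ a)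
  obtain ⟨Ja', hJa', ⟨eJa⟩, ⟨eJa'⟩⟩ := exists_inverse hJa
  have hJaK : PicF.IsInvertible (bcMod p K Ja) := PicLoc.isInvertible_pullback (proj p K) hJa
  have hJa'K : PicF.IsInvertible (bcMod p K Ja') := PicLoc.isInvertible_pullback (proj p K) hJa'
  have hcl : PicGrp.cls (bcMod p K Ja) hJaK = PicGrp.cls L hL ^ ((r : ℤ) * a) :=
    cls_bcMod_eq k p K hπ L hL r J hJ hJL a Ja hJa hc.symm
  have hcl' : PicGrp.cls (bcMod p K Ja') hJa'K = (PicGrp.cls L hL ^ ((r : ℤ) * a))⁻¹ := by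
    rw [← hcl, ← PicGrp.pullHom_cls (proj p K) hπ Ja hJa, ← PicGrp.pullHom_cls (proj p K) hπ Ja' hJa',
      ← map_inv, PicGrp.cls_inv_eq_cls hJa hJa' ⟨eJa⟩]
  have hTj : PicF.IsInvertible (CohB1.tensorPow L j) :=
    Groth.Agent.Lib.helper12.TensorInv.isInvertible_tensorPow hL j
  have hmul : (PicGrp.cls N hN * PicGrp.cls (bcMod p K Ja') hJa'K).1 =
      (PicGrp.cls (CohB1.tensorPow L j) hTj).1 := by
    rw [PicGrp.cls_val, ← PicGrp.cls_pow_val hL j]
    congr 1
    rw [hNm, hcl', ← zpow_neg, ← zpow_add, ← zpow_natCast]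
    congr 1
    omega
  rw [PicGrp.cls_mul_cls_val hN hJa'K, PicGrp.cls_val, PicGrp.cl_eq_cl_iff] at hmul
  obtain ⟨eN⟩ := hmul
  haveI := isEquivalence_tensorRight eJa'
  have hMi : Indec (CohB1.tensorMod E Ja') :=
    Groth.Agent.Lib.Lead.IsoType.indec_obj_of_isEquivalence (tensorRight Ja') hEi
  have hM : FlatMod.IsFinLocFree (CohB1.tensorMod E Ja') :=
    Groth.Agent.Lib.helper16.FLFTensor.isFinLocFree_tensor hE
      (Groth.Agent.Lib.helper16.FLF.isFinLocFree_of_isInvertible hJa')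
  have eM : bcMod p K (CohB1.tensorMod E Ja') ≅ pow (CohB1.tensorPow L j) d :=
    pullTensorIso (proj p K) E Ja' ≪≫ tensorIso eE (Iso.refl _) ≪≫
      Groth.Agent.Lib.Lead.BrSevT.tensorRightFinSigmaIso (bcMod p K Ja') (fun _ : Fin d => N) ≪≫
      Sigma.mapIso (fun _ => eN)
  refine ⟨a, j, hjr, CohB1.tensorMod E Ja', d, Ja, hJa, hM, hMi, ⟨eM⟩, hc.symm, ⟨?_⟩⟩
  exact (assoc E Ja' Ja ≪≫ tensorIso (Iso.refl E) eJa' ≪≫ rightUnitor E).symm

/-- the type of `M ⊗ J_a` -/
theorem type_of_twist (hπ : PicGrp.PullMul (proj p K))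
    (L : (W4bk4gw11416.baseChange p K).Modules) (hL : PicF.IsInvertible L)
    (r : ℕ) (J : X.Modules) (hJ : PicF.IsInvertible J)
    (hJL : Nonempty (bcMod p K J ≅ CohB1.tensorPow L r))
    (E : X.Modules) (a : ℤ) (j : ℕ) (M : X.Modules) (d : ℕ) (Ja : X.Modules)
    (hJa : PicF.IsInvertible Ja)
    (eM : bcMod p K M ≅ pow (CohB1.tensorPow L j) d)
    (hc : PicGrp.cls Ja hJa = PicGrp.cls J hJ ^ a) (eE : E ≅ CohB1.tensorMod M Ja) :
    ∃ (T : (W4bk4gw11416.baseChange p K).Modules) (hT : PicF.IsInvertible T),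
      PicGrp.cls T hT = PicGrp.cls L hL ^ ((j : ℤ) + (r : ℤ) * a) ∧
      Nonempty (bcMod p K E ≅ pow T d) := by
  have hJaK : PicF.IsInvertible (bcMod p K Ja) := PicLoc.isInvertible_pullback (proj p K) hJa
  have hTj : PicF.IsInvertible (CohB1.tensorPow L j) :=
    Groth.Agent.Lib.helper12.TensorInv.isInvertible_tensorPow hL j
  have hT : PicF.IsInvertible (CohB1.tensorMod (CohB1.tensorPow L j) (bcMod p K Ja)) :=
    Groth.Agent.Lib.helper12.TensorInv.isInvertible_tensorMod hTj hJaK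
  refine ⟨_, hT, ?_, ⟨(Scheme.Modules.pullback (proj p K)).mapIso eE ≪≫
    pullTensorIso (proj p K) M Ja ≪≫ tensorIso eM (Iso.refl _) ≪≫
    Groth.Agent.Lib.Lead.BrSevT.tensorRightFinSigmaIso (bcMod p K Ja)
      (fun _ : Fin d => CohB1.tensorPow L j)⟩⟩
  have h1 : PicGrp.cls (CohB1.tensorMod (CohB1.tensorPow L j) (bcMod p K Ja)) hT =
      PicGrp.cls (CohB1.tensorPow L j) hTj * PicGrp.cls (bcMod p K Ja) hJaK :=
    Subtype.ext (PicGrp.cls_mul_cls_val hTj hJaK).symm
  have h2 : PicGrp.cls (CohB1.tensorPow L j) hTj = PicGrp.cls L hL ^ j :=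
    Subtype.ext (PicGrp.cls_pow_val hL j).symm
  rw [h1, h2, cls_bcMod_eq k p K hπ L hL r J hJ hJL a Ja hJa hc, ← zpow_natCast, ← zpow_add]

/-- **S15405 (b)** -/
theorem unique_twist_decomp (hπ : PicGrp.PullMul (proj p K))
    (L : (W4bk4gw11416.baseChange p K).Modules) (hL : PicF.IsInvertible L)
    (e : PicLoc.PicSet (W4bk4gw11416.baseChange p K) ≃* Multiplicative ℤ)
    (he : e (PicGrp.cls L hL) = Multiplicative.ofAdd 1)
    (r : ℕ) (J : X.Modules) (hJ : PicF.IsInvertible J)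
    (hJL : Nonempty (bcMod p K J ≅ CohB1.tensorPow L r))
    (E : X.Modules) [E.IsQuasicoherent] (hE0 : ¬ IsZero E)
    (a a' : ℤ) (j j' : ℕ) (M M' : X.Modules) (d d' : ℕ) (Ja Ja' : X.Modules)
    (hJa : PicF.IsInvertible Ja) (hJa' : PicF.IsInvertible Ja') (hj : j < r) (hj' : j' < r)
    (eM : bcMod p K M ≅ pow (CohB1.tensorPow L j) d)
    (eM' : bcMod p K M' ≅ pow (CohB1.tensorPow L j') d')
    (hc : PicGrp.cls Ja hJa = PicGrp.cls J hJ ^ a) (hc' : PicGrp.cls Ja' hJa' = PicGrp.cls J hJ ^ a')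
    (eE : E ≅ CohB1.tensorMod M Ja) (eE' : E ≅ CohB1.tensorMod M' Ja') : a = a' ∧ j = j' := by
  obtain ⟨T, hT, hTc, ⟨eT⟩⟩ := type_of_twist k p K hindec hπ L hL r J hJ hJL E a j M d Ja hJa eM hc eE
  obtain ⟨T', hT', hTc', ⟨eT'⟩⟩ :=
    type_of_twist k p K hindec hπ L hL r J hJ hJL E a' j' M' d' Ja' hJa' eM' hc' eE'
  have hd : 0 < d := pos_of_bcMod_iso k p K hE0 eT
  have hK : KSClass (C := (W4bk4gw11416.baseChange p K).Modules) Coh.IsCoh :=
    ksClass K (pullback.snd p (Spec.map (CommRingCat.ofHom (algebraMap k K))))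
  have hTcoh : Coh.IsCoh T := Groth.Agent.Lib.Lead.RankAdd.isCoh_of_isFinLocFree
    (Groth.Agent.Lib.helper16.FLF.isFinLocFree_of_isInvertible hT)
  have hT'coh : Coh.IsCoh T' := Groth.Agent.Lib.Lead.RankAdd.isCoh_of_isFinLocFree
    (Groth.Agent.Lib.helper16.FLF.isFinLocFree_of_isInvertible hT')
  obtain ⟨eTT⟩ := nonempty_iso_of_pow_iso hK hTcoh hT'coh (hindec T hT) (hindec T' hT') hd
    (eT.symm ≪≫ eT')
  have hcls : PicGrp.cls T hT = PicGrp.cls T' hT' := (PicGrp.cls_eq_cls_iff hT hT').mpr ⟨eTT⟩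
  rw [hTc, hTc'] at hcls
  have hx := zpow_cls_injective k p K L hL e he hcls
  have hjj : (j : ℤ) = j' := by
    have h1 : ((j : ℤ) + (r : ℤ) * a) % r = ((j' : ℤ) + (r : ℤ) * a') % r := by rw [hx]
    rw [Int.add_mul_emod_self_left, Int.add_mul_emod_self_left,
      Int.emod_eq_of_lt (by omega) (by omega), Int.emod_eq_of_lt (by omega) (by omega)] at h1
    exact h1
  have hr0 : (r : ℤ) ≠ 0 := by omega
  refine ⟨?_, by exact_mod_cast hjj⟩
  rw [hjj] at hx
  exact mul_left_cancel₀ hr0 (add_left_cancel hx)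

end ASB

end Groth.Agent.Lib.Lead.PicCyc
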