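import Mathlib

set_option autoImplicit false
set_option backward.isDefEq.respectTransparency false
set_option backward.isDefEq.respectTransparency.types false

universe u

namespace Groth.Agent.Lib.Lead.ProjAway

open HomogeneousLocalization

variable {R A B : Type u} [CommRing R] [CommRing A] [Algebra R A] [CommRing B] [Algebra R B]
  (𝒜 : ℕ → Submodule R A) [GradedAlgebra 𝒜] (ℬ : ℕ → Submodule R B) [GradedAlgebra ℬ]

/-- A graded ring hom which is bijective in positive degrees induces a bijection on degree-zero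
localizations away from a homogeneous element of positive degree. -/
theorem away_map_bijective (φ : ℬ →+*ᵍ 𝒜) (hbij : ∀ n : ℕ, 0 < n → Set.BijOn φ (ℬ n) (𝒜 n))
    {i : ℕ} (hi : 0 < i) (s : B) (hs : s ∈ ℬ i) :
    Function.Bijective (Away.map φ s) := by
  constructor
  · rw [injective_iff_map_eq_zero]
    intro x hx
    obtain ⟨n, y, hy, rfl⟩ := Away.mk_surjective ℬ hs x
    rw [Away.map_mk φ s hs n y hy] at hx
    rw [HomogeneousLocalization.ext_iff_val, Away.val_mk, val_zero, Localization.mk_eq_mk',
      IsLocalization.mk'_eq_zero_iff] at hx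
    obtain ⟨⟨c, k, rfl⟩, hc⟩ := hx
    simp only at hc
    have h1 : φ (s ^ (k + 1) * y) = 0 := by
      rw [map_mul, pow_succ', map_mul, mul_assoc, map_pow, hc, mul_zero]
    have hmem : s ^ (k + 1) * y ∈ ℬ ((k + 1) • i + n • i) :=
      SetLike.mul_mem_graded (SetLike.pow_mem_graded _ hs) hy
    have hpos : 0 < (k + 1) • i + n • i := by
      have : 0 < (k + 1) • i := by
        rw [smul_eq_mul]; positivity
      omega
    have h0 : s ^ (k + 1) * y = 0 :=
      (hbij _ hpos).injOn hmem (Submodule.zero_mem _) (by rw [h1, map_zero])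
    rw [HomogeneousLocalization.ext_iff_val, Away.val_mk, val_zero, Localization.mk_eq_mk',
      IsLocalization.mk'_eq_zero_iff]
    exact ⟨⟨s ^ (k + 1), k + 1, rfl⟩, h0⟩
  · intro x
    obtain ⟨n, a, ha, rfl⟩ := Away.mk_surjective 𝒜 (φ.map_mem hs) x
    have hmem : a * φ s ∈ 𝒜 ((n + 1) • i) := by
      have := SetLike.mul_mem_graded ha (φ.map_mem hs)
      rwa [show n • i + i = (n + 1) • i by rw [add_smul, one_smul]] at this
    have hpos : 0 < (n + 1) • i := by
      rw [smul_eq_mul]; positivity
    obtain ⟨b, hb, hbφ⟩ := (hbij _ hpos).surjOn hmem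
    refine ⟨Away.mk ℬ hs (n + 1) b hb, ?_⟩
    rw [Away.map_mk φ s hs (n + 1) b hb]
    rw [HomogeneousLocalization.ext_iff_val, Away.val_mk, Away.val_mk, Localization.mk_eq_mk_iff,
      Localization.r_iff_exists]
    refine ⟨1, ?_⟩
    simp only [OneMemClass.coe_one, one_mul]
    rw [hbφ, pow_succ]
    change φ s ^ n * (a * φ s) = φ s ^ n * φ s * a
    ring

end Groth.Agent.Lib.Lead.ProjAway
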