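import Mathlib
import Groth.Agent.Lib.Lead.ProjMapLocal

set_option autoImplicit false
set_option backward.isDefEq.respectTransparency false
set_option backward.isDefEq.respectTransparency.types false

universe u

namespace Groth.Agent.Lib.Lead.ProjMapLocal

open AlgebraicGeometry CategoryTheory CategoryTheory.Limits HomogeneousLocalization

variable {R A B : Type u} [CommRing R] [CommRing A] [Algebra R A] [CommRing B] [Algebra R B]
  {𝒜 : ℕ → Submodule R A} [GradedAlgebra 𝒜] {ℬ : ℕ → Submodule R B} [GradedAlgebra ℬ]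

/-- If every element of the kernel of `φ` is nilpotent, so is every element of the kernel of the
induced map on degree zero localizations. -/
theorem ker_away_map_le_nilradical (φ : 𝒜 →+*ᵍ ℬ) (hker : ∀ a : A, φ a = 0 → IsNilpotent a)
    {i : ℕ} (s : A) (hs : s ∈ 𝒜 i) :
    RingHom.ker (Away.map φ s) ≤ nilradical (Away 𝒜 s) := by
  intro x hx
  rw [RingHom.mem_ker] at hx
  obtain ⟨n, a, ha, rfl⟩ := Away.mk_surjective 𝒜 hs x
  rw [Away.map_mk φ s hs n a ha] at hx
  rw [HomogeneousLocalization.ext_iff_val, Away.val_mk, val_zero, Localization.mk_eq_mk',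
    IsLocalization.mk'_eq_zero_iff] at hx
  obtain ⟨⟨c, k, rfl⟩, hc⟩ := hx
  simp only at hc
  have h1 : φ (s ^ k * a) = 0 := by
    rw [map_mul, map_pow]; exact hc
  obtain ⟨m, hm⟩ := hker _ h1
  rw [mem_nilradical]
  refine ⟨m, ?_⟩
  rw [HomogeneousLocalization.ext_iff_val, val_pow, Away.val_mk, val_zero, Localization.mk_pow,
    Localization.mk_eq_mk', IsLocalization.mk'_eq_zero_iff]
  refine ⟨⟨s ^ (k * m), k * m, rfl⟩, ?_⟩
  simp only
  rw [pow_mul, ← mul_pow]; exact hm

/-- `Proj.map φ` is dominant when the kernel of `φ` consists of nilpotent elements. -/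
theorem isDominant_map (φ : 𝒜 →+*ᵍ ℬ)
    (hφ : HomogeneousIdeal.irrelevant ℬ ≤ (HomogeneousIdeal.irrelevant 𝒜).map φ)
    (hker : ∀ a : A, φ a = 0 → IsNilpotent a) :
    IsDominant (Proj.map φ hφ) := by
  refine map_of_forall_away @IsDominant φ hφ ?_
  intro i hi s hs
  constructor
  exact (PrimeSpectrum.denseRange_comap_iff_ker_le_nilRadical (f := Away.map φ s)).mpr
    (ker_away_map_le_nilradical φ hker s hs)

end Groth.Agent.Lib.Lead.ProjMapLocal
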