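import Mathlib
import Groth.Agent.Lib.Lead.CurveSD2
import Groth.Agent.Lib.Helper14.AbVarComm
import Groth.Agent.Lib.Helper5.DimSupLocalDim
import Groth.Agent.Lib.Helper8.H0One

/-!
# Serre duality on smooth projective varieties, conditionally on S11924 (lead)

`H : Groth.Agent.Lib.Lead.CurveSD1.H11924` is the statement of S11924 (`Ω^n` is dualizing). With helper20's
`SurfRR.nonempty_dual_equiv`, `SurfRR.finrank_HH_inverse`, `DualProjCM.cm_ext_dual` this gives
`main_S5667` (`h^n(Ω^n) = 1`), `main_S5668` (`H^p(F)^∨ ≃ H^{n-p}(ℋom(F, Ω^n))`, `F` finite locally free) and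
`main_S19675` (`Ext^i(F, Ω^n) ≃ H^{n-i}(F)^∨`, `F` coherent).
Helpers: `dim_eq` (a nonempty `k`-scheme smooth of relative dimension `n` has dimension `n`), `isCM`,
`isIntegral_of_connected`, `isCoh_topForms`.
-/

set_option autoImplicit false
set_option linter.style.haveILetI false
set_option linter.unusedSectionVars false
universe u

open CategoryTheory CategoryTheory.Limits AlgebraicGeometry Opposite TopologicalSpace Module

namespace Groth.Agent.Lib.Lead.ProjSDCond

open Groth.Agent.Lib.Lead.CurveSD1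

theorem smooth_inst (k : Type u) [Field k] (n : ℕ) (X : Scheme.{u}) [X.Over (Spec (CommRingCat.of k))]
    [SmoothOfRelativeDimension n (X ↘ Spec (CommRingCat.of k))] : Smooth (X ↘ Spec (CommRingCat.of k)) :=
  SmoothOfRelativeDimension.smooth n (X ↘ Spec (CommRingCat.of k))

/-- a nonempty `k`-scheme smooth of relative dimension `n` has dimension `n` -/
theorem dim_eq (k : Type u) [Field k] (n : ℕ) (X : Scheme.{u}) [X.Over (Spec (CommRingCat.of k))]
    [SmoothOfRelativeDimension n (X ↘ Spec (CommRingCat.of k))] [Nonempty X] :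
    topologicalKrullDim X = (n : WithBot ℕ∞) := by
  rw [Groth.Agent.Lib.helper5.FieldBC.dim_eq_iSup_localDim]
  have : ∀ t : X, FlatMor.localDim X t = (n : WithBot ℕ∞) := fun t =>
    Groth.Agent.Lib.helper21.SmoothCodim.localDim_eq_of_smooth k n X t
  simp_rw [this]
  exact ciSup_const

theorem isCM (k : Type u) [Field k] (n : ℕ) (X : Scheme.{u}) [X.Over (Spec (CommRingCat.of k))]
    [SmoothOfRelativeDimension n (X ↘ Spec (CommRingCat.of k))] (x : X) :
    LocCoh.IsCohenMacaulayLocalRing (X.presheaf.stalk x) := by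
  haveI := smooth_inst k n X
  haveI : IsRegularLocalRing (X.presheaf.stalk x) := Groth.Agent.S1535.result k X x
  exact Groth.Agent.Lib.Helper24.FormalEquidimLoc.isCohenMacaulayLocalRing_of_isRegularLocalRing _

theorem isProper_of_closedImmersion (k : Type u) [Field k] (r : ℕ) (X : Scheme.{u})
    [X.Over (Spec (CommRingCat.of k))] (ι : X ⟶ CohB1.ProjSpace r k) [IsClosedImmersion ι]
    (hι : ι ≫ CohB1.ProjSpace.toSpec r k = X ↘ Spec (CommRingCat.of k)) :
    IsProper (X ↘ Spec (CommRingCat.of k)) := by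
  rw [← hι]
  infer_instance

theorem isIntegral_of_connected (k : Type u) [Field k] (n r : ℕ) (X : Scheme.{u})
    [X.Over (Spec (CommRingCat.of k))] [SmoothOfRelativeDimension n (X ↘ Spec (CommRingCat.of k))]
    [ConnectedSpace X] (ι : X ⟶ CohB1.ProjSpace r k) [IsClosedImmersion ι]
    (hι : ι ≫ CohB1.ProjSpace.toSpec r k = X ↘ Spec (CommRingCat.of k)) : IsIntegral X := by
  haveI := smooth_inst k n X
  haveI := isProper_of_closedImmersion k r X ι hι
  exact Groth.Agent.Lib.Helper14.AbVarComm.isIntegral_of_smooth_connected (X ↘ Spec (CommRingCat.of k))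

theorem isCoh_topForms (k : Type u) [Field k] (n r : ℕ) (X : Scheme.{u})
    [X.Over (Spec (CommRingCat.of k))] [SmoothOfRelativeDimension n (X ↘ Spec (CommRingCat.of k))]
    (ι : X ⟶ CohB1.ProjSpace r k) [IsClosedImmersion ι]
    (hι : ι ≫ CohB1.ProjSpace.toSpec r k = X ↘ Spec (CommRingCat.of k)) (L : X.Modules)
    (hL : ExtPow.IsExtPow n (Omega.sheaf (X ↘ Spec (CommRingCat.of k))) L) : Coh.IsCoh L := by
  haveI := isProper_of_closedImmersion k r X ι hι
  exact Groth.Agent.Lib.Lead.CurveInv.isCoh_of_isInvertible X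
    (Groth.Agent.Lib.helper7.TopDiffInv.isInvertible_of_isExtPow_omega
      (X ↘ Spec (CommRingCat.of k)) n L hL)

/-- S5668, conditionally on S11924. -/
theorem main_S5668 (H : H11924.{u}) (k : Type u) [Field k] [IsAlgClosed k] (n r : ℕ) (X : Scheme.{u})
    [X.Over (Spec (CommRingCat.of k))] [SmoothOfRelativeDimension n (X ↘ Spec (CommRingCat.of k))]
    [ConnectedSpace X] (ι : X ⟶ CohB1.ProjSpace r k) [IsClosedImmersion ι]
    (hι : ι ≫ CohB1.ProjSpace.toSpec r k = X ↘ Spec (CommRingCat.of k)) (L : X.Modules)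
    (hL : ExtPow.IsExtPow n (Omega.sheaf (X ↘ Spec (CommRingCat.of k))) L)
    (F : X.Modules) (hF : FlatMod.IsFinLocFree F) [DCoh.HasSheafHom F]
    (p : ℕ) (hp : p ≤ n) :
    Nonempty (Module.Dual k (Coh.HH X F p) ≃ₗ[k] Coh.HH X ((DCoh.sheafHom F).obj L) (n - p)) := by
  haveI := isIntegral_of_connected k n r X ι hι
  obtain ⟨t, ht⟩ := H k r n X ι hι L hL
  exact Groth.Agent.Lib.Helper20.SurfRR.nonempty_dual_equiv k r n X ι hι (dim_eq k n X)
    (isCM k n X) L (isCoh_topForms k n r X ι hι L hL) t ht F hF p hp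

open Groth.Agent.Lib.Lead.ModTensor in
/-- S5667, conditionally on S11924. -/
theorem main_S5667 (H : H11924.{u}) (k : Type u) [Field k] [IsAlgClosed k] (n r : ℕ) (X : Scheme.{u})
    [X.Over (Spec (CommRingCat.of k))] [SmoothOfRelativeDimension n (X ↘ Spec (CommRingCat.of k))]
    [ConnectedSpace X] (ι : X ⟶ CohB1.ProjSpace r k) [IsClosedImmersion ι]
    (hι : ι ≫ CohB1.ProjSpace.toSpec r k = X ↘ Spec (CommRingCat.of k)) (L : X.Modules)
    (hL : ExtPow.IsExtPow n (Omega.sheaf (X ↘ Spec (CommRingCat.of k))) L) :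
    Module.finrank k (Coh.HH X L n) = 1 := by
  haveI := isIntegral_of_connected k n r X ι hι
  haveI := isProper_of_closedImmersion k r X ι hι
  obtain ⟨t, ht⟩ := H k r n X ι hι L hL
  have h := Groth.Agent.Lib.Helper20.SurfRR.finrank_HH_inverse k r n X ι hι (dim_eq k n X)
    (isCM k n X) L (isCoh_topForms k n r X ι hι L hL) t ht (leftUnitor (Coh.structureModule X))
    (Groth.Agent.Lib.helper16.FLF.isFinLocFree_structureModule X) 0 (Nat.zero_le n)
  have h2 := Groth.Agent.Lib.Helper20.SurfRR.finrank_HH_eq_of_iso k (rightUnitor L) n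
  have h0 : Module.finrank k (Coh.HH X (Coh.structureModule X) 0) = 1 :=
    Groth.Agent.Lib.helper8.H0One.finrank_sections_eq_one k X
  rw [← h2, ← h0, h]
  rfl

/-- S19675, conditionally on S11924. -/
theorem main_S19675 (H : H11924.{u}) (k : Type u) [Field k] [IsAlgClosed k] (n r : ℕ) (X : Scheme.{u})
    [X.Over (Spec (CommRingCat.of k))] [SmoothOfRelativeDimension n (X ↘ Spec (CommRingCat.of k))]
    [ConnectedSpace X] (ι : X ⟶ CohB1.ProjSpace r k) [IsClosedImmersion ι]
    (hι : ι ≫ CohB1.ProjSpace.toSpec r k = X ↘ Spec (CommRingCat.of k)) (L : X.Modules)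
    (hL : ExtPow.IsExtPow n (Omega.sheaf (X ↘ Spec (CommRingCat.of k))) L) [HasExt.{u} X.Modules]
    (F : X.Modules) (hF : Coh.IsCoh F) (i : ℕ) (hi : i ≤ n) :
    Nonempty (Abelian.Ext F L i ≃ₗ[k] Module.Dual k (Coh.HH X F (n - i))) := by
  haveI := isIntegral_of_connected k n r X ι hι
  obtain ⟨t, ht⟩ := H k r n X ι hι L hL
  have heq : ∀ Z : Set ↥X, Z ∈ irreducibleComponents ↥X →
      topologicalKrullDim ↥Z = (n : WithBot ℕ∞) := by
    intro Z hZ
    rw [irreducibleComponents_eq_singleton, Set.mem_singleton_iff] at hZ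
    subst hZ
    rw [← dim_eq k n X]
    exact IsHomeomorph.topologicalKrullDim_eq _ (Homeomorph.Set.univ ↥X).isHomeomorph
  have hCM : ∀ x : X, IsClosed ({x} : Set ↥X) →
      LocCoh.IsCohenMacaulayLocalRing (X.presheaf.stalk x) ∧ ringKrullDim (X.presheaf.stalk x) = n :=
    fun x hx => ⟨isCM k n X x,
      Groth.Agent.Lib.Helper20.EquidimClosedPt.ringKrullDim_stalk_of_isClosed_of_closedImmersion
        k r X ι hι n heq x hx⟩
  exact (Groth.Agent.Lib.Helper20.DualProjCM.cm_ext_dual k r ι hι n (dim_eq k n X) hCM L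
    (isCoh_topForms k n r X ι hι L hL) t
    (fun G hG => (Groth.Agent.Lib.Helper20.DualDev.good_iff k t G).mpr (ht G hG)) F hF i).1 hi

end Groth.Agent.Lib.Lead.ProjSDCond
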