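import Mathlib
import Groth.Agent.Lib.Helper26.Depth2
import Groth.Agent.Lib.Helper26.DepthLoc
import Groth.Agent.Lib.Helper26.DepthLoc3

/-!
# A section of a module generating it in codimension one (lead)

* `forall_smul_mem_of_surj`, `surj_of_forall_smul_mem`: for a localization `f : M → N`, `σ ∈ M`: `f σ` generates `N`
  iff every element of `M` is carried into `R σ` by an element of the multiplicative set.
* `false_of_minimal_of_depth`: if `q` is minimal in the support of `M / R σ` (with `r ↦ r σ` injective), then not both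
  `R_q` and `M_q` have depth `≥ 2`.
-/

set_option autoImplicit false
set_option linter.style.haveILetI false
set_option linter.unusedSectionVars false
universe u

open LocCoh IsLocalRing

namespace Groth.Agent.Lib.Lead.RefDiv

section loc

variable {R : Type*} [CommRing R] (S : Submonoid R) (T : Type*) [CommRing T] [Algebra R T]
  [IsLocalization S T] {M N : Type*} [AddCommGroup M] [Module R M] [AddCommGroup N] [Module R N]
  [Module T N] [IsScalarTower R T N] (f : M →ₗ[R] N) [IsLocalizedModule S f] (σ : M)

theorem forall_smul_mem_of_surj (h : ∀ v : N, ∃ a : T, a • f σ = v) (m : M) :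
    ∃ t ∈ S, t • m ∈ Submodule.span R {σ} := by
  obtain ⟨a, ha⟩ := h (f m)
  obtain ⟨⟨r, t⟩, hrt⟩ := IsLocalization.surj S a
  have h1 : f (t.1 • m) = f (r • σ) := by
    rw [map_smul, map_smul, ← ha, ← algebraMap_smul T t.1 (a • f σ), smul_smul,
      mul_comm, hrt, algebraMap_smul]
  obtain ⟨t', ht'⟩ := (IsLocalizedModule.eq_iff_exists S f).1 h1
  refine ⟨t'.1 * t.1, S.mul_mem t'.2 t.2, ?_⟩
  rw [mul_smul]
  have h2 : t'.1 • t.1 • m = (t'.1 * r) • σ := by
    rw [mul_smul]; exact ht'
  rw [h2]
  exact Submodule.smul_mem _ _ (Submodule.mem_span_singleton_self σ)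

theorem surj_of_forall_smul_mem (h : ∀ m : M, ∃ t ∈ S, t • m ∈ Submodule.span R {σ}) (v : N) :
    ∃ a : T, a • f σ = v := by
  obtain ⟨⟨m, t⟩, hmt⟩ := IsLocalizedModule.surj S f v
  obtain ⟨t', ht', hmem⟩ := h m
  obtain ⟨r, hr⟩ := Submodule.mem_span_singleton.1 hmem
  have hu : IsUnit (algebraMap R T (t' * t.1)) :=
    IsLocalization.map_units T ⟨t' * t.1, S.mul_mem ht' t.2⟩
  obtain ⟨u, hu'⟩ := hu
  refine ⟨↑u⁻¹ * algebraMap R T r, ?_⟩
  have h1 : algebraMap R T (t' * t.1) • v = algebraMap R T r • f σ := by
    rw [algebraMap_smul, algebraMap_smul, mul_smul]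
    have h3 : t.1 • v = f m := hmt
    rw [h3, ← map_smul, ← hr, map_smul]
  rw [mul_smul, ← h1, ← hu', smul_smul, Units.inv_mul, one_smul]

end loc

section depth

open Groth.Agent.Lib.helper26.Depth

theorem false_of_minimal_of_depth {R : Type u} [CommRing R] [IsNoetherianRing R] (q : Ideal R)
    [q.IsPrime] (M : Type u) [AddCommGroup M] [Module R M] [Module.Finite R M] (σ : M)
    (hinj : Function.Injective (fun r : R => r • σ))
    (T : Type u) [CommRing T] [Algebra R T] [IsLocalization.AtPrime T q] [IsLocalRing T]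
    (N : Type u) [AddCommGroup N] [Module R N] [Module T N] [IsScalarTower R T N]
    (f : M →ₗ[R] N) [IsLocalizedModule q.primeCompl f]
    (hmin : q ∈ (Module.annihilator R (M ⧸ Submodule.span R {σ})).minimalPrimes)
    (hT : 2 ≤ depth T T) (hN : 2 ≤ depth T N) : False := by
  have hass : q ∈ associatedPrimes R (M ⧸ Submodule.span R {σ}) :=
    Module.associatedPrimes.minimalPrimes_annihilator_subset_associatedPrimes R _ hmin
  obtain ⟨_, h0⟩ := depth_localization_eq_zero_of_mem_associatedPrimes
    (M ⧸ Submodule.span R {σ}) q hass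
  let μ : R →ₗ[R] M := LinearMap.toSpanSingleton R M σ
  let π : M →ₗ[R] (M ⧸ Submodule.span R {σ}) := Submodule.mkQ _
  have hμ : Function.Injective μ := hinj
  have hex : Function.Exact μ π := by
    rw [LinearMap.exact_iff]
    simp only [μ, π, Submodule.ker_mkQ, LinearMap.range_toSpanSingleton]
  have h1 := min_le_idealDepth_X₃ (maximalIdeal (Localization.AtPrime q))
    (LocalizedModule.map q.primeCompl μ) (LocalizedModule.map q.primeCompl π)
    (LocalizedModule.map_injective q.primeCompl μ hμ)
    (LocalizedModule.map_surjective q.primeCompl π (Submodule.mkQ_surjective _))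
    (LocalizedModule.map_exact q.primeCompl μ π hex)
  have e1 : depth T N = depth (Localization.AtPrime q) (LocalizedModule q.primeCompl M) :=
    depth_eq_of_isLocalizedModule q M T N f
  have e2 : depth T T = depth (Localization.AtPrime q) (LocalizedModule q.primeCompl R) :=
    depth_eq_of_isLocalizedModule q R T T (Algebra.linearMap R T)
  rw [e1] at hN
  rw [e2] at hT
  have h2 : (1 : ℕ∞) ≤ depth (Localization.AtPrime q) (LocalizedModule q.primeCompl R) - 1 :=
    ENat.le_sub_of_add_le_right ENat.one_ne_top (by
      have : (1 : ℕ∞) + 1 = 2 := by norm_num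
      rw [this]; exact hT)
  have h3 : (1 : ℕ∞) ≤ min (depth (Localization.AtPrime q) (LocalizedModule q.primeCompl M))
      (depth (Localization.AtPrime q) (LocalizedModule q.primeCompl R) - 1) :=
    le_min (le_trans (by norm_num) hN) h2
  have h4 := le_trans h3 h1
  change (1 : ℕ∞) ≤ depth (Localization.AtPrime q)
    (LocalizedModule q.primeCompl (M ⧸ Submodule.span R {σ})) at h4
  rw [h0] at h4
  exact absurd h4 (by norm_num)

end depth

end Groth.Agent.Lib.Lead.RefDiv
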