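import Groth.Agent.Lib.Lead.RefGrp4
import Groth.Agent.Lib.Helper16.SecOrd5
import Groth.Agent.Lib.Lead.TorsPure

/-!
# Local generators of rank one reflexive modules in codimension one (lead)

* `span_basis_fin_one`, `span_singleton_map`, `exists_gen_section`, `ne_zero_of_span`, `mk_ne_zero_of_span` (the class of a
  generator of a free rank one stalk in the fibre `Cyc.secFibre` is nonzero).
* `dim_genericPoint_le_one`, `genericPoint_mem`, `span_germ_genericPoint`: a section generating the stalk of a torsion-free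
  generically rank one module at a point also generates the generic stalk.
* `isR1At_of_dim_le_one`, `exists_common_gen`: common local generators of two rank one reflexive modules on a normal scheme at
  a point of codimension `≤ 1`.
-/

set_option autoImplicit false
set_option backward.isDefEq.respectTransparency false
set_option linter.style.haveILetI false
set_option linter.unusedSectionVars false
universe u

open CategoryTheory CategoryTheory.Limits AlgebraicGeometry TopologicalSpace Opposite TensorProduct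

noncomputable section

namespace Groth.Agent.Lib.Lead.RefDivOrd

open RefHull Groth.Agent.Lib.Lead.RH Groth.Agent.Lib.Lead.RefGrp Groth.Agent.Lib.helper16.SecOrd
open Groth.Agent.Lib.Helper18.DegCalc (isCoh_tensorMod)

variable {X : Scheme.{u}}

theorem span_basis_fin_one {R M : Type*} [CommRing R] [AddCommGroup M] [Module R M]
    (b : Module.Basis (Fin 1) R M) : Submodule.span R {b 0} = ⊤ := by
  have h1 := b.span_eq
  have h2 : Set.range b = {b 0} := by
    ext v
    constructor
    · rintro ⟨i, rfl⟩
      have hi : i = 0 := Subsingleton.elim _ _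
      rw [hi]; exact rfl
    · rintro rfl
      exact ⟨0, rfl⟩
  rw [h2] at h1
  exact h1

theorem span_singleton_map {R M N : Type*} [CommRing R] [AddCommGroup M] [Module R M]
    [AddCommGroup N] [Module R N] (f : M →ₗ[R] N) (hf : Function.Surjective f) (m : M)
    (hm : Submodule.span R {m} = ⊤) : Submodule.span R {f m} = ⊤ := by
  rw [← Set.image_singleton, ← Submodule.map_span, hm, Submodule.map_top,
    LinearMap.range_eq_top.2 hf]

theorem exists_gen_section (M : X.Modules) (y : X) (h : IsR1At M y) :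
    ∃ (U : X.Opens) (hy : y ∈ U) (a : Γ(M, U)),
      Submodule.span (X.presheaf.stalk y) {M.presheaf.germ U y hy a} = ⊤ := by
  haveI := h.1
  let b : Module.Basis (Fin 1) (X.presheaf.stalk y) (M.presheaf.stalk y) :=
    Module.basisUnique (Fin 1) h.2
  obtain ⟨U, hy, a, ha⟩ := TopCat.Presheaf.exists_germ_eq M.presheaf (b 0)
  refine ⟨U, hy, a, ?_⟩
  rw [ha]
  exact span_basis_fin_one b

theorem ne_zero_of_span {M : X.Modules} {y : X} (h : IsR1At M y) (g : M.presheaf.stalk y)
    (hg : Submodule.span (X.presheaf.stalk y) {g} = ⊤) : g ≠ 0 := by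
  rintro rfl
  rw [Submodule.span_zero_singleton] at hg
  haveI : Subsingleton (M.presheaf.stalk y) := by
    refine ⟨fun v v' => ?_⟩
    have hv : v ∈ (⊥ : Submodule (X.presheaf.stalk y) (M.presheaf.stalk y)) := hg ▸ Submodule.mem_top
    have hv' : v' ∈ (⊥ : Submodule (X.presheaf.stalk y) (M.presheaf.stalk y)) := hg ▸ Submodule.mem_top
    rw [(Submodule.mem_bot _).1 hv, (Submodule.mem_bot _).1 hv']
  have := h.2
  rw [Module.finrank_zero_of_subsingleton] at this
  exact absurd this (by norm_num)

/-- the class of a generator in the fibre is nonzero -/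
theorem mk_ne_zero_of_span {L : X.Modules} {ξ : X} (h : IsR1At L ξ) (g : L.presheaf.stalk ξ)
    (hg : Submodule.span (X.presheaf.stalk ξ) {g} = ⊤) :
    (Submodule.Quotient.mk g : Cyc.secFibre L ξ) ≠ 0 := by
  intro h0
  rw [Submodule.Quotient.mk_eq_zero] at h0
  have h1 : (⊤ : Submodule (X.presheaf.stalk ξ) (L.presheaf.stalk ξ)) ≤
      IsLocalRing.maximalIdeal (X.presheaf.stalk ξ) • ⊤ := by
    rw [← hg, Submodule.span_singleton_le_iff_mem, hg]
    exact h0
  haveI := h.finite
  have h2 : (⊤ : Submodule (X.presheaf.stalk ξ) (L.presheaf.stalk ξ)) = ⊥ :=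
    Submodule.eq_bot_of_le_smul_of_le_jacobson_bot _ _ Module.Finite.fg_top h1
      (IsLocalRing.maximalIdeal_le_jacobson _)
  have hg0 : g = 0 := by
    have : g ∈ (⊤ : Submodule (X.presheaf.stalk ξ) (L.presheaf.stalk ξ)) := Submodule.mem_top
    rw [h2] at this
    exact (Submodule.mem_bot _).1 this
  exact ne_zero_of_span h g hg hg0

section Integral

variable [IsIntegral X]

theorem dim_genericPoint_le_one : ringKrullDim (X.presheaf.stalk (genericPoint X)) ≤ 1 :=
  (ringKrullDim_eq_zero_of_field X.functionField).le.trans zero_le_one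

theorem genericPoint_mem {U : X.Opens} {y : X} (hy : y ∈ U) : genericPoint X ∈ U :=
  ((genericPoint_spec X).specializes (Set.mem_univ y)).mem_open U.isOpen hy

/-- a local generator of a torsion-free module at a point also generates the generic stalk -/
theorem span_germ_genericPoint (F : X.Modules) [F.IsQuasicoherent] (htf : TorSh.IsTorsionFree F)
    (hη : IsR1At F (genericPoint X)) {U : X.Opens} (y : X) (hy : y ∈ U) (a : Γ(F, U))
    (hy1 : IsR1At F y)
    (ha : Submodule.span (X.presheaf.stalk y) {F.presheaf.germ U y hy a} = ⊤) :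
    Submodule.span (X.presheaf.stalk (genericPoint X))
      {F.presheaf.germ U (genericPoint X) (genericPoint_mem hy) a} = ⊤ := by
  have hne : F.presheaf.germ U y hy a ≠ 0 := ne_zero_of_span hy1 _ ha
  have hη0 : F.presheaf.germ U (genericPoint X) (genericPoint_mem hy) a ≠ 0 := fun h0 =>
    hne (Groth.Agent.Lib.Lead.TorsPure.germ_eq_zero_of_germ_genericPoint_eq_zero F htf y hy a
      (genericPoint_mem hy) h0)
  haveI := hη.1
  let b : Module.Basis (Fin 1) (X.presheaf.stalk (genericPoint X))
      (F.presheaf.stalk (genericPoint X)) := Module.basisUnique (Fin 1) hη.2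
  obtain ⟨c, hc⟩ : ∃ c : X.presheaf.stalk (genericPoint X), c • b 0 =
      F.presheaf.germ U (genericPoint X) (genericPoint_mem hy) a :=
    Submodule.mem_span_singleton.1 (by rw [span_basis_fin_one b]; exact Submodule.mem_top)
  have hc0 : c ≠ 0 := by
    rintro rfl
    rw [zero_smul] at hc
    exact hη0 hc.symm
  obtain ⟨u, rfl⟩ := isUnit_of_ne_zero_functionField c hc0
  rw [eq_top_iff, ← span_basis_fin_one b, Submodule.span_singleton_le_iff_mem,
    Submodule.mem_span_singleton]
  refine ⟨((u⁻¹ : (X.presheaf.stalk (genericPoint X))ˣ) : X.presheaf.stalk (genericPoint X)), ?_⟩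
  rw [← hc, smul_smul, Units.inv_mul, one_smul]

end Integral

section Normal

variable [IsIntegral X] [IsLocallyNoetherian X]

theorem isR1At_of_dim_le_one (hX : Pi1.IsNormalScheme X) (F : X.Modules) (hF : IsRef1 F) (y : X)
    (hy : ringKrullDim (X.presheaf.stalk y) ≤ 1) : IsR1At F y :=
  isR1At_of_mem_freeLocus F hF.1 hF.2.2 (mem_freeLocus_of_dim_le_one hX F hF.1 hF.2.1 y hy)

/-- common local generators of two rank one reflexive modules at a point of codimension `≤ 1`, which also generate the
generic stalks -/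
theorem exists_common_gen (hX : Pi1.IsNormalScheme X) (F G : X.Modules) (hF : IsRef1 F)
    (hG : IsRef1 G) (y : X) (hy : ringKrullDim (X.presheaf.stalk y) ≤ 1) :
    ∃ (U : X.Opens) (hyU : y ∈ U) (a : Γ(F, U)) (b : Γ(G, U)),
      Submodule.span (X.presheaf.stalk y) {F.presheaf.germ U y hyU a} = ⊤ ∧
      Submodule.span (X.presheaf.stalk y) {G.presheaf.germ U y hyU b} = ⊤ ∧
      Submodule.span (X.presheaf.stalk (genericPoint X))
        {F.presheaf.germ U (genericPoint X) (genericPoint_mem hyU) a} = ⊤ ∧
      Submodule.span (X.presheaf.stalk (genericPoint X))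
        {G.presheaf.germ U (genericPoint X) (genericPoint_mem hyU) b} = ⊤ := by
  have rF := isR1At_of_dim_le_one hX F hF y hy
  have rG := isR1At_of_dim_le_one hX G hG y hy
  have rFη := isR1At_of_dim_le_one hX F hF _ dim_genericPoint_le_one
  have rGη := isR1At_of_dim_le_one hX G hG _ dim_genericPoint_le_one
  haveI : F.IsQuasicoherent := hF.1.1
  haveI : G.IsQuasicoherent := hG.1.1
  have tfF := Groth.Agent.Lib.Lead.TorsPure.isTorsionFree_of_isReflexive F hF.2.1
  have tfG := Groth.Agent.Lib.Lead.TorsPure.isTorsionFree_of_isReflexive G hG.2.1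
  obtain ⟨U₁, hy₁, a₁, ha₁⟩ := exists_gen_section F y rF
  obtain ⟨U₂, hy₂, b₂, hb₂⟩ := exists_gen_section G y rG
  have hyU : y ∈ U₁ ⊓ U₂ := ⟨hy₁, hy₂⟩
  let a : Γ(F, U₁ ⊓ U₂) := F.presheaf.map (homOfLE (inf_le_left : U₁ ⊓ U₂ ≤ U₁)).op a₁
  let b : Γ(G, U₁ ⊓ U₂) := G.presheaf.map (homOfLE (inf_le_right : U₁ ⊓ U₂ ≤ U₂)).op b₂
  have ha : Submodule.span (X.presheaf.stalk y) {F.presheaf.germ (U₁ ⊓ U₂) y hyU a} = ⊤ := by
    have e : F.presheaf.germ (U₁ ⊓ U₂) y hyU a = F.presheaf.germ U₁ y hy₁ a₁ :=
      TopCat.Presheaf.germ_res_apply _ _ _ _ _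
    rw [e]; exact ha₁
  have hb : Submodule.span (X.presheaf.stalk y) {G.presheaf.germ (U₁ ⊓ U₂) y hyU b} = ⊤ := by
    have e : G.presheaf.germ (U₁ ⊓ U₂) y hyU b = G.presheaf.germ U₂ y hy₂ b₂ :=
      TopCat.Presheaf.germ_res_apply _ _ _ _ _
    rw [e]; exact hb₂
  exact ⟨U₁ ⊓ U₂, hyU, a, b, ha, hb, span_germ_genericPoint F tfF rFη y hyU a rF ha,
    span_germ_genericPoint G tfG rGη y hyU b rG hb⟩

end Normal

end Groth.Agent.Lib.Lead.RefDivOrd
end
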