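import Groth.Agent.Lib.Helper2.CDivLib10
import Groth.Agent.Lib.Helper16.SecOrd6
import Groth.Agent.Lib.Helper16.OrdGen

/-!
# The prelude's order along `η ⤳ x` and Mathlib's order of vanishing (lead)

`X` integral, locally Noetherian, `x` a point of codimension one.
* `ord_algebraMap`: `Scheme.ord (a : K(X)) x = (Ring.ord O_{X,x} a).toNat` for `a ∈ O_{X,x}`, `a ≠ 0`.
* `ordAt_residue_eq_ord`: `Cyc.ordAt x η h (residue φ) = Scheme.ord φ x` for `φ ∈ O_{X,η} = K(X)`, `φ ≠ 0`.
-/

set_option autoImplicit false
set_option backward.isDefEq.respectTransparency false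
set_option linter.style.haveILetI false
set_option linter.unusedSectionVars false
universe u

open CategoryTheory CategoryTheory.Limits AlgebraicGeometry TopologicalSpace Opposite

noncomputable section

namespace Groth.Agent.Lib.Lead.RefDivOrd

open Groth.Agent.Lib.helper16.SecOrd

variable {X : Scheme.{u}} [IsIntegral X] [IsLocallyNoetherian X]

/-- Mathlib's order of vanishing of (the image of) a nonzero element of the local ring -/
theorem ord_algebraMap (x : X) (hx : Order.coheight x = 1) (a : X.presheaf.stalk x) (ha : a ≠ 0) :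
    Scheme.ord (algebraMap (X.presheaf.stalk x) X.functionField a) x =
      ((Ring.ord (X.presheaf.stalk x) a).toNat : ℤ) := by
  haveI : Ring.KrullDimLE 1 (X.presheaf.stalk x) := krullDimLE_of_coheight_le hx.le
  have hinj := IsFractionRing.injective (X.presheaf.stalk x) X.functionField
  have hne : algebraMap (X.presheaf.stalk x) X.functionField a ≠ 0 := fun h0 =>
    ha (hinj (h0.trans (map_zero _).symm))
  have hnzd : a ∈ nonZeroDivisors (X.presheaf.stalk x) := mem_nonZeroDivisors_iff_ne_zero.mpr ha
  rw [Scheme.ord_eq_iff hx hne]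
  have htop : Ring.ord (X.presheaf.stalk x) a ≠ ⊤ := Ring.ord_ne_top hnzd
  obtain ⟨n, hn⟩ := ENat.ne_top_iff_exists.1 htop
  have h1 : Scheme.ordHom x hx (algebraMap (X.presheaf.stalk x) X.functionField a) =
      Ring.ordMonoidWithZeroHom (X.presheaf.stalk x) a := Ring.ordFrac_eq_ord _ ha
  rw [h1, Ring.ordMonoidWithZeroHom_eq_coe _ hnzd hn.symm, ← hn]
  rfl

/-- the prelude's order along `η ⤳ x` agrees with Mathlib's order of vanishing -/
theorem ordAt_residue_eq_ord (x : X) (hx : Order.coheight x = 1) (h : genericPoint X ⤳ x)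
    (φ : X.presheaf.stalk (genericPoint X)) (hφ : φ ≠ 0) :
    Cyc.ordAt x (genericPoint X) h (X.residue (genericPoint X) φ) =
      Scheme.ord (φ : X.functionField) x := by
  obtain ⟨a, b, hb, hab⟩ := IsFractionRing.div_surjective (A := X.presheaf.stalk x)
    (φ : X.functionField)
  have hinj := IsFractionRing.injective (X.presheaf.stalk x) X.functionField
  have hb0 : b ≠ 0 := nonZeroDivisors.ne_zero hb
  have ha0 : a ≠ 0 := by
    rintro rfl
    rw [map_zero, zero_div] at hab
    exact hφ hab.symm
  have hbK : algebraMap (X.presheaf.stalk x) X.functionField b ≠ 0 := fun h0 =>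
    hb0 (hinj (h0.trans (map_zero _).symm))
  have haK : algebraMap (X.presheaf.stalk x) X.functionField a ≠ 0 := fun h0 =>
    ha0 (hinj (h0.trans (map_zero _).symm))
  have e1 : Scheme.ord (φ : X.functionField) x =
      ((Ring.ord (X.presheaf.stalk x) a).toNat : ℤ) - ((Ring.ord (X.presheaf.stalk x) b).toNat : ℤ) := by
    rw [← hab, div_eq_mul_inv, Groth.Agent.Lib.helper2.CDivLib.ord_div' x _ _ haK hbK,
      ord_algebraMap x hx a ha0, ord_algebraMap x hx b hb0]
  have e2 : X.residue (genericPoint X) φ =
      Cyc.specMap x (genericPoint X) h a * (Cyc.specMap x (genericPoint X) h b)⁻¹ := by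
    have : (φ : X.functionField) = algebraMap (X.presheaf.stalk x) X.functionField a *
        (algebraMap (X.presheaf.stalk x) X.functionField b)⁻¹ := by
      rw [← hab, div_eq_mul_inv]
    rw [this, map_mul, map_inv₀]
    rfl
  have n1 := specMap_genericPoint_injective x h
  have sa : Cyc.specMap x (genericPoint X) h a ≠ 0 := fun h0 =>
    ha0 (n1 (h0.trans (map_zero _).symm))
  have sb : Cyc.specMap x (genericPoint X) h b ≠ 0 := fun h0 =>
    hb0 (n1 (h0.trans (map_zero _).symm))
  rw [e1, e2]
  have e3 : Cyc.ordAt x (genericPoint X) h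
      (Cyc.specMap x (genericPoint X) h a * (Cyc.specMap x (genericPoint X) h b)⁻¹) =
      Cyc.ordAt x (genericPoint X) h (Cyc.specMap x (genericPoint X) h a) -
        Cyc.ordAt x (genericPoint X) h (Cyc.specMap x (genericPoint X) h b) := by
    unfold Cyc.ordAt
    rw [ordFrac_mul' _ _ sa (inv_ne_zero sb), ordFrac_inv' _ _ sb]
    ring
  rw [e3, ordAt_specMap_genericPoint x h hx.le a ha0, ordAt_specMap_genericPoint x h hx.le b hb0]
  rfl

end Groth.Agent.Lib.Lead.RefDivOrd
end
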