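import Groth.Agent.Lib.Lead.RefDivOrd1
import Groth.Agent.Lib.Lead.HomHartogs

/-!
# A reflexive module is the intersection of its stalks in codimension one (lead)

* `homSh_spec`: the stalk maps of a section of `𝓗om(F, G)` are compatible with specialization.
* `section_eq_of_germ_genericPoint_eq`: sections of a torsion-free quasi-coherent module on an integral scheme are
  determined by their germ at the generic point.
* `hart_of_isReflexive`: Hartogs property of a coherent reflexive module on a normal scheme.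
* `exists_section_of_forall_mem_range`: on a normal integral locally Noetherian scheme, a germ at the generic point of a
  coherent reflexive module which comes from the stalk at every point of codimension `≤ 1` is the germ of a global section.
-/

set_option autoImplicit false
set_option backward.isDefEq.respectTransparency false
set_option linter.style.haveILetI false
set_option linter.unusedSectionVars false
universe u

open CategoryTheory CategoryTheory.Limits AlgebraicGeometry TopologicalSpace Opposite

noncomputable section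

namespace Groth.Agent.Lib.Lead.RefDivOrd

open RefHull Groth.Agent.Lib.Lead.RH Groth.Agent.Lib.Lead.RefGrp Groth.Agent.Lib.helper16.SecOrd
open Groth.Agent.Lib.Lead.HomHartogs Groth.Agent.Lib.Lead.RefExt

variable {X : Scheme.{u}}

/-- the stalk maps of a section of the sheaf Hom are compatible with specialization -/
theorem homSh_spec {F G : X.Modules} {V : X.Opens} (σ : Γ(homSh F G, V)) {x ξ : X} (h : ξ ⤳ x)
    (hx : x ∈ V) (v : F.presheaf.stalk x) :
    σ.1 ⟨ξ, h.mem_open V.isOpen hx⟩ (F.presheaf.stalkSpecializes h v) =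
      G.presheaf.stalkSpecializes h (σ.1 ⟨x, hx⟩ v) := by
  obtain ⟨W₀, hxW₀, m₀, rfl⟩ := TopCat.Presheaf.exists_germ_eq F.presheaf v
  set W : X.Opens := W₀ ⊓ V with hW
  have hxW : x ∈ W := ⟨hxW₀, hx⟩
  let i : W ⟶ V := homOfLE inf_le_right
  let m : Γ(F, W) := F.presheaf.map (homOfLE (inf_le_left : W₀ ⊓ V ≤ W₀)).op m₀
  have hm : ∀ (y : X) (hy : y ∈ W), F.presheaf.germ W y hy m = F.presheaf.germ W₀ y hy.1 m₀ :=
    fun y hy => TopCat.Presheaf.germ_res_apply F.presheaf
      (homOfLE (inf_le_left : W₀ ⊓ V ≤ W₀)) y hy m₀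
  obtain ⟨W', hxW', j, n, hn⟩ := isLocSect_of_mem σ W i m ⟨x, hxW⟩
  have hξW' : ξ ∈ W' := h.mem_open W'.isOpen hxW'
  have e1 := hn ⟨x, hxW'⟩
  have e2 := hn ⟨ξ, hξW'⟩
  dsimp only at e1 e2
  rw [hm] at e1 e2
  rw [germ_spec F h hxW₀ m₀, e2, e1, germ_spec G h hxW' n]

section Integral

variable [IsIntegral X]

/-- sections of a torsion-free quasi-coherent module are determined by their germ at the generic point -/
theorem section_eq_of_germ_genericPoint_eq (H : X.Modules) [H.IsQuasicoherent]
    (htf : TorSh.IsTorsionFree H) {W : X.Opens} (hη : genericPoint X ∈ W) (s₁ s₂ : Γ(H, W))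
    (h : H.presheaf.germ W (genericPoint X) hη s₁ = H.presheaf.germ W (genericPoint X) hη s₂) :
    s₁ = s₂ := by
  rw [← sub_eq_zero]
  refine section_ext' H _ _ fun y hy => ?_
  rw [map_zero]
  refine Groth.Agent.Lib.Lead.TorsPure.germ_eq_zero_of_germ_genericPoint_eq_zero H htf y hy
    (s₁ - s₂) hη ?_
  rw [map_sub, h, sub_self]

variable [IsLocallyNoetherian X]

/-- the Hartogs property of a coherent reflexive module on a normal scheme with respect to an open containing the points of
codimension at most one -/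
theorem hart_of_isReflexive (hX : Pi1.IsNormalScheme X) (H : X.Modules) (hH : Coh.IsCoh H)
    (hHr : RefHull.IsReflexive H) (U : X.Opens)
    (hU : ∀ y : X, ringKrullDim (X.presheaf.stalk y) ≤ 1 → y ∈ U) : Hart H U := by
  rw [hart_iff_isIso]
  exact isIso_unit_of_reflexive_of_depth H hH U
    (fun x hx => Groth.Agent.Lib.Lead.FlatHartogs.two_le_depth_of_normal hX x fun h => hx (hU x h))
    ((isReflexive_iff_forall_isReflexiveAt H hH).1 hHr)

/-- **a reflexive module is the intersection of its stalks in codimension one**: a germ at the generic point which comes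
from the stalk at every point of codimension at most one is the germ of a global section -/
theorem exists_section_of_forall_mem_range (hX : Pi1.IsNormalScheme X) (H : X.Modules)
    (hH : Coh.IsCoh H) (hHr : RefHull.IsReflexive H) (h : H.presheaf.stalk (genericPoint X))
    (hh : ∀ y : X, ringKrullDim (X.presheaf.stalk y) ≤ 1 →
      ∃ (hy : genericPoint X ⤳ y) (v : H.presheaf.stalk y), H.presheaf.stalkSpecializes hy v = h) :
    ∃ σ : Γ(H, ⊤), H.presheaf.germ ⊤ (genericPoint X) trivial σ = h := by
  haveI : H.IsQuasicoherent := hH.1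
  have htf := Groth.Agent.Lib.Lead.TorsPure.isTorsionFree_of_isReflexive H hHr
  let S := {y : X // ringKrullDim (X.presheaf.stalk y) ≤ 1}
  have h1 : ∀ y : S, ∃ (V : X.Opens) (hyV : y.1 ∈ V) (σ : Γ(H, V)),
      H.presheaf.germ V (genericPoint X) (genericPoint_mem hyV) σ = h := by
    intro y
    obtain ⟨hy, v, hv⟩ := hh y.1 y.2
    obtain ⟨V, hyV, σ, rfl⟩ := TopCat.Presheaf.exists_germ_eq H.presheaf v
    refine ⟨V, hyV, σ, ?_⟩
    rw [← hv, germ_spec H hy hyV σ]
  choose V hyV σ hσ using h1
  let U : X.Opens := ⨆ y : S, V y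
  have hcompat : TopCat.Presheaf.IsCompatible H.presheaf V σ := by
    intro y y'
    have hη : genericPoint X ∈ V y ⊓ V y' := ⟨genericPoint_mem (hyV y), genericPoint_mem (hyV y')⟩
    refine section_eq_of_germ_genericPoint_eq H htf hη _ _ ?_
    rw [TopCat.Presheaf.germ_res_apply, TopCat.Presheaf.germ_res_apply]
    exact (hσ y).trans (hσ y').symm
  obtain ⟨σU, hσU, -⟩ := TopCat.Sheaf.existsUnique_gluing' ⟨H.presheaf, H.isSheaf⟩ V U
    (fun y => homOfLE (le_iSup V y)) (le_refl _) σ hcompat
  have hU : ∀ y : X, ringKrullDim (X.presheaf.stalk y) ≤ 1 → y ∈ U := fun y hy =>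
    Opens.mem_iSup.2 ⟨⟨y, hy⟩, hyV ⟨y, hy⟩⟩
  have hart := hart_of_isReflexive hX H hH hHr U hU
  obtain ⟨σ', hσ'⟩ := (hart ⊤).2
    (H.presheaf.map (homOfLE (inf_le_right : (⊤ : X.Opens) ⊓ U ≤ U)).op σU)
  refine ⟨σ', ?_⟩
  let y₀ : S := ⟨genericPoint X, dim_genericPoint_le_one⟩
  have hηU : genericPoint X ∈ U := hU _ dim_genericPoint_le_one
  have e1 : H.presheaf.germ ⊤ (genericPoint X) trivial σ' =
      H.presheaf.germ (⊤ ⊓ U) (genericPoint X) ⟨trivial, hηU⟩
        (H.presheaf.map (homOfLE (inf_le_left : (⊤ : X.Opens) ⊓ U ≤ ⊤)).op σ') :=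
    (TopCat.Presheaf.germ_res_apply _ _ _ _ _).symm
  rw [e1, hσ', TopCat.Presheaf.germ_res_apply]
  have e2 : H.presheaf.germ U (genericPoint X) hηU σU =
      H.presheaf.germ (V y₀) (genericPoint X) (hyV y₀)
        (H.presheaf.map (homOfLE (le_iSup V y₀)).op σU) :=
    (TopCat.Presheaf.germ_res_apply _ _ _ _ _).symm
  rw [e2, hσU y₀]
  exact hσ y₀

end Integral

end Groth.Agent.Lib.Lead.RefDivOrd
end
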