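import Groth.Agent.Lib.Lead.RefDivOrd3
import Groth.Agent.S16081

/-!
# Morphisms of rank one reflexive modules from generic data (lead)

* `homOfGlobal σ : F ⟶ G` for a global section `σ` of `𝓗om(F, G)`, with `stalkMapₗ_homOfGlobal`.
* `hom_eq_of_stalkMapₗ_genericPoint`: morphisms into a torsion-free quasi-coherent module on an integral scheme are determined
  by their generic stalk map.
* `exists_hom_of_stalk`: on a normal integral locally Noetherian scheme, a linear map `F_η → G_η` between the generic stalks of
  rank one coherent reflexive modules which maps `F_y` into `G_y` (compatibly with an `O_{X,y}`-linear map) for all `y` of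
  codimension `≤ 1` is the generic stalk map of a morphism `F ⟶ G`.
-/

set_option autoImplicit false
set_option backward.isDefEq.respectTransparency false
set_option linter.style.haveILetI false
set_option linter.unusedSectionVars false
universe u

open CategoryTheory CategoryTheory.Limits AlgebraicGeometry TopologicalSpace Opposite

noncomputable section

namespace Groth.Agent.Lib.Lead.RefDivOrd

open RefHull Groth.Agent.Lib.Lead.RH Groth.Agent.Lib.Lead.RefGrp Groth.Agent.Lib.helper16.SecOrd
open Groth.Agent.Lib.Lead.HomHartogs Groth.Agent.Lib.Lead.RefExt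

variable {X : Scheme.{u}}

/-- the morphism defined by a global section of the sheaf Hom -/
def homOfGlobal {F G : X.Modules} (σ : Γ(homSh F G, ⊤)) : F ⟶ G :=
  ⟨PresheafOfModules.homMk
    { app := fun V => AddCommGrpCat.ofHom
        (appLin F G (V := V.unop)
          ((homSh F G).presheaf.map (homOfLE (le_top : V.unop ≤ ⊤)).op σ)).toAddMonoidHom
      naturality := fun {V V'} i => by
        ext m
        exact appSec_res F G i.unop
          ((homSh F G).presheaf.map (homOfLE (le_top : V.unop ≤ ⊤)).op σ) m }
    (fun V r m => (appLin F G (V := V.unop)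
      ((homSh F G).presheaf.map (homOfLE (le_top : V.unop ≤ ⊤)).op σ)).map_smul r m)⟩

theorem homOfGlobal_app {F G : X.Modules} (σ : Γ(homSh F G, ⊤)) (V : X.Opens) (m : Γ(F, V)) :
    (homOfGlobal σ).app V m =
      appSec F G ((homSh F G).presheaf.map (homOfLE (le_top : V ≤ ⊤)).op σ) m := rfl

theorem stalkMapₗ_homOfGlobal {F G : X.Modules} (σ : Γ(homSh F G, ⊤)) (y : X) :
    stalkMapₗ (homOfGlobal σ) y = σ.1 ⟨y, trivial⟩ := by
  refine LinearMap.ext fun v => ?_
  obtain ⟨V, hy, m, rfl⟩ := TopCat.Presheaf.exists_germ_eq F.presheaf v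
  rw [stalkMapₗ_germ, homOfGlobal_app, germ_appSec]
  rfl

section Integral

variable [IsIntegral X]

/-- morphisms into a torsion-free quasi-coherent module are determined by the generic stalk map -/
theorem hom_eq_of_stalkMapₗ_genericPoint {A B : X.Modules} [B.IsQuasicoherent]
    (htf : TorSh.IsTorsionFree B) (θ₁ θ₂ : A ⟶ B)
    (h : stalkMapₗ θ₁ (genericPoint X) = stalkMapₗ θ₂ (genericPoint X)) : θ₁ = θ₂ := by
  refine hom_ext_sections fun V m => ?_
  refine section_ext' B _ _ fun y hy => ?_
  have hη : genericPoint X ∈ V := genericPoint_mem hy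
  have h1 : θ₁.app V m = θ₂.app V m := by
    refine section_eq_of_germ_genericPoint_eq B htf hη _ _ ?_
    rw [← stalkMapₗ_germ θ₁ (genericPoint X) hη m, ← stalkMapₗ_germ θ₂ (genericPoint X) hη m, h]
  rw [h1]

variable [IsLocallyNoetherian X]

/-- a linear map of generic stalks which is compatible with linear maps of the stalks at the points of codimension at
most one is the generic stalk map of a morphism -/
theorem exists_hom_of_stalk (hX : Pi1.IsNormalScheme X) (F G : X.Modules) (hF : IsRef1 F)
    (hG : IsRef1 G)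
    (T : F.presheaf.stalk (genericPoint X) →ₗ[X.presheaf.stalk (genericPoint X)]
      G.presheaf.stalk (genericPoint X))
    (hT : ∀ y : X, ringKrullDim (X.presheaf.stalk y) ≤ 1 →
      ∃ (hy : genericPoint X ⤳ y) (Ty : StalkHom F G y),
        ∀ v, T (F.presheaf.stalkSpecializes hy v) = G.presheaf.stalkSpecializes hy (Ty v)) :
    ∃ ψ : F ⟶ G, stalkMapₗ ψ (genericPoint X) = T := by
  have hFP := Groth.Agent.Lib.helper16.CohFinite.isFinitePresentation_of_isCoh F hF.1
  have hHc : Coh.IsCoh (homSh F G) := homSh_isCoh F G hF.1 hG.1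
  have hHr : RefHull.IsReflexive (homSh F G) :=
    Groth.Agent.S16081.result X F G hF.1 hG.1 hG.2.1
  haveI : F.IsQuasicoherent := hF.1.1
  have tfF := Groth.Agent.Lib.Lead.TorsPure.isTorsionFree_of_isReflexive F hF.2.1
  have rFη := isR1At_of_dim_le_one hX F hF _ dim_genericPoint_le_one
  obtain ⟨h, hh⟩ := (evalStalk_bijective F G hFP (genericPoint X)).2 T
  obtain ⟨σ, hσ⟩ := exists_section_of_forall_mem_range hX (homSh F G) hHc hHr h (by
    intro y hdim
    obtain ⟨hy, Ty, hTy⟩ := hT y hdim
    obtain ⟨θ, hθ⟩ := (evalStalk_bijective F G hFP y).2 Ty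
    refine ⟨hy, θ, ?_⟩
    apply (evalStalk_bijective F G hFP (genericPoint X)).1
    rw [hh]
    obtain ⟨V, hyV, τ, rfl⟩ := TopCat.Presheaf.exists_germ_eq (homSh F G).presheaf θ
    rw [germ_spec (homSh F G) hy hyV τ, evalStalk_germ]
    rw [evalStalk_germ] at hθ
    have rFy := isR1At_of_dim_le_one hX F hF y hdim
    obtain ⟨U, hyU, a, ha⟩ := exists_gen_section F y rFy
    have haη := span_germ_genericPoint F tfF rFη y hyU a rFy ha
    refine LinearMap.ext_on haη ?_
    intro v hv
    rw [Set.mem_singleton_iff] at hv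
    subst hv
    rw [← germ_spec F hy hyU a, hTy, ← hθ]
    exact homSh_spec τ hy hyV _)
  refine ⟨homOfGlobal σ, ?_⟩
  rw [stalkMapₗ_homOfGlobal, ← hh, ← hσ, evalStalk_germ]

end Integral

end Groth.Agent.Lib.Lead.RefDivOrd
end
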