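import Groth.Agent.Lib.Lead.RefDivOrd2
import Groth.Agent.Lib.Lead.RefDivOrd4

/-!
# Rank one reflexive modules and linear equivalence of divisors of rational sections (lead)

`X` normal, integral, locally Noetherian.
* `exists_linearMap_of_span`, `span_of_ne_zero_genericPoint`, `mk_ne_zero_imp`.
* `secOrdAt_eq_ord`: `Cyc.secOrdAt F η x s = Scheme.ord φ x` when `s = φ • a` for a local generator `a` of `F` at `x`.
* `exists_hom_smul`: if `ord_{x,F}(s) = ord_{x,G}(t) + ord_x(f)` at all points of codimension one, there is a morphism `F ⟶ G`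
  mapping `s` to `f • t` at the generic point.
* `nonempty_iso_iff`: `F ≅ G` iff the divisors of nonzero rational sections of `F`, `G` are linearly equivalent.
-/

set_option autoImplicit false
set_option backward.isDefEq.respectTransparency false
set_option linter.style.haveILetI false
set_option linter.unusedSectionVars false
universe u

open CategoryTheory CategoryTheory.Limits AlgebraicGeometry TopologicalSpace Opposite

noncomputable section

namespace Groth.Agent.Lib.Lead.RefDivOrd

open RefHull Groth.Agent.Lib.Lead.RH Groth.Agent.Lib.Lead.RefGrp Groth.Agent.Lib.helper16.SecOrd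
open Groth.Agent.Lib.Lead.HomHartogs Groth.Agent.Lib.Lead.RefExt Groth.Agent.Lib.helper2.CDivLib

variable {X : Scheme.{u}}

/-- a linear map out of a free module of rank one with prescribed value on a generator -/
theorem exists_linearMap_of_span {R M N : Type*} [CommRing R] [AddCommGroup M] [Module R M]
    [AddCommGroup N] [Module R N] (e : Module.Basis (Fin 1) R M) (g : M)
    (hg : Submodule.span R {g} = ⊤) (w : N) : ∃ L : M →ₗ[R] N, L g = w := by
  obtain ⟨r, hr⟩ : ∃ r : R, r • g = e 0 :=
    Submodule.mem_span_singleton.1 (by rw [hg]; exact Submodule.mem_top)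
  have hε : g = (e.repr g 0) • e 0 := by
    conv_lhs => rw [← e.sum_repr g]
    simp
  have h1 : r * e.repr g 0 = 1 := by
    have h2 : e.repr (e 0) 0 = 1 := by simp
    rw [← hr, map_smul, Finsupp.smul_apply, smul_eq_mul] at h2
    exact h2
  refine ⟨e.constr R (fun _ => r • w), ?_⟩
  rw [hε, map_smul, Module.Basis.constr_basis, smul_smul, mul_comm, h1, one_smul]

section Integral

variable [IsIntegral X]

theorem span_of_ne_zero_genericPoint {M : X.Modules} (h : IsR1At M (genericPoint X))
    (v : M.presheaf.stalk (genericPoint X)) (hv : v ≠ 0) :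
    Submodule.span (X.presheaf.stalk (genericPoint X)) {v} = ⊤ := by
  haveI := h.1
  let b : Module.Basis (Fin 1) (X.presheaf.stalk (genericPoint X))
      (M.presheaf.stalk (genericPoint X)) := Module.basisUnique (Fin 1) h.2
  obtain ⟨c, hc⟩ : ∃ c : X.presheaf.stalk (genericPoint X), c • b 0 = v :=
    Submodule.mem_span_singleton.1 (by rw [span_basis_fin_one b]; exact Submodule.mem_top)
  have hc0 : c ≠ 0 := by
    rintro rfl
    rw [zero_smul] at hc
    exact hv hc.symm
  obtain ⟨u, rfl⟩ := isUnit_of_ne_zero_functionField c hc0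
  rw [eq_top_iff, ← span_basis_fin_one b, Submodule.span_singleton_le_iff_mem,
    Submodule.mem_span_singleton]
  refine ⟨((u⁻¹ : (X.presheaf.stalk (genericPoint X))ˣ) : X.presheaf.stalk (genericPoint X)), ?_⟩
  rw [← hc, smul_smul, Units.inv_mul, one_smul]

theorem mk_ne_zero_imp {M : X.Modules} {ξ : X} {v : M.presheaf.stalk ξ}
    (h : (Submodule.Quotient.mk v : Cyc.secFibre M ξ) ≠ 0) : v ≠ 0 := by
  rintro rfl
  exact h (Submodule.Quotient.mk_zero _)

variable [IsLocallyNoetherian X]

/-- the order of a rational section in terms of a local generator -/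
theorem secOrdAt_eq_ord (F : X.Modules) (x : X) (hx : Order.coheight x = 1)
    (h : genericPoint X ⤳ x) {U : X.Opens} (hxU : x ∈ U) (a : Γ(F, U))
    (ha : Submodule.span (X.presheaf.stalk x) {F.presheaf.germ U x hxU a} = ⊤)
    (s' : F.presheaf.stalk (genericPoint X))
    (hs : (Submodule.Quotient.mk s' : Cyc.secFibre F (genericPoint X)) ≠ 0)
    (φ : X.presheaf.stalk (genericPoint X))
    (hφ : s' = φ • F.presheaf.germ U (genericPoint X) (genericPoint_mem hxU) a) :
    Cyc.secOrdAt F (genericPoint X) x h (Submodule.Quotient.mk s') =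
      Scheme.ord (φ : X.functionField) x := by
  have hφ0 : φ ≠ 0 := by
    rintro rfl
    rw [zero_smul] at hφ
    exact mk_ne_zero_imp hs hφ
  rw [secOrdAt_eq F x (genericPoint X) h _ hs _ ha φ
    (by rw [germ_spec F h hxU a, hφ]; rfl)]
  exact ordAt_residue_eq_ord x hx h φ hφ0

theorem coheight_le_one_of_dim {y : X} (hdim : ringKrullDim (X.presheaf.stalk y) ≤ 1) :
    Order.coheight y ≤ 1 := by
  rw [ringKrullDim_stalk_eq_coheight] at hdim
  exact_mod_cast hdim

theorem eq_genericPoint_of_coheight_eq_zero {y : X} (h0 : Order.coheight y = 0) :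
    y = genericPoint X := by
  rw [Order.coheight_eq_zero] at h0
  have h1 : y ≤ genericPoint X := Scheme.le_iff_specializes.mpr (genericPoint_specializes y)
  have h2 : genericPoint X ≤ y := h0 h1
  exact ((Scheme.le_iff_specializes.mp h2).antisymm (genericPoint_specializes y)).eq

/-- a morphism of rank one reflexive modules with prescribed effect on a rational section -/
theorem exists_hom_smul (hX : Pi1.IsNormalScheme X) (F G : X.Modules) (hF : IsRef1 F)
    (hG : IsRef1 G) (s' : F.presheaf.stalk (genericPoint X)) (t' : G.presheaf.stalk (genericPoint X))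
    (hs : (Submodule.Quotient.mk s' : Cyc.secFibre F (genericPoint X)) ≠ 0)
    (ht : (Submodule.Quotient.mk t' : Cyc.secFibre G (genericPoint X)) ≠ 0)
    (f : X.functionField) (hf : f ≠ 0)
    (hord : ∀ (x : X), Order.coheight x = 1 → ∀ h : genericPoint X ⤳ x,
      Cyc.secOrdAt F (genericPoint X) x h (Submodule.Quotient.mk s') =
        Cyc.secOrdAt G (genericPoint X) x h (Submodule.Quotient.mk t') + Scheme.ord f x) :
    ∃ ψ : F ⟶ G, stalkMapₗ ψ (genericPoint X) s' = (f : X.presheaf.stalk (genericPoint X)) • t' := by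
  classical
  have rFη := isR1At_of_dim_le_one hX F hF _ dim_genericPoint_le_one
  have hs0 := mk_ne_zero_imp hs
  have ht0 := mk_ne_zero_imp ht
  haveI := rFη.1
  let e : Module.Basis (Fin 1) (X.presheaf.stalk (genericPoint X))
      (F.presheaf.stalk (genericPoint X)) := Module.basisUnique (Fin 1) rFη.2
  obtain ⟨L, hL⟩ := exists_linearMap_of_span e s' (span_of_ne_zero_genericPoint rFη s' hs0)
    ((f : X.presheaf.stalk (genericPoint X)) • t')
  obtain ⟨ψ, hψ⟩ := exists_hom_of_stalk hX F G hF hG L (by
    intro y hdim
    have hy : genericPoint X ⤳ y := genericPoint_specializes y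
    refine ⟨hy, ?_⟩
    obtain ⟨U, hyU, a, b, ha, hb, haη, hbη⟩ := exists_common_gen hX F G hF hG y hdim
    obtain ⟨φs, hφs⟩ : ∃ φs : X.presheaf.stalk (genericPoint X),
        φs • F.presheaf.germ U (genericPoint X) (genericPoint_mem hyU) a = s' :=
      Submodule.mem_span_singleton.1 (by rw [haη]; exact Submodule.mem_top)
    obtain ⟨φt, hφt⟩ : ∃ φt : X.presheaf.stalk (genericPoint X),
        φt • G.presheaf.germ U (genericPoint X) (genericPoint_mem hyU) b = t' :=
      Submodule.mem_span_singleton.1 (by rw [hbη]; exact Submodule.mem_top)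
    have hφs0 : (φs : X.functionField) ≠ 0 := by
      rintro rfl
      rw [zero_smul] at hφs
      exact hs0 hφs.symm
    have hφt0 : (φt : X.functionField) ≠ 0 := by
      rintro rfl
      rw [zero_smul] at hφt
      exact ht0 hφt.symm
    set c : X.functionField := f * φt * (φs : X.functionField)⁻¹ with hc
    have hc0 : c ≠ 0 := mul_ne_zero (mul_ne_zero hf hφt0) (inv_ne_zero hφs0)
    have hLa : L (F.presheaf.germ U (genericPoint X) (genericPoint_mem hyU) a) =
        (c : X.presheaf.stalk (genericPoint X)) •
          G.presheaf.germ U (genericPoint X) (genericPoint_mem hyU) b := by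
      have h1 : φs • L (F.presheaf.germ U (genericPoint X) (genericPoint_mem hyU) a) =
          ((f : X.presheaf.stalk (genericPoint X)) * φt) •
            G.presheaf.germ U (genericPoint X) (genericPoint_mem hyU) b := by
        rw [← map_smul, hφs, hL, ← hφt, smul_smul]
      have h2 : L (F.presheaf.germ U (genericPoint X) (genericPoint_mem hyU) a) =
          ((φs : X.functionField)⁻¹ : X.functionField) •
            (φs • L (F.presheaf.germ U (genericPoint X) (genericPoint_mem hyU) a)) := by
        rw [smul_smul, inv_mul_cancel₀ hφs0, one_smul]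
      rw [h2, h1, smul_smul, hc]
      congr 1
      ring
    have hu : ∃ u : X.presheaf.stalk y,
        X.presheaf.stalkSpecializes hy u = (c : X.presheaf.stalk (genericPoint X)) := by
      rcases (coheight_le_one_of_dim hdim).lt_or_eq with hlt | hy1
      · have hyη : y = genericPoint X :=
          eq_genericPoint_of_coheight_eq_zero (Order.lt_one_iff.1 hlt)
        subst hyη
        refine ⟨c, ?_⟩
        exact ConcreteCategory.congr_hom
          (TopCat.Presheaf.stalkSpecializes_refl X.presheaf (genericPoint X)) c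
      · have e1 := secOrdAt_eq_ord F y hy1 hy hyU a ha s' hs φs hφs.symm
        have e2 := secOrdAt_eq_ord G y hy1 hy hyU b hb t' ht φt hφt.symm
        have e3 := hord y hy1 hy
        have e4 : Scheme.ord c y = 0 := by
          rw [hc, ord_div' y _ _ (mul_ne_zero hf hφt0) hφs0, Scheme.ord_mul hf hφt0]
          rw [e1, e2] at e3
          omega
        obtain ⟨⟨u, hu⟩, -⟩ := (ord_eq_zero_iff hX y hy1 c hc0).1 e4
        exact ⟨u, hu⟩
    obtain ⟨u, hu⟩ := hu
    have rFy := isR1At_of_dim_le_one hX F hF y hdim
    haveI := rFy.1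
    let ey : Module.Basis (Fin 1) (X.presheaf.stalk y) (F.presheaf.stalk y) :=
      Module.basisUnique (Fin 1) rFy.2
    obtain ⟨Ty, hTy⟩ := exists_linearMap_of_span ey _ ha (u • G.presheaf.germ U y hyU b)
    refine ⟨Ty, fun v => ?_⟩
    obtain ⟨r, rfl⟩ : ∃ r : X.presheaf.stalk y, r • F.presheaf.germ U y hyU a = v :=
      Submodule.mem_span_singleton.1 (by rw [ha]; exact Submodule.mem_top)
    have l1 : L (F.presheaf.stalkSpecializes hy (r • F.presheaf.germ U y hyU a)) =
        X.presheaf.stalkSpecializes hy r • ((c : X.presheaf.stalk (genericPoint X)) •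
          G.presheaf.germ U (genericPoint X) (genericPoint_mem hyU) b) := by
      rw [stalkSpecializes_smul, germ_spec F hy hyU a, map_smul, hLa]
    have l2 : G.presheaf.stalkSpecializes hy (Ty (r • F.presheaf.germ U y hyU a)) =
        X.presheaf.stalkSpecializes hy r • ((c : X.presheaf.stalk (genericPoint X)) •
          G.presheaf.germ U (genericPoint X) (genericPoint_mem hyU) b) := by
      rw [map_smul, hTy, stalkSpecializes_smul, stalkSpecializes_smul, germ_spec G hy hyU b, hu]
    rw [l1, l2])
  exact ⟨ψ, by rw [hψ, hL]⟩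

/-- **rank one reflexive modules are isomorphic iff the divisors of rational sections are linearly equivalent** -/
theorem nonempty_iso_iff (hX : Pi1.IsNormalScheme X) (F G : X.Modules) (hF : IsRef1 F)
    (hG : IsRef1 G) (s : Cyc.secFibre F (genericPoint X)) (hs : s ≠ 0)
    (t : Cyc.secFibre G (genericPoint X)) (ht : t ≠ 0) :
    Nonempty (F ≅ G) ↔
      ∃ f : X.functionField, f ≠ 0 ∧
        ∀ (x : X), Order.coheight x = 1 →
          Cyc.secOrdAt F (genericPoint X) x ((genericPoint_spec X).specializes (Set.mem_univ x)) s =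
            Cyc.secOrdAt G (genericPoint X) x
              ((genericPoint_spec X).specializes (Set.mem_univ x)) t + Scheme.ord f x := by
  classical
  obtain ⟨s', rfl⟩ := Submodule.Quotient.mk_surjective _ s
  obtain ⟨t', rfl⟩ := Submodule.Quotient.mk_surjective _ t
  have hs0 := mk_ne_zero_imp hs
  have ht0 := mk_ne_zero_imp ht
  have rFη := isR1At_of_dim_le_one hX F hF _ dim_genericPoint_le_one
  have rGη := isR1At_of_dim_le_one hX G hG _ dim_genericPoint_le_one
  haveI : F.IsQuasicoherent := hF.1.1
  haveI : G.IsQuasicoherent := hG.1.1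
  have tfF := Groth.Agent.Lib.Lead.TorsPure.isTorsionFree_of_isReflexive F hF.2.1
  have tfG := Groth.Agent.Lib.Lead.TorsPure.isTorsionFree_of_isReflexive G hG.2.1
  have spanS := span_of_ne_zero_genericPoint rFη s' hs0
  have spanT := span_of_ne_zero_genericPoint rGη t' ht0
  constructor
  · rintro ⟨e⟩
    have hbijη := bijective_stalkMapₗ_of_isIso e.hom (genericPoint X)
    obtain ⟨f, hf⟩ : ∃ f : X.presheaf.stalk (genericPoint X),
        f • t' = stalkMapₗ e.hom (genericPoint X) s' :=
      Submodule.mem_span_singleton.1 (by rw [spanT]; exact Submodule.mem_top)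
    have hf0 : (f : X.functionField) ≠ 0 := by
      rintro rfl
      rw [zero_smul] at hf
      exact hs0 (hbijη.1 (hf.symm.trans (map_zero _).symm))
    refine ⟨f, hf0, fun x hx => ?_⟩
    set h := (genericPoint_spec X).specializes (Set.mem_univ x) with hh
    have hdim : ringKrullDim (X.presheaf.stalk x) ≤ 1 := by
      rw [ringKrullDim_stalk_eq_coheight, hx]
      exact le_refl _
    have rFx := isR1At_of_dim_le_one hX F hF x hdim
    obtain ⟨U, hxU, a, ha⟩ := exists_gen_section F x rFx
    have haη := span_germ_genericPoint F tfF rFη x hxU a rFx ha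
    let b : Γ(G, U) := e.hom.app U a
    have hb : Submodule.span (X.presheaf.stalk x) {G.presheaf.germ U x hxU b} = ⊤ := by
      have h1 := span_singleton_map (stalkMapₗ e.hom x)
        (bijective_stalkMapₗ_of_isIso e.hom x).2 _ ha
      rw [stalkMapₗ_germ] at h1
      exact h1
    have hbη : Submodule.span (X.presheaf.stalk (genericPoint X))
        {G.presheaf.germ U (genericPoint X) (genericPoint_mem hxU) b} = ⊤ := by
      have h1 := span_singleton_map (stalkMapₗ e.hom (genericPoint X)) hbijη.2 _ haη
      rw [stalkMapₗ_germ] at h1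
      exact h1
    obtain ⟨φs, hφs⟩ : ∃ φs : X.presheaf.stalk (genericPoint X),
        φs • F.presheaf.germ U (genericPoint X) (genericPoint_mem hxU) a = s' :=
      Submodule.mem_span_singleton.1 (by rw [haη]; exact Submodule.mem_top)
    obtain ⟨φt, hφt⟩ : ∃ φt : X.presheaf.stalk (genericPoint X),
        φt • G.presheaf.germ U (genericPoint X) (genericPoint_mem hxU) b = t' :=
      Submodule.mem_span_singleton.1 (by rw [hbη]; exact Submodule.mem_top)
    have hφt0 : (φt : X.functionField) ≠ 0 := by
      rintro rfl
      rw [zero_smul] at hφt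
      exact ht0 hφt.symm
    have e1 := secOrdAt_eq_ord F x hx h hxU a ha s' hs φs hφs.symm
    have e2 := secOrdAt_eq_ord G x hx h hxU b hb t' ht φt hφt.symm
    have hbne : G.presheaf.germ U (genericPoint X) (genericPoint_mem hxU) b ≠ 0 :=
      ne_zero_of_span rGη _ hbη
    have hrel : φs = f * φt := by
      refine eq_of_smul_eq_smul_functionField hbne ?_
      rw [mul_smul, hφt, hf, ← hφs, map_smul, stalkMapₗ_germ]
    rw [e1, e2, hrel, Scheme.ord_mul hf0 hφt0]
    ring
  · rintro ⟨f, hf, hord⟩
    obtain ⟨ψ, hψ⟩ := exists_hom_smul hX F G hF hG s' t' hs ht f hf (fun x hx h => hord x hx)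
    obtain ⟨ψ', hψ'⟩ := exists_hom_smul hX G F hG hF t' s' ht hs f⁻¹ (inv_ne_zero hf)
      (fun x hx h => by
        have := hord x hx
        rw [ord_inv x f hf]
        have h' : h = (genericPoint_spec X).specializes (Set.mem_univ x) := rfl
        rw [h']
        omega)
    have h1 : ψ ≫ ψ' = 𝟙 F := by
      refine hom_eq_of_stalkMapₗ_genericPoint tfF _ _ ?_
      refine LinearMap.ext_on spanS ?_
      intro v hv
      rw [Set.mem_singleton_iff] at hv
      subst hv
      rw [stalkMapₗ_comp, stalkMapₗ_id, LinearMap.comp_apply, hψ, map_smul, hψ', smul_smul,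
        LinearMap.id_apply]
      have : (f : X.functionField) * f⁻¹ = 1 := mul_inv_cancel₀ hf
      erw [this, one_smul]
    have h2 : ψ' ≫ ψ = 𝟙 G := by
      refine hom_eq_of_stalkMapₗ_genericPoint tfG _ _ ?_
      refine LinearMap.ext_on spanT ?_
      intro v hv
      rw [Set.mem_singleton_iff] at hv
      subst hv
      rw [stalkMapₗ_comp, stalkMapₗ_id, LinearMap.comp_apply, hψ', map_smul, hψ, smul_smul,
        LinearMap.id_apply]
      have : (f : X.functionField)⁻¹ * f = 1 := inv_mul_cancel₀ hf
      erw [this, one_smul]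
    exact ⟨⟨ψ, ψ', h1, h2⟩⟩

end Integral

end Groth.Agent.Lib.Lead.RefDivOrd
end
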