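import Groth.Agent.Lib.Lead.RefWeil4
import Groth.Agent.Lib.Helper11.GenLocus
import Groth.Agent.Lib.Helper11.TensorEpi
import Groth.Agent.Lib.Helper2.Hartogs3
import Groth.Agent.Lib.Helper2.CDivLib10
import Groth.Prelude.Def_RefPow

/-!
# Reflexive powers of a rank one reflexive module and powers of a section (lead)

`X` integral, locally Noetherian, normal; `F` rank one coherent reflexive, `s : O_X ⟶ F`, `U` the open where `s` generates `F`.
* `koszTw_tensorMap_eq`, `isR1At_of_bijective`, `isRef1_refPow`, `isR1At_refPow`: the reflexive powers `F^[n]` are rank one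
  coherent reflexive, free of rank one where `F` is.
* `le_isoLocus_mulBy`, `le_isoLocus_sPow`: multiplication by `s` and `s^n : O_X ⟶ F^[n]` are isomorphisms over `U`.
* `exists_mulBy_eq_smul`, `exists_sPow_eq_smul`: on an open `W` where `s = φ • e`, `s^n = φ^n • a_n`.
* `exists_pow_mul_mem_range`: in a DVR, high powers of a non-unit clear denominators.
* `exists_local_form`: near a point where `F` is free of rank one and `s` does not generate, `s = φ • e` with `φ` in the maximal ideal.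
* `exists_stalk_preimage`: at a codimension one point outside `U`, `τ • s^n ∈ (F^[n])_y` for `n ≫ 0`.
* `exists_section_of_forall_mem_range_affine`: a coherent reflexive module is the intersection of its stalks in codimension one, on
  an affine open (local version of `RefDivOrd.exists_section_of_forall_mem_range`).
* `exists_section_sPow`: for `τ` regular on `V ∩ U` (`V` affine), `τ • s^n` is a section of `F^[n]` over `V` for `n ≫ 0`.
-/

set_option autoImplicit false
set_option backward.isDefEq.respectTransparency false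
set_option linter.style.haveILetI false
set_option linter.unusedSectionVars false
universe u

open CategoryTheory CategoryTheory.Limits AlgebraicGeometry TopologicalSpace Opposite

noncomputable section

namespace Groth.Agent.Lib.Lead.RefPowLib

open RefHull Groth.Agent.Lib.Lead.RH Groth.Agent.Lib.Lead.RefGrp Groth.Agent.Lib.helper16.SecOrd
open Groth.Agent.Lib.Lead.RefDivOrd Scheme.Modules Groth.Agent.Lib.helper11.IsoLocus
open Groth.Agent.Lib.Lead.ModTensor Groth.Agent.Lib.helper12.PullTensor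
open Groth.Agent.Lib.Helper18.DegCalc (isCoh_tensorMod)

variable {X : Scheme.{u}}

lemma koszTw_tensorMap_eq {M M' N N' : X.Modules} (f : M ⟶ M') (g : N ⟶ N') :
    KoszTw.tensorMap f g = tensorMap f g := by
  unfold KoszTw.tensorMap tensorMap
  rw [MonoidalCategory.tensorHom_def, Functor.map_comp]
  rfl

theorem isR1At_of_bijective {F : X.Modules} (s : Coh.structureModule X ⟶ F) {x : X}
    (h : Function.Bijective (stalkMapₗ s x)) : IsR1At F x :=
  (isR1At_unit x).of_linearEquiv (LinearEquiv.ofBijective (stalkMapₗ s x) h)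

section Noeth
variable [IsIntegral X] [IsLocallyNoetherian X]

theorem isRef1_refPow (F : X.Modules) (hF : IsRef1 F) : ∀ n : ℕ, IsRef1 (RefPow.refPow F n)
  | 0 => isRef1_unit
  | 1 => hF
  | n + 2 => isRef1_ddualTensor _ F (isRef1_refPow F hF (n + 1)) hF

theorem isR1At_refPow (F : X.Modules) (hF : IsRef1 F) {x : X} (hx : IsR1At F x) :
    ∀ n : ℕ, IsR1At (RefPow.refPow F n) x
  | 0 => isR1At_unit x
  | 1 => hx
  | n + 2 => isR1At_ddual (isCoh_tensorMod (isRef1_refPow F hF (n + 1)).1 hF.1)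
      (isR1At_tensor (isR1At_refPow F hF hx (n + 1)) hx)

theorem le_isoLocus_mulBy (F : X.Modules) (hF : IsRef1 F) (s : Coh.structureModule X ⟶ F)
    (U : X.Opens) (hU : ∀ x ∈ U, Function.Bijective (stalkMapₗ s x)) :
    ∀ n : ℕ, U ≤ isoLocus (RefPow.mulBy s n)
  | 0 => le_isoLocus_of_bijective s U hU
  | n + 1 => by
    rw [RefPow.mulBy_succ]
    have hs : U ≤ isoLocus s := le_isoLocus_of_bijective s U hU
    refine le_isoLocus_comp _ _ U ((le_isoLocus_iff _ _).2 inferInstance)
      (le_isoLocus_comp _ _ U ?_ ?_)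
    · rw [koszTw_tensorMap_eq]
      exact le_isoLocus_tensorMap_right _ s U hs
    · exact le_isoLocus_bidualMap _ (isCoh_tensorMod (isRef1_refPow F hF (n + 1)).1 hF.1) U
        fun x hx => isR1At_tensor (isR1At_refPow F hF (isR1At_of_bijective s (hU x hx)) (n + 1))
          (isR1At_of_bijective s (hU x hx))

theorem le_isoLocus_sPow (F : X.Modules) (hF : IsRef1 F) (s : Coh.structureModule X ⟶ F)
    (U : X.Opens) (hU : ∀ x ∈ U, Function.Bijective (stalkMapₗ s x)) :
    ∀ n : ℕ, U ≤ isoLocus (RefPow.sPow s n)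
  | 0 => by rw [RefPow.sPow_zero, isoLocus_id]; exact le_top
  | n + 1 => by
    rw [RefPow.sPow_succ]
    exact le_isoLocus_comp _ _ U (le_isoLocus_sPow F hF s U hU n) (le_isoLocus_mulBy F hF s U hU n)

end Noeth

/-- multiplication by `s` on sections over an open on which `s = φ • e` -/
theorem exists_mulBy_eq_smul {F : X.Modules} (s : Coh.structureModule X ⟶ F) {W : X.Opens}
    (φ : Γ(X, W)) (e : Γ(F, W)) (hs : SecTwist.val s W = φ • e) :
    ∀ (n : ℕ) (b : Γ(RefPow.refPow F n, W)),
      ∃ b' : Γ(RefPow.refPow F (n + 1), W), (RefPow.mulBy s n).app W b = φ • b'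
  | 0, b => ⟨(show Γ(X, W) from b) • e, by
      rw [RefPow.mulBy_zero]
      have h1 := Groth.Agent.Lib.helper11.GenLocus.app_apply s W (show Γ(X, W) from b)
      refine h1.trans ?_
      change (show Γ(X, W) from b) • SecTwist.val s W = _
      rw [hs, smul_comm]⟩
  | n + 1, b => ⟨(RefPow.toRefTensor (RefPow.refPow F (n + 1)) F).app W
        (SecTwist.tmul (RefPow.refPow F (n + 1)) F W b e), by
      rw [RefPow.mulBy_succ_app, hs, Groth.Agent.Lib.helper11.TensorEpi.tmul_smul_right]
      exact Hom.app_smul _ _ _⟩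


/-- `s^n = φ^n • a_n` on an open on which `s = φ • e` -/
theorem exists_sPow_eq_smul {F : X.Modules} (s : Coh.structureModule X ⟶ F) {W : X.Opens}
    (φ : Γ(X, W)) (e : Γ(F, W)) (hs : SecTwist.val s W = φ • e) :
    ∀ n : ℕ, ∃ a : Γ(RefPow.refPow F n, W), SecTwist.val (RefPow.sPow s n) W = φ ^ n • a
  | 0 => ⟨SecTwist.val (RefPow.sPow s 0) W, by rw [pow_zero, one_smul]⟩
  | n + 1 => by
    obtain ⟨a, ha⟩ := exists_sPow_eq_smul s φ e hs n
    obtain ⟨b', hb'⟩ := exists_mulBy_eq_smul s φ e hs n a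
    refine ⟨b', ?_⟩
    have h1 : SecTwist.val (RefPow.sPow s (n + 1)) W =
        (RefPow.mulBy s n).app W (SecTwist.val (RefPow.sPow s n) W) := by
      rw [RefPow.sPow_succ]; rfl
    rw [h1, ha]
    refine (Hom.app_smul _ _ _).trans ?_
    rw [hb', smul_smul, pow_succ]

/-- a DVR fact: multiplying by a high power of an element of the maximal ideal clears denominators -/
theorem exists_pow_mul_mem_range {A K : Type*} [CommRing A] [IsDomain A] [IsDiscreteValuationRing A]
    [Field K] [Algebra A K] [IsFractionRing A K] (c : A) (hc : c ∈ IsLocalRing.maximalIdeal A) (τ : K) :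
    ∃ N : ℕ, ∀ n, N ≤ n → ∃ a : A, algebraMap A K a = τ * algebraMap A K c ^ n := by
  obtain ⟨p, q, hq, rfl⟩ := IsFractionRing.div_surjective (A := A) τ
  have hq0 : q ≠ 0 := nonZeroDivisors.ne_zero hq
  obtain ⟨ϖ, hϖ⟩ := IsDiscreteValuationRing.exists_irreducible A
  obtain ⟨k, u, hu⟩ := IsDiscreteValuationRing.associated_pow_irreducible hq0 hϖ
  rw [hϖ.maximalIdeal_eq, Ideal.mem_span_singleton'] at hc
  obtain ⟨c', rfl⟩ := hc
  refine ⟨k, fun n hn => ?_⟩
  obtain ⟨m, rfl⟩ := Nat.exists_eq_add_of_le hn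
  refine ⟨p * u * ϖ ^ m * c' ^ (k + m), ?_⟩
  have hqK : algebraMap A K q ≠ 0 := fun h0 =>
    hq0 ((IsFractionRing.injective A K) (h0.trans (map_zero _).symm))
  rw [div_mul_eq_mul_div, eq_div_iff hqK, ← map_pow, ← map_mul, ← map_mul]
  congr 1
  have h2 : ϖ ^ (k + m) = q * u * ϖ ^ m := by rw [pow_add, hu]
  rw [mul_pow, h2]
  ring

section Integral
variable [IsIntegral X]

/-- local form of a section near a point where the module is free of rank one and the section does not generate -/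
theorem exists_local_form {F : X.Modules} (s : Coh.structureModule X ⟶ F) (y : X) (hy : IsR1At F y)
    (hns : ¬ Function.Bijective (stalkMapₗ s y)) :
    ∃ (W : X.Opens) (hyW : y ∈ W) (φ : Γ(X, W)) (e : Γ(F, W)),
      SecTwist.val s W = φ • e ∧
        X.presheaf.germ W y hyW φ ∈ IsLocalRing.maximalIdeal (X.presheaf.stalk y) := by
  obtain ⟨W₀, hy₀, e₀, he₀⟩ := exists_gen_section F y hy
  obtain ⟨c, hc⟩ : ∃ c : X.presheaf.stalk y, c • F.presheaf.germ W₀ y hy₀ e₀ =
      F.presheaf.germ W₀ y hy₀ (SecTwist.val s W₀) :=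
    Submodule.mem_span_singleton.1 (by rw [he₀]; exact Submodule.mem_top)
  obtain ⟨W₁, hy₁, φ₁, rfl⟩ := TopCat.Presheaf.exists_germ_eq X.presheaf c
  have hy₂ : y ∈ W₀ ⊓ W₁ := ⟨hy₀, hy₁⟩
  let φ₂ : Γ(X, W₀ ⊓ W₁) := X.presheaf.map (homOfLE (inf_le_right : W₀ ⊓ W₁ ≤ W₁)).op φ₁
  let e₂ : Γ(F, W₀ ⊓ W₁) := F.presheaf.map (homOfLE (inf_le_left : W₀ ⊓ W₁ ≤ W₀)).op e₀
  have hgerm : F.presheaf.germ (W₀ ⊓ W₁) y hy₂ (φ₂ • e₂) =
      F.presheaf.germ (W₀ ⊓ W₁) y hy₂ (SecTwist.val s (W₀ ⊓ W₁)) := by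
    rw [Mero.germ_smul, TopCat.Presheaf.germ_res_apply, TopCat.Presheaf.germ_res_apply, hc,
      ← SecTwist.map_val s (homOfLE (inf_le_left : W₀ ⊓ W₁ ≤ W₀))]
    exact (TopCat.Presheaf.germ_res_apply F.presheaf (homOfLE (inf_le_left : W₀ ⊓ W₁ ≤ W₀)) y hy₂ _).symm
  obtain ⟨W, hyW, i₁, i₂, hW⟩ := TopCat.Presheaf.germ_eq F.presheaf y hy₂ hy₂ _ _ hgerm
  refine ⟨W, hyW, X.presheaf.map i₁.op φ₂, F.presheaf.map i₁.op e₂, ?_, ?_⟩
  · rw [← SecTwist.map_val s i₂]
    refine Eq.trans ?_ (Scheme.Modules.map_smul F i₁ φ₂ e₂)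
    exact hW.symm
  · rw [TopCat.Presheaf.germ_res_apply, TopCat.Presheaf.germ_res_apply]
    by_contra hmem
    have hunit : IsUnit (X.presheaf.germ W₁ y hy₁ φ₁) := by
      by_contra hnu
      exact hmem ((IsLocalRing.mem_maximalIdeal _).2 hnu)
    apply hns
    have hspan : Submodule.span (X.presheaf.stalk y)
        {F.presheaf.germ W₀ y hy₀ (SecTwist.val s W₀)} = ⊤ := by
      rw [← hc, Submodule.span_singleton_smul_eq hunit, he₀]
    have hsurj : Function.Surjective (stalkMapₗ s y) := by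
      rw [← LinearMap.range_eq_top, eq_top_iff, ← hspan, Submodule.span_le, Set.singleton_subset_iff]
      exact ⟨(Coh.structureModule X).presheaf.germ W₀ y hy₀
        ((1 : X.ringCatSheaf.obj.obj (op W₀)) : (Coh.structureModule X).val.obj (op W₀)),
        stalkMapₗ_germ s y hy₀ _⟩
    haveI := hy.1
    haveI := hy.finite
    haveI := (isR1At_unit y).1
    haveI := (isR1At_unit y).finite
    let ε : (Coh.structureModule X).presheaf.stalk y ≃ₗ[X.presheaf.stalk y] F.presheaf.stalk y :=
      LinearEquiv.ofFinrankEq _ _ (by rw [(isR1At_unit y).2, hy.2])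
    have hg : Function.Surjective (ε.symm.toLinearMap ∘ₗ stalkMapₗ s y) :=
      ε.symm.surjective.comp hsurj
    have hinj := OrzechProperty.injective_of_surjective_endomorphism _ hg
    exact ⟨Function.Injective.of_comp hinj, hsurj⟩

end Integral


section Main
variable [IsIntegral X] [IsLocallyNoetherian X]

open Groth.Agent.Lib.helper2.CDivLib in
/-- at a codimension one point where `s` does not generate `F`, `τ • s^n` lies in the stalk of `F^[n]` for `n ≫ 0` -/
theorem exists_stalk_preimage (hX : Pi1.IsNormalScheme X) {F : X.Modules} (hF : IsRef1 F)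
    (s : Coh.structureModule X ⟶ F) (y : X) (hy1 : Order.coheight y = 1) (hy : genericPoint X ⤳ y)
    (hns : ¬ Function.Bijective (stalkMapₗ s y)) (τ : X.presheaf.stalk (genericPoint X)) :
    ∃ N : ℕ, ∀ n, N ≤ n → ∃ v : (RefPow.refPow F n).presheaf.stalk y,
      (RefPow.refPow F n).presheaf.stalkSpecializes hy v = τ • RefPow.sPowGerm s n (genericPoint X) := by
  have hdim : ringKrullDim (X.presheaf.stalk y) ≤ 1 := by
    rw [ringKrullDim_stalk_eq_coheight, hy1]; rfl
  have hR1 : IsR1At F y := isR1At_of_dim_le_one hX F hF y hdim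
  obtain ⟨W, hyW, φ, e, hs, hφ⟩ := exists_local_form s y hR1 hns
  haveI : IsDomain (X.presheaf.stalk y) := (hX y).1
  haveI := isDVR_of_coheight_one hX y hy1
  obtain ⟨N, hN⟩ := exists_pow_mul_mem_range (A := X.presheaf.stalk y) (K := X.functionField)
    (X.presheaf.germ W y hyW φ) hφ τ
  refine ⟨N, fun n hn => ?_⟩
  obtain ⟨r, hr⟩ := hN n hn
  obtain ⟨a, ha⟩ := exists_sPow_eq_smul s φ e hs n
  have hηW : genericPoint X ∈ W := hy.mem_open W.isOpen hyW
  refine ⟨r • (RefPow.refPow F n).presheaf.germ W y hyW a, ?_⟩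
  have h1 : RefPow.sPowGerm s n (genericPoint X) =
      (RefPow.refPow F n).presheaf.germ W (genericPoint X) hηW (SecTwist.val (RefPow.sPow s n) W) := by
    rw [← SecTwist.map_val (RefPow.sPow s n) (homOfLE (le_top : W ≤ ⊤))]
    exact (TopCat.Presheaf.germ_res_apply (RefPow.refPow F n).presheaf (homOfLE (le_top : W ≤ ⊤))
      (genericPoint X) hηW _).symm
  have h2 : (X.presheaf.stalkSpecializes hy).hom (X.presheaf.germ W y hyW φ) =
      X.presheaf.germ W (genericPoint X) hηW φ :=
    ConcreteCategory.congr_hom (TopCat.Presheaf.germ_stalkSpecializes X.presheaf hyW hy) φ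
  have h3 : (X.presheaf.stalkSpecializes hy).hom r =
      τ * (X.presheaf.germ W (genericPoint X) hηW φ) ^ n := by
    rw [← h2]; exact hr
  rw [stalkSpecializes_smul, germ_spec, h1, ha, Mero.germ_smul, map_pow, smul_smul]
  congr 1

open Groth.Agent.Lib.helper16.CohFinite in
/-- a reflexive module is the intersection of its stalks in codimension one, on an affine open -/
theorem exists_section_of_forall_mem_range_affine (hX : Pi1.IsNormalScheme X) (H : X.Modules)
    (hH : Coh.IsCoh H) (hHr : RefHull.IsReflexive H) {V : X.Opens} (hV : IsAffineOpen V)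
    (hηV : genericPoint X ∈ V) (h : H.presheaf.stalk (genericPoint X))
    (hh : ∀ y : X, y ∈ V → ringKrullDim (X.presheaf.stalk y) ≤ 1 →
      ∃ (hy : genericPoint X ⤳ y) (v : H.presheaf.stalk y), H.presheaf.stalkSpecializes hy v = h) :
    ∃ σ : Γ(H, V), H.presheaf.germ V (genericPoint X) hηV σ = h := by
  haveI : H.IsQuasicoherent := hH.1
  have htf := Groth.Agent.Lib.Lead.TorsPure.isTorsionFree_of_isReflexive H hHr
  let S := {y : X // y ∈ V ∧ ringKrullDim (X.presheaf.stalk y) ≤ 1}
  have h1 : ∀ y : S, ∃ (V' : X.Opens) (hyV : y.1 ∈ V') (_ : V' ≤ V) (σ : Γ(H, V')),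
      H.presheaf.germ V' (genericPoint X) (genericPoint_mem hyV) σ = h := by
    intro y
    obtain ⟨hy, v, hv⟩ := hh y.1 y.2.1 y.2.2
    obtain ⟨V₀, hyV₀, σ, rfl⟩ := TopCat.Presheaf.exists_germ_eq H.presheaf v
    refine ⟨V₀ ⊓ V, ⟨hyV₀, y.2.1⟩, inf_le_right, H.presheaf.map (homOfLE inf_le_left).op σ, ?_⟩
    rw [TopCat.Presheaf.germ_res_apply, ← hv, germ_spec H hy hyV₀ σ]
  choose V' hyV hle σ hσ using h1
  let W : X.Opens := ⨆ y : S, V' y
  have hWV : W ≤ V := iSup_le hle
  have hcompat : TopCat.Presheaf.IsCompatible H.presheaf V' σ := by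
    intro y y'
    have hη : genericPoint X ∈ V' y ⊓ V' y' := ⟨genericPoint_mem (hyV y), genericPoint_mem (hyV y')⟩
    refine section_eq_of_germ_genericPoint_eq H htf hη _ _ ?_
    rw [TopCat.Presheaf.germ_res_apply, TopCat.Presheaf.germ_res_apply]
    exact (hσ y).trans (hσ y').symm
  obtain ⟨σW, hσW, -⟩ := TopCat.Sheaf.existsUnique_gluing' ⟨H.presheaf, H.isSheaf⟩ V' W
    (fun y => homOfLE (le_iSup V' y)) (le_refl _) σ hcompat
  haveI : IsNoetherianRing Γ(X, V) := IsLocallyNoetherian.component_noetherian ⟨V, hV⟩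
  have hfin : Module.Finite Γ(X, V) Γ(H, V) := finite_sections_of_isCoh H hH hV
  have hr := (isReflexive_iff_forall_isReflexiveAt H hH).1 hHr
  have hbij := Groth.Agent.Lib.helper2.Hartogs.bijective_res_of_depth H hV hfin W hWV
    (fun x hxV hxW => by
      have hdim : ¬ ringKrullDim (X.presheaf.stalk x) ≤ 1 := fun hd =>
        hxW (Opens.mem_iSup.2 ⟨⟨x, hxV, hd⟩, hyV ⟨x, hxV, hd⟩⟩)
      haveI : Module.IsReflexive (X.presheaf.stalk x) (H.presheaf.stalk x) := hr x
      haveI := Groth.Agent.Lib.helper16.CohStalk.finite_stalk_of_isCoh H hH x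
      exact (Groth.Agent.Lib.helper26.Depth.reflexive_depth_Sk
        (IsLocalRing.maximalIdeal (X.presheaf.stalk x)) (H.presheaf.stalk x)).2.1
          (Groth.Agent.Lib.Lead.FlatHartogs.two_le_depth_of_normal hX x hdim))
  obtain ⟨σ', hσ'⟩ := hbij.2 σW
  refine ⟨σ', ?_⟩
  let y₀ : S := ⟨genericPoint X, hηV, dim_genericPoint_le_one⟩
  have hηW : genericPoint X ∈ W := Opens.mem_iSup.2 ⟨y₀, hyV y₀⟩
  rw [← TopCat.Presheaf.germ_res_apply H.presheaf (homOfLE hWV) (genericPoint X) hηW σ', hσ',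
    ← TopCat.Presheaf.germ_res_apply H.presheaf (homOfLE (le_iSup V' y₀)) (genericPoint X) (hyV y₀) σW,
    hσW y₀]
  exact hσ y₀

/-- **extension**: a rational function `τ` regular on `V ∩ U` times `s^n` is a section of `F^[n]` over the affine open `V`,
for `n ≫ 0` -/
theorem exists_section_sPow (hX : Pi1.IsNormalScheme X) {F : X.Modules} (hF : IsRef1 F)
    (s : Coh.structureModule X ⟶ F) (U : X.Opens)
    (hU : ∀ x, x ∈ U ↔ Function.Bijective (stalkMapₗ s x)) (hηU : genericPoint X ∈ U)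
    {V : X.Opens} (hV : IsAffineOpen V) (hηV : genericPoint X ∈ V)
    (τ : X.presheaf.stalk (genericPoint X))
    (hτ : ∀ y ∈ V, y ∈ U → ∃ (hy : genericPoint X ⤳ y) (r : X.presheaf.stalk y),
      (X.presheaf.stalkSpecializes hy).hom r = τ) :
    ∃ (n : ℕ) (σ : Γ(RefPow.refPow F n, V)),
      (RefPow.refPow F n).presheaf.germ V (genericPoint X) hηV σ =
        τ • RefPow.sPowGerm s n (genericPoint X) := by
  have hT := finite_codim_one_compl hV U hηU
  have hE3 : ∀ y : X, y ∈ {x : X | x ∈ V ∧ x ∉ U ∧ Order.coheight x = 1} → ∃ N : ℕ, ∀ n, N ≤ n →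
      ∃ v : (RefPow.refPow F n).presheaf.stalk y,
        (RefPow.refPow F n).presheaf.stalkSpecializes (genericPoint_specializes y) v =
          τ • RefPow.sPowGerm s n (genericPoint X) := by
    rintro y ⟨-, hyU, hy1⟩
    exact exists_stalk_preimage hX hF s y hy1 _ (fun hb => hyU ((hU y).2 hb)) τ
  choose! N hN using hE3
  obtain ⟨M, hM⟩ := (hT.image N).bddAbove
  refine ⟨M, ?_⟩
  have hRn := isRef1_refPow F hF M
  refine exists_section_of_forall_mem_range_affine hX _ hRn.1 hRn.2.1 hV hηV _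
    (fun y hyV hdim => ?_)
  by_cases hyU : y ∈ U
  · obtain ⟨hy, r, hr⟩ := hτ y hyV hyU
    refine ⟨hy, r • RefPow.sPowGerm s M y, ?_⟩
    rw [stalkSpecializes_smul, hr]
    congr 1
    exact germ_spec (RefPow.refPow F M) hy (show y ∈ (⊤ : X.Opens) from trivial) _
  · have hy1 : Order.coheight y = 1 := by
      have hle := coheight_le_one_of_dim hdim
      have hne : Order.coheight y ≠ 0 := fun h0 =>
        hyU (eq_genericPoint_of_coheight_eq_zero h0 ▸ hηU)
      exact le_antisymm hle (Order.one_le_iff_ne_zero.2 hne)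
    have hmem : y ∈ {x : X | x ∈ V ∧ x ∉ U ∧ Order.coheight x = 1} := ⟨hyV, hyU, hy1⟩
    have hNM : N y ≤ M := hM (Set.mem_image_of_mem N hmem)
    obtain ⟨v, hv⟩ := hN y hmem M hNM
    exact ⟨genericPoint_specializes y, v, hv⟩

end Main

end Groth.Agent.Lib.Lead.RefPowLib
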