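import Groth.Agent.Lib.Lead.RefPow1
import Groth.Agent.Lib.Helper21.QCohColim

/-!
# `j_* O_U` is the colimit of the reflexive powers of a rank one reflexive module under multiplication by a section (lead)

`X` integral, locally Noetherian, normal; `F` rank one coherent reflexive, `s : O_X ⟶ F`, `U` the open where `s` generates `F`,
`j : U ⟶ X`.
* `preservesColimit_secAb_nat`: sections over an affine open commute with colimits of sequences of quasi-coherent modules
  (helper21's `preservesColimit_secAb` for the index category `ℕ`, which lives in universe `0`).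
* `section_eq_of_isEmpty`, `leg_app_apply` (section formula for `F ⟶ j_* j^* F ⟶ j_* j^* O`).
* `bijective_stalkMapₗ_of_span`, `val_eq_zero` (a section which does not generate at the generic point vanishes).
* `exists_colimit_cocone`: the cocone `F^[n] ⟶ j_* j^* F^[n] ≅ j_* O_U` (inverse of `s^n` over `U`) has degree-0 leg the unit
  `O_X ⟶ j_* O_U` and is a colimit cocone.
-/

set_option autoImplicit false
set_option backward.isDefEq.respectTransparency false
set_option linter.style.haveILetI false
set_option linter.unusedSectionVars false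
universe u

open CategoryTheory CategoryTheory.Limits AlgebraicGeometry TopologicalSpace Opposite

noncomputable section

namespace Groth.Agent.Lib.Lead.RefPowLib

open RefHull Groth.Agent.Lib.Lead.RH Groth.Agent.Lib.Lead.RefGrp Groth.Agent.Lib.helper16.SecOrd
open Groth.Agent.Lib.Lead.RefDivOrd Scheme.Modules Groth.Agent.Lib.helper11.IsoLocus
open Groth.Agent.Lib.helper21.QCohColim Groth.Agent.Lib.Lead.TorsPure

variable {X : Scheme.{u}}

/-- `Γ(V, -)` preserves colimits of sequences of quasi-coherent modules for `V` affine -/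
lemma preservesColimit_secAb_nat {V : X.Opens} (hV : IsAffineOpen V) (D : ℕ ⥤ X.Modules)
    (hD : ∀ j, (D.obj j).IsQuasicoherent) : PreservesColimit D (secAb V) := by
  have hV' : hV.fromSpec ''ᵁ ⊤ = V :=
    (Scheme.Hom.image_top_eq_opensRange _).trans hV.opensRange_fromSpec
  let e : Scheme.Modules.restrictFunctor hV.fromSpec ⋙
      (moduleSpecΓFunctor (R := Γ(X, V)) ⋙ forget₂ (ModuleCat.{u} Γ(X, V)) Ab.{u}) ≅ secAb V :=
    Functor.isoWhiskerLeft _ (ΓSpecSecAbIso Γ(X, V)) ≪≫ restrictSecAbIso hV.fromSpec ⊤ ≪≫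
      eqToIso (by rw [hV'])
  have h1 : PreservesColimit D (Scheme.Modules.restrictFunctor hV.fromSpec) := inferInstance
  have h2 : PreservesColimit (D ⋙ Scheme.Modules.restrictFunctor hV.fromSpec)
      (moduleSpecΓFunctor (R := Γ(X, V))) :=
    preservesColimit_Γ _ (fun j => by
      haveI := hD j
      exact Scheme.Modules.isQuasicoherent_restrictFunctor hV.fromSpec (D.obj j))
  have h3 : PreservesColimit (D ⋙ Scheme.Modules.restrictFunctor hV.fromSpec)
      (moduleSpecΓFunctor (R := Γ(X, V)) ⋙ forget₂ (ModuleCat.{u} Γ(X, V)) Ab.{u}) :=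
    comp_preservesColimit _ _
  have h4 : PreservesColimit D (Scheme.Modules.restrictFunctor hV.fromSpec ⋙
      (moduleSpecΓFunctor (R := Γ(X, V)) ⋙ forget₂ (ModuleCat.{u} Γ(X, V)) Ab.{u})) :=
    comp_preservesColimit _ _
  exact preservesColimit_of_natIso D e

/-- sections over an open without points -/
theorem section_eq_of_isEmpty (M : X.Modules) {W : X.Opens} (hW : ∀ y : X, y ∉ W) (a b : Γ(M, W)) :
    a = b :=
  section_ext' M a b fun y hy => absurd hy (hW y)

/-- the section formula for a leg `F ⟶ j_* j^* F ⟶ j_* j^* O` built from a right inverse of `j^* sp` -/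
theorem leg_app_apply (U : X.Opens) {M : X.Modules} (sp : Coh.structureModule X ⟶ M)
    (ψ : (restrictFunctor U.ι).obj M ⟶ (restrictFunctor U.ι).obj (Coh.structureModule X))
    (hψ : ψ ≫ (restrictFunctor U.ι).map sp = 𝟙 _) (V : X.Opens) (a : Γ(M, V)) :
    (sp.app (U.ι ''ᵁ U.ι ⁻¹ᵁ V)).hom
        ((((restrictAdjunction U.ι).unit.app M ≫ (pushforward U.ι).map ψ).app V).hom a) =
      M.presheaf.map (homOfLE (U.ι.image_preimage_le V)).op a := by
  have h1 : (ψ ≫ (restrictFunctor U.ι).map sp).app (U.ι ⁻¹ᵁ V) = 𝟙 _ := by rw [hψ]; rfl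
  exact congrFun (congrArg (fun g => (AddCommGrpCat.Hom.hom g : _ → _)) h1)
    (M.presheaf.map (homOfLE (U.ι.image_preimage_le V)).op a)

section Integral
variable [IsIntegral X]

/-- if the value of `s` generates the stalk of `F` at a point where `F` is free of rank one, then `s` is bijective there -/
theorem bijective_stalkMapₗ_of_span {F : X.Modules} (s : Coh.structureModule X ⟶ F) (y : X)
    (hy : IsR1At F y) {W : X.Opens} (hyW : y ∈ W)
    (hspan : Submodule.span (X.presheaf.stalk y)
      {F.presheaf.germ W y hyW (SecTwist.val s W)} = ⊤) :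
    Function.Bijective (stalkMapₗ s y) := by
  have hsurj : Function.Surjective (stalkMapₗ s y) := by
    rw [← LinearMap.range_eq_top, eq_top_iff, ← hspan, Submodule.span_le, Set.singleton_subset_iff]
    exact ⟨(Coh.structureModule X).presheaf.germ W y hyW
      ((1 : X.ringCatSheaf.obj.obj (op W)) : (Coh.structureModule X).val.obj (op W)),
      stalkMapₗ_germ s y hyW _⟩
  haveI := hy.1
  haveI := hy.finite
  haveI := (isR1At_unit y).1
  haveI := (isR1At_unit y).finite
  let ε : (Coh.structureModule X).presheaf.stalk y ≃ₗ[X.presheaf.stalk y] F.presheaf.stalk y :=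
    LinearEquiv.ofFinrankEq _ _ (by rw [(isR1At_unit y).2, hy.2])
  have hg : Function.Surjective (ε.symm.toLinearMap ∘ₗ stalkMapₗ s y) :=
    ε.symm.surjective.comp hsurj
  have hinj := OrzechProperty.injective_of_surjective_endomorphism _ hg
  exact ⟨Function.Injective.of_comp hinj, hsurj⟩

variable [IsLocallyNoetherian X]

/-- a section which is not bijective at the generic point vanishes -/
theorem val_eq_zero (hX : Pi1.IsNormalScheme X) {F : X.Modules} (hF : IsRef1 F)
    (s : Coh.structureModule X ⟶ F) (hns : ¬ Function.Bijective (stalkMapₗ s (genericPoint X)))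
    (W : X.Opens) : SecTwist.val s W = 0 := by
  haveI : F.IsQuasicoherent := hF.1.1
  have htf := isTorsionFree_of_isReflexive F hF.2.1
  have hR1 : IsR1At F (genericPoint X) := isR1At_of_dim_le_one hX F hF _ dim_genericPoint_le_one
  have hσ : F.presheaf.germ ⊤ (genericPoint X) trivial (SecTwist.val s ⊤) = 0 := by
    by_contra hne
    exact hns (bijective_stalkMapₗ_of_span s _ hR1 (show genericPoint X ∈ (⊤ : X.Opens) from trivial)
      (span_of_ne_zero_genericPoint hR1 _ hne))
  refine section_ext' F _ _ fun y hy => ?_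
  rw [map_zero]
  have hηW := genericPoint_mem hy
  refine germ_eq_zero_of_germ_genericPoint_eq_zero F htf y hy _ hηW ?_
  rw [← SecTwist.map_val s (homOfLE (le_top : W ≤ ⊤))]
  exact (TopCat.Presheaf.germ_res_apply F.presheaf (homOfLE (le_top : W ≤ ⊤)) (genericPoint X) hηW _).trans hσ

end Integral


section Main
variable [IsIntegral X] [IsLocallyNoetherian X]

/-- **`j_* O_U` is the colimit of the reflexive powers `O ⟶ F ⟶ F^[2] ⟶ ⋯` under multiplication by `s`** -/
theorem exists_colimit_cocone (hX : Pi1.IsNormalScheme X) (F : X.Modules) (hF : IsRef1 F)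
    (s : Coh.structureModule X ⟶ F) (U : X.Opens)
    (hU : ∀ x, x ∈ U ↔ Function.Bijective (stalkMapₗ s x)) :
    ∃ ι : RefPow.diagram F s ⟶ (Functor.const ℕ).obj
        ((pushforward U.ι).obj ((Coh.structureModule X).restrict U.ι)),
      ι.app 0 = (restrictAdjunction U.ι).unit.app (Coh.structureModule X) ∧
        Nonempty (IsColimit (Cocone.mk _ ι)) := by
  have hU' : ∀ x ∈ U, Function.Bijective (stalkMapₗ s x) := fun x hx => (hU x).1 hx
  have hiso : ∀ n, IsIso ((restrictFunctor U.ι).map (RefPow.sPow s n)) := fun n =>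
    (le_isoLocus_iff _ _).1 (le_isoLocus_sPow F hF s U hU' n)
  let ψ : ∀ n, (restrictFunctor U.ι).obj (RefPow.refPow F n) ⟶
      (restrictFunctor U.ι).obj (Coh.structureModule X) := fun n =>
    @inv _ _ _ _ ((restrictFunctor U.ι).map (RefPow.sPow s n)) (hiso n)
  have hψ : ∀ n, ψ n ≫ (restrictFunctor U.ι).map (RefPow.sPow s n) = 𝟙 _ := fun n =>
    @IsIso.inv_hom_id _ _ _ _ _ (hiso n)
  have hψ' : ∀ n, (restrictFunctor U.ι).map (RefPow.sPow s n) ≫ ψ n = 𝟙 _ := fun n =>
    @IsIso.hom_inv_id _ _ _ _ _ (hiso n)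
  let P : X.Modules := (pushforward U.ι).obj ((Coh.structureModule X).restrict U.ι)
  let ℓ : ∀ n, RefPow.refPow F n ⟶ P := fun n =>
    (restrictAdjunction U.ι).unit.app (RefPow.refPow F n) ≫ (pushforward U.ι).map (ψ n)
  have hnat : ∀ n, RefPow.mulBy s n ≫ ℓ (n + 1) = ℓ n := by
    intro n
    have h2 : (restrictFunctor U.ι).map (RefPow.sPow s (n + 1)) =
        (restrictFunctor U.ι).map (RefPow.sPow s n) ≫ (restrictFunctor U.ι).map (RefPow.mulBy s n) := by
      rw [RefPow.sPow_succ, Functor.map_comp]
    have h1 : (restrictFunctor U.ι).map (RefPow.mulBy s n) ≫ ψ (n + 1) = ψ n := by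
      calc (restrictFunctor U.ι).map (RefPow.mulBy s n) ≫ ψ (n + 1)
          = (ψ n ≫ (restrictFunctor U.ι).map (RefPow.sPow s n)) ≫
              (restrictFunctor U.ι).map (RefPow.mulBy s n) ≫ ψ (n + 1) := by
            rw [hψ n, Category.id_comp]
        _ = ψ n ≫ ((restrictFunctor U.ι).map (RefPow.sPow s (n + 1)) ≫ ψ (n + 1)) := by
            rw [h2]; simp only [Category.assoc]
        _ = ψ n := by rw [hψ' (n + 1), Category.comp_id]
    have h3 : RefPow.mulBy s n ≫ (restrictAdjunction U.ι).unit.app (RefPow.refPow F (n + 1)) =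
        (restrictAdjunction U.ι).unit.app (RefPow.refPow F n) ≫
          (pushforward U.ι).map ((restrictFunctor U.ι).map (RefPow.mulBy s n)) :=
      (restrictAdjunction U.ι).unit.naturality (RefPow.mulBy s n)
    calc RefPow.mulBy s n ≫ ℓ (n + 1)
        = (RefPow.mulBy s n ≫ (restrictAdjunction U.ι).unit.app (RefPow.refPow F (n + 1))) ≫
            (pushforward U.ι).map (ψ (n + 1)) := (Category.assoc _ _ _).symm
      _ = (restrictAdjunction U.ι).unit.app (RefPow.refPow F n) ≫
            (pushforward U.ι).map ((restrictFunctor U.ι).map (RefPow.mulBy s n) ≫ ψ (n + 1)) := by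
          rw [h3, Category.assoc, ← Functor.map_comp]
      _ = ℓ n := by rw [h1]
  let ι : RefPow.diagram F s ⟶ (Functor.const ℕ).obj P :=
    NatTrans.ofSequence (F := RefPow.diagram F s) (G := (Functor.const ℕ).obj P) ℓ (fun n => by
      have hm : (RefPow.diagram F s).map (homOfLE (n.le_add_right 1)) = RefPow.mulBy s n :=
        Functor.ofSequence_map_homOfLE_succ (RefPow.mulBy s) n
      rw [hm, hnat n]
      exact (Category.comp_id _).symm)
  refine ⟨ι, ?_, ?_⟩
  · have e0 : (restrictFunctor U.ι).map (RefPow.sPow s 0) =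
        𝟙 ((restrictFunctor U.ι).obj (Coh.structureModule X)) :=
      (restrictFunctor U.ι).map_id (Coh.structureModule X)
    have h0 : ψ 0 = 𝟙 ((restrictFunctor U.ι).obj (Coh.structureModule X)) :=
      (Category.comp_id (ψ 0)).symm.trans
        ((congrArg (fun g => ψ 0 ≫ g) e0).symm.trans (hψ 0))
    have h1 : (pushforward U.ι).map (ψ 0) = 𝟙 _ :=
      (congrArg (fun g => (pushforward U.ι).map g) h0).trans ((pushforward U.ι).map_id _)
    exact (congrArg (fun g => (restrictAdjunction U.ι).unit.app (Coh.structureModule X) ≫ g) h1).trans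
      (Category.comp_id _)
  · let D := RefPow.diagram F s
    let c : Cocone D := Cocone.mk P ι
    have hqc : ∀ n, (D.obj n).IsQuasicoherent := fun n => (isRef1_refPow F hF n).1.1
    have htf : ∀ n, TorSh.IsTorsionFree (RefPow.refPow F n) := fun n =>
      isTorsionFree_of_isReflexive _ (isRef1_refPow F hF n).2.1
    suffices hφ : IsIso (colimit.desc D c) from ⟨by
      haveI : IsIso ((colimit.isColimit D).desc c) := hφ
      exact IsColimit.ofPointIso (colimit.isColimit D)⟩
    apply Groth.Agent.Lib.helper2.ModSec.isIso_of_bijective_affine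
    intro V
    have hfac : ∀ n (a : Γ(RefPow.refPow F n, V.1)),
        ((colimit.desc D c).app V.1).hom (((colimit.ι D n).app V.1).hom a) = ((ℓ n).app V.1).hom a := by
      intro n a
      have h1 : colimit.ι D n ≫ colimit.desc D c = ℓ n := colimit.ι_desc c n
      rw [← h1]; rfl
    have hmem : ∀ y : X, y ∈ U.ι ''ᵁ U.ι ⁻¹ᵁ V.1 ↔ y ∈ U ∧ y ∈ V.1 := fun y =>
      Groth.Agent.Lib.helper2.ZClosLib.mem_im_iff U V.1 y
    have hkey : ∀ n (a : Γ(RefPow.refPow F n, V.1)),
        ((RefPow.sPow s n).app (U.ι ''ᵁ U.ι ⁻¹ᵁ V.1)).hom (((ℓ n).app V.1).hom a) =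
          (RefPow.refPow F n).presheaf.map (homOfLE (U.ι.image_preimage_le V.1)).op a := fun n a =>
      leg_app_apply U (RefPow.sPow s n) (ψ n) (hψ n) V.1 a
    constructor
    · refine (injective_iff_map_eq_zero ((colimit.desc D c).app V.1).hom).2 fun z hz => ?_
      haveI : PreservesFilteredColimitsOfSize.{0, 0} (forget Ab.{u}) :=
        preservesSmallestFilteredColimits_of_preservesFilteredColimits (forget Ab.{u})
      haveI := preservesColimit_secAb_nat V.2 D hqc
      have hc' : IsColimit ((secAb V.1).mapCocone (colimit.cocone D)) :=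
        isColimitOfPreserves _ (colimit.isColimit D)
      obtain ⟨n, a, rfl⟩ := Concrete.isColimit_exists_rep (D ⋙ secAb V.1) hc' z
      change ((colimit.desc D c).app V.1).hom (((colimit.ι D n).app V.1).hom a) = 0 at hz
      rw [hfac] at hz
      change ((colimit.ι D n).app V.1).hom a = 0
      by_cases hηU : genericPoint X ∈ U
      · have ha : a = 0 := by
          haveI : (RefPow.refPow F n).IsQuasicoherent := hqc n
          refine section_ext' (RefPow.refPow F n) _ _ fun y hy => ?_
          have hηV : genericPoint X ∈ V.1 := genericPoint_mem hy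
          rw [map_zero]
          refine germ_eq_zero_of_germ_genericPoint_eq_zero _ (htf n) y hy a hηV ?_
          have hηV' : genericPoint X ∈ U.ι ''ᵁ U.ι ⁻¹ᵁ V.1 := (hmem _).2 ⟨hηU, hηV⟩
          have h4 := hkey n a
          rw [hz, map_zero] at h4
          refine (TopCat.Presheaf.germ_res_apply (RefPow.refPow F n).presheaf
            (homOfLE (U.ι.image_preimage_le V.1)) _ hηV' a).symm.trans ?_
          rw [← h4, map_zero]
        rw [ha, map_zero]
      · have hs0 : SecTwist.val s V.1 = 0 :=
          val_eq_zero hX hF s (fun hb => hηU ((hU _).2 hb)) V.1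
        obtain ⟨b', hb'⟩ := exists_mulBy_eq_smul s (0 : Γ(X, V.1)) (0 : Γ(F, V.1))
          (by rw [hs0, zero_smul]) n a
        rw [zero_smul] at hb'
        have hw : colimit.ι D n = RefPow.mulBy s n ≫ colimit.ι D (n + 1) := by
          rw [← Functor.ofSequence_map_homOfLE_succ (RefPow.mulBy s) n]
          exact (colimit.w D (homOfLE (n.le_add_right 1))).symm
        rw [hw]
        change ((colimit.ι D (n + 1)).app V.1).hom (((RefPow.mulBy s n).app V.1).hom a) = 0
        erw [hb', map_zero]
    · intro t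
      by_cases hη : genericPoint X ∈ U.ι ''ᵁ U.ι ⁻¹ᵁ V.1
      · obtain ⟨hηU, hηV⟩ := (hmem _).1 hη
        let t' : Γ(X, U.ι ''ᵁ U.ι ⁻¹ᵁ V.1) := t
        obtain ⟨n, σ, hσ⟩ := exists_section_sPow hX hF s U hU hηU V.2 hηV
          (X.presheaf.germ _ (genericPoint X) hη t') (fun y hyV hyU =>
            ⟨genericPoint_specializes y, X.presheaf.germ _ y ((hmem y).2 ⟨hyU, hyV⟩) t',
              ConcreteCategory.congr_hom (TopCat.Presheaf.germ_stalkSpecializes X.presheaf
                ((hmem y).2 ⟨hyU, hyV⟩) (genericPoint_specializes y)) t'⟩)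
        refine ⟨((colimit.ι D n).app V.1).hom σ, ?_⟩
        refine (hfac n σ).trans ?_
        have hle : U.ι ''ᵁ U.ι ⁻¹ᵁ V.1 ≤ U := fun y hy => ((hmem y).1 hy).1
        have hinj : Function.Injective ((RefPow.sPow s n).app (U.ι ''ᵁ U.ι ⁻¹ᵁ V.1)).hom :=
          ((ConcreteCategory.isIso_iff_bijective _).1
            ((isIso_restrict_iff_app _ U).1 (hiso n) _ hle)).1
        apply hinj
        refine (hkey n σ).trans ?_
        haveI : (RefPow.refPow F n).IsQuasicoherent := hqc n
        refine section_eq_of_germ_genericPoint_eq (RefPow.refPow F n) (htf n) hη _ _ ?_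
        rw [TopCat.Presheaf.germ_res_apply, hσ]
        have h5 := Groth.Agent.Lib.helper11.GenLocus.app_apply (RefPow.sPow s n)
          (U.ι ''ᵁ U.ι ⁻¹ᵁ V.1) t'
        refine Eq.trans ?_ (congrArg ((RefPow.refPow F n).presheaf.germ _ (genericPoint X) hη) h5).symm
        rw [Mero.germ_smul]
        congr 1
        change RefPow.sPowGerm s n (genericPoint X) =
          (RefPow.refPow F n).presheaf.germ _ (genericPoint X) hη
            (SecTwist.val (RefPow.sPow s n) (U.ι ''ᵁ U.ι ⁻¹ᵁ V.1))
        rw [← SecTwist.map_val (RefPow.sPow s n) (homOfLE (le_top : U.ι ''ᵁ U.ι ⁻¹ᵁ V.1 ≤ ⊤))]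
        exact (TopCat.Presheaf.germ_res_apply (RefPow.refPow F n).presheaf
          (homOfLE (le_top : U.ι ''ᵁ U.ι ⁻¹ᵁ V.1 ≤ ⊤)) (genericPoint X) hη _).symm
      · have hemp : ∀ y : X, y ∉ U.ι ''ᵁ U.ι ⁻¹ᵁ V.1 := fun y hy => hη (genericPoint_mem hy)
        refine ⟨0, ?_⟩
        rw [map_zero]
        exact section_eq_of_isEmpty (Coh.structureModule X) hemp _ _

end Main

end Groth.Agent.Lib.Lead.RefPowLib
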