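import Groth.Agent.Lib.Lead.RefPow2

/-!
# The open where a section of a rank one reflexive module generates is affine over `X` iff `s^n ∈ m_x F^[n]_x` off it (lead)

`X` integral, locally Noetherian, normal; `F` rank one coherent reflexive, `s : O_X ⟶ F`, `U` the open where `s` generates `F`.
* `germ_val_sPow`, `stalkSpecializes_injective_of_tf`, `bijective_sPow_app`, `exists_eq_smul_sPow`, `exists_section_sPow_ge`.
* `exists_notMem_of_sPowGerm_mem`: for `V` affine, `x ∈ V`, `A = Γ(V)`, `B = Γ(U ∩ V)`, `p` the prime of `x`: if `s^n_x ∈ m_x F^[n]_x` then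
  there is `h ∈ A ∖ p` with `h|_{U ∩ V} ∈ p B` (the fibre of `Spec B → Spec A` over `x` is empty).
* `exists_sPowGerm_mem_of_notMem`: the converse (for some `n > 0`).
* `isAffineHom_iff`: `U ⟶ X` is affine iff for every `x ∉ U` there is `n > 0` with `s^n_x ∈ m_x F^[n]_x`.  Elementary proof:
  affineness of `U ∩ V` is checked with `isAffineOpen_of_isAffineOpen_basicOpen` on the functions of `V` whose basic open lies in `U`.
-/

set_option autoImplicit false
set_option backward.isDefEq.respectTransparency false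
set_option linter.style.haveILetI false
set_option linter.unusedSectionVars false
universe u

open CategoryTheory CategoryTheory.Limits AlgebraicGeometry TopologicalSpace Opposite

noncomputable section

namespace Groth.Agent.Lib.Lead.RefPowLib

open RefHull Groth.Agent.Lib.Lead.RH Groth.Agent.Lib.Lead.RefGrp Groth.Agent.Lib.helper16.SecOrd
open Groth.Agent.Lib.Lead.RefDivOrd Scheme.Modules Groth.Agent.Lib.helper11.IsoLocus
open Groth.Agent.Lib.Lead.TorsPure Groth.Agent.Lib.helper16.CohStalk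

variable {X : Scheme.{u}}

theorem germ_val_sPow {F : X.Modules} (s : Coh.structureModule X ⟶ F) (n : ℕ) {W : X.Opens} (x : X)
    (hx : x ∈ W) :
    (RefPow.refPow F n).presheaf.germ W x hx (SecTwist.val (RefPow.sPow s n) W) =
      RefPow.sPowGerm s n x := by
  rw [← SecTwist.map_val (RefPow.sPow s n) (homOfLE (le_top : W ≤ ⊤))]
  exact TopCat.Presheaf.germ_res_apply (RefPow.refPow F n).presheaf (homOfLE (le_top : W ≤ ⊤)) x hx _

section Main
variable [IsIntegral X] [IsLocallyNoetherian X]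

theorem stalkSpecializes_injective_of_tf (B : X.Modules) [B.IsQuasicoherent]
    (htf : TorSh.IsTorsionFree B) {y : X} (hy : genericPoint X ⤳ y) :
    Function.Injective (B.presheaf.stalkSpecializes hy) := by
  rw [injective_iff_map_eq_zero]
  intro w hw
  obtain ⟨V, hyV, t, rfl⟩ := TopCat.Presheaf.exists_germ_eq B.presheaf w
  rw [germ_spec B hy hyV t] at hw
  exact germ_eq_zero_of_germ_genericPoint_eq_zero B htf y hyV t (hy.mem_open V.isOpen hyV) hw

theorem bijective_sPow_app {F : X.Modules} (hF : IsRef1 F) (s : Coh.structureModule X ⟶ F)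
    (U : X.Opens) (hU' : ∀ x ∈ U, Function.Bijective (stalkMapₗ s x)) (n : ℕ) {W : X.Opens}
    (hW : W ≤ U) : Function.Bijective ((RefPow.sPow s n).app W).hom :=
  (ConcreteCategory.isIso_iff_bijective _).1
    ((isIso_restrict_iff_app _ U).1 ((le_isoLocus_iff _ _).1 (le_isoLocus_sPow F hF s U hU' n)) W hW)

theorem exists_eq_smul_sPow {F : X.Modules} (hF : IsRef1 F) (s : Coh.structureModule X ⟶ F)
    (U : X.Opens) (hU' : ∀ x ∈ U, Function.Bijective (stalkMapₗ s x)) (n : ℕ) {W : X.Opens}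
    (hW : W ≤ U) (m : Γ(RefPow.refPow F n, W)) :
    ∃ g : Γ(X, W), m = g • SecTwist.val (RefPow.sPow s n) W := by
  obtain ⟨g, hg⟩ := (bijective_sPow_app hF s U hU' n hW).2 m
  exact ⟨g, hg.symm.trans (Groth.Agent.Lib.helper11.GenLocus.app_apply (RefPow.sPow s n) W g)⟩

/-- variant of `exists_section_sPow` for all large `n` -/
theorem exists_section_sPow_ge (hX : Pi1.IsNormalScheme X) {F : X.Modules} (hF : IsRef1 F)
    (s : Coh.structureModule X ⟶ F) (U : X.Opens)
    (hU : ∀ x, x ∈ U ↔ Function.Bijective (stalkMapₗ s x)) (hηU : genericPoint X ∈ U)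
    {V : X.Opens} (hV : IsAffineOpen V) (hηV : genericPoint X ∈ V)
    (τ : X.presheaf.stalk (genericPoint X))
    (hτ : ∀ y ∈ V, y ∈ U → ∃ (hy : genericPoint X ⤳ y) (r : X.presheaf.stalk y),
      (X.presheaf.stalkSpecializes hy).hom r = τ) :
    ∃ N : ℕ, ∀ n, N ≤ n → ∃ σ : Γ(RefPow.refPow F n, V),
      (RefPow.refPow F n).presheaf.germ V (genericPoint X) hηV σ =
        τ • RefPow.sPowGerm s n (genericPoint X) := by
  have hT := finite_codim_one_compl hV U hηU
  have hE3 : ∀ y : X, y ∈ {x : X | x ∈ V ∧ x ∉ U ∧ Order.coheight x = 1} → ∃ N : ℕ, ∀ n, N ≤ n →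
      ∃ v : (RefPow.refPow F n).presheaf.stalk y,
        (RefPow.refPow F n).presheaf.stalkSpecializes (genericPoint_specializes y) v =
          τ • RefPow.sPowGerm s n (genericPoint X) := by
    rintro y ⟨-, hyU, hy1⟩
    exact exists_stalk_preimage hX hF s y hy1 _ (fun hb => hyU ((hU y).2 hb)) τ
  choose! N hN using hE3
  obtain ⟨M, hM⟩ := (hT.image N).bddAbove
  refine ⟨M, fun n hn => ?_⟩
  have hRn := isRef1_refPow F hF n
  refine exists_section_of_forall_mem_range_affine hX _ hRn.1 hRn.2.1 hV hηV _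
    (fun y hyV hdim => ?_)
  by_cases hyU : y ∈ U
  · obtain ⟨hy, r, hr⟩ := hτ y hyV hyU
    refine ⟨hy, r • RefPow.sPowGerm s n y, ?_⟩
    rw [stalkSpecializes_smul, hr]
    congr 1
    exact germ_spec (RefPow.refPow F n) hy (show y ∈ (⊤ : X.Opens) from trivial) _
  · have hy1 : Order.coheight y = 1 := by
      have hle := coheight_le_one_of_dim hdim
      have hne : Order.coheight y ≠ 0 := fun h0 =>
        hyU (eq_genericPoint_of_coheight_eq_zero h0 ▸ hηU)
      exact le_antisymm hle (Order.one_le_iff_ne_zero.2 hne)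
    have hmem : y ∈ {x : X | x ∈ V ∧ x ∉ U ∧ Order.coheight x = 1} := ⟨hyV, hyU, hy1⟩
    have hNM : N y ≤ M := hM (Set.mem_image_of_mem N hmem)
    obtain ⟨v, hv⟩ := hN y hmem n (hNM.trans hn)
    exact ⟨genericPoint_specializes y, v, hv⟩

/-- if `s^n ∈ m_x F^[n]_x` then the fibre of `Spec Γ(U ∩ V) → Spec Γ(V)` over `x` is empty -/
theorem exists_notMem_of_sPowGerm_mem {F : X.Modules} (hF : IsRef1 F)
    (s : Coh.structureModule X ⟶ F) (U : X.Opens)
    (hU' : ∀ x ∈ U, Function.Bijective (stalkMapₗ s x)) {V : X.Opens} (hV : IsAffineOpen V) (x : X)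
    (hxV : x ∈ V) (hηW : genericPoint X ∈ U.ι ''ᵁ U.ι ⁻¹ᵁ V) (n : ℕ)
    (hmem : RefPow.sPowGerm s n x ∈ IsLocalRing.maximalIdeal (X.presheaf.stalk x) •
      (⊤ : Submodule (X.presheaf.stalk x) ((RefPow.refPow F n).presheaf.stalk x))) :
    ∃ h : Γ(X, V), h ∉ (hV.primeIdealOf ⟨x, hxV⟩).asIdeal ∧
      (X.presheaf.map (homOfLE (U.ι.image_preimage_le V)).op).hom h ∈
        Ideal.map (X.presheaf.map (homOfLE (U.ι.image_preimage_le V)).op).hom
          (hV.primeIdealOf ⟨x, hxV⟩).asIdeal := by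
  set W : X.Opens := U.ι ''ᵁ U.ι ⁻¹ᵁ V with hWdef
  have hWV : W ≤ V := U.ι.image_preimage_le V
  have hWU : W ≤ U := fun y hy => ((Groth.Agent.Lib.helper2.ZClosLib.mem_im_iff U V y).1 hy).1
  set ρ : Γ(X, V) →+* Γ(X, W) := (X.presheaf.map (homOfLE hWV).op).hom with hρ
  set p : Ideal Γ(X, V) := (hV.primeIdealOf ⟨x, hxV⟩).asIdeal with hp
  have hηV : genericPoint X ∈ V := hWV hηW
  have hRn := isRef1_refPow F hF n
  haveI : (RefPow.refPow F n).IsQuasicoherent := hRn.1.1
  have htf := isTorsionFree_of_isReflexive _ hRn.2.1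
  set H := RefPow.refPow F n with hH
  have hx : genericPoint X ⤳ x := genericPoint_specializes x
  set S := RefPow.sPowGerm s n (genericPoint X) with hS
  letI := TopCat.Presheaf.algebra_section_stalk X.presheaf (⟨x, hxV⟩ : V)
  haveI := hV.isLocalization_stalk ⟨x, hxV⟩
  letI := modStalk H x hxV
  haveI := isLocalizedModule_stalk H hV x hxV
  have hgermρ : ∀ f : Γ(X, V), X.presheaf.germ W (genericPoint X) hηW (ρ f) =
      X.presheaf.germ V (genericPoint X) hηV f := fun f =>
    TopCat.Presheaf.germ_res_apply X.presheaf (homOfLE hWV) _ hηW f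
  have hspR : ∀ f : Γ(X, V), X.presheaf.stalkSpecializes hx (X.presheaf.germ V x hxV f) =
      X.presheaf.germ V (genericPoint X) hηV f := fun f =>
    ConcreteCategory.congr_hom (TopCat.Presheaf.germ_stalkSpecializes X.presheaf hxV hx) f
  have e0 : ∀ (f : Γ(X, V)) (z : H.presheaf.stalk x),
      H.presheaf.stalkSpecializes hx (X.presheaf.germ V x hxV f • z) =
        X.presheaf.germ V (genericPoint X) hηV f • H.presheaf.stalkSpecializes hx z := fun f z =>
    (stalkSpecializes_smul H hx _ z).trans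
      (congrArg (· • H.presheaf.stalkSpecializes hx z) (hspR f))
  have hQ : ∃ h : Γ(X, V), h ∉ p ∧ ∃ β ∈ Ideal.map ρ p,
      X.presheaf.germ V (genericPoint X) hηV h •
        H.presheaf.stalkSpecializes hx (RefPow.sPowGerm s n x) =
          X.presheaf.germ W (genericPoint X) hηW β • S := by
    refine Submodule.smul_induction_on (p := fun v => ∃ h : Γ(X, V), h ∉ p ∧ ∃ β ∈ Ideal.map ρ p,
      X.presheaf.germ V (genericPoint X) hηV h • H.presheaf.stalkSpecializes hx v =
        X.presheaf.germ W (genericPoint X) hηW β • S) hmem ?_ ?_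
    · intro c hc v _
      obtain ⟨⟨a, h₁⟩, hc1⟩ := IsLocalization.surj p.primeCompl c
      obtain ⟨⟨m, h₂⟩, hv1⟩ := IsLocalizedModule.surj p.primeCompl (germLin H x hxV) v
      have hc1' : c * X.presheaf.germ V x hxV h₁.1 = X.presheaf.germ V x hxV a := hc1
      have hv1' : X.presheaf.germ V x hxV h₂.1 • v = H.presheaf.germ V x hxV m := hv1
      have ha : a ∈ p := by
        have h3 : algebraMap Γ(X, V) (X.presheaf.stalk x) a ∈
            IsLocalRing.maximalIdeal (X.presheaf.stalk x) := by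
          rw [← hc1]; exact Ideal.mul_mem_right _ _ hc
        exact (IsLocalization.AtPrime.to_map_mem_maximal_iff (X.presheaf.stalk x) p a).1 h3
      obtain ⟨g, hg⟩ := exists_eq_smul_sPow hF s U hU' n hWU (H.presheaf.map (homOfLE hWV).op m)
      refine ⟨h₁.1 * h₂.1, fun hm => (Ideal.IsPrime.mem_or_mem inferInstance hm).elim h₁.2 h₂.2,
        ρ a * g, Ideal.mul_mem_right _ _ (Ideal.mem_map_of_mem ρ ha), ?_⟩
      have e1 : H.presheaf.stalkSpecializes hx (H.presheaf.germ V x hxV m) =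
          X.presheaf.germ W (genericPoint X) hηW g • S := by
        rw [germ_spec H hx hxV m,
          ← TopCat.Presheaf.germ_res_apply H.presheaf (homOfLE hWV) _ hηW m, hg, Mero.germ_smul,
          germ_val_sPow]
      calc X.presheaf.germ V (genericPoint X) hηV (h₁.1 * h₂.1) •
            H.presheaf.stalkSpecializes hx (c • v)
          = H.presheaf.stalkSpecializes hx ((X.presheaf.germ V x hxV (h₁.1 * h₂.1)) • (c • v)) :=
            (e0 _ _).symm
        _ = H.presheaf.stalkSpecializes hx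
              (X.presheaf.germ V x hxV a • H.presheaf.germ V x hxV m) := by
            congr 1
            rw [map_mul, ← hv1', ← hc1', smul_smul, smul_smul]
            congr 1
            ring
        _ = X.presheaf.germ V (genericPoint X) hηV a •
              H.presheaf.stalkSpecializes hx (H.presheaf.germ V x hxV m) := e0 a _
        _ = X.presheaf.germ W (genericPoint X) hηW (ρ a * g) • S := by
            rw [e1, map_mul, hgermρ, mul_smul]
    · rintro v w ⟨h₁, hh₁, β₁, hβ₁, e₁⟩ ⟨h₂, hh₂, β₂, hβ₂, e₂⟩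
      refine ⟨h₁ * h₂, fun hm => (Ideal.IsPrime.mem_or_mem inferInstance hm).elim hh₁ hh₂,
        ρ h₂ * β₁ + ρ h₁ * β₂,
        Ideal.add_mem _ (Ideal.mul_mem_left _ _ hβ₁) (Ideal.mul_mem_left _ _ hβ₂), ?_⟩
      have E : X.presheaf.germ W (genericPoint X) hηW (ρ h₂ * β₁ + ρ h₁ * β₂) • S =
          (X.presheaf.germ V (genericPoint X) hηV h₁ * X.presheaf.germ V (genericPoint X) hηV h₂) •
            H.presheaf.stalkSpecializes hx v +
          (X.presheaf.germ V (genericPoint X) hηV h₁ * X.presheaf.germ V (genericPoint X) hηV h₂) •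
            H.presheaf.stalkSpecializes hx w := by
        rw [map_add, map_mul, map_mul, hgermρ, hgermρ, add_smul, mul_smul, mul_smul, ← e₁, ← e₂,
          smul_smul, smul_smul, mul_comm (X.presheaf.germ V (genericPoint X) hηV h₂)]
      rw [E, map_add, smul_add, map_mul]
  obtain ⟨h, hh, β, hβ, heq⟩ := hQ
  refine ⟨h, hh, ?_⟩
  have e5 : ρ h = β := by
    apply (bijective_sPow_app hF s U hU' n hWU).1
    refine ((Groth.Agent.Lib.helper11.GenLocus.app_apply (RefPow.sPow s n) W (ρ h)).trans ?_).trans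
      (Groth.Agent.Lib.helper11.GenLocus.app_apply (RefPow.sPow s n) W β).symm
    refine section_eq_of_germ_genericPoint_eq H htf hηW _ _ ?_
    rw [Mero.germ_smul, Mero.germ_smul]
    change X.presheaf.germ W (genericPoint X) hηW (ρ h) •
        H.presheaf.germ W (genericPoint X) hηW (SecTwist.val (RefPow.sPow s n) W) =
      X.presheaf.germ W (genericPoint X) hηW β •
        H.presheaf.germ W (genericPoint X) hηW (SecTwist.val (RefPow.sPow s n) W)
    rw [germ_val_sPow, hgermρ, ← heq]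
    congr 1
    exact (germ_spec H hx (show x ∈ (⊤ : X.Opens) from trivial) _).symm
  rw [e5]
  exact hβ


/-- if the fibre of `Spec Γ(U ∩ V) → Spec Γ(V)` over `x` is empty then `s^n ∈ m_x F^[n]_x` for some `n > 0` -/
theorem exists_sPowGerm_mem_of_notMem (hX : Pi1.IsNormalScheme X) {F : X.Modules} (hF : IsRef1 F)
    (s : Coh.structureModule X ⟶ F) (U : X.Opens)
    (hU : ∀ x, x ∈ U ↔ Function.Bijective (stalkMapₗ s x)) {V : X.Opens} (hV : IsAffineOpen V) (x : X)
    (hxV : x ∈ V) (hηW : genericPoint X ∈ U.ι ''ᵁ U.ι ⁻¹ᵁ V) (h : Γ(X, V))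
    (hh : h ∉ (hV.primeIdealOf ⟨x, hxV⟩).asIdeal)
    (hβ : (X.presheaf.map (homOfLE (U.ι.image_preimage_le V)).op).hom h ∈
        Ideal.map (X.presheaf.map (homOfLE (U.ι.image_preimage_le V)).op).hom
          (hV.primeIdealOf ⟨x, hxV⟩).asIdeal) :
    ∃ n : ℕ, 0 < n ∧ RefPow.sPowGerm s n x ∈ IsLocalRing.maximalIdeal (X.presheaf.stalk x) •
      (⊤ : Submodule (X.presheaf.stalk x) ((RefPow.refPow F n).presheaf.stalk x)) := by
  set W : X.Opens := U.ι ''ᵁ U.ι ⁻¹ᵁ V with hWdef
  have hWV : W ≤ V := U.ι.image_preimage_le V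
  have hmemW : ∀ y : X, y ∈ W ↔ y ∈ U ∧ y ∈ V := fun y =>
    Groth.Agent.Lib.helper2.ZClosLib.mem_im_iff U V y
  have hWU : W ≤ U := fun y hy => ((hmemW y).1 hy).1
  set ρ : Γ(X, V) →+* Γ(X, W) := (X.presheaf.map (homOfLE hWV).op).hom with hρ
  set p : Ideal Γ(X, V) := (hV.primeIdealOf ⟨x, hxV⟩).asIdeal with hp
  have hηV : genericPoint X ∈ V := hWV hηW
  have hηU : genericPoint X ∈ U := hWU hηW
  have hx : genericPoint X ⤳ x := genericPoint_specializes x
  letI := TopCat.Presheaf.algebra_section_stalk X.presheaf (⟨x, hxV⟩ : V)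
  haveI := hV.isLocalization_stalk ⟨x, hxV⟩
  have hgermρ : ∀ f : Γ(X, V), X.presheaf.germ W (genericPoint X) hηW (ρ f) =
      X.presheaf.germ V (genericPoint X) hηV f := fun f =>
    TopCat.Presheaf.germ_res_apply X.presheaf (homOfLE hWV) _ hηW f
  have hspR : ∀ f : Γ(X, V), X.presheaf.stalkSpecializes hx (X.presheaf.germ V x hxV f) =
      X.presheaf.germ V (genericPoint X) hηV f := fun f =>
    ConcreteCategory.congr_hom (TopCat.Presheaf.germ_stalkSpecializes X.presheaf hxV hx) f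
  have e0 : ∀ (n : ℕ) (f : Γ(X, V)) (z : (RefPow.refPow F n).presheaf.stalk x),
      (RefPow.refPow F n).presheaf.stalkSpecializes hx (X.presheaf.germ V x hxV f • z) =
        X.presheaf.germ V (genericPoint X) hηV f •
          (RefPow.refPow F n).presheaf.stalkSpecializes hx z := fun n f z =>
    (stalkSpecializes_smul (RefPow.refPow F n) hx _ z).trans
      (congrArg (· • (RefPow.refPow F n).presheaf.stalkSpecializes hx z) (hspR f))
  let R : Γ(X, W) → Prop := fun β => ∀ b : Γ(X, W), ∃ N : ℕ, ∀ n, N ≤ n →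
    ∃ w ∈ IsLocalRing.maximalIdeal (X.presheaf.stalk x) •
        (⊤ : Submodule (X.presheaf.stalk x) ((RefPow.refPow F n).presheaf.stalk x)),
      (RefPow.refPow F n).presheaf.stalkSpecializes hx w =
        X.presheaf.germ W (genericPoint X) hηW (b * β) • RefPow.sPowGerm s n (genericPoint X)
  have hR : R (ρ h) := by
    have hβ' : ρ h ∈ Ideal.span (ρ '' p) := hβ
    refine Submodule.span_induction (p := fun β _ => R β) ?_ ?_ ?_ ?_ hβ'
    · rintro _ ⟨a, ha, rfl⟩ b
      obtain ⟨N, hN⟩ := exists_section_sPow_ge hX hF s U hU hηU hV hηV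
        (X.presheaf.germ W (genericPoint X) hηW b) (fun y hyV hyU =>
          ⟨genericPoint_specializes y, X.presheaf.germ W y ((hmemW y).2 ⟨hyU, hyV⟩) b,
            ConcreteCategory.congr_hom (TopCat.Presheaf.germ_stalkSpecializes X.presheaf
              ((hmemW y).2 ⟨hyU, hyV⟩) (genericPoint_specializes y)) b⟩)
      refine ⟨N, fun n hn => ?_⟩
      obtain ⟨σ, hσ⟩ := hN n hn
      have ha' : X.presheaf.germ V x hxV a ∈ IsLocalRing.maximalIdeal (X.presheaf.stalk x) :=
        (IsLocalization.AtPrime.to_map_mem_maximal_iff (X.presheaf.stalk x) p a).2 ha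
      refine ⟨X.presheaf.germ V x hxV a • (RefPow.refPow F n).presheaf.germ V x hxV σ,
        Submodule.smul_mem_smul ha' Submodule.mem_top, ?_⟩
      rw [e0, germ_spec _ hx hxV σ, hσ, smul_smul, map_mul, hgermρ, mul_comm]
    · intro b
      exact ⟨0, fun n _ => ⟨0, zero_mem _, by rw [mul_zero, map_zero, map_zero, zero_smul]⟩⟩
    · intro β₁ β₂ _ _ h₁ h₂ b
      obtain ⟨N₁, hN₁⟩ := h₁ b
      obtain ⟨N₂, hN₂⟩ := h₂ b
      refine ⟨max N₁ N₂, fun n hn => ?_⟩
      obtain ⟨w₁, hw₁, e₁⟩ := hN₁ n (le_of_max_le_left hn)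
      obtain ⟨w₂, hw₂, e₂⟩ := hN₂ n (le_of_max_le_right hn)
      exact ⟨w₁ + w₂, add_mem hw₁ hw₂, by rw [map_add, e₁, e₂, mul_add, map_add, add_smul]⟩
    · intro b' β _ hβ b
      obtain ⟨N, hN⟩ := hβ (b * b')
      refine ⟨N, fun n hn => ?_⟩
      obtain ⟨w, hw, e⟩ := hN n hn
      exact ⟨w, hw, by rw [e, smul_eq_mul, mul_assoc]⟩
  obtain ⟨N, hN⟩ := hR 1
  obtain ⟨w, hw, e⟩ := hN (max N 1) (le_max_left _ _)
  refine ⟨max N 1, lt_of_lt_of_le Nat.zero_lt_one (le_max_right _ _), ?_⟩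
  have hRn := isRef1_refPow F hF (max N 1)
  haveI : (RefPow.refPow F (max N 1)).IsQuasicoherent := hRn.1.1
  have htf := isTorsionFree_of_isReflexive _ hRn.2.1
  have e2 : w = X.presheaf.germ V x hxV h • RefPow.sPowGerm s (max N 1) x := by
    apply stalkSpecializes_injective_of_tf _ htf hx
    rw [e, one_mul, hgermρ, e0]
    congr 1
    exact (germ_spec _ hx (show x ∈ (⊤ : X.Opens) from trivial) _).symm
  have hunit : IsUnit (X.presheaf.germ V x hxV h) :=
    IsLocalization.map_units (X.presheaf.stalk x) (⟨h, hh⟩ : p.primeCompl)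
  obtain ⟨u, hu⟩ := hunit
  have e3 : RefPow.sPowGerm s (max N 1) x = (↑u⁻¹ : X.presheaf.stalk x) • w := by
    rw [e2, ← hu, smul_smul, Units.inv_mul, one_smul]
  rw [e3]
  exact Submodule.smul_mem _ _ hw


open Groth.Agent.Lib.helper2.Hartogs (mem_range_fromSpec primeIdealOf_fromSpec) in
/-- **the open where `s` generates `F` is affine over `X` iff `s^n ∈ m_x F^[n]_x` for some `n > 0` at every point outside it** -/
theorem isAffineHom_iff (hX : Pi1.IsNormalScheme X) (F : X.Modules) (hF : IsRef1 F)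
    (s : Coh.structureModule X ⟶ F) (U : X.Opens)
    (hU : ∀ x, x ∈ U ↔ Function.Bijective (stalkMapₗ s x)) :
    IsAffineHom U.ι ↔
      ∀ x : X, x ∉ U → ∃ n : ℕ, 0 < n ∧
        RefPow.sPowGerm s n x ∈ IsLocalRing.maximalIdeal (X.presheaf.stalk x) •
          (⊤ : Submodule (X.presheaf.stalk x) ((RefPow.refPow F n).presheaf.stalk x)) := by
  have hU' : ∀ x ∈ U, Function.Bijective (stalkMapₗ s x) := fun x hx => (hU x).1 hx
  constructor
  · intro haff x hxU
    by_cases hηU : genericPoint X ∈ U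
    · obtain ⟨_, ⟨V, hV, rfl⟩, hxV, -⟩ :=
        X.isBasis_affineOpens.exists_subset_of_mem_open (Set.mem_univ x) isOpen_univ
      have hV : IsAffineOpen V := hV
      have hxV : x ∈ V := hxV
      have hmemW : ∀ y : X, y ∈ U.ι ''ᵁ U.ι ⁻¹ᵁ V ↔ y ∈ U ∧ y ∈ V := fun y =>
        Groth.Agent.Lib.helper2.ZClosLib.mem_im_iff U V y
      have hηV : genericPoint X ∈ V := genericPoint_mem hxV
      have hηW : genericPoint X ∈ U.ι ''ᵁ U.ι ⁻¹ᵁ V := (hmemW _).2 ⟨hηU, hηV⟩
      have hW : IsAffineOpen (U.ι ''ᵁ U.ι ⁻¹ᵁ V) :=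
        (haff.isAffine_preimage V hV).image_of_isOpenImmersion U.ι
      have hWV : U.ι ''ᵁ U.ι ⁻¹ᵁ V ≤ V := U.ι.image_preimage_le V
      haveI : (hV.primeIdealOf ⟨x, hxV⟩).asIdeal.IsPrime := (hV.primeIdealOf ⟨x, hxV⟩).isPrime
      have hex : ∃ h : Γ(X, V), h ∉ (hV.primeIdealOf ⟨x, hxV⟩).asIdeal ∧
          (X.presheaf.map (homOfLE hWV).op).hom h ∈
            Ideal.map (X.presheaf.map (homOfLE hWV).op).hom (hV.primeIdealOf ⟨x, hxV⟩).asIdeal := by
        by_contra hcon
        push Not at hcon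
        have heq : ((hV.primeIdealOf ⟨x, hxV⟩).asIdeal.map
            (X.presheaf.map (homOfLE hWV).op).hom).comap (X.presheaf.map (homOfLE hWV).op).hom =
              (hV.primeIdealOf ⟨x, hxV⟩).asIdeal :=
          le_antisymm (fun h hh => by_contra fun hn => hcon h hn hh) Ideal.le_comap_map
        obtain ⟨q, hq, hqp⟩ := (Ideal.comap_map_eq_self_iff_of_isPrime _).1 heq
        let q' : ↥(Spec Γ(X, U.ι ''ᵁ U.ι ⁻¹ᵁ V)) :=
          (⟨q, hq⟩ : PrimeSpectrum Γ(X, U.ι ''ᵁ U.ι ⁻¹ᵁ V))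
        have h1 : hW.fromSpec q' ∈ U.ι ''ᵁ U.ι ⁻¹ᵁ V := mem_range_fromSpec hW q'
        have h2 : hW.fromSpec q' = x := by
          have h3 := IsAffineOpen.map_fromSpec hV hW (homOfLE hWV).op
          rw [← h3, Scheme.Hom.comp_apply, Spec.map_apply]
          have h4 : PrimeSpectrum.comap (X.presheaf.map (homOfLE hWV).op).hom q' =
              hV.primeIdealOf ⟨x, hxV⟩ := PrimeSpectrum.ext hqp
          rw [h4]
          exact hV.fromSpec_primeIdealOf ⟨x, hxV⟩
        rw [h2] at h1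
        exact hxU ((hmemW x).1 h1).1
      obtain ⟨h, hh, hβ⟩ := hex
      exact exists_sPowGerm_mem_of_notMem hX hF s U hU hV x hxV hηW h hh hβ
    · refine ⟨1, Nat.one_pos, ?_⟩
      have h1 : SecTwist.val (RefPow.sPow s 1) ⊤ = SecTwist.val s ⊤ :=
        congrArg (fun t : Coh.structureModule X ⟶ F => SecTwist.val t ⊤) (RefPow.sPow_one s)
      have h2 : RefPow.sPowGerm s 1 x = 0 := by
        change (RefPow.refPow F 1).presheaf.germ ⊤ x trivial (SecTwist.val (RefPow.sPow s 1) ⊤) = 0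
        rw [h1, val_eq_zero hX hF s (fun hb => hηU ((hU _).2 hb)) ⊤, map_zero]
      rw [h2]
      exact zero_mem _
  · intro h2
    refine ⟨fun V hV => ?_⟩
    rw [← Scheme.Hom.isAffineOpen_iff_of_isOpenImmersion U.ι]
    have hmemW : ∀ y : X, y ∈ U.ι ''ᵁ U.ι ⁻¹ᵁ V ↔ y ∈ U ∧ y ∈ V := fun y =>
      Groth.Agent.Lib.helper2.ZClosLib.mem_im_iff U V y
    have hWV : U.ι ''ᵁ U.ι ⁻¹ᵁ V ≤ V := U.ι.image_preimage_le V
    by_cases hηW : genericPoint X ∈ U.ι ''ᵁ U.ι ⁻¹ᵁ V
    · let S : Set Γ(X, U.ι ''ᵁ U.ι ⁻¹ᵁ V) :=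
        {b | ∃ f : Γ(X, V), X.basicOpen f ≤ U ∧ (X.presheaf.map (homOfLE hWV).op).hom f = b}
      refine isAffineOpen_of_isAffineOpen_basicOpen (U.ι ''ᵁ U.ι ⁻¹ᵁ V) S ?_ ?_
      · by_contra hne
        obtain ⟨𝔫, h𝔫, hle⟩ := Ideal.exists_le_maximal _ hne
        haveI := h𝔫.isPrime
        let q : ↥(Spec Γ(X, V)) :=
          (⟨Ideal.comap (X.presheaf.map (homOfLE hWV).op).hom 𝔫, Ideal.comap_isPrime _ 𝔫⟩ :
            PrimeSpectrum Γ(X, V))
        have hxV : hV.fromSpec q ∈ V := mem_range_fromSpec hV q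
        have hq : hV.primeIdealOf ⟨hV.fromSpec q, hxV⟩ = q := primeIdealOf_fromSpec hV q
        have hxU : hV.fromSpec q ∉ U := by
          intro hxU
          obtain ⟨f, hfU, hxf⟩ := hV.exists_basicOpen_le (V := U) ⟨hV.fromSpec q, hxU⟩ hxV
          have hfS : (X.presheaf.map (homOfLE hWV).op).hom f ∈ S := ⟨f, hfU, rfl⟩
          have hf𝔫 : (X.presheaf.map (homOfLE hWV).op).hom f ∈ 𝔫 := hle (Ideal.subset_span hfS)
          have h5 : q ∈ hV.fromSpec ⁻¹ᵁ X.basicOpen f := hxf
          rw [hV.fromSpec_preimage_basicOpen f] at h5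
          exact (PrimeSpectrum.mem_basicOpen _ _).1 h5 hf𝔫
        obtain ⟨n, -, hn⟩ := h2 _ hxU
        obtain ⟨h, hh, hβ⟩ := exists_notMem_of_sPowGerm_mem hF s U hU' hV _ hxV hηW n hn
        rw [hq] at hh hβ
        have h6 : Ideal.map (X.presheaf.map (homOfLE hWV).op).hom
            (Ideal.comap (X.presheaf.map (homOfLE hWV).op).hom 𝔫) ≤ 𝔫 := Ideal.map_comap_le
        exact hh (h6 hβ)
      · rintro _ ⟨f, hfU, rfl⟩
        have h3 : X.basicOpen ((X.presheaf.map (homOfLE hWV).op).hom f) = X.basicOpen f := by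
          refine (Scheme.basicOpen_res X f (homOfLE hWV).op).trans ?_
          exact inf_eq_right.2 (fun y hy => (hmemW y).2 ⟨hfU hy, X.basicOpen_le f hy⟩)
        rw [h3]
        exact hV.basicOpen f
    · have h3 : U.ι ''ᵁ U.ι ⁻¹ᵁ V = ⊥ := by
        rw [eq_bot_iff]
        intro y hy
        exact (hηW (genericPoint_mem hy)).elim
      rw [h3]
      exact isAffineOpen_bot X

end Main

end Groth.Agent.Lib.Lead.RefPowLib
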