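import Groth.Agent.Lib.Lead.RefDivOrd5

/-!
# The divisor of a rational section of a rank one reflexive module is a Weil divisor (lead)

* `exists_spread_gen`: a generator of a free rank one stalk of a coherent module generates all stalks over a neighbourhood.
* `exists_cycle_of_section`: on a normal integral locally Noetherian scheme, `x ↦ ord_{x,F}(s)` (codimension one points) has
  locally finite support.
-/

set_option autoImplicit false
set_option backward.isDefEq.respectTransparency false
set_option linter.style.haveILetI false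
set_option linter.unusedSectionVars false
universe u

open CategoryTheory CategoryTheory.Limits AlgebraicGeometry TopologicalSpace Opposite

noncomputable section

namespace Groth.Agent.Lib.Lead.RefWeil

open RefHull Groth.Agent.Lib.Lead.RH Groth.Agent.Lib.Lead.RefGrp Groth.Agent.Lib.helper16.SecOrd
open Groth.Agent.Lib.Lead.RefDivOrd Groth.Agent.Lib.helper2.CDivLib
open Groth.Agent.Lib.helper16.CohFinite Groth.Agent.Lib.helper16.FLF

variable {X : Scheme.{u}}

/-- a generator of a free stalk of rank one spreads out to a generator over a neighbourhood -/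
theorem exists_spread_gen [IsLocallyNoetherian X] (F : X.Modules) (hF : Coh.IsCoh F) (y : X)
    (h : IsR1At F y) :
    ∃ (U : X.Opens) (_ : y ∈ U) (a : Γ(F, U)), ∀ (x : X) (hx : x ∈ U),
      Submodule.span (X.presheaf.stalk x) {(F.presheaf.germ U x hx).hom a} = ⊤ := by
  haveI : F.IsQuasicoherent := hF.1
  obtain ⟨W, hW, hyW, -⟩ := Opens.isBasis_iff_nbhd.mp X.isBasis_affineOpens (Opens.mem_top y)
  haveI : IsNoetherianRing Γ(X, W) := IsLocallyNoetherian.component_noetherian ⟨W, hW⟩
  haveI : Module.Finite Γ(X, W) Γ(F, W) := finite_sections_of_isCoh F hF hW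
  haveI : Module.FinitePresentation Γ(X, W) Γ(F, W) := Module.finitePresentation_of_finite _ _
  obtain ⟨f, n, hyf, ⟨e⟩⟩ := exists_basicOpen_free_sections F hW y hyW h.1
  have hn : n = 1 := by
    have h1 := finrank_stalk_of_sections F (hW.basicOpen f) y hyf e
    rw [h.2] at h1
    exact h1.symm
  subst hn
  let t : Fin 1 → Γ(F, X.basicOpen f) := fun _ => e.symm (fun _ => 1)
  have ht : Submodule.span Γ(X, X.basicOpen f) (Set.range t) = ⊤ := by
    rw [eq_top_iff]
    intro m _
    have hm : m = (e m 0) • t 0 := by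
      apply e.injective
      rw [map_smul]
      simp only [t, LinearEquiv.apply_symm_apply]
      funext i
      fin_cases i
      simp
    rw [hm]
    exact Submodule.smul_mem _ _ (Submodule.subset_span ⟨0, rfl⟩)
  refine ⟨X.basicOpen f, hyf, t 0, fun x hx => ?_⟩
  have h1 := span_germ_eq_top F (hW.basicOpen f) t ht x hx
  rwa [Set.range_unique] at h1

variable [IsIntegral X] [IsLocallyNoetherian X]

/-- the divisor of a nonzero rational section of a rank one reflexive module is a Weil divisor -/
theorem exists_cycle_of_section (hX : Pi1.IsNormalScheme X) (F : X.Modules) (hF : RefHull.IsRef1 F)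
    (s : Cyc.secFibre F (genericPoint X)) (hs : s ≠ 0) :
    ∃ D : AlgebraicCycle X ℤ, (∀ x : X, Order.coheight x ≠ 1 → D x = 0) ∧
      ∀ (x : X), Order.coheight x = 1 →
        D x = Cyc.secOrdAt F (genericPoint X) x
          ((genericPoint_spec X).specializes (Set.mem_univ x)) s := by
  classical
  have rη := isR1At_of_dim_le_one hX F hF _ dim_genericPoint_le_one
  obtain ⟨U₁, hηU₁, a, ha⟩ := exists_spread_gen F hF.1 (genericPoint X) rη
  obtain ⟨s', hs'⟩ := Submodule.Quotient.mk_surjective _ s
  obtain ⟨c₀, hc₀⟩ : ∃ c₀ : X.presheaf.stalk (genericPoint X),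
      c₀ • (F.presheaf.germ U₁ (genericPoint X) hηU₁).hom a = s' :=
    Submodule.mem_span_singleton.1 (ha (genericPoint X) hηU₁ ▸ Submodule.mem_top)
  have hc₀ne : c₀ ≠ 0 := by
    rintro rfl
    apply hs
    rw [← hs', ← hc₀, zero_smul]
    rfl
  obtain ⟨U₀, hU₀, a₁, hne, hgerm, hunit⟩ := exists_isUnit_germ_eq X c₀ hc₀ne
  have hηU₀ : genericPoint X ∈ U₀ :=
    ((genericPoint_spec X).mem_open_set_iff U₀.isOpen).mpr (by simpa using hne)
  have key : ∀ (x : X) (hxW : x ∈ U₁) (hxU : x ∈ U₀) (h : genericPoint X ⤳ x),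
      Cyc.secOrdAt F (genericPoint X) x h s = 0 := by
    intro x hxW hxU h
    refine secOrdAt_eq_zero_of_unit F x h _ hs ((F.presheaf.germ U₁ x hxW).hom a) (ha x hxW)
      ((X.presheaf.germ U₀ x hxU).hom a₁) (hunit.map _) ?_
    have e1 : (X.presheaf.stalkSpecializes h).hom ((X.presheaf.germ U₀ x hxU).hom a₁) = c₀ := by
      rw [← hgerm]
      exact ConcreteCategory.congr_hom (TopCat.Presheaf.germ_stalkSpecializes X.presheaf hxU h) a₁
    have e2 : F.presheaf.stalkSpecializes h ((F.presheaf.germ U₁ x hxW).hom a) =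
        (F.presheaf.germ U₁ (genericPoint X) hηU₁).hom a :=
      ConcreteCategory.congr_hom (TopCat.Presheaf.germ_stalkSpecializes F.presheaf hxW h) a
    rw [e1, e2, ← hs', ← hc₀]
    rfl
  let f : X → ℤ := fun x => if Order.coheight x = 1 then
    Cyc.secOrdAt F (genericPoint X) x ((genericPoint_spec X).specializes (Set.mem_univ x)) s else 0
  have hsupp : ∀ z ∈ (Set.univ : Set X), ∃ t ∈ nhds z, Set.Finite (t ∩ Function.support f) := by
    intro z _
    obtain ⟨W, hW, hzW, -⟩ := Opens.isBasis_iff_nbhd.mp X.isBasis_affineOpens (Opens.mem_top z)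
    have hT := finite_codim_one_compl hW (U₀ ⊓ U₁) ⟨hηU₀, hηU₁⟩
    refine ⟨W, W.isOpen.mem_nhds hzW, hT.subset ?_⟩
    rintro x ⟨hxW, hxf⟩
    have hx1 : Order.coheight x = 1 := by
      by_contra hne1
      exact hxf (if_neg hne1)
    refine ⟨hxW, fun hxU => hxf ?_, hx1⟩
    change (if Order.coheight x = 1 then _ else _) = _
    rw [if_pos hx1]
    exact key x hxU.2 hxU.1 _
  refine ⟨⟨f, fun _ _ => Set.mem_univ _, hsupp⟩, fun x hx => if_neg hx, fun x hx => if_pos hx⟩

end Groth.Agent.Lib.Lead.RefWeil
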