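import Groth.Agent.Lib.Lead.RefDivOrd5
import Groth.Prelude.Def_MeroSh
import Groth.Agent.Lib.Helper11.InvMod

/-!
# The sheaf `O_X(D)` of a function `D` on points, inside the constant sheaf of rational functions (lead)

`X` normal, integral, locally Noetherian.
* `OrdCond D U g`: `g = 0` or `ord_y g ≥ -D y` at the codimension one points `y ∈ U`.
* `ordSh hX D : X.Modules`: sections over `U` = (locally) constant functions `U → K(X)` whose value satisfies `OrdCond`
  (built with the prelude's `Mero.modOf`); `mkSec`, `sec_const`, `sec_ordCond`, `ordSh_smul_apply`.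
* `exists_section_of_forall_mem_Ox`: a rational function lying in `O_{X,z}` for all `z ∈ W` is a section over `W`.
* `IsDivOn D h W`, `exists_eq_smul`: where `D = div h`, sections of `O_X(D)` are `r • h⁻¹`.
* `trivialization`, `isIso_trivialization`, `isTrivOn_ordSh`: `O_X(D)|_U ≅ O_U` where `D = div h` on `U`.
-/

set_option autoImplicit false
set_option backward.isDefEq.respectTransparency false
set_option linter.style.haveILetI false
set_option linter.unusedSectionVars false
universe u

open CategoryTheory CategoryTheory.Limits AlgebraicGeometry TopologicalSpace Opposite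

noncomputable section

namespace Groth.Agent.Lib.Lead.RefWeil

open RefHull Groth.Agent.Lib.Lead.RH Groth.Agent.Lib.Lead.RefGrp Groth.Agent.Lib.helper16.SecOrd
open Groth.Agent.Lib.Lead.RefDivOrd Groth.Agent.Lib.helper2.CDivLib

variable {X : Scheme.{u}} [IsIntegral X] [IsLocallyNoetherian X]

/-- `div g + D ≥ 0` on `U` (or `g = 0`) -/
def OrdCond (D : X → ℤ) (U : X.Opens) (g : X.functionField) : Prop :=
  g = 0 ∨ ∀ y : X, y ∈ U → Order.coheight y = 1 → -D y ≤ Scheme.ord g y

theorem OrdCond.mono {D : X → ℤ} {U V : X.Opens} (h : V ≤ U) {g : X.functionField}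
    (hg : OrdCond D U g) : OrdCond D V g :=
  hg.imp id fun h' y hy => h' y (h hy)

theorem ordCond_add (hX : Pi1.IsNormalScheme X) {D : X → ℤ} {U : X.Opens} {g g' : X.functionField}
    (hg : OrdCond D U g) (hg' : OrdCond D U g') : OrdCond D U (g + g') := by
  rcases hg with rfl | hg
  · rwa [zero_add]
  rcases hg' with rfl | hg'
  · rw [add_zero]; exact Or.inr hg
  by_cases h0 : g + g' = 0
  · exact Or.inl h0
  refine Or.inr fun y hy h1 => ?_
  haveI := isDVR_of_coheight_one hX y h1
  have h2 := Scheme.ord_add (x := y) h0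
  have h3 := hg y hy h1
  have h4 := hg' y hy h1
  exact (le_min h3 h4).trans h2

theorem ord_germ_nonneg {U : X.Opens} (r : Γ(X, U)) {y : X} (hy : y ∈ U)
    (h1 : Order.coheight y = 1)
    (hr : algebraMap (X.presheaf.stalk y) X.functionField (X.presheaf.germ U y hy r) ≠ 0) :
    0 ≤ Scheme.ord (algebraMap (X.presheaf.stalk y) X.functionField (X.presheaf.germ U y hy r)) y :=
  ord_nonneg_of_mem_Ox y h1 _ hr ⟨_, rfl⟩

theorem algebraMap_germ_eq {U : X.Opens} (r : Γ(X, U)) {y z : X} (hy : y ∈ U) (hz : z ∈ U) :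
    algebraMap (X.presheaf.stalk y) X.functionField (X.presheaf.germ U y hy r) =
      algebraMap (X.presheaf.stalk z) X.functionField (X.presheaf.germ U z hz r) := by
  haveI : Nonempty U := ⟨⟨y, hy⟩⟩
  rw [Scheme.algebraMap_germ_eq_germToFunctionField, Scheme.algebraMap_germ_eq_germToFunctionField]

theorem ordCond_smul {D : X → ℤ} {U : X.Opens} (r : Γ(X, U)) {x : X} (hx : x ∈ U)
    {g : X.functionField} (hg : OrdCond D U g) :
    OrdCond D U (algebraMap (X.presheaf.stalk x) X.functionField (X.presheaf.germ U x hx r) * g) := by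
  rcases hg with rfl | hg
  · rw [mul_zero]; exact Or.inl rfl
  by_cases hr : algebraMap (X.presheaf.stalk x) X.functionField (X.presheaf.germ U x hx r) = 0
  · rw [hr, zero_mul]; exact Or.inl rfl
  by_cases hg0 : g = 0
  · rw [hg0, mul_zero]; exact Or.inl rfl
  refine Or.inr fun y hy h1 => ?_
  rw [Scheme.ord_mul hr hg0]
  have h2 := hg y hy h1
  rw [algebraMap_germ_eq r hx hy] at hr ⊢
  have h3 := ord_germ_nonneg r hy h1 hr
  omega

/-- the prelocal predicate: constant with value satisfying the order condition -/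
def ordPre (D : X → ℤ) : TopCat.PrelocalPredicate (fun _ : X => (X.functionField : Type u)) where
  pred {U} f := ∃ g : X.functionField, (∀ x : U, f x = g) ∧ OrdCond D U g
  res {V U} i f := by
    rintro ⟨g, hg, hc⟩
    exact ⟨g, fun x => hg (i x), hc.mono i.le⟩

/-- the local predicate defining `O_X(D)` inside the constant sheaf `K` -/
def ordLoc (D : X → ℤ) : TopCat.LocalPredicate (fun _ : X => (X.functionField : Type u)) :=
  (ordPre D).sheafify

theorem isModPred (hX : Pi1.IsNormalScheme X) (D : X → ℤ) : Mero.IsModPred (ordLoc D) where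
  zero U := fun x => ⟨U, x.2, 𝟙 _, 0, fun _ => rfl, Or.inl rfl⟩
  add U f g hf hg := fun x => by
    obtain ⟨Va, ma, ia, ga, wa, ca⟩ := hf x
    obtain ⟨Vb, mb, ib, gb, wb, cb⟩ := hg x
    refine ⟨Va ⊓ Vb, ⟨ma, mb⟩, homOfLE inf_le_left ≫ ia, ga + gb, fun y => ?_,
      ordCond_add hX (ca.mono inf_le_left) (cb.mono inf_le_right)⟩
    have h1 : f (ia ⟨y.1, y.2.1⟩) = ga := wa ⟨y.1, y.2.1⟩
    have h2 : g (ib ⟨y.1, y.2.2⟩) = gb := wb ⟨y.1, y.2.2⟩
    change f _ + g _ = _
    rw [← h1, ← h2]
    rfl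
  smul U r f hf := fun x => by
    obtain ⟨V, m, i, g, w, c⟩ := hf x
    refine ⟨V, m, i, algebraMap (X.presheaf.stalk x.1) X.functionField
      (X.presheaf.germ V x.1 m (X.presheaf.map i.op r)) * g, fun y => ?_, ordCond_smul _ m c⟩
    have h1 : f (i y) = g := w y
    change X.presheaf.germ U _ _ r • f (i y) = _
    rw [h1, Algebra.smul_def, algebraMap_germ_eq (X.presheaf.map i.op r) m y.2,
      TopCat.Presheaf.germ_res_apply]
    rfl

/-- the sheaf `O_X(D)` -/
def ordSh (hX : Pi1.IsNormalScheme X) (D : X → ℤ) : X.Modules :=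
  haveI := isModPred hX D
  Mero.modOf (ordLoc D)


section Sections

variable (hX : Pi1.IsNormalScheme X) (D : X → ℤ)

/-- the section of `O_X(D)` over `U` given by a rational function satisfying the order condition -/
def mkSec {U : X.Opens} (g : X.functionField) (hg : OrdCond D U g) : Γ(ordSh hX D, U) :=
  ⟨fun _ => g, fun x => ⟨U, x.2, 𝟙 _, g, fun _ => rfl, hg⟩⟩

@[simp] theorem mkSec_apply {U : X.Opens} (g : X.functionField) (hg : OrdCond D U g) (x : U) :
    (mkSec hX D g hg).1 x = g := rfl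

theorem ordSh_smul_apply {U : X.Opens} (r : Γ(X, U)) (t : Γ(ordSh hX D, U)) (x : U) :
    (r • t).1 x = algebraMap (X.presheaf.stalk x.1) X.functionField (X.presheaf.germ U x.1 x.2 r) *
      t.1 x := by
  change X.presheaf.germ U x.1 x.2 r • t.1 x = _
  rw [Algebra.smul_def]

theorem ordSh_map_apply {U V : X.Opens} (i : V ⟶ U) (t : Γ(ordSh hX D, U)) (x : V) :
    ((ordSh hX D).presheaf.map i.op t).1 x = t.1 ⟨x.1, i.le x.2⟩ := rfl

theorem sec_ext {U : X.Opens} {t t' : Γ(ordSh hX D, U)} (h : ∀ x : U, t.1 x = t'.1 x) : t = t' :=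
  Subtype.ext (funext h)

theorem sec_const {U : X.Opens} (t : Γ(ordSh hX D, U)) (z : U) :
    t.1 z = t.1 ⟨genericPoint X, generic_mem U z.1 z.2⟩ := by
  obtain ⟨V, m, i, g, w, -⟩ := t.2 z
  have h1 : t.1 (i ⟨z.1, m⟩) = g := w ⟨z.1, m⟩
  have h2 : t.1 (i ⟨genericPoint X, generic_mem V z.1 m⟩) = g := w ⟨_, generic_mem V z.1 m⟩
  exact h1.trans h2.symm

theorem sec_const' {U : X.Opens} (t : Γ(ordSh hX D, U)) (z z' : U) : t.1 z = t.1 z' :=
  (sec_const hX D t z).trans (sec_const hX D t z').symm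

theorem sec_ordCond {U : X.Opens} (t : Γ(ordSh hX D, U)) (z : U) : OrdCond D U (t.1 z) := by
  by_cases h0 : t.1 z = 0
  · exact Or.inl h0
  refine Or.inr fun y hy h1 => ?_
  obtain ⟨V, m, i, g, w, c⟩ := t.2 ⟨y, hy⟩
  have h2 : t.1 (i ⟨y, m⟩) = g := w ⟨y, m⟩
  have h3 : t.1 z = g := (sec_const' hX D t z _).trans h2
  rw [h3] at h0 ⊢
  rcases c with c | c
  · exact absurd c h0
  · exact c y m h1

end Sections

/-- a rational function lying in all the local rings of the points of an open set is a section -/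
theorem exists_section_of_forall_mem_Ox (W : X.Opens) (g : X.functionField)
    (h : ∀ z : X, z ∈ W → g ∈ Ox z) :
    ∃ r : Γ(X, W), ∀ (z : X) (hz : z ∈ W),
      algebraMap (X.presheaf.stalk z) X.functionField (X.presheaf.germ W z hz r) = g := by
  have h1 : ∀ z : W, ∃ (V : X.Opens) (_ : z.1 ∈ V) (_ : V ≤ W) (s : Γ(X, V)),
      X.presheaf.germ V (genericPoint X) (generic_mem V z.1 ‹_›) s = g := by
    intro z
    obtain ⟨V, hzV, s, hs⟩ := (mem_Ox_iff z.1 g).mp (h z.1 z.2)
    refine ⟨V ⊓ W, ⟨hzV, z.2⟩, inf_le_right, X.presheaf.map (homOfLE inf_le_left).op s, ?_⟩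
    rw [TopCat.Presheaf.germ_res_apply]
    exact hs
  choose V hzV hVW s hs using h1
  have hcompat : TopCat.Presheaf.IsCompatible X.presheaf V s := by
    intro z z'
    have hη : genericPoint X ∈ V z ⊓ V z' :=
      ⟨generic_mem (V z) z.1 (hzV z), generic_mem (V z') z'.1 (hzV z')⟩
    apply germ_injective_of_isIntegral X (genericPoint X) hη
    rw [TopCat.Presheaf.germ_res_apply, TopCat.Presheaf.germ_res_apply]
    exact (hs z).trans (hs z').symm
  obtain ⟨r, hr, -⟩ := TopCat.Sheaf.existsUnique_gluing' X.sheaf V W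
    (fun z => homOfLE (hVW z)) (fun z hz => Opens.mem_iSup.2 ⟨⟨z, hz⟩, hzV ⟨z, hz⟩⟩) s hcompat
  refine ⟨r, fun z hz => ?_⟩
  haveI : Nonempty W := ⟨⟨z, hz⟩⟩
  rw [Scheme.algebraMap_germ_eq_germToFunctionField]
  have h2 := hr ⟨z, hz⟩
  have h3 := hs ⟨z, hz⟩
  rw [← h2] at h3
  rw [← h3]
  exact (TopCat.Presheaf.germ_res_apply X.presheaf (homOfLE (hVW ⟨z, hz⟩)) (genericPoint X)
    (generic_mem (V ⟨z, hz⟩) z (hzV ⟨z, hz⟩)) r).symm

section Triv

variable (hX : Pi1.IsNormalScheme X) (D : X → ℤ) (h : X.functionField) (h0 : h ≠ 0)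

/-- `D` is the divisor of `h` on the open `W` -/
def IsDivOn (D : X → ℤ) (h : X.functionField) (W : X.Opens) : Prop :=
  ∀ y : X, y ∈ W → Order.coheight y = 1 → D y = Scheme.ord h y

theorem IsDivOn.mono {D : X → ℤ} {h : X.functionField} {W W' : X.Opens} (hW : W' ≤ W)
    (hD : IsDivOn D h W) : IsDivOn D h W' := fun y hy => hD y (hW hy)

include h0 in
theorem ordCond_inv {W : X.Opens} (hD : IsDivOn D h W) : OrdCond D W h⁻¹ :=
  Or.inr fun y hy h1 => by rw [ord_inv y h h0, hD y hy h1]

include h0 in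
/-- where `D = div h`, every section of `O_X(D)` is a function times `h⁻¹` -/
theorem exists_eq_smul {W : X.Opens} (hD : IsDivOn D h W) (t : Γ(ordSh hX D, W)) :
    ∃ r : Γ(X, W), ∀ z : W, t.1 z =
      algebraMap (X.presheaf.stalk z.1) X.functionField (X.presheaf.germ W z.1 z.2 r) * h⁻¹ := by
  by_cases hW : Nonempty W
  · obtain ⟨z0⟩ := hW
    set g := t.1 z0 with hg
    have hc : OrdCond D W g := sec_ordCond hX D t z0
    have hk : ∀ z : X, z ∈ W → g * h ∈ Ox z := by
      intro z hz
      refine mem_Ox_of_forall_coheight_one hX z _ fun x' hx'z hx'1 => ?_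
      have hx'W : x' ∈ W := hx'z.mem_open W.isOpen hz
      rcases hc with hc | hc
      · rw [hc, zero_mul]; exact Subring.zero_mem _
      · by_cases hg0 : g = 0
        · rw [hg0, zero_mul]; exact Subring.zero_mem _
        · refine (ord_nonneg_iff hX x' hx'1 _ (mul_ne_zero hg0 h0)).1 ?_
          rw [Scheme.ord_mul hg0 h0, ← hD x' hx'W hx'1]
          have := hc x' hx'W hx'1
          omega
    obtain ⟨r, hr⟩ := exists_section_of_forall_mem_Ox W (g * h) hk
    refine ⟨r, fun z => ?_⟩
    rw [hr z.1 z.2, mul_assoc, mul_inv_cancel₀ h0, mul_one]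
    exact sec_const' hX D t z z0
  · exact ⟨0, fun z => absurd ⟨z⟩ hW⟩

variable {U : X.Opens} (hD : IsDivOn D h U)

/-- the section `h⁻¹` of `O_X(D)` over an open `W ≤ U` -/
def invSection (W : X.Opens) (hW : W ≤ U) : Γ(ordSh hX D, W) :=
  mkSec hX D h⁻¹ (ordCond_inv D h h0 (hD.mono hW))

/-- the global section of the restriction of `O_X(D)` to `U` given by `h⁻¹` -/
def invSections : SheafOfModules.sections ((ordSh hX D).restrict U.ι) :=
  PresheafOfModules.sectionsMk
    (fun V => invSection hX D h h0 hD (U.ι ''ᵁ V.unop) (U.ι_image_le V.unop))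
    (fun _ _ _ => rfl)

/-- the morphism `O_U ⟶ O_X(D)|_U` given by multiplication with `h⁻¹` -/
def trivialization : Coh.structureModule (↑U) ⟶ (ordSh hX D).restrict U.ι :=
  (SheafOfModules.unitHomEquiv ((ordSh hX D).restrict U.ι)).symm (invSections hX D h h0 hD)

theorem trivialization_app_apply (V : (↑U : Scheme.{u}).Opens) (r : Γ((↑U : Scheme.{u}), V))
    (x : ↥(U.ι ''ᵁ V)) :
    (((trivialization hX D h h0 hD).app V r : Γ((ordSh hX D).restrict U.ι, V)) :
        Γ(ordSh hX D, U.ι ''ᵁ V)).1 x =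
      X.presheaf.germ (U.ι ''ᵁ V) x.1 x.2 ((U.ι.appIso V).inv r) • h⁻¹ := rfl

theorem trivialization_app_injective (V : (↑U : Scheme.{u}).Opens) :
    Function.Injective ((trivialization hX D h h0 hD).app V) := by
  intro r₁ r₂ heq
  have key : (U.ι.appIso V).inv r₁ = (U.ι.appIso V).inv r₂ := by
    refine TopCat.Presheaf.section_ext X.sheaf _ _ _ fun z hz => ?_
    have h1 := congrArg (fun t : Γ((ordSh hX D).restrict U.ι, V) =>
      (t : Γ(ordSh hX D, U.ι ''ᵁ V)).1 ⟨z, hz⟩) heq
    simp only [trivialization_app_apply] at h1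
    rw [Algebra.smul_def, Algebra.smul_def] at h1
    have h2 := mul_right_cancel₀ (inv_ne_zero h0) h1
    exact IsFractionRing.injective (X.presheaf.stalk z) X.functionField h2
  have h3 := congrArg (U.ι.appIso V).hom key
  rw [Iso.inv_hom_id_apply, Iso.inv_hom_id_apply] at h3
  exact h3

theorem trivialization_app_surjective (V : (↑U : Scheme.{u}).Opens) :
    Function.Surjective ((trivialization hX D h h0 hD).app V) := by
  intro t
  let t' : Γ(ordSh hX D, U.ι ''ᵁ V) := t
  obtain ⟨r', hr'⟩ := exists_eq_smul hX D h h0 (hD.mono (U.ι_image_le V)) t'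
  refine ⟨(U.ι.appIso V).hom r', ?_⟩
  refine Subtype.ext (funext fun x => ?_)
  have e1 := trivialization_app_apply hX D h h0 hD V ((U.ι.appIso V).hom r') x
  refine e1.trans ?_
  rw [Iso.hom_inv_id_apply, Algebra.smul_def]
  exact (hr' x).symm

theorem isIso_trivialization : IsIso (trivialization hX D h h0 hD) := by
  have : IsIso ((Scheme.Modules.toPresheaf _).map (trivialization hX D h h0 hD)) := by
    apply (config := {allowSynthFailures := true}) NatIso.isIso_of_isIso_app
    intro V
    rw [ConcreteCategory.isIso_iff_bijective]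
    exact ⟨trivialization_app_injective hX D h h0 hD V.unop,
      trivialization_app_surjective hX D h h0 hD V.unop⟩
  exact isIso_of_reflects_iso _ (Scheme.Modules.toPresheaf _)

include h0 hD in
open Groth.Agent.Lib.helper11.InvMod in
theorem isTrivOn_ordSh : IsTrivOn (ordSh hX D) U := by
  haveI := isIso_trivialization hX D h h0 hD
  exact ⟨(asIso (trivialization hX D h h0 hD)).symm⟩

end Triv

end Groth.Agent.Lib.Lead.RefWeil
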