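import Groth.Agent.Lib.Lead.RefWeil1
import Groth.Agent.Lib.Lead.RefWeil2

/-!
# A Weil divisor on a normal scheme is locally principal in codimension one (lead)

* `ord_zpow'`.
* `prinLocus D`: the open set of points near which `D` is the divisor of a rational function.
* `mem_prinLocus`: on a normal integral locally Noetherian scheme every point of codimension at most one lies in the
  principal locus of a Weil divisor (uniformiser power at the point; the finitely many other components through a
  neighbourhood are removed).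
-/

set_option autoImplicit false
set_option backward.isDefEq.respectTransparency false
set_option linter.style.haveILetI false
set_option linter.unusedSectionVars false
universe u

open CategoryTheory CategoryTheory.Limits AlgebraicGeometry TopologicalSpace Opposite

noncomputable section

namespace Groth.Agent.Lib.Lead.RefWeil

open RefHull Groth.Agent.Lib.Lead.RH Groth.Agent.Lib.Lead.RefGrp Groth.Agent.Lib.helper16.SecOrd
open Groth.Agent.Lib.Lead.RefDivOrd Groth.Agent.Lib.helper2.CDivLib

variable {X : Scheme.{u}} [IsIntegral X] [IsLocallyNoetherian X]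

theorem ord_zpow' (x : X) (g : X.functionField) (hg : g ≠ 0) (n : ℤ) :
    Scheme.ord (g ^ n) x = n * Scheme.ord g x := by
  cases n with
  | ofNat n => simpa using ord_pow' x g hg n
  | negSucc n =>
    rw [zpow_negSucc, ord_inv x _ (pow_ne_zero _ hg), ord_pow' x g hg, Int.negSucc_eq]
    push_cast
    ring

/-- the open locus where `D` is locally the divisor of a rational function -/
def prinLocus (D : X → ℤ) : X.Opens :=
  ⟨{x | ∃ (V : X.Opens) (h : X.functionField), x ∈ V ∧ h ≠ 0 ∧ IsDivOn D h V},
    isOpen_iff_forall_mem_open.2 fun _ ⟨V, h, hxV, h0, hD⟩ =>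
      ⟨V, fun _ hy => ⟨V, h, hy, h0, hD⟩, V.2, hxV⟩⟩

theorem mem_prinLocus_iff (D : X → ℤ) (x : X) :
    x ∈ prinLocus D ↔ ∃ (V : X.Opens) (h : X.functionField), x ∈ V ∧ h ≠ 0 ∧ IsDivOn D h V :=
  Iff.rfl

/-- a Weil divisor on a normal scheme is principal near every point of codimension at most one -/
theorem mem_prinLocus (hX : Pi1.IsNormalScheme X) (D : AlgebraicCycle X ℤ) (x : X)
    (hx : Order.coheight x ≤ 1) : x ∈ prinLocus (⇑D) := by
  classical
  obtain ⟨h, h0, hh⟩ : ∃ h : X.functionField, h ≠ 0 ∧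
      (Order.coheight x = 1 → D x = Scheme.ord h x) := by
    by_cases h1 : Order.coheight x = 1
    · obtain ⟨ϖ, hϖ0, hϖ⟩ := exists_ord_eq_one hX x h1
      exact ⟨ϖ ^ (D x), zpow_ne_zero _ hϖ0, fun _ => by rw [ord_zpow' x ϖ hϖ0, hϖ, mul_one]⟩
    · exact ⟨1, one_ne_zero, fun h => absurd h h1⟩
  obtain ⟨t, ht, hfin⟩ := D.supportLocallyFiniteWithinDomain' x (Set.mem_univ x)
  obtain ⟨W, hW, hxW, hWt⟩ := Opens.isBasis_iff_nbhd.mp X.isBasis_affineOpens
    (show x ∈ (⟨interior t, isOpen_interior⟩ : X.Opens) from mem_interior_iff_mem_nhds.2 ht)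
  obtain ⟨W₀, -, f', hne, hgerm, hunit⟩ := exists_isUnit_germ_eq X h h0
  have hηW₀ : genericPoint X ∈ W₀ :=
    ((genericPoint_spec X).mem_open_set_iff W₀.isOpen).mpr (by simpa using hne)
  have hT := finite_codim_one_compl hW W₀ hηW₀
  let S : Set X := {y | y ∈ W ∧ Order.coheight y = 1 ∧ D y ≠ Scheme.ord h y}
  have hS : S.Finite := by
    refine (hfin.union hT).subset ?_
    rintro y ⟨hyW, hy1, hyne⟩
    by_cases hyW₀ : y ∈ W₀
    · left
      refine ⟨interior_subset (hWt hyW), ?_⟩
      have h2 : Scheme.ord h y = 0 := by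
        rw [← hgerm]
        exact Scheme.ord_of_isUnit hunit hyW₀
      rw [h2] at hyne
      exact hyne
    · right
      exact ⟨hyW, hyW₀, hy1⟩
  let C : Set X := ⋃ y ∈ S, closure {y}
  have hC : IsClosed C := hS.isClosed_biUnion fun _ _ => isClosed_closure
  have hxC : x ∉ C := by
    intro hx'
    obtain ⟨y, hyS, hxy⟩ := Set.mem_iUnion₂.1 hx'
    have hyx : y ⤳ x := specializes_iff_mem_closure.2 hxy
    obtain ⟨hyW, hy1, hyne⟩ := hyS
    have hne' : y ≠ x := by
      rintro rfl
      exact hyne (hh hy1)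
    have hlt : x < y := by
      refine lt_of_le_not_ge hyx fun hge => hne' ?_
      exact (Specializes.antisymm hge hyx).eq.symm
    have h3 := Order.coheight_add_one_le hlt
    rw [hy1] at h3
    exact absurd (h3.trans hx) (by decide)
  let V : X.Opens := ⟨(W : Set X) ∩ Cᶜ, W.isOpen.inter hC.isOpen_compl⟩
  refine ⟨V, h, ⟨hxW, hxC⟩, h0, fun y hy hy1 => ?_⟩
  by_contra hyne
  exact hy.2 (Set.mem_iUnion₂.2 ⟨y, ⟨hy.1, hy1, hyne⟩, subset_closure rfl⟩)

end Groth.Agent.Lib.Lead.RefWeil
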