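import Mathlib
import Groth.Prelude.Def_RelProj4
import Groth.Agent.Lib.Lead.ProjChart
import Groth.Agent.Lib.Lead.RelProjLocal

set_option autoImplicit false
set_option backward.isDefEq.respectTransparency false
set_option backward.isDefEq.respectTransparency.types false

universe u

/-! Morphisms of relative homogeneous spectra given by the chart equations `RelProj.IsProjQMap`
(for a graded homomorphism over the identity of the base), studied over the affine opens of the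
base, without the hypothesis on irrelevant ideals. -/

namespace Groth.Agent.Lib.Lead.RelProjQ

open AlgebraicGeometry CategoryTheory CategoryTheory.Limits Opposite TopologicalSpace
open scoped HomogeneousIdeal
open Groth.Agent.Lib.Lead

variable {Y PA PB : Scheme.{u}} {𝒜 ℬ : RelProj.QCGrAlg Y}
  (φ : 𝒜.toQCAlg ⟶ ℬ.toQCAlg) (hφ : RelProj.IsGradedHom φ)

/-- The graded ring homomorphism over the affine pair `(U, U)`. -/
noncomputable abbrev psi (U : Y.Opens) (hU : IsAffineOpen U) : 𝒜.deg U hU →+*ᵍ ℬ.deg U hU :=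
  (RelProj.QGrHom.ofHom φ hφ).gradedAt U hU U hU (le_refl U)

theorem psi_apply (U : Y.Opens) (hU : IsAffineOpen U) (f : 𝒜.presheaf.obj (op U)) :
    psi φ hφ U hU f = (φ.hom.app (op U)).hom f := by
  rw [RelProj.QGrHom.gradedAt_apply]
  change (ℬ.presheaf.map (homOfLE (le_refl U)).op).hom ((φ.hom.app (op U)).hom f) =
    (φ.hom.app (op U)).hom f
  have e : ℬ.presheaf.map (homOfLE (le_refl U)).op = 𝟙 (ℬ.presheaf.obj (op U)) :=
    ℬ.presheaf.map_id (op U)
  rw [e]
  rfl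

theorem strZero_comp_psi (U : Y.Opens) (hU : IsAffineOpen U) :
    𝒜.strZero U hU ≫ CommRingCat.ofHom (psi φ hφ U hU).gradedZeroRingHom = ℬ.strZero U hU := by
  ext r
  change psi φ hφ U hU ((𝒜.str.app (op U)).hom r) = (ℬ.str.app (op U)).hom r
  rw [psi_apply]
  exact congrArg (fun f => (f.app (op U)).hom r) φ.comm

theorem covers_of_tn
    (hTN : ∃ n : ℕ, ∀ k, n ≤ k → ∀ (U : Y.Opens) (hU : IsAffineOpen U), ∀ y ∈ ℬ.deg U hU k,
      ∃ x ∈ 𝒜.deg U hU k, (φ.hom.app (op U)).hom x = y)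
    (U : Y.Opens) (hU : IsAffineOpen U) : ProjChart.Covers (psi φ hφ U hU) := by
  obtain ⟨n, hn⟩ := hTN
  refine ProjChart.covers_of_tnSurj _ ⟨n, fun k hk b hb => ?_⟩
  obtain ⟨a, ha, hab⟩ := hn k hk U hU b hb
  exact ⟨a, ha, by rw [psi_apply]; exact hab⟩

variable {pA : PA ⟶ Y} {pB : PB ⟶ Y}
  {chartA : ∀ (U : Y.Opens) (hU : IsAffineOpen U),
    (((pA ⁻¹ᵁ U : PA.Opens) : Scheme.{u}) ≅ Proj (𝒜.deg U hU))}
  {chartB : ∀ (U : Y.Opens) (hU : IsAffineOpen U),
    (((pB ⁻¹ᵁ U : PB.Opens) : Scheme.{u}) ≅ Proj (ℬ.deg U hU))}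

/-- If the charts cover, the open of definition is everything. -/
theorem domQ_eq_top (hc : ∀ (U : Y.Opens) (hU : IsAffineOpen U), ProjChart.Covers (psi φ hφ U hU)) :
    RelProj.domQ (RelProj.QGrHom.ofHom φ hφ) pB chartB = ⊤ := by
  refine top_le_iff.mp fun x _ => ?_
  obtain ⟨U, hxU⟩ := TopologicalSpace.Opens.mem_iSup.mp
    (show pB.base x ∈ ⨆ U : Y.affineOpens, (U : Y.Opens) by
      rw [iSup_affineOpens_eq_top Y]; trivial)
  obtain ⟨U, hU⟩ := U
  have hx : x ∈ pB ⁻¹ᵁ U := hxU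
  obtain ⟨d, hd, f, hf, hfy⟩ := hc U hU ((chartB U hU).hom.base ⟨x, hx⟩)
  refine Opens.mem_iSup.mpr ⟨⟨(⟨U, hU⟩, ⟨U, hU⟩), le_refl U⟩, ?_⟩
  refine ⟨(chartB U hU).hom.base ⟨x, hx⟩, ?_, ?_⟩
  · exact (RelCone.mem_domOpen _ _).mpr ⟨f, HomogeneousIdeal.mem_irrelevant_of_mem _ hd hf, hfy⟩
  · change ((chartB U hU).hom ≫ RelProj.emb pB chartB U hU).base ⟨x, hx⟩ = x
    rw [RelProj.emb, Iso.hom_inv_id_assoc]
    rfl

variable (hc : ∀ (U : Y.Opens) (hU : IsAffineOpen U), ProjChart.Covers (psi φ hφ U hU))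
  (h : PB ⟶ PA) (hh : RelProj.IsProjQMap (RelProj.QGrHom.ofHom φ hφ) pA chartA pB chartB h)

include hc hh in
theorem range_subset (U : Y.Opens) (hU : IsAffineOpen U) :
    Set.range (RelProj.emb pB chartB U hU ≫ h).base ⊆ Set.range (RelProj.emb pA chartA U hU).base := by
  rintro _ ⟨y, rfl⟩
  obtain ⟨d, hd, f, hf, hfy⟩ := hc U hU y
  have hyr : y ∈ (Proj.awayι (ℬ.deg U hU) (psi φ hφ U hU f) ((psi φ hφ U hU).map_mem hf) hd).opensRange := by
    rw [Proj.opensRange_awayι]; exact hfy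
  obtain ⟨y', rfl⟩ := hyr
  have e := hh.2 U hU U hU (le_refl U) d hd f hf
  have e1 := congrArg (fun m => m.base y') e
  simp only [RelProj.awayEmb, Scheme.Hom.comp_base, TopCat.hom_comp, ContinuousMap.comp_apply,
    Category.assoc] at e1
  simp only [Scheme.Hom.comp_base, TopCat.hom_comp, ContinuousMap.comp_apply]
  rw [e1]
  exact ⟨_, rfl⟩

/-- The morphism induced over the affine open `U`, read through the charts. -/
noncomputable def gU (U : Y.Opens) (hU : IsAffineOpen U) : Proj (ℬ.deg U hU) ⟶ Proj (𝒜.deg U hU) :=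
  IsOpenImmersion.lift (RelProj.emb pA chartA U hU) (RelProj.emb pB chartB U hU ≫ h)
    (range_subset φ hφ hc h hh U hU)

theorem gU_fac (U : Y.Opens) (hU : IsAffineOpen U) :
    gU φ hφ hc h hh U hU ≫ RelProj.emb pA chartA U hU = RelProj.emb pB chartB U hU ≫ h :=
  IsOpenImmersion.lift_fac _ _ _

theorem isChartMap_gU (U : Y.Opens) (hU : IsAffineOpen U) :
    ProjChart.IsChartMap (psi φ hφ U hU) (gU φ hφ hc h hh U hU) := by
  intro d hd f hf
  rw [← cancel_mono (RelProj.emb pA chartA U hU)]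
  simp only [Category.assoc]
  rw [gU_fac]
  have e := hh.2 U hU U hU (le_refl U) d hd f hf
  simpa only [RelProj.awayEmb, Category.assoc] using e

theorem ι_eq (U : Y.Opens) (hU : IsAffineOpen U) :
    (pB ⁻¹ᵁ U).ι = (chartB U hU).hom ≫ RelProj.emb pB chartB U hU := by
  rw [RelProj.emb, Iso.hom_inv_id_assoc]

include hc hh in
/-- A chartwise-induced morphism of relative Proj's is a morphism over the base. -/
theorem comp_eq (hA : RelProj.IsRelProj 𝒜 pA chartA) (hB : RelProj.IsRelProj ℬ pB chartB) :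
    h ≫ pA = pB := by
  refine (PB.openCoverOfIsOpenCover _ (RelProjLocal.isOpenCover_preimage pB)).hom_ext _ _ fun U => ?_
  obtain ⟨U, hU⟩ := U
  change (pB ⁻¹ᵁ U).ι ≫ h ≫ pA = (pB ⁻¹ᵁ U).ι ≫ pB
  rw [← hB.chart_over U hU, ι_eq (chartB := chartB) U hU]
  simp only [Category.assoc]
  rw [← reassoc_of% (gU_fac φ hφ hc h hh U hU)]
  have e2 : RelProj.emb pA chartA U hU ≫ pA =
      Proj.toSpecZero (𝒜.deg U hU) ≫ Spec.map (𝒜.strZero U hU) ≫ hU.fromSpec := by
    rw [RelProj.emb, Category.assoc, ← hA.chart_over U hU, Iso.inv_hom_id_assoc]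
  rw [e2, reassoc_of% (ProjChart.comp_toSpecZero (isChartMap_gU φ hφ hc h hh U hU) (hc U hU)),
    ← Spec.map_comp_assoc, strZero_comp_psi]

include hc hh in
/-- A property local at the target holds for a chartwise-induced morphism of relative Proj's as
soon as it holds for the induced morphisms over all affine opens of the base. -/
theorem of_forall_affine (P : MorphismProperty Scheme.{u}) [IsZariskiLocalAtTarget P]
    (hA : RelProj.IsRelProj 𝒜 pA chartA) (hB : RelProj.IsRelProj ℬ pB chartB)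
    (H : ∀ (U : Y.Opens) (hU : IsAffineOpen U), P (gU φ hφ hc h hh U hU)) : P h := by
  have hcomm := comp_eq φ hφ hc h hh hA hB
  refine IsZariskiLocalAtTarget.of_iSup_eq_top (P := P)
    (fun U : Y.affineOpens => pA ⁻¹ᵁ (U : Y.Opens)) (RelProjLocal.isOpenCover_preimage pA) ?_
  rintro ⟨U, hU⟩
  change P (h ∣_ (pA ⁻¹ᵁ U))
  have hpre : h ⁻¹ᵁ (pA ⁻¹ᵁ U) = pB ⁻¹ᵁ U := by
    rw [← Scheme.Hom.comp_preimage, hcomm]
  have key : h ∣_ (pA ⁻¹ᵁ U) = (PB.isoOfEq hpre).hom ≫ (chartB U hU).hom ≫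
      gU φ hφ hc h hh U hU ≫ (chartA U hU).inv := by
    rw [← cancel_mono (pA ⁻¹ᵁ U).ι, morphismRestrict_ι]
    simp only [Category.assoc]
    have e3 : (chartA U hU).inv ≫ (pA ⁻¹ᵁ U).ι = RelProj.emb pA chartA U hU := rfl
    rw [e3, gU_fac, ← reassoc_of% (ι_eq (chartB := chartB) U hU), Scheme.isoOfEq_hom_ι_assoc]
  rw [key, P.cancel_left_of_respectsIso, P.cancel_left_of_respectsIso,
    P.cancel_right_of_respectsIso]
  exact H U hU

end Groth.Agent.Lib.Lead.RelProjQ
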