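import Mathlib
import Groth.Prelude.Def_Twist2

set_option backward.isDefEq.respectTransparency false

universe u

open CategoryTheory AlgebraicGeometry Opposite TopologicalSpace HomogeneousLocalization

namespace Groth.Agent.Lib.Lead.TwistLib

open Twist

variable {R A : Type u} [CommRing R] [CommRing A] [Algebra R A] {𝒜 : ℕ → Submodule R A}
  [GradedAlgebra 𝒜]

section Pointwise

variable {x : ProjectiveSpectrum 𝒜}

lemma mk_mem_twistAt {n : ℤ} {i j : ℕ} (a : 𝒜 i) (s : 𝒜 j)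
    (hs : s.1 ∉ x.asHomogeneousIdeal) (h : (i : ℤ) = j + n) :
    (Localization.mk a.1 ⟨s.1, hs⟩ : Loc 𝒜 x) ∈ twistAt 𝒜 n x :=
  Submodule.subset_span ⟨i, j, a, s, hs, h, rfl⟩

lemma mul_mem_twistAt {m n : ℤ} {q q' : Loc 𝒜 x} (hq : q ∈ twistAt 𝒜 m x)
    (hq' : q' ∈ twistAt 𝒜 n x) : q * q' ∈ twistAt 𝒜 (m + n) x := by
  induction hq using Submodule.span_induction with
  | mem q hq =>
    obtain ⟨i, j, a, s, hs, h, rfl⟩ := hq
    induction hq' using Submodule.span_induction with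
    | mem q' hq' =>
      obtain ⟨i', j', a', s', hs', h', rfl⟩ := hq'
      rw [Localization.mk_mul]
      have hss : s.1 * s'.1 ∉ x.asHomogeneousIdeal := fun hh =>
        (x.isPrime.mem_or_mem hh).elim hs hs'
      exact Submodule.subset_span ⟨i + i', j + j', ⟨a.1 * a'.1, SetLike.mul_mem_graded a.2 a'.2⟩,
        ⟨s.1 * s'.1, SetLike.mul_mem_graded s.2 s'.2⟩, hss, by push_cast; omega, rfl⟩
    | zero => rw [mul_zero]; exact zero_mem _
    | add y z _ _ hy hz => rw [mul_add]; exact add_mem hy hz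
    | smul c y _ hy => rw [mul_smul_comm]; exact Submodule.smul_mem _ c hy
  | zero => rw [zero_mul]; exact zero_mem _
  | add y z _ _ hy hz => rw [add_mul]; exact add_mem hy hz
  | smul c y _ hy => rw [smul_mul_assoc]; exact Submodule.smul_mem _ c hy

lemma mem_twistAt_zero_iff {q : Loc 𝒜 x} :
    q ∈ twistAt 𝒜 0 x ↔ ∃ c : A0 𝒜 x, c.val = q := by
  constructor
  · intro hq
    induction hq using Submodule.span_induction with
    | mem q hq =>
      obtain ⟨i, j, a, s, hs, h, rfl⟩ := hq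
      have hij : i = j := by omega
      subst hij
      exact ⟨HomogeneousLocalization.mk ⟨i, a, s, hs⟩, by rw [val_mk]⟩
    | zero => exact ⟨0, val_zero⟩
    | add y z _ _ hy hz =>
      obtain ⟨c, rfl⟩ := hy
      obtain ⟨c', rfl⟩ := hz
      exact ⟨c + c', val_add _ _⟩
    | smul c y _ hy =>
      obtain ⟨c', rfl⟩ := hy
      refine ⟨c * c', ?_⟩
      rw [val_mul, Algebra.smul_def, HomogeneousLocalization.algebraMap_apply]
  · rintro ⟨c, rfl⟩
    obtain ⟨⟨i, a, s, hs⟩, rfl⟩ := HomogeneousLocalization.mk_surjective c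
    rw [val_mk]
    exact mk_mem_twistAt a s hs (by simp)

end Pointwise


section Sections

/-- The section of `O(n)` over `U` given by a single fraction `a / s`. -/
def fracSec (n : ℤ) (U : Opens (ProjectiveSpectrum.top 𝒜)) {i j : ℕ} (a : 𝒜 i) (s : 𝒜 j)
    (hs : ∀ x : U, s.1 ∉ x.1.asHomogeneousIdeal) (h : (i : ℤ) = j + n) :
    sectN (𝒜 := 𝒜) n (op U) :=
  ⟨fun x => ⟨Localization.mk a.1 ⟨s.1, hs x⟩, mk_mem_twistAt a s (hs x) h⟩,
   fun x => ⟨U, x.2, 𝟙 _, i, j, a, s, hs, Or.inl h, fun _ => rfl⟩⟩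

@[simp]
lemma fracSec_apply (n : ℤ) (U : Opens (ProjectiveSpectrum.top 𝒜)) {i j : ℕ} (a : 𝒜 i) (s : 𝒜 j)
    (hs : ∀ x : U, s.1 ∉ x.1.asHomogeneousIdeal) (h : (i : ℤ) = j + n) (x : U) :
    (((fracSec n U a s hs h).1 x : twistAt 𝒜 n x.1) : Loc 𝒜 x.1) =
      Localization.mk a.1 ⟨s.1, hs x⟩ := rfl

/-- Scalar multiplication of a section of `O(n)` by a function, as an explicit operation. -/
def smulSec {n : ℤ} {U : (Opens (ProjectiveSpectrum.top 𝒜))ᵒᵖ} (c : O (𝒜 := 𝒜) U)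
    (σ : sectN (𝒜 := 𝒜) n U) : sectN (𝒜 := 𝒜) n U :=
  ⟨c • σ.1, smul_memN n U c σ.1 σ.2⟩

lemma smulSec_apply {n : ℤ} {U : (Opens (ProjectiveSpectrum.top 𝒜))ᵒᵖ} (c : O (𝒜 := 𝒜) U)
    (σ : sectN (𝒜 := 𝒜) n U) (x : U.unop) :
    (((smulSec c σ).1 x : twistAt 𝒜 n x.1) : Loc 𝒜 x.1) =
      (c.1 x).val * ((σ.1 x : twistAt 𝒜 n x.1) : Loc 𝒜 x.1) := by
  show (((c • σ.1) x : twistAt 𝒜 n x.1) : Loc 𝒜 x.1) = _
  rw [Twist.smul_apply, coe_smul_val]

/-- If `σ` is a section of `O(n)` over `U` which is pointwise invertible (with inverse a section of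
`O(-n)`), then `c ↦ c • σ` is a bijection from functions on `U` to sections of `O(n)` over `U`. -/
theorem smul_bijective {n : ℤ} {U : (Opens (ProjectiveSpectrum.top 𝒜))ᵒᵖ}
    (σ : sectN (𝒜 := 𝒜) n U) (σ' : sectN (𝒜 := 𝒜) (-n) U)
    (h : ∀ x : U.unop, ((σ.1 x : twistAt 𝒜 n x.1) : Loc 𝒜 x.1) *
      ((σ'.1 x : twistAt 𝒜 (-n) x.1) : Loc 𝒜 x.1) = 1) :
    Function.Bijective (fun c : O (𝒜 := 𝒜) U => smulSec c σ) := by
  constructor
  · intro c c' hcc
    apply Subtype.ext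
    funext x
    apply HomogeneousLocalization.val_injective
    have h1 := congrArg (fun τ : sectN (𝒜 := 𝒜) n U => ((τ.1 x : twistAt 𝒜 n x.1) : Loc 𝒜 x.1)) hcc
    simp only [smulSec_apply] at h1
    have h2 := congrArg (fun q => q * ((σ'.1 x : twistAt 𝒜 (-n) x.1) : Loc 𝒜 x.1)) h1
    simp only [mul_assoc, h x, mul_one] at h2
    exact h2
  · intro τ
    have hmem : ∀ x : U.unop, ∃ c : A0 𝒜 x.1, c.val =
        ((τ.1 x : twistAt 𝒜 n x.1) : Loc 𝒜 x.1) * ((σ'.1 x : twistAt 𝒜 (-n) x.1) : Loc 𝒜 x.1) := by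
      intro x
      have := mul_mem_twistAt (τ.1 x).2 (σ'.1 x).2
      rw [add_neg_cancel] at this
      exact mem_twistAt_zero_iff.1 this
    choose cfun hcfun using hmem
    have hpred : (ProjectiveSpectrum.StructureSheaf.isLocallyFraction 𝒜).pred cfun := by
      intro x
      obtain ⟨Va, ma, ia, i, j, a, s, nina, ca, wa⟩ := τ.2 x
      obtain ⟨Vb, mb, ib, i', j', a', s', ninb, cb, wb⟩ := σ'.2 x
      have nin : ∀ y : (Va ⊓ Vb : Opens _), s.1 * s'.1 ∉ y.1.asHomogeneousIdeal := fun y hh =>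
        (y.1.isPrime.mem_or_mem hh).elim (nina ⟨y.1, y.2.1⟩) (ninb ⟨y.1, y.2.2⟩)
      have key : ∀ y : (Va ⊓ Vb : Opens _), (cfun ((Opens.infLELeft Va Vb ≫ ia) y)).val =
          Localization.mk (a.1 * a'.1) ⟨s.1 * s'.1, nin y⟩ := by
        intro y
        rw [hcfun]
        have e1 := wa ⟨y.1, y.2.1⟩
        have e2 := wb ⟨y.1, y.2.2⟩
        dsimp only at e1 e2
        erw [e1, e2]
        rw [Localization.mk_mul]
        rfl
      by_cases hz : a.1 = 0 ∨ a'.1 = 0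
      · refine ⟨Va ⊓ Vb, ⟨ma, mb⟩, Opens.infLELeft _ _ ≫ ia, 0, ⟨0, zero_mem _⟩,
          ⟨1, SetLike.GradedOne.one_mem⟩,
          fun y hh => y.1.isPrime.ne_top ((Ideal.eq_top_iff_one _).mpr hh), fun y => ?_⟩
        apply HomogeneousLocalization.val_injective
        rw [key y, val_mk]
        rcases hz with hz | hz <;> simp [hz, Localization.mk_zero]
      · push Not at hz
        have ca' : (i : ℤ) = j + n := ca.resolve_right hz.1
        have cb' : (i' : ℤ) = j' + -n := cb.resolve_right hz.2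
        have hdeg : j + j' = i + i' := by omega
        refine ⟨Va ⊓ Vb, ⟨ma, mb⟩, Opens.infLELeft _ _ ≫ ia, i + i',
          ⟨a.1 * a'.1, SetLike.mul_mem_graded a.2 a'.2⟩,
          ⟨s.1 * s'.1, hdeg ▸ SetLike.mul_mem_graded s.2 s'.2⟩, nin, fun y => ?_⟩
        apply HomogeneousLocalization.val_injective
        rw [key y, val_mk]
    refine ⟨⟨cfun, hpred⟩, ?_⟩
    apply Subtype.ext
    funext x
    apply Subtype.ext
    rw [smulSec_apply]
    show (cfun x).val * _ = _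
    rw [hcfun, mul_assoc, mul_comm ((σ'.1 x : twistAt 𝒜 (-n) x.1) : Loc 𝒜 x.1), h x, mul_one]

end Sections

end Groth.Agent.Lib.Lead.TwistLib
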