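import Mathlib
import Groth.Prelude.Def_Twist2
import Groth.Agent.Lib.Lead.TwistLib
import Groth.Agent.Lib.Lead.HomOfSec
import Groth.Agent.Lib.Helper11.InvMod

set_option backward.isDefEq.respectTransparency false

universe u

open CategoryTheory AlgebraicGeometry Opposite TopologicalSpace HomogeneousLocalization

namespace Groth.Agent.Lib.Lead.TwistLib

open Twist Groth.Agent.Lib.Lead.HomOfSec

variable {R A : Type u} [CommRing R] [CommRing A] [Algebra R A] {𝒜 : ℕ → Submodule R A}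
  [GradedAlgebra 𝒜]

/-- A pointwise invertible section of `O(n)` over `U` trivialises `O(n)` on `U`. -/
theorem nonempty_iso_of_sections {n : ℤ} (U : (Proj 𝒜).Opens)
    (σ : sectN (𝒜 := 𝒜) n (op U)) (σ' : sectN (𝒜 := 𝒜) (-n) (op U))
    (h : ∀ x : U, ((σ.1 x : twistAt 𝒜 n x.1) : Loc 𝒜 x.1) *
      ((σ'.1 x : twistAt 𝒜 (-n) x.1) : Loc 𝒜 x.1) = 1) :
    Nonempty ((Twist.twist 𝒜 n).restrict U.ι ≅ Coh.structureModule (U : Scheme.{u})) := by
  have hφ : IsIso (homOfSec (Twist.twist 𝒜 n) U σ) := by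
    rw [isIso_homOfSec_iff']
    intro V
    have hle : U.ι ''ᵁ V.unop ≤ U := U.ι_image_le _
    have hb := smul_bijective (U := op (U.ι ''ᵁ V.unop)) (resN n (homOfLE hle).op σ)
      (resN (-n) (homOfLE hle).op σ') (fun x => h ⟨x.1, hle x.2⟩)
    change Function.Bijective (fun c : O (𝒜 := 𝒜) (op (U.ι ''ᵁ V.unop)) =>
      smulSec c (resN n (homOfLE hle).op σ))
    exact hb
  exact ⟨(asIso (homOfSec (Twist.twist 𝒜 n) U σ)).symm⟩


/-- `O(n)` is trivial on any open on which two homogeneous elements `a`, `b` with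
`deg a = deg b + n` are both invertible. -/
theorem nonempty_iso_of_frac {n : ℤ} (U : (Proj 𝒜).Opens) {i j : ℕ} (a : 𝒜 i) (b : 𝒜 j)
    (hij : (i : ℤ) = j + n)
    (ha : ∀ x : U, a.1 ∉ x.1.asHomogeneousIdeal) (hb : ∀ x : U, b.1 ∉ x.1.asHomogeneousIdeal) :
    Nonempty ((Twist.twist 𝒜 n).restrict U.ι ≅ Coh.structureModule (U : Scheme.{u})) := by
  refine nonempty_iso_of_sections U (fracSec n U a b hb hij)
    (fracSec (-n) U b a ha (by omega)) (fun x => ?_)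
  rw [fracSec_apply, fracSec_apply, Localization.mk_mul]
  have : (⟨b.1, hb x⟩ : x.1.asHomogeneousIdeal.toIdeal.primeCompl) * ⟨a.1, ha x⟩ =
      ⟨a.1 * b.1, fun hh => (x.1.isPrime.mem_or_mem hh).elim (ha x) (hb x)⟩ := by
    apply Subtype.ext
    exact mul_comm _ _
  rw [this]
  exact Localization.mk_self (M := A) (S := x.1.asHomogeneousIdeal.toIdeal.primeCompl)
    ⟨a.1 * b.1, fun hh => (x.1.isPrime.mem_or_mem hh).elim (ha x) (hb x)⟩

lemma pow_notMem {x : ProjectiveSpectrum 𝒜} {f : A} (hf : f ∉ x.asHomogeneousIdeal) (k : ℕ) :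
    f ^ k ∉ x.asHomogeneousIdeal := fun hh => hf (x.isPrime.mem_of_pow_mem k hh)

lemma one_notMem (x : ProjectiveSpectrum 𝒜) : (1 : A) ∉ x.asHomogeneousIdeal :=
  fun hh => x.isPrime.ne_top ((Ideal.eq_top_iff_one _).mpr hh)

/-- `O(n d)` is trivial on `D₊(a b)` when `deg a = deg b + d`. -/
theorem nonempty_iso_basicOpen_mul {d i j : ℕ} {a b : A} (ha : a ∈ 𝒜 i) (hb : b ∈ 𝒜 j)
    (hij : i = j + d) (n : ℤ) :
    Nonempty ((Twist.twist 𝒜 (n * d)).restrict (Proj.basicOpen 𝒜 (a * b)).ι ≅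
      Coh.structureModule ↑(Proj.basicOpen 𝒜 (a * b))) := by
  have hmem : ∀ x : (Proj.basicOpen 𝒜 (a * b) : (Proj 𝒜).Opens),
      a ∉ x.1.asHomogeneousIdeal ∧ b ∉ x.1.asHomogeneousIdeal := by
    intro x
    have hx : a * b ∉ x.1.asHomogeneousIdeal := (Proj.mem_basicOpen 𝒜 (a * b) x.1).1 x.2
    exact ⟨fun h => hx (Ideal.mul_mem_right _ _ h), fun h => hx (Ideal.mul_mem_left _ _ h)⟩
  obtain ⟨k, rfl | rfl⟩ := Int.eq_nat_or_neg n
  · exact nonempty_iso_of_frac _ (⟨a ^ k, SetLike.pow_mem_graded k ha⟩ : 𝒜 (k • i))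
      (⟨b ^ k, SetLike.pow_mem_graded k hb⟩ : 𝒜 (k • j))
      (by subst hij; simp only [smul_eq_mul]; push_cast; ring)
      (fun x => pow_notMem (hmem x).1 k) (fun x => pow_notMem (hmem x).2 k)
  · exact nonempty_iso_of_frac _ (⟨b ^ k, SetLike.pow_mem_graded k hb⟩ : 𝒜 (k • j))
      (⟨a ^ k, SetLike.pow_mem_graded k ha⟩ : 𝒜 (k • i))
      (by subst hij; simp only [smul_eq_mul]; push_cast; ring)
      (fun x => pow_notMem (hmem x).2 k) (fun x => pow_notMem (hmem x).1 k)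

/-- `O(n d)` is trivial on `D₊(f)` for `f` homogeneous of degree `d`. -/
theorem nonempty_iso_basicOpen {d : ℕ} {f : A} (hf : f ∈ 𝒜 d) (n : ℤ) :
    Nonempty ((Twist.twist 𝒜 (n * d)).restrict (Proj.basicOpen 𝒜 f).ι ≅
      Coh.structureModule ↑(Proj.basicOpen 𝒜 f)) := by
  have hmem : ∀ x : (Proj.basicOpen 𝒜 f : (Proj 𝒜).Opens), f ∉ x.1.asHomogeneousIdeal :=
    fun x => (Proj.mem_basicOpen 𝒜 f x.1).1 x.2
  obtain ⟨k, rfl | rfl⟩ := Int.eq_nat_or_neg n
  · exact nonempty_iso_of_frac _ (⟨f ^ k, SetLike.pow_mem_graded k hf⟩ : 𝒜 (k • d))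
      (⟨1, SetLike.GradedOne.one_mem⟩ : 𝒜 0)
      (by simp only [smul_eq_mul]; push_cast; ring)
      (fun x => pow_notMem (hmem x) k) (fun x => one_notMem x.1)
  · exact nonempty_iso_of_frac _ (⟨1, SetLike.GradedOne.one_mem⟩ : 𝒜 0)
      (⟨f ^ k, SetLike.pow_mem_graded k hf⟩ : 𝒜 (k • d))
      (by simp only [smul_eq_mul]; push_cast; ring)
      (fun x => one_notMem x.1) (fun x => pow_notMem (hmem x) k)

end Groth.Agent.Lib.Lead.TwistLib
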