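import Mathlib
import Groth.Agent.Lib.Lead.VBCurve31

/-!
# Duals of bundles on curves: rank and the degree inequality (lead)

* `isFinLocFreeOfRank_dualMod`: the dual of a finite locally free module of rank `n` has rank `n`.
* `mono_dualMap_of_epi`, `exact_dualMap`: `E ↦ E^∨` is left exact.
* `deg_dualMod_le`: on an integral proper curve with PID stalks over an algebraically closed field,
  `deg (B^∨) ≤ - deg B`.
-/

set_option autoImplicit false
set_option linter.style.haveILetI false
set_option linter.unusedSectionVars false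
set_option backward.isDefEq.respectTransparency false
universe u
open CategoryTheory CategoryTheory.Limits AlgebraicGeometry Opposite TopologicalSpace Module

namespace Groth.Agent.Lib.Lead.VBCurve

open Groth.Agent.Lib.Lead.ModTensor Groth.Agent.Lib.Helper20.TensorEquiv Groth.Agent.Lib.Helper18
open Groth.Agent.Lib.helper9.CurveVanish Groth.Agent.Lib.helper21.FLFDual Groth.Agent.Lib.helper11.Bidual
open Groth.Agent.Lib.helper11.FibLift Groth.Agent.Lib.helper12.InvDual Groth.Agent.Lib.Helper21.TensorAdj
open Groth.Agent.Lib.helper16.FLF Groth.Agent.Lib.helper11.IsoLocus Scheme.Modules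
open Groth.Agent.Lib.helper12.PullTensor

section general

variable {X : Scheme.{u}}

/-- the dual of a finite locally free module of rank `n` is finite locally free of rank `n` -/
theorem isFinLocFreeOfRank_dualMod {E : X.Modules} {n : ℕ} (hE : FlatMod.IsFinLocFreeOfRank n E) :
    FlatMod.IsFinLocFreeOfRank n (dualMod E) := by
  intro y
  obtain ⟨V, hyV, ⟨e⟩⟩ := hE y
  let Et : X.Modules := (Scheme.Modules.pushforward V.ι).obj ((restrictFunctor V.ι).obj E)
  let a : E ⟶ Et := (restrictAdjunction V.ι).unit.app E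
  let B : X.Modules := FlatMod.freeMod X n
  let c : (restrictFunctor V.ι).obj B ⟶ (restrictFunctor V.ι).obj E :=
    (Groth.Agent.Lib.helper16.FLF.restrictFreeModIso V.ι n).hom ≫ e.inv
  let b : B ⟶ Et := (restrictAdjunction V.ι).unit.app B ≫ (Scheme.Modules.pushforward V.ι).map c
  have ha : V ≤ isoLocus a := le_isoLocus_restrictAdjunction_unit E V
  have hb : V ≤ isoLocus b := by
    rw [le_isoLocus_iff]
    have h1 : IsIso ((restrictFunctor V.ι).map ((restrictAdjunction V.ι).unit.app B)) :=
      (le_isoLocus_iff _ _).mp (le_isoLocus_restrictAdjunction_unit B V)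
    change IsIso ((restrictFunctor V.ι).map (_ ≫ _))
    rw [Functor.map_comp]
    infer_instance
  refine ⟨V, hyV, ?_⟩
  have h1 : IsIso ((restrictFunctor V.ι).map (dualMap a)) :=
    (le_isoLocus_iff _ _).mp (le_isoLocus_dualMap a V ha)
  have h2 : IsIso ((restrictFunctor V.ι).map (dualMap b)) :=
    (le_isoLocus_iff _ _).mp (le_isoLocus_dualMap b V hb)
  exact ⟨(asIso ((restrictFunctor V.ι).map (dualMap a))).symm ≪≫
    asIso ((restrictFunctor V.ι).map (dualMap b)) ≪≫
    (restrictFunctor V.ι).mapIso (dualFreeModIso n) ≪≫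
    Groth.Agent.Lib.helper16.FLF.restrictFreeModIso V.ι n⟩

open Groth.Agent.Lib.Helper21.TensorW Groth.Agent.Lib.helper21.ModElt
  Groth.Agent.Lib.helper21.SheafHomExact in
/-- the dual of an epimorphism is a monomorphism -/
theorem mono_dualMap_of_epi {E E' : X.Modules} (g : E' ⟶ E) [Epi g] : Mono (dualMap g) := by
  apply mono_of_injective (O := X.sheaf)
  intro V
  exact injective_sheafHomMap_of_epi (O := X.sheaf) g (Coh.structureModule X) V.unop

open Groth.Agent.Lib.Helper21.TensorW Groth.Agent.Lib.helper21.ModElt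
  Groth.Agent.Lib.helper21.SheafHomExact in
/-- `E ↦ E^∨` is left exact -/
theorem exact_dualMap (S : ShortComplex X.Modules) (hS : S.Exact) [Epi S.g] :
    (ShortComplex.mk (dualMap S.g) (dualMap S.f)
      (by rw [← dualMap_comp, S.zero, dualMap_zero])).Exact := by
  rw [ShortComplex.exact_iff_epi_kernel_lift]
  apply epi_of_surjective (O := X.sheaf)
  intro V z
  let y := amap (pvMap (O := X.sheaf) (kernel.ι (dualMap S.f))) V z
  have hy : amap (pvMap (O := X.sheaf) (dualMap S.f)) V y = 0 := by
    have e : kernel.ι (dualMap S.f) ≫ dualMap S.f = 0 := kernel.condition _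
    have := congrArg (fun ψ => amap (pvMap (O := X.sheaf) ψ) V z) e
    exact this
  obtain ⟨x, hx⟩ := exact_sheafHomMap (O := X.sheaf) S hS (Coh.structureModule X) V.unop y hy
  refine ⟨x, ?_⟩
  apply injective_of_mono (O := X.sheaf) (kernel.ι (dualMap S.f)) V
  have e : kernel.lift (dualMap S.f) (dualMap S.g) (by rw [← dualMap_comp, S.zero, dualMap_zero]) ≫
      kernel.ι (dualMap S.f) = dualMap S.g := kernel.lift_ι _ _ _
  have := congrArg (fun ψ => amap (pvMap (O := X.sheaf) ψ) V x) e
  exact this.trans hx

end general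

section curve

variable (k : Type u) [Field k] [IsAlgClosed k] (X : Scheme.{u}) [X.Over (Spec (CommRingCat.of k))]
  [IsProper (X ↘ Spec (CommRingCat.of k))] [IsIntegral X]

/-- `deg (B^∨) ≤ - deg B` -/
theorem deg_dualMod_le (hP : PIDStalks X) (hdim : topologicalKrullDim X = 1) :
    ∀ (b : ℕ) (B : X.Modules), FlatMod.IsFinLocFreeOfRank b B →
      Curv2.deg k X (dualMod B) b ≤ - Curv2.deg k X B b := by
  intro b
  induction b with
  | zero =>
    intro B hB
    rw [deg_zero_of_isZero k X (isZero_of_isFinLocFreeOfRank_zero hB),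
      deg_zero_of_isZero k X (isZero_of_isFinLocFreeOfRank_zero (isFinLocFreeOfRank_dualMod hB))]
    simp
  | succ b ih =>
    intro B hB
    haveI := Groth.Agent.Lib.Lead.CurveEuler.isNoetherian k X
    obtain ⟨M, π, hπ, hM⟩ := exists_invertible_quotient k X hP hdim hB
    haveI := hπ
    obtain ⟨hS, hK, hdeg⟩ := kernel_data_of_epi k X hP hB hM π
    have hM1 := (isInvertible_iff_isFinLocFreeOfRank_one _).mp hM
    haveI : Mono (dualMap π) := mono_dualMap_of_epi π
    haveI : Epi (ShortComplex.mk (kernel.ι π) π (kernel.condition π)).g := hπ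
    have hex := exact_dualMap (ShortComplex.mk (kernel.ι π) π (kernel.condition π)) hS.exact
    change (ShortComplex.mk (dualMap π) (dualMap (kernel.ι π)) _).Exact at hex
    have hBd := isFinLocFreeOfRank_dualMod hB
    have hKd := isFinLocFreeOfRank_dualMod hK
    have hMd := isFinLocFreeOfRank_dualMod hM1
    have hw : dualMap π ≫ Abelian.factorThruImage (dualMap (kernel.ι π)) = 0 := by
      rw [← cancel_mono (Abelian.image.ι (dualMap (kernel.ι π))), Category.assoc, Abelian.image.fac,
        zero_comp, ← dualMap_comp, kernel.condition, dualMap_zero]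
    let φ : ShortComplex.mk (dualMap π) (Abelian.factorThruImage (dualMap (kernel.ι π))) hw ⟶
        ShortComplex.mk (dualMap π) (dualMap (kernel.ι π))
          (by rw [← dualMap_comp, kernel.condition, dualMap_zero]) :=
      { τ₁ := 𝟙 _
        τ₂ := 𝟙 _
        τ₃ := Abelian.image.ι (dualMap (kernel.ι π))
        comm₁₂ := by simp
        comm₂₃ := by
          change 𝟙 _ ≫ dualMap (kernel.ι π) =
            Abelian.factorThruImage (dualMap (kernel.ι π)) ≫ Abelian.image.ι (dualMap (kernel.ι π))
          rw [Abelian.image.fac, Category.id_comp] }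
    haveI : Epi φ.τ₁ := inferInstanceAs (Epi (𝟙 _))
    haveI : IsIso φ.τ₂ := inferInstanceAs (IsIso (𝟙 _))
    haveI : Mono φ.τ₃ := inferInstanceAs (Mono (Abelian.image.ι (dualMap (kernel.ι π))))
    have hex' := (ShortComplex.exact_iff_of_epi_of_isIso_of_mono φ).mpr hex
    have hT : (ShortComplex.mk (dualMap π) (Abelian.factorThruImage (dualMap (kernel.ι π))) hw).ShortExact :=
      { exact := hex'
        mono_f := inferInstanceAs (Mono (dualMap π))
        epi_g := inferInstanceAs (Epi (Abelian.factorThruImage (dualMap (kernel.ι π)))) }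
    have hBdc := Groth.Agent.Lib.Lead.RankAdd.isCoh_of_isFinLocFreeOfRank hBd
    have hKdc := Groth.Agent.Lib.Lead.RankAdd.isCoh_of_isFinLocFreeOfRank hKd
    have hMdc := Groth.Agent.Lib.Lead.RankAdd.isCoh_of_isFinLocFreeOfRank hMd
    have hQc : Coh.IsCoh (cokernel (dualMap (kernel.ι π))) :=
      Groth.Agent.Lib.helper7.CohKer.isCoh_cokernel hBdc hKdc _
    have hIc : Coh.IsCoh (Abelian.image (dualMap (kernel.ι π))) :=
      Groth.Agent.Lib.helper7.CohKer.isCoh_kernel hKdc hQc (cokernel.π (dualMap (kernel.ι π)))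
    have hIf := isFinLocFree_of_mono hP hIc (isFinLocFree_of_isFinLocFreeOfRank hKd)
      (Abelian.image.ι (dualMap (kernel.ι π)))
    obtain ⟨rI, hrI⟩ := exists_rank_of_isFinLocFree hIf
    have hrk : b + 1 = 1 + rI :=
      Groth.Agent.Lib.Lead.RankAdd.rank_add_of_shortExact _ hT 1 (b + 1) rI hMd hBd hrI
    have hrIb : rI = b := by omega
    subst hrIb
    have hadd := Groth.Agent.Lib.Lead.ProperEuler.deg_additive k hT hMdc hIc 1 (rI + 1) rI (by omega)
    change Curv2.deg k X (dualMod B) (rI + 1) =
      Curv2.deg k X (dualMod M) 1 + Curv2.deg k X (Abelian.image (dualMap (kernel.ι π))) rI at hadd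
    have hle := deg_le k X hdim.le hrI hKd (Abelian.image.ι (dualMap (kernel.ι π)))
    have hMdeg := deg_add_deg_of_isInverseOf k X hdim.le hM (isInvertible_dualMod hM)
      (isInverseOf_dualMod hM)
    have hih := ih _ hK
    linarith

end curve

end Groth.Agent.Lib.Lead.VBCurve
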