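import Mathlib
import Groth.Agent.Lib.Lead.VBCurve32
import Groth.Agent.Lib.Helper9.CurveHopf
import Groth.Agent.Lib.Lead.HilbPos12

/-!
# Non-split extensions (lead)

* `shortExact_pullback`: the pullback of a short exact sequence along any morphism to the cokernel.
* `exists_nonsplit_pullback`: if `H¹(M ⊗ B^∨) = 0` and `H¹(A ⊗ B^∨) ≠ 0` for `0 → A → M → Q → 0`,
  then some pullback extension `0 → A → E → B → 0` does not split.
-/

set_option autoImplicit false
set_option linter.style.haveILetI false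
set_option linter.unusedSectionVars false
set_option backward.isDefEq.respectTransparency false
universe u
open CategoryTheory CategoryTheory.Limits AlgebraicGeometry Opposite TopologicalSpace Module

namespace Groth.Agent.Lib.Lead.VBCurve

open Groth.Agent.Lib.Lead.ModTensor Groth.Agent.Lib.Helper20.TensorEquiv Groth.Agent.Lib.Helper18
open Groth.Agent.Lib.helper9.CurveVanish Groth.Agent.Lib.helper21.FLFDual Groth.Agent.Lib.helper11.Bidual
open Groth.Agent.Lib.helper11.FibLift Groth.Agent.Lib.helper12.InvDual Groth.Agent.Lib.Helper21.TensorAdj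
open Groth.Agent.Lib.helper16.FLF Groth.Agent.Lib.helper11.IsoLocus Scheme.Modules
open Groth.Agent.Lib.helper12.PullTensor

section abelian

variable {C : Type*} [Category C] [Abelian C]

/-- the pullback of a short exact sequence along a morphism to its cokernel -/
theorem shortExact_pullback (S : ShortComplex C) (hS : S.ShortExact) {G : C} (i : G ⟶ S.X₃) :
    ∃ (f' : S.X₁ ⟶ pullback S.g i) (w : f' ≫ pullback.snd S.g i = 0),
      f' ≫ pullback.fst S.g i = S.f ∧
      (ShortComplex.mk f' (pullback.snd S.g i) w).ShortExact := by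
  haveI := hS.mono_f
  haveI := hS.epi_g
  have hc : S.f ≫ S.g = (0 : S.X₁ ⟶ G) ≫ i := by rw [S.zero, zero_comp]
  let f' : S.X₁ ⟶ pullback S.g i := pullback.lift S.f (0 : S.X₁ ⟶ G) hc
  have hf1 : f' ≫ pullback.fst S.g i = S.f := pullback.lift_fst _ _ _
  have w : f' ≫ pullback.snd S.g i = 0 := pullback.lift_snd _ _ _
  refine ⟨f', w, hf1, ?_⟩
  haveI : Mono f' := mono_of_mono_fac hf1
  have hk : IsLimit (KernelFork.ofι f' w) := by
    refine KernelFork.IsLimit.ofι _ _
      (fun {W} t ht => hS.fIsKernel.lift (KernelFork.ofι (t ≫ pullback.fst S.g i) (by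
        rw [Category.assoc, pullback.condition, ← Category.assoc, ht, zero_comp])))
      (fun {W} t ht => ?_) (fun {W} t ht m hm => ?_)
    · apply pullback.hom_ext
      · rw [Category.assoc, hf1]
        exact Fork.IsLimit.lift_ι _
      · rw [Category.assoc, w, comp_zero, ht]
    · rw [← cancel_mono S.f]
      have h1 : hS.fIsKernel.lift (KernelFork.ofι (t ≫ pullback.fst S.g i) (by
        rw [Category.assoc, pullback.condition, ← Category.assoc, ht, zero_comp])) ≫ S.f =
          t ≫ pullback.fst S.g i := Fork.IsLimit.lift_ι _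
      rw [h1, ← hm, Category.assoc, hf1]
  exact
    { exact := ShortComplex.exact_of_f_is_kernel _ hk
      mono_f := inferInstanceAs (Mono f')
      epi_g := inferInstanceAs (Epi (pullback.snd S.g i)) }

end abelian

section general

variable {X : Scheme.{u}}

theorem secHom_injective (F : X.Modules) : Function.Injective (secHom F) := by
  have h := (injective_iff_map_eq_zero (secHomAdd F)).mpr
    (fun x hx => (secHom_eq_zero_iff F x).mp hx)
  exact h

set_option maxHeartbeats 1600000 in
/-- if `H¹(M ⊗ B^∨) = 0` and `H¹(A ⊗ B^∨) ≠ 0` for `0 → A → M → Q → 0`, some pullback extension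
`0 → A → E → B → 0` along `p : B ⟶ Q` does not split -/
theorem exists_nonsplit_pullback (S : ShortComplex X.Modules) (hS : S.ShortExact) {B : X.Modules}
    (hB : FlatMod.IsFinLocFree B)
    (h1 : Subsingleton (Coh.HH X (CohB1.tensorMod S.X₂ (dualMod B)) 1))
    (hnt : Nontrivial (Coh.HH X (CohB1.tensorMod S.X₁ (dualMod B)) 1)) :
    ∃ p : B ⟶ S.X₃, ¬ IsSplitEpi (pullback.snd S.g p) := by
  haveI : PreservesFiniteLimits (tens X.sheaf (dualMod B)) := preservesFiniteLimits_tens_dualMod hB
  haveI : PreservesFiniteColimits (tens X.sheaf (dualMod B)) := preservesFiniteColimits_tens (dualMod B)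
  haveI : (tens X.sheaf (dualMod B)).Additive := additive_tens' _
  have hS' : (S.map (tens X.sheaf (dualMod B))).ShortExact := hS.map_of_exact _
  obtain ⟨z, hz⟩ := exists_ne (0 : Coh.HH X (CohB1.tensorMod S.X₁ (dualMod B)) 1)
  obtain ⟨q, hq⟩ := HH.surjective_δ hS' 0 h1 z
  obtain ⟨p, h3⟩ : ∃ p : B ⟶ S.X₃, secEquiv hB S.X₃ p = secHom _ q :=
    ⟨_, Equiv.apply_symm_apply _ _⟩
  refine ⟨p, ?_⟩
  rintro ⟨⟨σ, hσ⟩⟩
  have hl : (σ ≫ pullback.fst S.g p) ≫ S.g = p := by
    rw [Category.assoc, pullback.condition, ← Category.assoc, hσ, Category.id_comp]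
  obtain ⟨y, hy⟩ := secHom_surjective _ (secEquiv hB S.X₂ (σ ≫ pullback.fst S.g p))
  have h2 : secHom _ (HH.map ((tens X.sheaf (dualMod B)).map S.g) 0 y) =
      secHom _ y ≫ (tens X.sheaf (dualMod B)).map S.g := secHom_naturality _ y
  have h4 : secHom _ (HH.map ((tens X.sheaf (dualMod B)).map S.g) 0 y) = secHom _ q := by
    rw [h2, hy, ← h3]
    have h6 := secEquiv_comp hB (σ ≫ pullback.fst S.g p) S.g
    rw [hl] at h6
    rw [h6, ← Groth.Agent.Lib.helper11.Bidual.tens_map]
  have h5 : HH.map ((tens X.sheaf (dualMod B)).map S.g) 0 y = q := secHom_injective _ h4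
  apply hz
  rw [← hq, ← h5]
  exact (HH.exact₃ hS' 0 _).2 ⟨y, rfl⟩

end general

section curve

variable (k : Type u) [Field k] [IsAlgClosed k] (X : Scheme.{u}) [X.Over (Spec (CommRingCat.of k))]
  [IsProper (X ↘ Spec (CommRingCat.of k))] [IsIntegral X]

/-- the arithmetic behind the choice of the twist in `exists_nonsplit_extension` -/
theorem twist_arith {a b s dA dB dH c gg n : ℤ} (ha : 1 ≤ a) (hb : 1 ≤ b) (hs : 1 ≤ s) (hg : 0 ≤ gg)
    (hn : n = |dB| + |c| + |dA| + gg + 1) (h5 : dH * b ≤ dB * s) :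
    (dH + s * c) * a < (dA + a * n) * s := by
  have e1 : dB ≤ |dB| := le_abs_self _
  have e2 : c ≤ |c| := le_abs_self _
  have e3 : -dA ≤ |dA| := neg_le_abs _
  have p1 : 0 ≤ |dB| := abs_nonneg _
  have p2 : 0 ≤ |c| := abs_nonneg _
  have p3 : 0 ≤ |dA| := abs_nonneg _
  have ha0 : (0 : ℤ) ≤ a := by linarith
  have hb0 : (0 : ℤ) ≤ b := by linarith
  have hs0 : (0 : ℤ) < s := by linarith
  have t1 : 0 ≤ b * (dA + a * |dA|) := by
    apply mul_nonneg hb0
    nlinarith
  have t2 : 0 ≤ a * (b * |dB| - dB) := by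
    apply mul_nonneg ha0
    nlinarith
  have t3 : 0 ≤ a * b * (|c| - c) := by
    apply mul_nonneg (mul_nonneg ha0 hb0)
    linarith
  have t4 : 0 ≤ a * b * gg := mul_nonneg (mul_nonneg ha0 hb0) hg
  have t5 : 1 ≤ a * b := by nlinarith
  have key : a * (dB + c * b) < (dA + a * n) * b := by
    have : (dA + a * n) * b - a * (dB + c * b) =
        b * (dA + a * |dA|) + a * (b * |dB| - dB) + a * b * (|c| - c) + a * b * gg + a * b := by
      rw [hn]; ring
    linarith
  by_contra hcon
  push Not at hcon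
  have q1 := mul_le_mul_of_nonneg_right hcon hb0
  have q2 := mul_le_mul_of_nonneg_right h5 ha0
  have q3 := mul_lt_mul_of_pos_left key hs0
  nlinarith

set_option maxHeartbeats 1600000 in
/-- on a curve, if `A`, `B` are semistable bundles with `H¹(A ⊗ B^∨) ≠ 0`, there is a non-split extension
`0 → A → E → B → 0` with `E` finite locally free -/
theorem exists_nonsplit_extension (h0 : finrank k (Coh.HH X (Coh.structureModule X) 0) = 1)
    (hP : PIDStalks X) (hdim : topologicalKrullDim X = 1) {A B : X.Modules} {a b : ℕ}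
    (ha : 0 < a) (hb : 0 < b)
    (hA : FlatMod.IsFinLocFreeOfRank a A) (hB : FlatMod.IsFinLocFreeOfRank b B)
    (hAss : ∀ (G : X.Modules) (r' : ℕ) (i : G ⟶ A), Mono i → 0 < r' → FlatMod.IsFinLocFreeOfRank r' G →
      Curv2.deg k X G r' * (a : ℤ) ≤ Curv2.deg k X A a * (r' : ℤ))
    (hBss : ∀ (G : X.Modules) (r' : ℕ) (i : G ⟶ B), Mono i → 0 < r' → FlatMod.IsFinLocFreeOfRank r' G →
      Curv2.deg k X G r' * (b : ℤ) ≤ Curv2.deg k X B b * (r' : ℤ))
    (hnt : Nontrivial (Coh.HH X (CohB1.tensorMod A (dualMod B)) 1)) :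
    ∃ (E : X.Modules) (f : A ⟶ E) (g : E ⟶ B) (w : f ≫ g = 0),
      (ShortComplex.mk f g w).ShortExact ∧ FlatMod.IsFinLocFreeOfRank (a + b) E ∧ ¬ IsSplitEpi g := by
  haveI := Groth.Agent.Lib.Lead.CurveEuler.isNoetherian k X
  have hg0 : (0 : ℤ) ≤ (Curv2.genus k X : ℤ) := Int.natCast_nonneg _
  obtain ⟨N, hN, hdN⟩ := exists_invertible_deg k X hP hdim
    (|Curv2.deg k X B b| + |2 * (Curv2.genus k X : ℤ) - 2| + |Curv2.deg k X A a| +
      (Curv2.genus k X : ℤ) + 1)
  have hNc := Groth.Agent.Lib.Lead.CurveInv.isCoh_of_isInvertible X hN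
  have hrrN := Groth.Agent.Lib.Lead.CurveEuler.riemann_roch' k X hdim.le h0 N hNc.1 1
  have hpos : 0 < finrank k (Coh.HH X N 0) := by
    have h3 : (0 : ℤ) ≤ (finrank k (Coh.HH X N 1) : ℤ) := Int.natCast_nonneg _
    have : (0 : ℤ) < (finrank k (Coh.HH X N 0) : ℤ) := by
      have := abs_nonneg (Curv2.deg k X B b)
      have := abs_nonneg (Curv2.deg k X A a)
      have := abs_nonneg (2 * (Curv2.genus k X : ℤ) - 2)
      rw [hdN] at hrrN
      push_cast at hrrN
      linarith
    exact_mod_cast this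
  obtain ⟨s, hs⟩ := Groth.Agent.Lib.Lead.CurveSec.exists_hom_ne_zero_of_finrank_pos k X N hpos
  haveI : Mono s := mono_of_ne_zero_of_isInvertible k X hP
    (Groth.Agent.Lib.helper11.InvMod.isInvertible_structureModule X) hN s hs
  have hAf := isFinLocFree_of_isFinLocFreeOfRank hA
  have hBf := isFinLocFree_of_isFinLocFreeOfRank hB
  haveI : Mono (tensorMap (𝟙 A) s) :=
    Groth.Agent.Lib.helper9.CurveHopf.mono_tensorMap_right_of_isFinLocFree s hAf
  let j : A ⟶ CohB1.tensorMod A N := (rightUnitor A).inv ≫ tensorMap (𝟙 A) s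
  haveI : Mono j := mono_comp _ _
  obtain ⟨hM, hdM⟩ := deg_tensor_invertible k X hdim.le hA hN
  have hMss := slope_tensor_invertible k X hdim.le 0 hA hN (by simpa using hAss)
  have h1 : Subsingleton (Coh.HH X (CohB1.tensorMod (CohB1.tensorMod A N) (dualMod B)) 1) := by
    refine subsingleton_H1_tensor_dual k X h0 hP hdim ha hM hB (fun G r' i hi hr' hG => ?_)
      (fun H s i hi hs hH => ?_)
    · have := hMss G r' i hi hr' hG
      simpa using this
    · have h5 := hBss H s i hi hs hH
      rw [hdM]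
      exact twist_arith (by exact_mod_cast ha) (by exact_mod_cast hb) (by exact_mod_cast hs) hg0 hdN h5
  let S₀ : ShortComplex X.Modules := ShortComplex.mk j (cokernel.π j) (cokernel.condition j)
  have hS₀ : S₀.ShortExact := shortExact_cokernel X j
  obtain ⟨p, hp⟩ := exists_nonsplit_pullback S₀ hS₀ hBf h1 hnt
  obtain ⟨f', w, hf1, hT⟩ := shortExact_pullback S₀ hS₀ p
  refine ⟨pullback S₀.g p, f', pullback.snd S₀.g p, w, hT, ?_, hp⟩
  have hAc := Groth.Agent.Lib.Lead.RankAdd.isCoh_of_isFinLocFreeOfRank hA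
  have hBc := Groth.Agent.Lib.Lead.RankAdd.isCoh_of_isFinLocFreeOfRank hB
  have hEc : Coh.IsCoh (pullback S₀.g p) := Groth.Agent.Lib.Lead.HilbPos.isCoh_of_extension _ hT hAc hBc
  haveI : Mono (biprod.lift (pullback.fst S₀.g p) (pullback.snd S₀.g p)) := by
    constructor
    intro Z u v huv
    apply pullback.hom_ext
    · have := congrArg (· ≫ biprod.fst) huv
      simpa using this
    · have := congrArg (· ≫ biprod.snd) huv
      simpa using this
  have hEf := isFinLocFree_of_mono hP hEc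
    (isFinLocFree_biprod (isFinLocFree_of_isFinLocFreeOfRank hM) hBf)
    (biprod.lift (pullback.fst S₀.g p) (pullback.snd S₀.g p))
  obtain ⟨e, he⟩ := exists_rank_of_isFinLocFree hEf
  have hrk := Groth.Agent.Lib.Lead.RankAdd.rank_add_of_shortExact _ hT a e b hA he hB
  subst hrk
  exact he

end curve

end Groth.Agent.Lib.Lead.VBCurve
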