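import Mathlib
import Groth.Agent.Lib.Lead.VBCurve33

/-!
# Stable bundles of coprime rank and degree on a curve of genus one (lead)

* `farey_split`, `farey_gap`: the arithmetic of Farey neighbours.
* `stable_of_nonsplit_farey`: a non-split extension of a stable `F₂` by a semistable `F₁` with
  `d₂ r₁ − d₁ r₂ = 1` is stable.
* `ss_of_extension`: an extension of semistable bundles of the same slope is semistable.
* `exists_stable_of_coprime`: on a curve of genus one, stable bundles of every coprime rank and degree exist.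
* `exists_semistable`: on a curve of genus one, semistable bundles of every rank and degree exist.
-/

set_option autoImplicit false
set_option linter.style.haveILetI false
set_option linter.unusedSectionVars false
set_option backward.isDefEq.respectTransparency false
universe u
open CategoryTheory CategoryTheory.Limits AlgebraicGeometry Opposite TopologicalSpace Module

namespace Groth.Agent.Lib.Lead.VBCurve

open Groth.Agent.Lib.Lead.ModTensor Groth.Agent.Lib.Helper20.TensorEquiv Groth.Agent.Lib.Helper18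
open Groth.Agent.Lib.helper9.CurveVanish Groth.Agent.Lib.helper21.FLFDual Groth.Agent.Lib.helper11.Bidual
open Groth.Agent.Lib.helper11.FibLift Groth.Agent.Lib.helper12.InvDual Groth.Agent.Lib.Helper21.TensorAdj
open Groth.Agent.Lib.helper16.FLF Groth.Agent.Lib.helper11.IsoLocus Scheme.Modules
open Groth.Agent.Lib.helper12.PullTensor

section arith

/-- a coprime pair `(d, r)` with `r ≥ 2` splits as a sum of Farey neighbours -/
theorem farey_split (r : ℕ) (d : ℤ) (hr : 2 ≤ r) (hcop : Int.gcd d r = 1) :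
    ∃ (r₁ r₂ : ℕ) (d₁ d₂ : ℤ), 0 < r₁ ∧ 0 < r₂ ∧ r₁ + r₂ = r ∧ d₁ + d₂ = d ∧
      d₂ * (r₁ : ℤ) - d₁ * (r₂ : ℤ) = 1 := by
  have hb := Int.gcd_eq_gcd_ab d r
  rw [hcop] at hb
  obtain ⟨u, hu⟩ : ∃ u : ℤ, u = Int.gcdA d r := ⟨_, rfl⟩
  obtain ⟨v, hv⟩ : ∃ v : ℤ, v = Int.gcdB d r := ⟨_, rfl⟩
  rw [← hu, ← hv] at hb
  have hr0 : (0 : ℤ) < (r : ℤ) := by exact_mod_cast (by omega : 0 < r)
  obtain ⟨t, ht⟩ : ∃ t : ℤ, t = u % (r : ℤ) := ⟨_, rfl⟩
  have ht0 : 0 ≤ t := by rw [ht]; exact Int.emod_nonneg _ (by omega)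
  have htr : t < (r : ℤ) := by rw [ht]; exact Int.emod_lt_of_pos _ hr0
  have hu' : t + (r : ℤ) * (u / (r : ℤ)) = u := by rw [ht]; exact Int.emod_add_mul_ediv u r
  obtain ⟨m, hm⟩ : ∃ m : ℤ, m = -v - d * (u / (r : ℤ)) := ⟨_, rfl⟩
  have hdt : d * t = 1 + (r : ℤ) * m := by
    rw [hm]
    have : d * u = d * t + d * ((r : ℤ) * (u / (r : ℤ))) := by rw [← mul_add, hu']
    push_cast at hb
    linarith
  have htne : t ≠ 0 := by
    intro h0
    rw [h0, mul_zero] at hdt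
    have hdvd : (r : ℤ) ∣ 1 := ⟨-m, by linarith⟩
    have := Int.le_of_dvd one_pos hdvd
    omega
  obtain ⟨r₁, hr₁⟩ : ∃ r₁ : ℕ, (r₁ : ℤ) = t := ⟨t.toNat, Int.toNat_of_nonneg ht0⟩
  have hr₁lt : r₁ < r := by exact_mod_cast (hr₁ ▸ htr : (r₁ : ℤ) < (r : ℤ))
  have hr₁pos : 0 < r₁ := by
    rcases Nat.eq_zero_or_pos r₁ with h | h
    · exfalso; apply htne; rw [← hr₁, h]; simp
    · exact h
  refine ⟨r₁, r - r₁, m, d - m, hr₁pos, by omega, by omega, by ring, ?_⟩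
  rw [Nat.cast_sub hr₁lt.le, hr₁]
  linarith

/-- no fraction with denominator `< r₁ + r₂` lies strictly between Farey neighbours -/
theorem farey_gap {r₁ r₂ s d₁ d₂ e : ℤ} (h1 : 0 < r₁) (h2 : 0 < r₂) (hdet : d₂ * r₁ - d₁ * r₂ = 1)
    (hs : s < r₁ + r₂) (hge : (d₁ + d₂) * s ≤ e * (r₁ + r₂)) : d₂ * s ≤ e * r₂ := by
  by_contra hcon
  push Not at hcon
  have hx : 1 ≤ d₂ * s - e * r₂ := by linarith
  have hy : 1 ≤ e * r₁ - d₁ * s := by linarith
  have hid : s = r₁ * (d₂ * s - e * r₂) + r₂ * (e * r₁ - d₁ * s) := by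
    have : s * (d₂ * r₁ - d₁ * r₂) = r₁ * (d₂ * s - e * r₂) + r₂ * (e * r₁ - d₁ * s) := by ring
    rw [hdet, mul_one] at this
    exact this
  have q1 : r₁ * 1 ≤ r₁ * (d₂ * s - e * r₂) := mul_le_mul_of_nonneg_left hx h1.le
  have q2 : r₂ * 1 ≤ r₂ * (e * r₁ - d₁ * s) := mul_le_mul_of_nonneg_left hy h2.le
  linarith

end arith

section curve

variable (k : Type u) [Field k] [IsAlgClosed k] (X : Scheme.{u}) [X.Over (Spec (CommRingCat.of k))]
  [IsProper (X ↘ Spec (CommRingCat.of k))] [IsIntegral X]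

/-- semistability, in the form used in the statements -/
abbrev SS (F : X.Modules) (r : ℕ) : Prop :=
  ∀ (G : X.Modules) (r' : ℕ) (i : G ⟶ F), Mono i → 0 < r' → FlatMod.IsFinLocFreeOfRank r' G →
    Curv2.deg k X G r' * (r : ℤ) ≤ Curv2.deg k X F r * (r' : ℤ)

/-- stability, in the form used in the statements -/
abbrev St (F : X.Modules) (r : ℕ) : Prop :=
  ∀ (G : X.Modules) (r' : ℕ) (i : G ⟶ F), Mono i → 0 < r' → FlatMod.IsFinLocFreeOfRank r' G → (¬ IsIso i) →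
    Curv2.deg k X G r' * (r : ℤ) < Curv2.deg k X F r * (r' : ℤ)

theorem deg_lt_of_not_isIso (hdim : topologicalKrullDim X ≤ 1) {G F : X.Modules} {r : ℕ}
    (hG : FlatMod.IsFinLocFreeOfRank r G) (hF : FlatMod.IsFinLocFreeOfRank r F) (i : G ⟶ F) [Mono i]
    (hi : ¬ IsIso i) : Curv2.deg k X G r < Curv2.deg k X F r := by
  have h1 := deg_le k X hdim hG hF i
  rcases h1.lt_or_eq with h | h
  · exact h
  · exact absurd (isIso_of_deg_eq k X hdim hG hF i h) hi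

theorem ss_of_st {F : X.Modules} {r : ℕ}
    (hF : FlatMod.IsFinLocFreeOfRank r F) (h : St k X F r) : SS k X F r := by
  intro G r' i hi hr' hG
  haveI := hi
  by_cases hiso : IsIso i
  · haveI := hiso
    have h1 : r' ≤ r := rank_le_of_mono X hG hF i
    have h2 : r ≤ r' := rank_le_of_mono X hF hG (inv i)
    have h3 : r' = r := le_antisymm h1 h2
    subst h3
    rw [Groth.Agent.Lib.Lead.CurveEuler.deg_eq_of_iso k X (asIso i) r']
  · exact (h G r' i hi hr' hG hiso).le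

theorem secEquiv_zero {F : X.Modules} (hF : FlatMod.IsFinLocFree F) (G : X.Modules) :
    secEquiv hF G (0 : F ⟶ G) = 0 := by
  haveI : (tens X.sheaf (dualMod F)).Additive := additive_tens' _
  have h := secEquiv_comp hF (0 : F ⟶ G) (0 : G ⟶ G)
  rw [comp_zero, ← Groth.Agent.Lib.helper11.Bidual.tens_map, Functor.map_zero, comp_zero] at h
  exact h

set_option maxHeartbeats 1600000 in
/-- a non-split extension of a stable `F₂` by a semistable `F₁` with `d₂ r₁ − d₁ r₂ = 1` is stable -/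
theorem stable_of_nonsplit_farey (hP : PIDStalks X) (hdim : topologicalKrullDim X ≤ 1)
    (T : ShortComplex X.Modules) (hT : T.ShortExact) {r₁ r₂ : ℕ} (hr₁ : 0 < r₁) (hr₂ : 0 < r₂)
    (h₁ : FlatMod.IsFinLocFreeOfRank r₁ T.X₁) (h₂ : FlatMod.IsFinLocFreeOfRank (r₁ + r₂) T.X₂)
    (h₃ : FlatMod.IsFinLocFreeOfRank r₂ T.X₃)
    (hdet : Curv2.deg k X T.X₃ r₂ * (r₁ : ℤ) - Curv2.deg k X T.X₁ r₁ * (r₂ : ℤ) = 1)
    (hss₁ : SS k X T.X₁ r₁) (hst₃ : St k X T.X₃ r₂) (hns : ¬ IsSplitEpi T.g) :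
    St k X T.X₂ (r₁ + r₂) := by
  haveI := Groth.Agent.Lib.Lead.CurveEuler.isNoetherian k X
  haveI := hT.mono_f
  haveI := hT.epi_g
  have hc₁ := Groth.Agent.Lib.Lead.RankAdd.isCoh_of_isFinLocFreeOfRank h₁
  have hc₃ := Groth.Agent.Lib.Lead.RankAdd.isCoh_of_isFinLocFreeOfRank h₃
  have hadd := Groth.Agent.Lib.Lead.ProperEuler.deg_additive k hT hc₁ hc₃ r₁ (r₁ + r₂) r₂ rfl
  have hr₁' : (0 : ℤ) < (r₁ : ℤ) := by exact_mod_cast hr₁
  have hr₂' : (0 : ℤ) < (r₂ : ℤ) := by exact_mod_cast hr₂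
  intro G s i hi hs hG hniso
  haveI := hi
  have hsr : s ≤ r₁ + r₂ := rank_le_of_mono X hG h₂ i
  rcases hsr.eq_or_lt with heq | hlt
  · subst heq
    have h4 := deg_lt_of_not_isIso k X hdim hG h₂ i hniso
    have hpos : (0 : ℤ) < ((r₁ + r₂ : ℕ) : ℤ) := by exact_mod_cast (by omega : 0 < r₁ + r₂)
    exact mul_lt_mul_of_pos_right h4 hpos
  · by_contra hcon
    push Not at hcon
    obtain ⟨c, hc⟩ : ∃ c : G ⟶ T.X₃, c = i ≫ T.g := ⟨_, rfl⟩
    obtain ⟨rK, rI, hK, hI, hrr, hdeg, hpos, hmono, hK0⟩ := kernel_image_data k X hP hG h₃ c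
    have hw : (kernel.ι c ≫ i) ≫ T.g = 0 := by
      rw [Category.assoc, ← hc]; exact kernel.condition c
    have hl : hT.exact.lift (kernel.ι c ≫ i) hw ≫ T.f = kernel.ι c ≫ i := hT.exact.lift_f _ _
    haveI : Mono (kernel.ι c ≫ i) := mono_comp _ _
    haveI : Mono (hT.exact.lift (kernel.ι c ≫ i) hw) := mono_of_mono_fac hl
    have hs' : (s : ℤ) < (r₁ : ℤ) + (r₂ : ℤ) := by exact_mod_cast hlt
    have hge : (Curv2.deg k X T.X₁ r₁ + Curv2.deg k X T.X₃ r₂) * (s : ℤ) ≤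
        Curv2.deg k X G s * ((r₁ : ℤ) + (r₂ : ℤ)) := by
      rw [hadd] at hcon
      push_cast at hcon
      exact hcon
    have hgap := farey_gap hr₁' hr₂' hdet hs' hge
    have hKb : Curv2.deg k X (kernel c) rK * (r₁ : ℤ) ≤ Curv2.deg k X T.X₁ r₁ * (rK : ℤ) := by
      rcases Nat.eq_zero_or_pos rK with h0 | h0
      · rw [hK0 h0, h0]; simp
      · exact hss₁ _ rK (hT.exact.lift (kernel.ι c ≫ i) hw) inferInstance h0 hK
    have hIb : Curv2.deg k X (Abelian.image c) rI * (r₂ : ℤ) ≤ Curv2.deg k X T.X₃ r₂ * (rI : ℤ) := by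
      rcases Nat.eq_zero_or_pos rI with h0 | h0
      · subst h0
        rw [deg_zero_of_isZero k X (isZero_of_isFinLocFreeOfRank_zero hI)]; simp
      · exact ss_of_st k X h₃ hst₃ _ rI (Abelian.image.ι c) inferInstance h0 hI
    have hs2 : (s : ℤ) = (rK : ℤ) + (rI : ℤ) := by exact_mod_cast hrr
    have hrK0 : rK = 0 := by
      by_contra hne
      have hrKpos : (0 : ℤ) < (rK : ℤ) := by exact_mod_cast Nat.pos_of_ne_zero hne
      rw [hdeg, hs2] at hgap
      have a1 : Curv2.deg k X T.X₃ r₂ * (rK : ℤ) ≤ Curv2.deg k X (kernel c) rK * (r₂ : ℤ) := by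
        linarith
      have a2 := mul_le_mul_of_nonneg_right a1 hr₁'.le
      have a3 := mul_le_mul_of_nonneg_right hKb hr₂'.le
      have a4 : (Curv2.deg k X T.X₃ r₂ * (r₁ : ℤ) - Curv2.deg k X T.X₁ r₁ * (r₂ : ℤ)) * (rK : ℤ) ≤ 0 := by
        linarith
      rw [hdet, one_mul] at a4
      linarith
    haveI : Mono c := hmono hrK0
    have hrIs : rI = s := by omega
    have hIiso : IsIso (Abelian.image.ι c) := by
      by_contra hni
      have hrIpos : 0 < rI := by omega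
      have h5 := hst₃ _ rI (Abelian.image.ι c) inferInstance hrIpos hI hni
      rw [hdeg, hK0 hrK0, zero_add] at hgap
      subst hrIs
      linarith
    haveI : Epi c := by rw [← Abelian.image.fac c]; exact epi_comp _ _
    haveI : IsIso c := isIso_of_mono_of_epi c
    exact hns ⟨⟨inv c ≫ i, by rw [Category.assoc, ← hc]; exact IsIso.inv_hom_id c⟩⟩

/-- an extension of semistable bundles of the same slope is semistable -/
theorem ss_of_extension (hP : PIDStalks X) (hdim : topologicalKrullDim X ≤ 1)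
    (T : ShortComplex X.Modules) (hT : T.ShortExact) {r₁ r₂ : ℕ} (hr₁ : 0 < r₁) (hr₂ : 0 < r₂)
    (h₁ : FlatMod.IsFinLocFreeOfRank r₁ T.X₁) (h₂ : FlatMod.IsFinLocFreeOfRank (r₁ + r₂) T.X₂)
    (h₃ : FlatMod.IsFinLocFreeOfRank r₂ T.X₃)
    (hslope : Curv2.deg k X T.X₁ r₁ * (r₂ : ℤ) = Curv2.deg k X T.X₃ r₂ * (r₁ : ℤ))
    (hss₁ : SS k X T.X₁ r₁) (hss₃ : SS k X T.X₃ r₂) :
    SS k X T.X₂ (r₁ + r₂) := by
  haveI := Groth.Agent.Lib.Lead.CurveEuler.isNoetherian k X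
  haveI := hT.mono_f
  haveI := hT.epi_g
  have hc₁ := Groth.Agent.Lib.Lead.RankAdd.isCoh_of_isFinLocFreeOfRank h₁
  have hc₃ := Groth.Agent.Lib.Lead.RankAdd.isCoh_of_isFinLocFreeOfRank h₃
  have hadd := Groth.Agent.Lib.Lead.ProperEuler.deg_additive k hT hc₁ hc₃ r₁ (r₁ + r₂) r₂ rfl
  have hr₁' : (0 : ℤ) < (r₁ : ℤ) := by exact_mod_cast hr₁
  have hr₂' : (0 : ℤ) < (r₂ : ℤ) := by exact_mod_cast hr₂
  intro G s i hi hs hG
  haveI := hi
  obtain ⟨c, hc⟩ : ∃ c : G ⟶ T.X₃, c = i ≫ T.g := ⟨_, rfl⟩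
  obtain ⟨rK, rI, hK, hI, hrr, hdeg, hpos, hmono, hK0⟩ := kernel_image_data k X hP hG h₃ c
  have hw : (kernel.ι c ≫ i) ≫ T.g = 0 := by
    rw [Category.assoc, ← hc]; exact kernel.condition c
  have hl : hT.exact.lift (kernel.ι c ≫ i) hw ≫ T.f = kernel.ι c ≫ i := hT.exact.lift_f _ _
  haveI : Mono (kernel.ι c ≫ i) := mono_comp _ _
  haveI : Mono (hT.exact.lift (kernel.ι c ≫ i) hw) := mono_of_mono_fac hl
  have hKb : Curv2.deg k X (kernel c) rK * (r₁ : ℤ) ≤ Curv2.deg k X T.X₁ r₁ * (rK : ℤ) := by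
    rcases Nat.eq_zero_or_pos rK with h0 | h0
    · rw [hK0 h0, h0]; simp
    · exact hss₁ _ rK (hT.exact.lift (kernel.ι c ≫ i) hw) inferInstance h0 hK
  have hIb : Curv2.deg k X (Abelian.image c) rI * (r₂ : ℤ) ≤ Curv2.deg k X T.X₃ r₂ * (rI : ℤ) := by
    rcases Nat.eq_zero_or_pos rI with h0 | h0
    · subst h0
      rw [deg_zero_of_isZero k X (isZero_of_isFinLocFreeOfRank_zero hI)]; simp
    · exact hss₃ _ rI (Abelian.image.ι c) inferInstance h0 hI
  have hs2 : (s : ℤ) = (rK : ℤ) + (rI : ℤ) := by exact_mod_cast hrr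
  rw [hadd, hdeg, hs2]
  push_cast
  have b1 : (r₁ : ℤ) * (Curv2.deg k X (kernel c) rK * ((r₁ : ℤ) + (r₂ : ℤ))) ≤
      (r₁ : ℤ) * ((Curv2.deg k X T.X₁ r₁ + Curv2.deg k X T.X₃ r₂) * (rK : ℤ)) := by
    have := mul_le_mul_of_nonneg_right hKb (add_pos hr₁' hr₂').le
    have e1 : Curv2.deg k X T.X₁ r₁ * (rK : ℤ) * ((r₁ : ℤ) + (r₂ : ℤ)) =
        (r₁ : ℤ) * ((Curv2.deg k X T.X₁ r₁ + Curv2.deg k X T.X₃ r₂) * (rK : ℤ)) := by
      have : Curv2.deg k X T.X₁ r₁ * (rK : ℤ) * (r₂ : ℤ) = Curv2.deg k X T.X₃ r₂ * (r₁ : ℤ) * (rK : ℤ) := by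
        rw [← hslope]; ring
      linear_combination this
    linarith
  have b2 : (r₂ : ℤ) * (Curv2.deg k X (Abelian.image c) rI * ((r₁ : ℤ) + (r₂ : ℤ))) ≤
      (r₂ : ℤ) * ((Curv2.deg k X T.X₁ r₁ + Curv2.deg k X T.X₃ r₂) * (rI : ℤ)) := by
    have := mul_le_mul_of_nonneg_right hIb (add_pos hr₁' hr₂').le
    have e1 : Curv2.deg k X T.X₃ r₂ * (rI : ℤ) * ((r₁ : ℤ) + (r₂ : ℤ)) =
        (r₂ : ℤ) * ((Curv2.deg k X T.X₁ r₁ + Curv2.deg k X T.X₃ r₂) * (rI : ℤ)) := by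
      have : Curv2.deg k X T.X₃ r₂ * (rI : ℤ) * (r₁ : ℤ) = Curv2.deg k X T.X₁ r₁ * (r₂ : ℤ) * (rI : ℤ) := by
        rw [hslope]; ring
      linear_combination this
    linarith
  have c1 := le_of_mul_le_mul_left b1 hr₁'
  have c2 := le_of_mul_le_mul_left b2 hr₂'
  linarith

set_option maxHeartbeats 1600000 in
/-- **Stable bundles of coprime type exist** on a curve of genus one -/
theorem exists_stable_of_coprime (hg : Curv2.genus k X = 1) (hP : PIDStalks X)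
    (hdim : topologicalKrullDim X = 1) :
    ∀ (r : ℕ), 0 < r → ∀ d : ℤ, Int.gcd d (r : ℤ) = 1 →
      ∃ F : X.Modules, FlatMod.IsFinLocFreeOfRank r F ∧ Curv2.deg k X F r = d ∧ St k X F r := by
  haveI := Groth.Agent.Lib.Lead.CurveEuler.isNoetherian k X
  have h0 := finrank_H0_structureModule_eq_one k X
  intro r
  induction r using Nat.strong_induction_on with
  | _ r ih =>
  intro hr d hcop
  rcases Nat.lt_or_ge r 2 with hlt | hge
  · have hr1 : r = 1 := by omega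
    subst hr1
    obtain ⟨L, hL, hdL⟩ := exists_invertible_deg k X hP hdim d
    have hL1 := (isInvertible_iff_isFinLocFreeOfRank_one _).mp hL
    refine ⟨L, hL1, hdL, ?_⟩
    intro G s i hi hs hG hniso
    haveI := hi
    have h1 : s ≤ 1 := rank_le_of_mono X hG hL1 i
    have h2 : s = 1 := by omega
    subst h2
    have := deg_lt_of_not_isIso k X hdim.le hG hL1 i hniso
    simpa using this
  · obtain ⟨r₁, r₂, d₁, d₂, hr₁, hr₂, hrr, hdd, hdet⟩ := farey_split r d hge hcop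
    have hc₁ : Int.gcd d₁ (r₁ : ℤ) = 1 := by
      rw [← Int.isCoprime_iff_gcd_eq_one]
      exact ⟨-(r₂ : ℤ), d₂, by linarith⟩
    have hc₂ : Int.gcd d₂ (r₂ : ℤ) = 1 := by
      rw [← Int.isCoprime_iff_gcd_eq_one]
      exact ⟨(r₁ : ℤ), -d₁, by linarith⟩
    obtain ⟨F₁, hF₁, hdF₁, hst₁⟩ := ih r₁ (by omega) hr₁ d₁ hc₁
    obtain ⟨F₂, hF₂, hdF₂, hst₂⟩ := ih r₂ (by omega) hr₂ d₂ hc₂
    have hss₁ := ss_of_st k X hF₁ hst₁
    have hss₂ := ss_of_st k X hF₂ hst₂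
    have hr₁' : (0 : ℤ) < (r₁ : ℤ) := by exact_mod_cast hr₁
    have hr₂' : (0 : ℤ) < (r₂ : ℤ) := by exact_mod_cast hr₂
    have hF₂f := isFinLocFree_of_isFinLocFreeOfRank hF₂
    have hD := isFinLocFreeOfRank_dualMod hF₂
    have hV := Groth.Agent.Lib.Helper18.EffCartierCurve.isFinLocFreeOfRank_tensor hF₁ hD
    have hVd := Groth.Agent.Lib.Helper18.DegTensor.deg_tensor k X hdim.le hF₁ hD
    have hdual := deg_dualMod_le k X hP hdim r₂ F₂ hF₂
    have hVc := Groth.Agent.Lib.Lead.RankAdd.isCoh_of_isFinLocFreeOfRank hV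
    have hrr' := Groth.Agent.Lib.Lead.CurveEuler.riemann_roch' k X hdim.le h0 _ hVc.1 (r₁ * r₂)
    rw [hg, hVd, hdF₁] at hrr'
    rw [hdF₂] at hdual
    have hH0 : finrank k (Coh.HH X (CohB1.tensorMod F₁ (dualMod F₂)) 0) = 0 := by
      by_contra hne
      obtain ⟨σ, hσ⟩ := Groth.Agent.Lib.Lead.CurveSec.exists_hom_ne_zero_of_finrank_pos k X _
        (Nat.pos_of_ne_zero hne)
      obtain ⟨u, hu⟩ : ∃ u : F₂ ⟶ F₁, secEquiv hF₂f F₁ u = σ := ⟨_, Equiv.apply_symm_apply _ _⟩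
      have hu0 : u ≠ 0 := by
        intro h
        apply hσ
        rw [← hu, h]
        exact secEquiv_zero X hF₂f F₁
      obtain ⟨rK, rI, hrI, -, -, hI, -, hIle, -⟩ := slope_image_ge k X hP hF₂ hF₁ hss₂ u hu0
      have h5 := hss₁ _ rI (Abelian.image.ι u) inferInstance hrI hI
      rw [hdF₁] at h5
      rw [hdF₂] at hIle
      have hrI' : (0 : ℤ) < (rI : ℤ) := by exact_mod_cast hrI
      have a2 := mul_le_mul_of_nonneg_right hIle hr₁'.le
      have a3 := mul_le_mul_of_nonneg_right h5 hr₂'.le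
      have a4 : (d₂ * (r₁ : ℤ) - d₁ * (r₂ : ℤ)) * (rI : ℤ) ≤ 0 := by linarith
      rw [hdet, one_mul] at a4
      linarith
    have hnt : Nontrivial (Coh.HH X (CohB1.tensorMod F₁ (dualMod F₂)) 1) := by
      apply Module.nontrivial_of_finrank_pos (R := k)
      rw [hH0] at hrr'
      push_cast at hrr'
      have : (0 : ℤ) < (finrank k (Coh.HH X (CohB1.tensorMod F₁ (dualMod F₂)) 1) : ℤ) := by
        have a5 := mul_le_mul_of_nonneg_left hdual hr₁'.le
        nlinarith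
      exact_mod_cast this
    obtain ⟨E, f, g, w, hT, hE, hns⟩ :=
      exists_nonsplit_extension k X h0 hP hdim hr₁ hr₂ hF₁ hF₂ hss₁ hss₂ hnt
    subst hrr
    have hst := stable_of_nonsplit_farey k X hP hdim.le (ShortComplex.mk f g w) hT hr₁ hr₂ hF₁ hE hF₂
      (by rw [hdF₁, hdF₂]; exact hdet) hss₁ hst₂ hns
    have hc₁' := Groth.Agent.Lib.Lead.RankAdd.isCoh_of_isFinLocFreeOfRank hF₁
    have hc₃' := Groth.Agent.Lib.Lead.RankAdd.isCoh_of_isFinLocFreeOfRank hF₂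
    have hadd := Groth.Agent.Lib.Lead.ProperEuler.deg_additive k hT hc₁' hc₃' r₁ (r₁ + r₂) r₂ rfl
    refine ⟨E, hE, ?_, hst⟩
    change Curv2.deg k X E (r₁ + r₂) = Curv2.deg k X F₁ r₁ + Curv2.deg k X F₂ r₂ at hadd
    rw [hadd, hdF₁, hdF₂, hdd]

set_option maxHeartbeats 1600000 in
/-- direct sums of copies of a semistable bundle are semistable -/
theorem exists_ss_multiple (hP : PIDStalks X) (hdim : topologicalKrullDim X = 1)
    {F : X.Modules} {r : ℕ} (hr : 0 < r) (hF : FlatMod.IsFinLocFreeOfRank r F) (hss : SS k X F r) :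
    ∀ h : ℕ, ∃ E : X.Modules, FlatMod.IsFinLocFreeOfRank ((h + 1) * r) E ∧
      Curv2.deg k X E ((h + 1) * r) = ((h : ℤ) + 1) * Curv2.deg k X F r ∧ SS k X E ((h + 1) * r) := by
  haveI := Groth.Agent.Lib.Lead.CurveEuler.isNoetherian k X
  intro h
  induction h with
  | zero =>
    refine ⟨F, by simpa using hF, by simp, ?_⟩
    simpa using hss
  | succ h ih =>
    obtain ⟨E, hE, hdE, hEss⟩ := ih
    have hrk : (h + 1 + 1) * r = r + (h + 1) * r := by ring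
    rw [hrk]
    have hB : FlatMod.IsFinLocFreeOfRank (r + (h + 1) * r) (F ⊞ E) := isFinLocFreeOfRank_biprod hF hE
    have hT : (ShortComplex.mk (biprod.inl : F ⟶ F ⊞ E) biprod.snd biprod.inl_snd).ShortExact :=
      (ShortComplex.Splitting.ofHasBinaryBiproduct F E).shortExact
    have hc₁ := Groth.Agent.Lib.Lead.RankAdd.isCoh_of_isFinLocFreeOfRank hF
    have hc₃ := Groth.Agent.Lib.Lead.RankAdd.isCoh_of_isFinLocFreeOfRank hE
    have hadd := Groth.Agent.Lib.Lead.ProperEuler.deg_additive k hT hc₁ hc₃ r (r + (h + 1) * r)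
      ((h + 1) * r) rfl
    change Curv2.deg k X (F ⊞ E) (r + (h + 1) * r) =
      Curv2.deg k X F r + Curv2.deg k X E ((h + 1) * r) at hadd
    have hpos : 0 < (h + 1) * r := Nat.mul_pos (Nat.succ_pos h) hr
    refine ⟨F ⊞ E, hB, ?_, ?_⟩
    · rw [hadd, hdE]; push_cast; ring
    · refine ss_of_extension k X hP hdim.le _ hT hr hpos hF hB hE ?_ hss hEss
      change Curv2.deg k X F r * (((h + 1) * r : ℕ) : ℤ) = Curv2.deg k X E ((h + 1) * r) * (r : ℤ)
      rw [hdE]; push_cast; ring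

/-- **Semistable bundles of every rank and degree exist** on a curve of genus one -/
theorem exists_semistable (hg : Curv2.genus k X = 1) (hP : PIDStalks X)
    (hdim : topologicalKrullDim X = 1) (r : ℕ) (hr : 0 < r) (d : ℤ) :
    ∃ F : X.Modules, FlatMod.IsFinLocFreeOfRank r F ∧ Curv2.deg k X F r = d ∧ SS k X F r := by
  obtain ⟨h, hh⟩ : ∃ h : ℕ, h = Int.gcd d (r : ℤ) := ⟨_, rfl⟩
  have hr' : (r : ℤ) ≠ 0 := by exact_mod_cast hr.ne'
  have hhpos : 0 < h := by rw [hh]; exact Int.gcd_pos_of_ne_zero_right _ hr'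
  have hdvd_r : (h : ℤ) ∣ (r : ℤ) := by rw [hh]; exact Int.gcd_dvd_right _ _
  have hdvd_d : (h : ℤ) ∣ d := by rw [hh]; exact Int.gcd_dvd_left _ _
  obtain ⟨r'', hr''⟩ := hdvd_r
  obtain ⟨d', hd'⟩ := hdvd_d
  have hhpos' : (0 : ℤ) < (h : ℤ) := by exact_mod_cast hhpos
  have hr''pos : 0 < r'' := by
    have : (0 : ℤ) < (h : ℤ) * r'' := by rw [← hr'']; exact_mod_cast hr
    by_contra hcon
    push Not at hcon
    have := mul_nonpos_of_nonneg_of_nonpos hhpos'.le hcon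
    linarith
  obtain ⟨r', hr'eq⟩ : ∃ r' : ℕ, (r' : ℤ) = r'' := ⟨r''.toNat, Int.toNat_of_nonneg hr''pos.le⟩
  have hr'pos : 0 < r' := by exact_mod_cast (hr'eq ▸ hr''pos : (0 : ℤ) < (r' : ℤ))
  have hcop : Int.gcd d' (r' : ℤ) = 1 := by
    have h1 : Int.gcd d (r : ℤ) = h * Int.gcd d' (r' : ℤ) := by
      rw [hd', hr'', hr'eq, Int.gcd_mul_left]
      simp
    rw [← hh] at h1
    have : h * 1 = h * Int.gcd d' (r' : ℤ) := by rw [mul_one]; exact h1
    exact (Nat.eq_of_mul_eq_mul_left hhpos this).symm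
  obtain ⟨F', hF', hdF', hst'⟩ := exists_stable_of_coprime k X hg hP hdim r' hr'pos d' hcop
  have hss' := ss_of_st k X hF' hst'
  obtain ⟨h₀, hh₀⟩ : ∃ h₀ : ℕ, h = h₀ + 1 := ⟨h - 1, by omega⟩
  obtain ⟨E, hE, hdE, hEss⟩ := exists_ss_multiple k X hP hdim hr'pos hF' hss' h₀
  have hrk : (h₀ + 1) * r' = r := by
    have : ((h₀ + 1 : ℕ) : ℤ) * (r' : ℤ) = (r : ℤ) := by rw [← hh₀, hr'', hr'eq]
    exact_mod_cast this
  rw [hrk] at hE hdE hEss
  refine ⟨E, hE, ?_, hEss⟩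
  rw [hdE, hdF', hd', hh₀]
  push_cast
  ring

end curve

end Groth.Agent.Lib.Lead.VBCurve
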