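import Mathlib
import Groth.Agent.Lib.Lead.VBCurve34

/-!
# Stability and coprimality on a curve of genus one (lead)

* `stable_of_coprime_of_ss`: a semistable bundle with `gcd(d, r) = 1` is stable.
* `exists_invertible_quotient_deg_le_one`: on a curve of genus one, a bundle `V` of rank `n ≥ 1` with `H¹(V) = 0` and
  `deg V ≤ n` has an invertible quotient of degree `≤ 1`.
* `false_of_invertible_quotient`: the slope obstruction to such a quotient of `F ⊗ B^∨`.
* `gcd_eq_one_of_stable`: on a curve of genus one, a stable bundle has coprime rank and degree.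
-/

set_option autoImplicit false
set_option linter.style.haveILetI false
set_option linter.unusedSectionVars false
set_option backward.isDefEq.respectTransparency false
universe u
open CategoryTheory CategoryTheory.Limits AlgebraicGeometry Opposite TopologicalSpace Module

namespace Groth.Agent.Lib.Lead.VBCurve

open Groth.Agent.Lib.Lead.ModTensor Groth.Agent.Lib.Helper20.TensorEquiv Groth.Agent.Lib.Helper18
open Groth.Agent.Lib.helper9.CurveVanish Groth.Agent.Lib.helper21.FLFDual Groth.Agent.Lib.helper11.Bidual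
open Groth.Agent.Lib.helper11.FibLift Groth.Agent.Lib.helper12.InvDual Groth.Agent.Lib.Helper21.TensorAdj
open Groth.Agent.Lib.helper16.FLF Groth.Agent.Lib.helper11.IsoLocus Scheme.Modules
open Groth.Agent.Lib.helper12.PullTensor Groth.Agent.Lib.Helper20.SplitH1

section curve

variable (k : Type u) [Field k] [IsAlgClosed k] (X : Scheme.{u}) [X.Over (Spec (CommRingCat.of k))]
  [IsProper (X ↘ Spec (CommRingCat.of k))] [IsIntegral X]

/-- stability in the internal form -/
theorem st_internal {F : X.Modules} {r : ℕ} (hF : FlatMod.IsFinLocFreeOfRank r F) (h : St k X F r) :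
    ∀ (G : X.Modules) (s : ℕ) (ι : G ⟶ F), Mono ι → 0 < s → s < r → FlatMod.IsFinLocFreeOfRank s G →
      Curv2.deg k X G s * (r : ℤ) < Curv2.deg k X F r * (s : ℤ) := by
  intro G s ι hι hs hsr hG
  haveI := hι
  refine h G s ι hι hs hG (fun hiso => ?_)
  haveI := hiso
  have : r ≤ s := rank_le_of_mono X hF hG (inv ι)
  omega

/-- a semistable bundle with coprime rank and degree is stable -/
theorem stable_of_coprime_of_ss (hdim : topologicalKrullDim X ≤ 1) {F : X.Modules} {r : ℕ}
    (hF : FlatMod.IsFinLocFreeOfRank r F) (hss : SS k X F r)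
    (hcop : Int.gcd (Curv2.deg k X F r) (r : ℤ) = 1) : St k X F r := by
  intro G s i hi hs hG hniso
  haveI := hi
  have hsr : s ≤ r := rank_le_of_mono X hG hF i
  rcases hsr.eq_or_lt with heq | hlt
  · subst heq
    have h4 := deg_lt_of_not_isIso k X hdim hG hF i hniso
    have hpos : (0 : ℤ) < (s : ℤ) := by exact_mod_cast hs
    exact mul_lt_mul_of_pos_right h4 hpos
  · rcases (hss G s i hi hs hG).lt_or_eq with h | h
    · exact h
    · exfalso
      have hc : IsCoprime (r : ℤ) (Curv2.deg k X F r) :=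
        (Int.isCoprime_iff_gcd_eq_one.mpr hcop).symm
      have hdvd : (r : ℤ) ∣ Curv2.deg k X F r * (s : ℤ) := ⟨Curv2.deg k X G s, by linarith⟩
      have hdvd2 : (r : ℤ) ∣ (s : ℤ) := hc.dvd_of_dvd_mul_left hdvd
      have hs' : (0 : ℤ) < (s : ℤ) := by exact_mod_cast hs
      have := Int.le_of_dvd hs' hdvd2
      have : r ≤ s := by exact_mod_cast this
      omega

include k in
omit [IsAlgClosed k] [IsIntegral X] in
/-- a map `O^m ⟶ E`, `m = h⁰(E)`, through which every section of `E` factors -/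
theorem exists_finite_sections_map' (E : X.Modules) (hE : Coh.IsCoh E) :
    ∃ (c : FlatMod.freeMod X (finrank k (Coh.HH X E 0)) ⟶ E), ∀ s : Coh.structureModule X ⟶ E,
      ∃ t : Coh.structureModule X ⟶ FlatMod.freeMod X (finrank k (Coh.HH X E 0)), t ≫ c = s := by
  haveI : Module.Finite k (Coh.HH X E 0) := Groth.Agent.Lib.Lead.ProperEuler.finite_HH k X _ hE 0
  let b := Module.finBasis k (Coh.HH X E 0)
  let c : FlatMod.freeMod X (finrank k (Coh.HH X E 0)) ⟶ E := Sigma.desc (fun i => secHom E (b i))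
  refine ⟨c, fun s => ?_⟩
  obtain ⟨x, rfl⟩ := secHom_surjective E s
  refine ⟨∑ i, Formal.smulModΓ (Coh.structureModule X)
    (Coh.toGlobal (X ↘ Spec (CommRingCat.of k)) (b.repr x i)) ≫
      Sigma.ι (fun _ : Fin (finrank k (Coh.HH X E 0)) => Coh.structureModule X) i, ?_⟩
  rw [Preadditive.sum_comp]
  have hx : x = ∑ i, b.repr x i • b i := (b.sum_repr x).symm
  have h1 : secHom E x = ∑ i, secHom E (b.repr x i • b i) := by
    conv_lhs => rw [hx]
    exact map_sum (secHomAdd E) _ _
  rw [h1]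
  refine Finset.sum_congr rfl (fun i _ => ?_)
  have h2 : (b.repr x i • b i : Coh.HH X E 0) =
      (Coh.toGlobal (X ↘ Spec (CommRingCat.of k)) (b.repr x i)) • b i := rfl
  rw [h2, secHom_smul, KLin.comp_smulModΓ, Category.assoc]
  congr 1
  exact colimit.ι_desc _ _

set_option maxHeartbeats 1600000 in
open Groth.Agent.Lib.helper11.InvMod in
/-- on a curve of genus one, a bundle `V` of rank `n + 1` with `H¹(V) = 0` and `deg V ≤ n + 1` has an invertible
quotient of degree `≤ 1` -/
theorem exists_invertible_quotient_deg_le_one (hg : Curv2.genus k X = 1) (hP : PIDStalks X)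
    (hdim : topologicalKrullDim X = 1) {n : ℕ} {V : X.Modules}
    (hV : FlatMod.IsFinLocFreeOfRank (n + 1) V) (h1 : Subsingleton (Coh.HH X V 1))
    (hdeg : Curv2.deg k X V (n + 1) ≤ (n : ℤ) + 1) :
    ∃ (M : X.Modules) (π : V ⟶ M), Epi π ∧ PicF.IsInvertible M ∧ Curv2.deg k X M 1 ≤ 1 := by
  haveI := Groth.Agent.Lib.Lead.CurveEuler.isNoetherian k X
  have h0 := finrank_H0_structureModule_eq_one k X
  have hVc := Groth.Agent.Lib.Lead.RankAdd.isCoh_of_isFinLocFreeOfRank hV
  obtain ⟨c, hcs⟩ := exists_finite_sections_map' k X V hVc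
  have hrr := Groth.Agent.Lib.Lead.CurveEuler.riemann_roch' k X hdim.le h0 V hVc.1 (n + 1)
  have hz : finrank k (Coh.HH X V 1) = 0 := finrank_zero_of_subsingleton
  rw [hz, hg] at hrr
  push_cast at hrr
  by_cases hc : Epi c
  · haveI := hc
    have hFree := isFinLocFreeOfRank_freeMod X (finrank k (Coh.HH X V 0))
    obtain ⟨rK, rI, hK, hI, hrr2, hdeg2, hpos, hmono, hK0⟩ := kernel_image_data k X hP hFree hV c
    haveI : Epi (Abelian.image.ι c) := epi_of_epi_fac (Abelian.image.fac c)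
    haveI : IsIso (Abelian.image.ι c) := isIso_of_mono_of_epi _
    have e1 : n + 1 ≤ rI := rank_le_of_mono X hV hI (inv (Abelian.image.ι c))
    have e2 : (finrank k (Coh.HH X V 0) : ℤ) ≤ (n : ℤ) + 1 := by linarith
    have e3 : finrank k (Coh.HH X V 0) ≤ n + 1 := by exact_mod_cast e2
    have hrK : rK = 0 := by omega
    haveI : Mono c := hmono hrK
    haveI : IsIso c := isIso_of_mono_of_epi c
    have hm : 0 < finrank k (Coh.HH X V 0) := by omega
    let q : FlatMod.freeMod X (finrank k (Coh.HH X V 0)) ⟶ Coh.structureModule X :=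
      Sigma.desc (fun j => if j = ⟨0, hm⟩ then 𝟙 _ else 0)
    have hq : Sigma.ι (fun _ : Fin (finrank k (Coh.HH X V 0)) => Coh.structureModule X) ⟨0, hm⟩ ≫ q =
        𝟙 _ := by
      have := colimit.ι_desc (Cofan.mk (Coh.structureModule X)
        (fun j : Fin (finrank k (Coh.HH X V 0)) => if j = ⟨0, hm⟩ then 𝟙 (Coh.structureModule X) else 0))
        ⟨⟨0, hm⟩⟩
      simpa [q] using this
    haveI : Epi q := epi_of_epi_fac hq
    refine ⟨Coh.structureModule X, inv c ≫ q, epi_comp _ _, isInvertible_structureModule X, ?_⟩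
    rw [Groth.Agent.Lib.Lead.CurveEuler.deg_structureModule k X]
    norm_num
  · obtain ⟨E'', ι'', c'', hι'', hcc, hE'', hdeg''⟩ := exists_modification_of_not_epi k X hP hdim hV c hc
    haveI := hι''
    have hE''c := Groth.Agent.Lib.Lead.RankAdd.isCoh_of_isFinLocFreeOfRank hE''
    have hsurj : Function.Surjective (HH.mapOver k ι'' 0) := by
      intro x
      obtain ⟨t, ht⟩ := hcs (secHom V x)
      refine ⟨(HH.equiv₀ E'').symm (((t ≫ c'').val.app (op ⊤)).hom (1 : X.ringCatSheaf.obj.obj (op ⊤))), ?_⟩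
      change HH.map ι'' 0 _ = x
      rw [HH.equiv₀_symm_naturality]
      apply (HH.equiv₀ V).injective
      rw [LinearEquiv.apply_symm_apply, ← secHom_top V x, ← ht, ← hcc]
      rfl
    haveI : Module.Finite k (Coh.HH X E'' 0) := Groth.Agent.Lib.Lead.ProperEuler.finite_HH k X _ hE''c 0
    haveI : Module.Finite k (Coh.HH X E'' 1) := Groth.Agent.Lib.Lead.ProperEuler.finite_HH k X _ hE''c 1
    have hle := LinearMap.finrank_le_finrank_of_surjective hsurj
    have hrr'' := Groth.Agent.Lib.Lead.CurveEuler.riemann_roch' k X hdim.le h0 E'' hE''c.1 (n + 1)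
    rw [hdeg'', hg] at hrr''
    push_cast at hrr''
    have hnt : Nontrivial (Coh.HH X E'' 1) := by
      apply Module.nontrivial_of_finrank_pos (R := k)
      have hle' : (finrank k (Coh.HH X V 0) : ℤ) ≤ (finrank k (Coh.HH X E'' 0) : ℤ) := by exact_mod_cast hle
      have : (0 : ℤ) < (finrank k (Coh.HH X E'' 1) : ℤ) := by linarith
      exact_mod_cast this
    obtain ⟨M, π, hπ, hM, hM1⟩ := exists_invertible_quotient_of_H1_nontrivial k X hP hdim _ _ hE'' hnt
    haveI := hπ
    have hdM := deg_le_of_H1_nontrivial k X hdim.le h0 hM hM1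
    rw [hg] at hdM
    obtain ⟨hS, hK, hdegK⟩ := kernel_data_of_epi k X hP hE'' hM π
    haveI : Mono (kernel.ι π ≫ ι'') := mono_comp _ _
    obtain ⟨G₁, l, ι₁, t, hm₁, hl, hG₁, hrk, hQ⟩ :=
      exists_saturation k X hP hdim.le hK hV (kernel.ι π ≫ ι'')
    haveI := hm₁
    haveI : Mono l := mono_of_mono_fac hl
    have ht : t = 1 := by omega
    subst ht
    have hQinv := (isInvertible_iff_isFinLocFreeOfRank_one _).mpr hQ
    have hS₁ := shortExact_cokernel X ι₁
    have hadd := Groth.Agent.Lib.Lead.ProperEuler.deg_additive k hS₁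
      (Groth.Agent.Lib.Lead.RankAdd.isCoh_of_isFinLocFreeOfRank hG₁)
      (Groth.Agent.Lib.Lead.RankAdd.isCoh_of_isFinLocFreeOfRank hQ) n (n + 1) 1 rfl
    change Curv2.deg k X V (n + 1) = Curv2.deg k X G₁ n + Curv2.deg k X (cokernel ι₁) 1 at hadd
    have hle2 := deg_le k X hdim.le hK hG₁ l
    refine ⟨cokernel ι₁, cokernel.π ι₁, inferInstance, hQinv, ?_⟩
    push_cast at hdM
    linarith

set_option maxHeartbeats 1600000 in
/-- the slope obstruction: a stable `F` of rank `r` and a semistable `B` of rank `r' < r` with `μ(B) + 1 ≤ μ(F)`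
admit no invertible quotient of `F ⊗ B^∨` of degree `≤ 1` -/
theorem false_of_invertible_quotient (hP : PIDStalks X) (hdim : topologicalKrullDim X ≤ 1)
    {F B M : X.Modules} {r r' : ℕ} (hr' : 0 < r') (hlt : r' < r)
    (hF : FlatMod.IsFinLocFreeOfRank r F) (hB : FlatMod.IsFinLocFreeOfRank r' B)
    (hst : St k X F r) (hBss : SS k X B r') (hM : PicF.IsInvertible M)
    (hdM : Curv2.deg k X M 1 ≤ 1)
    (hslope : (Curv2.deg k X B r' + (r' : ℤ)) * (r : ℤ) ≤ Curv2.deg k X F r * (r' : ℤ))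
    (π : CohB1.tensorMod F (dualMod B) ⟶ M) [Epi π] : False := by
  have hBf := isFinLocFree_of_isFinLocFreeOfRank hB
  have hMnz := not_isZero_of_isInvertible (X := X) hM
  have hπ0 : π ≠ 0 := by
    intro h
    apply hMnz
    rw [IsZero.iff_id_eq_zero, ← cancel_epi π, h]
    simp
  let adj := tensDualAdj' hBf
  haveI : (tens X.sheaf (dualMod B)).Additive := additive_tens' _
  let ψ : F ⟶ CohB1.tensorMod M B := adj.homEquiv F M π
  have hψ0 : ψ ≠ 0 := by
    intro h
    apply hπ0
    have h2 : π = (adj.homEquiv F M).symm ψ := ((adj.homEquiv F M).symm_apply_apply π).symm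
    rw [h2, h, Adjunction.homEquiv_counit, Functor.map_zero, zero_comp]
  let ψ' : F ⟶ CohB1.tensorMod B M := ψ ≫ (braid M B).hom
  have hψ'0 : ψ' ≠ 0 := by
    intro h
    apply hψ0
    have : ψ = ψ' ≫ (braid M B).inv := by simp [ψ']
    rw [this, h, zero_comp]
  obtain ⟨hBM, hBMd⟩ := deg_tensor_invertible k X hdim hB hM
  have hBMss := slope_tensor_invertible k X hdim 0 hB hM (by simpa using hBss)
  have hnm : ¬ Mono ψ' := by
    intro hm
    haveI := hm
    have := rank_le_of_mono X hF hBM ψ'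
    omega
  obtain ⟨rK, rI, hrI, hrr, -, hI, -, hgt⟩ :=
    slope_image_gt k X hP hF hBM (st_internal k X hF hst) ψ' hψ'0 hnm
  have h5 := hBMss _ rI (Abelian.image.ι ψ') inferInstance hrI hI
  rw [hBMd, add_zero] at h5
  have hrI' : (0 : ℤ) < (rI : ℤ) := by exact_mod_cast hrI
  have hr'' : (0 : ℤ) < (r' : ℤ) := by exact_mod_cast hr'
  have hr0 : (0 : ℤ) < (r : ℤ) := by exact_mod_cast (by omega : 0 < r)
  -- deg F * rI < deg I * r ; deg I * r' ≤ (deg B + r' * deg M) * rI ; (deg B + r') * r ≤ deg F * r'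
  have a1 := mul_lt_mul_of_pos_right hgt hr''
  have a2 := mul_le_mul_of_nonneg_right h5 hr0.le
  have a3 := mul_le_mul_of_nonneg_right hslope hrI'.le
  have a4 : (r' : ℤ) * Curv2.deg k X M 1 * ((rI : ℤ) * (r : ℤ)) ≤ (r' : ℤ) * 1 * ((rI : ℤ) * (r : ℤ)) :=
    mul_le_mul_of_nonneg_right (mul_le_mul_of_nonneg_left hdM hr''.le) (mul_pos hrI' hr0).le
  nlinarith

set_option maxHeartbeats 1600000 in
/-- **On a curve of genus one, a stable bundle has coprime rank and degree.** -/
theorem gcd_eq_one_of_stable (hg : Curv2.genus k X = 1) (hP : PIDStalks X)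
    (hdim : topologicalKrullDim X = 1) {r : ℕ} (hr : 0 < r) {F : X.Modules}
    (hF : FlatMod.IsFinLocFreeOfRank r F) (hst : St k X F r) :
    Int.gcd (Curv2.deg k X F r) (r : ℤ) = 1 := by
  haveI := Groth.Agent.Lib.Lead.CurveEuler.isNoetherian k X
  have h0 := finrank_H0_structureModule_eq_one k X
  by_contra hne
  obtain ⟨d, hd⟩ : ∃ d : ℤ, d = Curv2.deg k X F r := ⟨_, rfl⟩
  rw [← hd] at hne
  obtain ⟨h, hh⟩ : ∃ h : ℕ, h = Int.gcd d (r : ℤ) := ⟨_, rfl⟩
  have hr' : (r : ℤ) ≠ 0 := by exact_mod_cast hr.ne'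
  have hhpos : 0 < h := by rw [hh]; exact Int.gcd_pos_of_ne_zero_right _ hr'
  have hh2 : 2 ≤ h := by
    rw [← hh] at hne
    omega
  have hdvd_r : (h : ℤ) ∣ (r : ℤ) := by rw [hh]; exact Int.gcd_dvd_right _ _
  have hdvd_d : (h : ℤ) ∣ d := by rw [hh]; exact Int.gcd_dvd_left _ _
  obtain ⟨r'', hr''⟩ := hdvd_r
  obtain ⟨d', hd'⟩ := hdvd_d
  have hhpos' : (0 : ℤ) < (h : ℤ) := by exact_mod_cast hhpos
  have hr''pos : 0 < r'' := by
    have : (0 : ℤ) < (h : ℤ) * r'' := by rw [← hr'']; exact_mod_cast hr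
    by_contra hcon
    push Not at hcon
    have := mul_nonpos_of_nonneg_of_nonpos hhpos'.le hcon
    linarith
  obtain ⟨r', hr'eq⟩ : ∃ r' : ℕ, (r' : ℤ) = r'' := ⟨r''.toNat, Int.toNat_of_nonneg hr''pos.le⟩
  have hr'pos : 0 < r' := by exact_mod_cast (hr'eq ▸ hr''pos : (0 : ℤ) < (r' : ℤ))
  have hcop : Int.gcd d' (r' : ℤ) = 1 := by
    have h1 : Int.gcd d (r : ℤ) = h * Int.gcd d' (r' : ℤ) := by
      rw [hd', hr'', hr'eq, Int.gcd_mul_left]
      simp
    rw [← hh] at h1
    have : h * 1 = h * Int.gcd d' (r' : ℤ) := by rw [mul_one]; exact h1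
    exact (Nat.eq_of_mul_eq_mul_left hhpos this).symm
  have hrr' : r = h * r' := by
    have : (r : ℤ) = ((h * r' : ℕ) : ℤ) := by push_cast; rw [hr'', hr'eq]
    exact_mod_cast this
  have hlt : r' < r := by
    rw [hrr']
    nlinarith
  obtain ⟨F', hF', hdF', hst'⟩ := exists_stable_of_coprime k X hg hP hdim r' hr'pos d' hcop
  have hss' := ss_of_st k X hF' hst'
  have hss := ss_of_st k X hF hst
  obtain ⟨N', hN', hdN'⟩ := exists_invertible_deg k X hP hdim (-1)
  obtain ⟨hB, hdB⟩ := deg_tensor_invertible k X hdim.le hF' hN'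
  have hBss := slope_tensor_invertible k X hdim.le 0 hF' hN' (by simpa using hss')
  have hBss' : SS k X (CohB1.tensorMod F' N') r' := by
    intro G s i hi hs hG
    have := hBss G s i hi hs hG
    simpa using this
  rw [hdF', hdN'] at hdB
  have hD := isFinLocFreeOfRank_dualMod hB
  have hV := Groth.Agent.Lib.Helper18.EffCartierCurve.isFinLocFreeOfRank_tensor hF hD
  have hVd := Groth.Agent.Lib.Helper18.DegTensor.deg_tensor k X hdim.le hF hD
  have hdual := deg_dualMod_le k X hP hdim r' _ hB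
  rw [hdB] at hdual
  rw [← hd] at hVd
  have hr'z : (0 : ℤ) < (r' : ℤ) := by exact_mod_cast hr'pos
  have hrz : (0 : ℤ) < (r : ℤ) := by exact_mod_cast hr
  have hdr : d * (r' : ℤ) = d' * (r : ℤ) := by
    rw [hd', hr'', hr'eq]; ring
  have hVdeg : Curv2.deg k X (CohB1.tensorMod F (dualMod (CohB1.tensorMod F' N'))) (r * r') ≤
      ((r * r' : ℕ) : ℤ) := by
    rw [hVd]
    push_cast
    have a5 := mul_le_mul_of_nonneg_left hdual hrz.le
    nlinarith
  have h1 : Subsingleton (Coh.HH X (CohB1.tensorMod F (dualMod (CohB1.tensorMod F' N'))) 1) := by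
    refine subsingleton_H1_tensor_dual k X h0 hP hdim hr hF hB hss (fun H s i hi hs hH => ?_)
    have h6 := hBss' H s i hi hs hH
    rw [hdB] at h6
    rw [hg, ← hd]
    push_cast
    have hs' : (0 : ℤ) < (s : ℤ) := by exact_mod_cast hs
    -- deg H * r' ≤ (d' - r') * s  ⇒  deg H * r < d * s
    have a6 := mul_le_mul_of_nonneg_right h6 hhpos'.le
    have a7 : (0 : ℤ) < (r : ℤ) * (s : ℤ) := mul_pos hrz hs'
    have e1 : (r : ℤ) = (h : ℤ) * (r' : ℤ) := by rw [hr'', hr'eq]
    rw [e1, hd']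
    rw [e1] at a7
    nlinarith
  obtain ⟨n, hn⟩ : ∃ n : ℕ, r * r' = n + 1 := ⟨r * r' - 1, by
    have : 0 < r * r' := Nat.mul_pos hr hr'pos
    omega⟩
  rw [hn] at hV hVdeg
  obtain ⟨M, π, hπ, hM, hdM⟩ := exists_invertible_quotient_deg_le_one k X hg hP hdim hV h1
    (by push_cast at hVdeg; exact hVdeg)
  haveI := hπ
  refine false_of_invertible_quotient k X hP hdim.le hr'pos hlt hF hB hst hBss' hM hdM ?_ π
  rw [hdB, ← hd]
  have : (d' + (r' : ℤ) * -1 + (r' : ℤ)) = d' := by ring
  rw [this, hdr]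

end curve

end Groth.Agent.Lib.Lead.VBCurve
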