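import Mathlib
import Groth.Agent.Lib.Lead.VBCurve31

/-!
# Quotients of semistable twisted pairs by invariant submodules of the same slope (lead)

* `higgs_quotient`: `(E, φ)` semistable `L`-twisted pair, `F ⊂ E` invariant of the same slope (rank `0` allowed):
  `E/F` is finite locally free, of the same slope, and semistable for every induced twisted endomorphism.
-/

set_option autoImplicit false
set_option linter.style.haveILetI false
set_option linter.unusedSectionVars false
set_option backward.isDefEq.respectTransparency false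
universe u
open CategoryTheory CategoryTheory.Limits AlgebraicGeometry Opposite TopologicalSpace Module

namespace Groth.Agent.Lib.Lead.VBCurve

open Groth.Agent.Lib.Lead.ModTensor Groth.Agent.Lib.Helper20.TensorEquiv

variable (k : Type u) [Field k] (X : Scheme.{u}) [X.Over (Spec (CommRingCat.of k))]
  [IsProper (X ↘ Spec (CommRingCat.of k))] [IsIntegral X]

theorem higgs_quotient (hP : PIDStalks X) (hdim : topologicalKrullDim X ≤ 1)
    {L : X.Modules} (hL : PicF.IsInvertible L) {E : X.Modules} {r : ℕ} (hr : 0 < r)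
    (hE : FlatMod.IsFinLocFreeOfRank r E) (φ : E ⟶ CohB1.tensorMod E L)
    (hss : ∀ (G : X.Modules) (s : ℕ) (j : G ⟶ E), Mono j → 0 < s → FlatMod.IsFinLocFreeOfRank s G →
      IsInvariant φ j → Curv2.deg k X G s * (r : ℤ) ≤ Curv2.deg k X E r * (s : ℤ))
    {F : X.Modules} {r' : ℕ} (hF : FlatMod.IsFinLocFreeOfRank r' F) (i : F ⟶ E) [Mono i]
    (hinvF : IsInvariant φ i) (hslope : Curv2.deg k X F r' * (r : ℤ) = Curv2.deg k X E r * (r' : ℤ)) :
    FlatMod.IsFinLocFreeOfRank (r - r') (cokernel i) ∧ r' ≤ r ∧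
    Curv2.deg k X E r = Curv2.deg k X F r' + Curv2.deg k X (cokernel i) (r - r') ∧
    ∀ (φ' : cokernel i ⟶ CohB1.tensorMod (cokernel i) L),
      cokernel.π i ≫ φ' = φ ≫ tensorMap (cokernel.π i) (𝟙 L) →
      ∀ (G : X.Modules) (s : ℕ) (j : G ⟶ cokernel i), Mono j → 0 < s →
        FlatMod.IsFinLocFreeOfRank s G → IsInvariant φ' j →
        Curv2.deg k X G s * ((r - r' : ℕ) : ℤ) ≤ Curv2.deg k X (cokernel i) (r - r') * (s : ℤ) := by
  have hrpos : (0 : ℤ) < (r : ℤ) := by exact_mod_cast hr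
  obtain ⟨L', -, ⟨e⟩, -⟩ := Groth.Agent.Lib.helper12.InvDual.exists_inverse hL
  -- saturation of `F`
  obtain ⟨G₁, l, ι₁, t, hm₁, hl, hG₁, hrk, hQ⟩ := exists_saturation k X hP hdim hF hE i
  haveI := hm₁
  haveI : Mono l := mono_of_mono_fac (hl.trans rfl)
  haveI : IsIso l := by
    rcases Nat.eq_zero_or_pos r' with h0 | hr'
    · subst h0
      have hzF := isZero_of_isFinLocFreeOfRank_zero hF
      have hzG := isZero_of_isFinLocFreeOfRank_zero hG₁
      have : l = (hzF.iso hzG).hom := hzF.eq_of_src _ _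
      rw [this]
      infer_instance
    · obtain ⟨χ₁, hχ₁⟩ := isInvariant_saturation k X hP hdim hL φ hF hG₁ i l ι₁ hl hQ hinvF
      have h1 := hss G₁ r' ι₁ hm₁ hr' hG₁ ⟨χ₁, hχ₁⟩
      have h2 := deg_le k X hdim hF hG₁ l
      have h3 : Curv2.deg k X F r' = Curv2.deg k X G₁ r' := by
        refine le_antisymm h2 ?_
        rw [← hslope] at h1
        exact le_of_mul_le_mul_right h1 hrpos
      exact isIso_of_deg_eq k X hdim hF hG₁ l h3
  have ht : t = r - r' := by omega
  subst ht
  have hr'r : r' ≤ r := by omega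
  have hC : FlatMod.IsFinLocFreeOfRank (r - r') (cokernel i) := by
    have e1 : cokernel (l ≫ ι₁) ≅ cokernel ι₁ := cokernelEpiComp l ι₁
    have e2 : cokernel i ≅ cokernel (l ≫ ι₁) := cokernelIsoOfEq hl.symm
    exact Groth.Agent.Lib.helper16.FLF.isFinLocFreeOfRank_of_iso (e2 ≪≫ e1).symm hQ
  let S : ShortComplex X.Modules := ShortComplex.mk i (cokernel.π i) (cokernel.condition i)
  have hS : S.ShortExact := shortExact_cokernel X i
  have hCc := Groth.Agent.Lib.Lead.RankAdd.isCoh_of_isFinLocFreeOfRank hC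
  have hadd : Curv2.deg k X E r = Curv2.deg k X F r' + Curv2.deg k X (cokernel i) (r - r') :=
    Groth.Agent.Lib.Lead.ProperEuler.deg_additive k hS
      (Groth.Agent.Lib.Lead.RankAdd.isCoh_of_isFinLocFreeOfRank hF) hCc r' r (r - r') hrk
  refine ⟨hC, hr'r, hadd, ?_⟩
  intro φ' hφ' G s j hj hs hG hinvG
  haveI := hj
  obtain ⟨P, a, f', g', hma, hf', hag, hg', hPr, hPd⟩ :=
    preimage_data k X hP S hS hCc.1 hF hE hG j
  haveI := hma
  haveI := hg'
  have hinvP : IsInvariant φ a := isInvariant_preimage X e S hS φ φ' hφ' j hinvG a f' g' hf' hag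
  have h4 := hss P (r' + s) a hma (by omega) hPr hinvP
  have hPd' : Curv2.deg k X P (r' + s) = Curv2.deg k X F r' + Curv2.deg k X G s := hPd
  rw [hPd'] at h4
  have hcast : ((r - r' : ℕ) : ℤ) = (r : ℤ) - (r' : ℤ) := by
    push_cast [Nat.cast_sub hr'r]; ring
  rw [hcast]
  push_cast at h4
  set dG := Curv2.deg k X G s
  set dE := Curv2.deg k X E r
  set dF := Curv2.deg k X F r'
  set dC := Curv2.deg k X (cokernel i) (r - r')
  have hr'le : (r' : ℤ) ≤ (r : ℤ) := by exact_mod_cast hr'r
  have h5 : dG * (r : ℤ) ≤ dE * (s : ℤ) := by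
    have e1 : (dF + dG) * (r : ℤ) = dF * r + dG * r := by ring
    have e2 : dE * ((r' : ℤ) + (s : ℤ)) = dE * r' + dE * s := by ring
    rw [e1, e2] at h4
    linarith
  refine le_of_mul_le_mul_right ?_ hrpos
  have h6 : dC * (r : ℤ) = dE * ((r : ℤ) - r') := by
    have : dC = dE - dF := by rw [hadd]; ring
    rw [this, sub_mul, hslope]; ring
  calc dG * ((r : ℤ) - r') * r = (dG * r) * ((r : ℤ) - r') := by ring
    _ ≤ (dE * s) * ((r : ℤ) - r') := mul_le_mul_of_nonneg_right h5 (by linarith)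
    _ = dC * s * r := by rw [mul_assoc dC, mul_comm (s : ℤ) (r : ℤ), ← mul_assoc, h6]; ring

end Groth.Agent.Lib.Lead.VBCurve
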