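import Mathlib
import Groth.Agent.Lib.Lead.VBCurve31
import Groth.Agent.Lib.Lead.OmegaSmooth
import Groth.Agent.Lib.Helper11.ProjFormulaA
import Groth.Agent.Lib.Helper18.EffCartierCurve

/-!
# Nilpotent twisted endomorphisms of rank two bundles (very stable bundles) (lead)

* `isFinLocFree_of_iso_omega`: a module isomorphic to `Ω_{X/k}`, `X` smooth over `k`, is finite locally free.
* `mono_of_ne_zero_of_isInvertible'`: a nonzero map from an invertible module to a bundle is a monomorphism.
* `tensorMap_zero_left`: `0 ⊗ 𝟙 = 0` (no invertibility needed).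
* `sq_zero_of_comp_zero`: for `s : L ⟶ E`, `t : E ⟶ L ⊗ K` with `s ≫ t = 0` the twisted endomorphism
  `α = t ≫ (s ⊗ K)` satisfies `α ≫ (α ⊗ K) = 0`.
* `exists_line_sub_of_nilpotent`: a nonzero `α : E ⟶ E ⊗ K` with `α ≫ (α ⊗ K) = 0` on a rank two bundle `E`
  (`K` finite locally free) has invertible kernel `L`, invertible quotient `E/L`, and induces a nonzero map `E/L ⟶ L ⊗ K`.
-/

set_option autoImplicit false
set_option linter.style.haveILetI false
set_option linter.unusedSectionVars false
set_option backward.isDefEq.respectTransparency false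
universe u
open CategoryTheory CategoryTheory.Limits AlgebraicGeometry Opposite TopologicalSpace Module

namespace Groth.Agent.Lib.Lead.VBCurve

open Groth.Agent.Lib.Lead.ModTensor Groth.Agent.Lib.Helper20.TensorEquiv

/-- a module isomorphic to the sheaf of differentials of a smooth morphism is finite locally free -/
theorem isFinLocFree_of_iso_omega {X S : Scheme.{u}} (f : X ⟶ S) [QuasiSeparated f] [Smooth f]
    {K : X.Modules} (eK : K ≅ Omega.sheaf f) : FlatMod.IsFinLocFree K :=
  Groth.Agent.Lib.helper16.FLF.isFinLocFree_of_iso eK.symm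
    (Groth.Agent.Lib.Lead.OmegaSmooth.isFinLocFree_omega f)

section general

variable {X : Scheme.{u}}

/-- `0 ⊗ 𝟙 = 0` -/
theorem tensorMap_zero_left (M N K : X.Modules) : tensorMap (0 : M ⟶ N) (𝟙 K) = 0 :=
  (tensorRight K).map_zero M N

/-- a nonzero map from an invertible module to a bundle is a monomorphism -/
theorem mono_of_ne_zero_of_isInvertible' [IsIntegral X] [IsLocallyNoetherian X] (hP : PIDStalks X)
    {L E : X.Modules} {r : ℕ} (hL : PicF.IsInvertible L) (hE : FlatMod.IsFinLocFreeOfRank r E)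
    (s : L ⟶ E) (hs : s ≠ 0) : Mono s := by
  have hL1 := (Groth.Agent.Lib.helper16.FLF.isInvertible_iff_isFinLocFreeOfRank_one L).1 hL
  obtain ⟨rK, rI, hK, hI, hsum⟩ := exists_kernel_image_ranks hP hL1 hE s
  have hrK : rK = 0 := by
    by_contra hne
    have hI0 : rI = 0 := by omega
    subst hI0
    have hz := isZero_of_isFinLocFreeOfRank_zero hI
    apply hs
    rw [← Abelian.image.fac s, hz.eq_of_tgt (Abelian.factorThruImage s) 0, zero_comp]
  subst hrK
  have hz := isZero_of_isFinLocFreeOfRank_zero hK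
  exact Preadditive.mono_of_kernel_zero (hz.eq_of_src _ _)

/-- the twisted endomorphism `t ≫ (s ⊗ K)` squares to zero when `s ≫ t = 0` -/
theorem sq_zero_of_comp_zero {L E K : X.Modules} (s : L ⟶ E) (t : E ⟶ CohB1.tensorMod L K)
    (h : s ≫ t = 0) :
    (t ≫ tensorMap s (𝟙 K)) ≫ tensorMap (t ≫ tensorMap s (𝟙 K)) (𝟙 K) = 0 := by
  rw [tmR_comp, Category.assoc, ← Category.assoc (tensorMap s (𝟙 K)), ← tmR_comp, h,
    tensorMap_zero_left, zero_comp, comp_zero]

end general

section nilp

variable {X : Scheme.{u}}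

/-- a line subbundle `L ⊂ E` with a nonzero map `E/L ⟶ L ⊗ K` gives a nonzero nilpotent twisted endomorphism -/
theorem exists_nilpotent_of_line_sub {L E K : X.Modules} (hK : FlatMod.IsFinLocFree K) (j : L ⟶ E) [Mono j]
    (β : cokernel j ⟶ CohB1.tensorMod L K) (hβ : β ≠ 0) :
    ∃ α : E ⟶ CohB1.tensorMod E K, α ≠ 0 ∧ α ≫ tensorMap α (𝟙 K) = 0 := by
  haveI : Mono (tensorMap j (𝟙 K)) :=
    Groth.Agent.Lib.helper11.ProjFormula.mono_tensorMap_of_isFinLocFree j hK
  refine ⟨cokernel.π j ≫ β ≫ tensorMap j (𝟙 K), ?_, ?_⟩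
  · intro h
    apply hβ
    rw [← cancel_epi (cokernel.π j), ← cancel_mono (tensorMap j (𝟙 K)), Category.assoc, h,
      comp_zero, zero_comp]
  · rw [tmR_comp (cokernel.π j) (β ≫ tensorMap j (𝟙 K)) K, Category.assoc, Category.assoc,
      ← Category.assoc (tensorMap j (𝟙 K)), ← tmR_comp, cokernel.condition, tensorMap_zero_left,
      zero_comp, comp_zero, comp_zero]

variable [IsIntegral X] [IsLocallyNoetherian X]

/-- a nonzero twisted endomorphism `α : E ⟶ E ⊗ K` of a rank two bundle with `α ≫ (α ⊗ K) = 0` has invertible kernel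
`L`, invertible quotient `E/L`, and induces a nonzero map `E/L ⟶ L ⊗ K` -/
theorem exists_line_sub_of_nilpotent (hP : PIDStalks X) {E K : X.Modules}
    (hE : FlatMod.IsFinLocFreeOfRank 2 E) (hK : FlatMod.IsFinLocFree K)
    (α : E ⟶ CohB1.tensorMod E K) (hα : α ≠ 0) (hsq : α ≫ tensorMap α (𝟙 K) = 0) :
    PicF.IsInvertible (kernel α) ∧ PicF.IsInvertible (cokernel (kernel.ι α)) ∧
      ∃ β : cokernel (kernel.ι α) ⟶ CohB1.tensorMod (kernel α) K, β ≠ 0 := by
  obtain ⟨n, hKn⟩ := exists_rank_of_isFinLocFree hK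
  have hEK : FlatMod.IsFinLocFreeOfRank (2 * n) (CohB1.tensorMod E K) :=
    Groth.Agent.Lib.Helper18.EffCartierCurve.isFinLocFreeOfRank_tensor hE hKn
  obtain ⟨rK, rI, hrK, hrI, hsum⟩ := exists_kernel_image_ranks hP hE hEK α
  have hI0 : rI ≠ 0 := by
    rintro rfl
    have hz := isZero_of_isFinLocFreeOfRank_zero hrI
    apply hα
    rw [← Abelian.image.fac α, hz.eq_of_tgt (Abelian.factorThruImage α) 0, zero_comp]
  have hK0 : rK ≠ 0 := by
    rintro rfl
    have hz := isZero_of_isFinLocFreeOfRank_zero hrK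
    haveI : Mono α := Preadditive.mono_of_kernel_zero (hz.eq_of_src _ _)
    haveI : Mono (tensorMap α (𝟙 K)) :=
      Groth.Agent.Lib.helper11.ProjFormula.mono_tensorMap_of_isFinLocFree α hK
    apply hα
    rw [← cancel_mono (tensorMap α (𝟙 K)), hsq, zero_comp]
  have h1 : rK = 1 := by omega
  have h2 : rI = 1 := by omega
  subst h1 h2
  have hcoim : FlatMod.IsFinLocFreeOfRank 1 (cokernel (kernel.ι α)) :=
    Groth.Agent.Lib.helper16.FLF.isFinLocFreeOfRank_of_iso (Abelian.coimageIsoImage α).symm hrI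
  refine ⟨(Groth.Agent.Lib.helper16.FLF.isInvertible_iff_isFinLocFreeOfRank_one _).2 hrK,
    (Groth.Agent.Lib.helper16.FLF.isInvertible_iff_isFinLocFreeOfRank_one _).2 hcoim, ?_⟩
  -- the induced map on the quotient
  let α' : cokernel (kernel.ι α) ⟶ CohB1.tensorMod E K := cokernel.desc (kernel.ι α) α (kernel.condition α)
  have hα' : cokernel.π (kernel.ι α) ≫ α' = α := cokernel.π_desc _ _ _
  have hz : α' ≫ (tensorRight K).map α = 0 := by
    rw [← cancel_epi (cokernel.π (kernel.ι α)), ← Category.assoc, hα', comp_zero]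
    exact hsq
  haveI := Groth.Agent.Lib.helper11.ProjFormula.preservesFiniteLimits_tensorRight hK
  refine ⟨kernel.lift ((tensorRight K).map α) α' hz ≫ (PreservesKernel.iso (tensorRight K) α).inv, ?_⟩
  intro h0
  apply hα
  have h3 : (kernel.lift ((tensorRight K).map α) α' hz ≫ (PreservesKernel.iso (tensorRight K) α).inv) ≫
      (tensorRight K).map (kernel.ι α) = α' := by
    rw [Category.assoc, PreservesKernel.iso_inv_ι, kernel.lift_ι]
  rw [h0, zero_comp] at h3
  rw [← hα', ← h3, comp_zero]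

end nilp

end Groth.Agent.Lib.Lead.VBCurve
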