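import Mathlib
import Groth.Agent.Lib.Helper15.FinCovTr8
import Groth.Agent.Lib.Helper15.FinCovTr3
import Groth.Agent.Lib.Helper15.FinCovTr2
import Groth.Agent.Lib.Helper8.PTors1

/-!
# Trace splitting for finite locally free covers (lead; S15338)

* `diIso f : f_* O_Y ≅ (RelSpec.QCAlg.directImage f).toModule` (identity on sections).
* `exists_retract f hQ`: for `f : Y ⟶ X` finite, flat, locally of finite presentation and surjective onto a
  connected scheme on which every positive integer is invertible, `f_* O_Y` is finite locally free of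
  constant rank `d` and `O_X` is a retract of it (structure map, then `(1/d)` trace).
-/

set_option autoImplicit false
set_option linter.style.haveILetI false
set_option linter.unusedSectionVars false
universe u
open CategoryTheory CategoryTheory.Limits AlgebraicGeometry TopologicalSpace Opposite

namespace Groth.Agent.Lib.Lead.WeilFinEt

open Groth.Agent.Lib.helper15.FinCovTr Groth.Agent.Lib.helper15.PushO

variable {X Y : Scheme.{u}} (f : Y ⟶ X)

/-- the identity, from the module of the direct image algebra to Mathlib's `f_* O_Y` -/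
noncomputable def fromDIPre [QuasiCompact f] [QuasiSeparated f] :
    (RelSpec.QCAlg.directImage f).toModule.presheaf ⟶ (pushO f).presheaf where
  app U := AddCommGrpCat.ofHom
    (show ((RelSpec.QCAlg.directImage f).presheaf.obj U) →+ Γ(pushO f, U.unop) from
      AddMonoidHom.id _)
  naturality := by
    intro U V i
    rfl

noncomputable def fromDI [QuasiCompact f] [QuasiSeparated f] :
    (RelSpec.QCAlg.directImage f).toModule ⟶ pushO f :=
  ⟨PresheafOfModules.homMk (fromDIPre f) (fun W r s => rfl)⟩

noncomputable def diIso [QuasiCompact f] [QuasiSeparated f] :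
    pushO f ≅ (RelSpec.QCAlg.directImage f).toModule where
  hom := Groth.Agent.Lib.helper8.PTors.toDI f
  inv := fromDI f
  hom_inv_id := by
    ext U s
    rfl
  inv_hom_id := by
    ext U s
    rfl

end Groth.Agent.Lib.Lead.WeilFinEt

namespace Groth.Agent.Lib.Lead.WeilFinEt

open Groth.Agent.Lib.helper15.FinCovTr Groth.Agent.Lib.helper15.PushO Groth.Agent.Lib.helper16.FLF

variable {X Y : Scheme.{u}} (f : Y ⟶ X)

/-- a finite locally free surjective cover of a connected `ℚ`-scheme: `f_* O_Y` is locally free of
constant rank and `O_X` is a direct summand of it (trace splitting) -/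
theorem exists_retract [PreconnectedSpace X] [Nonempty X]
    [IsFinite f] [Flat f] [LocallyOfFinitePresentation f] [Surjective f]
    (hQ : ∀ n : ℕ, 0 < n → IsUnit ((n : Γ(X, ⊤)))) :
    ∃ d : ℕ, FlatMod.IsFinLocFreeOfRank d (pushO f) ∧
      ∃ (i : Coh.structureModule X ⟶ pushO f) (p : pushO f ⟶ Coh.structureModule X),
        i ≫ p = 𝟙 _ := by
  obtain ⟨x₀⟩ := ‹Nonempty X›
  set d := f.finrank x₀ with hd
  have hconst : ∀ y, f.finrank y = d := fun y =>
    (Scheme.Hom.isLocallyConstant_finrank f).apply_eq_of_preconnectedSpace y x₀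
  have hcover : FinCov.IsCover f d := ⟨⟨inferInstance, inferInstance, inferInstance⟩, hconst⟩
  obtain ⟨-, hlf⟩ := (isCover_iff f d).1 hcover
  have hpos : 0 < d := (Scheme.Hom.one_le_finrank_iff_surjective f).2 inferInstance x₀
  refine ⟨d, hlf, ?_⟩
  let A := RelSpec.QCAlg.directImage f
  have hA : FlatMod.IsFinLocFreeOfRank d A.toModule := isFinLocFreeOfRank_of_iso (diIso f) hlf
  obtain ⟨τ, hτ, -⟩ := existsUnique_isTrace A (isFinLocFree_of_isFinLocFreeOfRank hA)
  haveI := isIso_nsmul_id (X := X) d (hQ d hpos)
  have h := strMod_comp_trace A d hA τ hτ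
  refine ⟨FinCov.strMod A ≫ (diIso f).inv, (diIso f).hom ≫ τ ≫ inv (d • 𝟙 _), ?_⟩
  rw [Category.assoc, Iso.inv_hom_id_assoc, ← Category.assoc, h, IsIso.hom_inv_id]

end Groth.Agent.Lib.Lead.WeilFinEt
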