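import Mathlib
import Groth.Agent.Lib.Lead.WeilFinEt1
import Groth.Agent.Lib.Helper18.ProjFormulaLF
import Groth.Agent.Lib.Helper25.PullTensorIso
import Groth.Agent.Lib.Lead.NoriFin3
import Groth.Agent.Lib.Lead.NoriFin5
import Groth.Agent.Lib.Lead.BrSevT
import Groth.Agent.Lib.Lead.RankAdd

/-!
# Isotrivial finite locally free modules are Weil-finite (lead; S15338)

* `mapSigmaIso F A : F (∐ A) ≅ ∐ F (A i)` for an additive functor and a finite family.
* `IsTriv f M`: `f^* M ≅ O_Y^m` for some `m`; `isTriv_unit`, `isTriv_tensor`, `isTriv_tensorPow`.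
* `exists_summand`: if `O_X` is a retract of `f_* O_Y` and `M` is finite locally free with `f^* M ≅ O_Y^m`, then `M` is a
  direct summand of `(f_* O_Y)^m` (projection formula of helper18).
* `wFin_of_isTriv`: on a connected proper `k`-scheme where positive integers are invertible, a finite locally free
  module trivialised by a finite locally free surjective cover is finite in the sense of Weil (Krull–Schmidt
  counting, `NoriFin3.wFin_of_finset`).
-/

set_option autoImplicit false
set_option linter.style.haveILetI false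
set_option linter.unusedSectionVars false
universe u
open CategoryTheory CategoryTheory.Limits AlgebraicGeometry TopologicalSpace Opposite

namespace Groth.Agent.Lib.Lead.WeilFinEt

open Groth.Agent.Lib.helper15.PushO Groth.Agent.Lib.helper16.FLF Groth.Agent.Lib.Lead.ModTensor
  Groth.Agent.Lib.Lead.NoriFin Groth.Agent.Lib.Lead.KS

section Additive

variable {C D : Type*} [Category C] [Category D] [Preadditive C] [Preadditive D]
  [HasFiniteBiproducts C] [HasFiniteBiproducts D]

/-- additive functors commute with finite coproducts -/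
noncomputable def mapSigmaIso (F : C ⥤ D) [F.Additive] {m : ℕ} (A : Fin m → C) :
    F.obj (∐ A) ≅ ∐ fun i => F.obj (A i) :=
  F.mapIso (biproduct.isoCoproduct A).symm ≪≫ F.mapBiproduct A ≪≫ biproduct.isoCoproduct _

end Additive

attribute [local instance] Abelian.hasFiniteBiproducts

variable {X Y : Scheme.{u}} (f : Y ⟶ X)

/-- `M` is trivialised by `f` -/
def IsTriv (M : X.Modules) : Prop :=
  ∃ m : ℕ, Nonempty ((Scheme.Modules.pullback f).obj M ≅ FlatMod.freeMod Y m)

theorem isTriv_unit : IsTriv f (Coh.structureModule X) :=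
  ⟨1, ⟨Groth.Agent.Lib.helper11.InvMod.pullbackUnitIso f ≪≫ (freeModOneIso Y).symm⟩⟩

theorem isTriv_tensor {M N : X.Modules} (hM : IsTriv f M) (hN : IsTriv f N) :
    IsTriv f (CohB1.tensorMod M N) := by
  obtain ⟨a, ⟨e₁⟩⟩ := hM
  obtain ⟨b, ⟨e₂⟩⟩ := hN
  refine ⟨a * b, ⟨Groth.Agent.Lib.Helper25.PullTensorIso.pullTensorIso f M N ≪≫ tensorIso e₁ e₂ ≪≫
    Groth.Agent.Lib.Lead.BrSevT.powTensorPowIso (Coh.structureModule Y) (Coh.structureModule Y) a b ≪≫
    Sigma.mapIso (fun _ => leftUnitor (Coh.structureModule Y))⟩⟩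

theorem isTriv_tensorPow {E : X.Modules} (hE : IsTriv f E) (n : ℕ) :
    IsTriv f (CohB1.tensorPow E n) := by
  induction n with
  | zero => exact isTriv_unit f
  | succ n ih => exact isTriv_tensor f ih hE

/-- a finite locally free module trivialised by `f` is a direct summand of a finite sum of copies of
`f_* O_Y`, as soon as `O_X` is a retract of `f_* O_Y` -/
theorem exists_summand (i : Coh.structureModule X ⟶ pushO f) (p : pushO f ⟶ Coh.structureModule X)
    (hip : i ≫ p = 𝟙 _) {M : X.Modules} (hM : FlatMod.IsFinLocFree M) {m : ℕ}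
    (e : (Scheme.Modules.pullback f).obj M ≅ FlatMod.freeMod Y m) :
    ∃ R : X.Modules, Nonempty ((∐ fun _ : Fin m => pushO f) ≅ M ⊞ R) := by
  let φ : CohB1.tensorMod (pushO f) M ≅ ∐ fun _ : Fin m => pushO f :=
    Groth.Agent.Lib.Helper18.ProjFormulaLF.projIso f (Coh.structureModule Y) M hM ≪≫
      (Scheme.Modules.pushforward f).mapIso (leftUnitor _ ≪≫ e) ≪≫
      mapSigmaIso (Scheme.Modules.pushforward f) (fun _ : Fin m => Coh.structureModule Y)
  refine exists_iso_biprod_of_retract
    ((leftUnitor M).inv ≫ tensorMap i (𝟙 M) ≫ φ.hom) (φ.inv ≫ tensorMap p (𝟙 M) ≫ (leftUnitor M).hom) ?_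
  simp only [Category.assoc, Iso.hom_inv_id_assoc]
  rw [← Category.assoc (tensorMap i _), ← tensorMap_comp, hip, Category.comp_id, tensorMap_id, Category.id_comp, Iso.inv_hom_id]

/-- **isotrivial ⇒ Weil-finite**: on a connected proper `k`-scheme on which positive integers are
invertible, a finite locally free module trivialised by a finite locally free surjective cover is finite in
the sense of Weil. -/
theorem wFin_of_isTriv (k : Type u) [Field k] [X.Over (Spec (CommRingCat.of k))]
    [IsProper (X ↘ Spec (CommRingCat.of k))] [PreconnectedSpace X] [Nonempty X]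
    [IsFinite f] [Flat f] [LocallyOfFinitePresentation f] [Surjective f]
    (hQ : ∀ n : ℕ, 0 < n → IsUnit ((n : Γ(X, ⊤))))
    {E : X.Modules} {r : ℕ} (hE : FlatMod.IsFinLocFreeOfRank r E) (hT : IsTriv f E) : WFin E := by
  haveI := Groth.Agent.Lib.Lead.CurveEuler.isNoetherian k X
  obtain ⟨d, hlf, i, p, hip⟩ := exists_retract f hQ
  have hcP : Coh.IsCoh (pushO f) := Groth.Agent.Lib.Lead.RankAdd.isCoh_of_isFinLocFreeOfRank hlf
  have hcE : Coh.IsCoh E := Groth.Agent.Lib.Lead.RankAdd.isCoh_of_isFinLocFreeOfRank hE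
  refine wFin_of_finset k hcE (finite_support (ksClass_isCoh k X) hcP).toFinset (fun n c hc => ?_)
  rw [Set.Finite.mem_toFinset, Set.mem_setOf_eq]
  obtain ⟨m, ⟨e⟩⟩ := isTriv_tensorPow f hT n
  have hFn : FlatMod.IsFinLocFree (CohB1.tensorPow E n) :=
    isFinLocFree_of_isFinLocFreeOfRank (isFinLocFreeOfRank_tensorPow hE n)
  obtain ⟨R, ⟨ψ⟩⟩ := exists_summand f i p hip hFn e
  have h1 := mult_le_of_biprod (ksClass_isCoh k X)
    (P_sigma (ksClass_isCoh k X) (fun _ : Fin m => pushO f) (fun _ => hcP)) ψ c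
  rw [mult_sigma (ksClass_isCoh k X) (fun _ : Fin m => pushO f) (fun _ => hcP)] at h1
  rw [Finset.sum_const, smul_eq_mul] at h1
  by_contra h0
  rw [Nat.pos_iff_ne_zero, not_not] at h0
  rw [h0, mul_zero] at h1
  omega

end Groth.Agent.Lib.Lead.WeilFinEt
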